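import Mathlib
import Cfsg.Agent.Lib.Helper23.HKKDefs
import Cfsg.Agent.Lib.Helper23.HKKExt

/-! S3779 piece HKK-TBA (helper6): `ℤ[ω] ⊗ L` is `L^(p-1)`. -/

set_option autoImplicit false
set_option linter.unusedSectionVars false
set_option linter.unusedVariables false

namespace Cfsg.Agent.Helper23.HKK

section T

open scoped TensorProduct

theorem tba_monic (p : ℕ) (hp : 2 ≤ p) : (Phi p).Monic :=
  Polynomial.monic_geom_sum_X (by omega)

theorem tba_natDegree (p : ℕ) (hp : 2 ≤ p) : (Phi p).natDegree = p - 1 := by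
  have h : ((Polynomial.X : Polynomial ℤ) - 1) * Phi p = Polynomial.X ^ p - 1 := by
    unfold Phi
    exact mul_geom_sum _ _
  have h1 : ((Polynomial.X : Polynomial ℤ) - 1).natDegree = 1 := by
    have := Polynomial.natDegree_X_sub_C (1 : ℤ)
    simpa using this
  have h2 : ((Polynomial.X : Polynomial ℤ) ^ p - 1).natDegree = p := by
    have := Polynomial.natDegree_X_pow_sub_C (R := ℤ) (n := p) (r := 1)
    simpa using this
  have hne1 : ((Polynomial.X : Polynomial ℤ) - 1) ≠ 0 := by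
    intro h0
    rw [h0] at h1
    simp at h1
  have hne2 : Phi p ≠ 0 := (tba_monic p hp).ne_zero
  have h3 := Polynomial.natDegree_mul hne1 hne2
  rw [h, h1, h2] at h3
  omega

/-- the basis `1, ω, …, ω^(p-2)` of `ℤ[ω]` -/
noncomputable def tbaBasis (p : ℕ) (hp : 2 ≤ p) : Module.Basis (Fin (p - 1)) ℤ (Aω p) :=
  (AdjoinRoot.powerBasis' (tba_monic p hp)).basis.reindex (finCongr (tba_natDegree p hp))

theorem tbaBasis_apply (p : ℕ) (hp : 2 ≤ p) (i : Fin (p - 1)) :
    tbaBasis p hp i = (ω p) ^ (i : ℕ) := by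
  unfold tbaBasis
  rw [Module.Basis.reindex_apply, PowerBasis.coe_basis]
  rfl

variable (p : ℕ) {L : Type*} [LieRing L]

theorem Lt_decomp (hp : 2 ≤ p) (x : Lt p L) :
    ∃ f : Fin (p - 1) → L, x = ∑ i : Fin (p - 1), ((ω p) ^ (i : ℕ)) ⊗ₜ[ℤ] f i := by
  obtain ⟨c, hc⟩ := TensorProduct.eq_repr_basis_left (tbaBasis p hp) x
  refine ⟨fun i => c i, ?_⟩
  rw [← hc, Finsupp.sum_fintype _ _ (fun i => TensorProduct.tmul_zero _ _)]
  refine Finset.sum_congr rfl (fun i _ => ?_)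
  rw [tbaBasis_apply]

theorem Lt_indep (hp : 2 ≤ p) (f : Fin (p - 1) → L)
    (h : ∑ i : Fin (p - 1), ((ω p) ^ (i : ℕ)) ⊗ₜ[ℤ] f i = (0 : Lt p L)) : ∀ i, f i = 0 := by
  have h0 : (Finsupp.equivFunOnFinite.symm f : Fin (p - 1) →₀ L) = 0 := by
    apply TensorProduct.sum_tmul_basis_left_eq_zero (tbaBasis p hp)
    rw [Finsupp.sum_fintype _ _ (fun i => TensorProduct.tmul_zero _ _), ← h]
    refine Finset.sum_congr rfl (fun i _ => ?_)
    rw [tbaBasis_apply]
    rfl
  intro i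
  have := DFunLike.congr_fun h0 i
  simpa using this

end T

end Cfsg.Agent.Helper23.HKK
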