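import Mathlib
import Cfsg.Agent.Lib.Helper23.HKKDefs
import Cfsg.Agent.Lib.Helper23.HKKExt

/-! S3779 piece HKK-TOM (helper6): the ring `ℤ[ω]`. -/

set_option autoImplicit false
set_option linter.unusedSectionVars false
set_option linter.unusedVariables false

namespace Cfsg.Agent.Helper23.HKK

section T

open scoped TensorProduct

variable (p : ℕ) {L : Type*} [LieRing L]

theorem omega_sum (hp : 0 < p) : ∑ i ∈ Finset.range p, (ω p) ^ i = 0 := by
  have h := AdjoinRoot.eval₂_root (Phi p)
  have h2 : ∀ q : Polynomial ℤ, q = ∑ i ∈ Finset.range p, (Polynomial.X : Polynomial ℤ) ^ i →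
      Polynomial.eval₂ (AdjoinRoot.of (Phi p)) (AdjoinRoot.root (Phi p)) q
      = ∑ i ∈ Finset.range p, (ω p) ^ i := by
    intro q hq
    rw [hq, Polynomial.eval₂_finsetSum]
    refine Finset.sum_congr rfl (fun i _ => ?_)
    rw [Polynomial.eval₂_pow, Polynomial.eval₂_X]
    rfl
  rw [← h2 (Phi p) rfl]
  exact h

theorem omega_pow (hp : 0 < p) : (ω p) ^ p = 1 := by
  have h := mul_geom_sum (ω p) p
  rw [omega_sum p hp, mul_zero] at h
  exact (sub_eq_zero.mp h.symm)

theorem omega_orth (hp : p.Prime) (k : ℕ) (hk : ¬ p ∣ k) : ∑ j ∈ Finset.range p, (ω p) ^ (k * j) = 0 := by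
  have hp0 : 0 < p := hp.pos
  -- `ω^(k j) = ω^((k j) % p)`
  have hmod : ∀ m : ℕ, (ω p) ^ m = (ω p) ^ (m % p) := by
    intro m
    conv_lhs => rw [← Nat.div_add_mod m p, pow_add, pow_mul, omega_pow p hp0, one_pow, one_mul]
  have hcop : Nat.Coprime k p := ((Nat.Prime.coprime_iff_not_dvd hp).mpr hk).symm
  rw [← omega_sum p hp0]
  have : ∑ j ∈ Finset.range p, (ω p) ^ (k * j) = ∑ j ∈ Finset.range p, (ω p) ^ ((k * j) % p) :=
    Finset.sum_congr rfl (fun j _ => hmod _)
  rw [this]
  refine Finset.sum_bij (fun j _ => (k * j) % p) ?_ ?_ ?_ ?_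
  · intro j _
    exact Finset.mem_range.mpr (Nat.mod_lt _ hp0)
  · intro a ha b hb hab
    have ha' := Finset.mem_range.mp ha
    have hb' := Finset.mem_range.mp hb
    have h1 : k * a ≡ k * b [MOD p] := hab
    have h2 : a ≡ b [MOD p] := Nat.ModEq.cancel_left_of_coprime hcop.symm h1
    exact Nat.ModEq.eq_of_lt_of_lt h2 ha' hb'
  · intro b hb
    have hb' := Finset.mem_range.mp hb
    -- surjectivity from injectivity on a finite set
    have hinj : Set.InjOn (fun j => (k * j) % p) (Finset.range p : Set ℕ) := by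
      intro a ha c hc hac
      have ha' := Finset.mem_range.mp ha
      have hc' := Finset.mem_range.mp hc
      have h1 : k * a ≡ k * c [MOD p] := hac
      have h2 : a ≡ c [MOD p] := Nat.ModEq.cancel_left_of_coprime hcop.symm h1
      exact Nat.ModEq.eq_of_lt_of_lt h2 ha' hc'
    have hmaps : Set.MapsTo (fun j => (k * j) % p) (Finset.range p : Set ℕ) (Finset.range p : Set ℕ) := by
      intro a _
      exact Finset.mem_coe.mpr (Finset.mem_range.mpr (Nat.mod_lt _ hp0))
    have hsurj := Finset.surjOn_of_injOn_of_card_le (s := Finset.range p) (t := Finset.range p)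
      (fun j => (k * j) % p) hmaps hinj le_rfl
    obtain ⟨a, ha, hab⟩ := hsurj (Finset.mem_coe.mpr hb)
    exact ⟨a, ha, hab⟩
  · intro j _
    rfl

end T

end Cfsg.Agent.Helper23.HKK
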