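import Mathlib
import Cfsg.Agent.Lib.Helper23.HKKDefs
import Cfsg.Agent.Lib.Helper23.HKKExt
import Cfsg.Agent.Lib.Helper6.HKKTOM
import Cfsg.Agent.Lib.Helper6.HKKTBA

/-! S3779 piece HKK-TGR (helper6): the eigenspaces of `id ⊗ φ`. -/

set_option autoImplicit false
set_option linter.unusedSectionVars false
set_option linter.unusedVariables false

namespace Cfsg.Agent.Helper23.HKK

section T

open scoped TensorProduct

variable (p : ℕ) {L : Type*} [LieRing L]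

theorem phiT_tmul (φ : L →ₗ⁅ℤ⁆ L) (a : Aω p) (x : L) : phiT p φ (a ⊗ₜ[ℤ] x) = a ⊗ₜ[ℤ] φ x := by
  rfl

theorem phiT_smul (φ : L →ₗ⁅ℤ⁆ L) (a : Aω p) (x : Lt p L) : phiT p φ (a • x) = a • phiT p φ x := by
  induction x using TensorProduct.induction_on with
  | zero => rw [smul_zero, map_zero, smul_zero]
  | tmul b y =>
    rw [TensorProduct.smul_tmul', phiT_tmul, phiT_tmul, TensorProduct.smul_tmul']
  | add x y hx hy => rw [smul_add, map_add, map_add, smul_add, hx, hy]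

theorem tgr_pow_mod (hp : 0 < p) (m : ℕ) : (ω p) ^ m = (ω p) ^ (m % p) := by
  conv_lhs => rw [← Nat.div_add_mod m p, pow_add, pow_mul, omega_pow p hp, one_pow, one_mul]

theorem grT_br (hp : p.Prime) (φ : L →ₗ⁅ℤ⁆ L) (i j : ZMod p) (x y : Lt p L) (hx : x ∈ grT p φ i)
    (hy : y ∈ grT p φ j) : ⁅x, y⁆ ∈ grT p φ (i + j) := by
  have : NeZero p := ⟨hp.ne_zero⟩
  rw [mem_grT] at hx hy ⊢
  have h1 : ⁅(ω p ^ i.val) • x, (ω p ^ j.val) • y⁆ = (ω p ^ i.val) • ⁅x, (ω p ^ j.val) • y⁆ :=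
    smul_lie (R := Aω p) (L := Lt p L) (M := Lt p L) _ _ _
  have h2 : ⁅x, (ω p ^ j.val) • y⁆ = (ω p ^ j.val) • ⁅x, y⁆ :=
    lie_smul (R := Aω p) (L := Lt p L) (M := Lt p L) _ _ _
  rw [LieHom.map_lie, hx, hy, h1, h2, smul_smul, ← pow_add, ZMod.val_add,
    ← tgr_pow_mod p hp.pos]

theorem grT_zero (hp : p.Prime) (φ : L →ₗ⁅ℤ⁆ L) (hfpf : ∀ x, φ x = x → x = 0) : grT p φ 0 = ⊥ := by
  have : NeZero p := ⟨hp.ne_zero⟩
  have hp2 : 2 ≤ p := hp.two_le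
  rw [eq_bot_iff]
  intro x hx
  rw [mem_grT, ZMod.val_zero, pow_zero, one_smul] at hx
  obtain ⟨f, hf⟩ := Lt_decomp p hp2 x
  have h1 : phiT p φ x = ∑ i : Fin (p - 1), ((ω p) ^ (i : ℕ)) ⊗ₜ[ℤ] φ (f i) := by
    rw [hf, map_sum]
    exact Finset.sum_congr rfl (fun i _ => phiT_tmul p φ _ _)
  have h2 : ∑ i : Fin (p - 1), ((ω p) ^ (i : ℕ)) ⊗ₜ[ℤ] (φ (f i) - f i) = (0 : Lt p L) := by
    have : ∀ i : Fin (p - 1), ((ω p) ^ (i : ℕ)) ⊗ₜ[ℤ] (φ (f i) - f i)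
        = ((ω p) ^ (i : ℕ)) ⊗ₜ[ℤ] φ (f i) - (((ω p) ^ (i : ℕ)) ⊗ₜ[ℤ] f i : Lt p L) :=
      fun i => TensorProduct.tmul_sub _ _ _
    rw [Finset.sum_congr rfl (fun i _ => this i), Finset.sum_sub_distrib, ← h1, ← hf, hx, sub_self]
  have h3 := Lt_indep p hp2 _ h2
  have h4 : ∀ i, f i = 0 := fun i => hfpf _ (sub_eq_zero.mp (h3 i))
  rw [AddSubgroup.mem_bot, hf]
  refine Finset.sum_eq_zero (fun i _ => ?_)
  rw [h4 i, TensorProduct.tmul_zero]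

end T

end Cfsg.Agent.Helper23.HKK
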