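import Mathlib
import Cfsg.Agent.Lib.Lead.ChevBN4
import Cfsg.Agent.Lib.Lead.ChevFactsAll

/-!
Standard parabolic subgroups: `P_J = ⟨H, X_r : r ∈ Φ⁺ ∪ Φ_J⟩`.
-/

set_option autoImplicit false

namespace Cfsg.Agent.Helper6.ChevL

open Cfsg Cfsg.Lie Cfsg.Agent.Lead.Chev

/-- the coefficient `c_k(r)` of the coroot of `r` -/
def cc (D : ChevalleyDatum) (r k : ℕ) : ℤ := (D.coroot.getD r #[]).getD k 0

/-- table check: the coroot of `-s` is minus the coroot of `s`; every positive root which is not fundamental is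
lowered by a fundamental reflection in its support -/
def parChk (D : ChevalleyDatum) : Bool :=
  (List.range D.nroots).all fun s =>
    ((List.range D.rank).all fun k => decide (cc D (D.neg s) k = - cc D s k)) &&
    (!decide (D.IsPosRoot s) || ((List.range D.rank).any fun j => decide (s = D.simple j)) ||
      ((List.range D.rank).any fun j => decide (cc D s j ≠ 0) && decide (0 < corSum D s (D.simple j))))

structure ParFacts (D : ChevalleyDatum) : Prop where
  cc_neg : ∀ s < D.nroots, ∀ k < D.rank, cc D (D.neg s) k = - cc D s k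
  desc : ∀ s, D.IsPosRoot s → (∃ j < D.rank, s = D.simple j) ∨
    ∃ j < D.rank, cc D s j ≠ 0 ∧ 0 < corSum D s (D.simple j)

theorem parFacts_of_chk (D : ChevalleyDatum) (h : parChk D = true) : ParFacts D := by
  unfold parChk at h
  rw [List.all_eq_true] at h
  have h' : ∀ s < D.nroots, _ := fun s hs => h s (List.mem_range.2 hs)
  simp only [Bool.and_eq_true, List.all_eq_true, List.mem_range, decide_eq_true_eq, Bool.or_eq_true,
    Bool.not_eq_true', decide_eq_false_iff_not, List.any_eq_true] at h'
  refine ⟨fun s hs k hk => (h' s hs).1 k hk, ?_⟩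
  intro s hs
  rcases (h' s hs.1).2 with (h1 | ⟨j, hj, hsj⟩) | ⟨j, hj, h2, h3⟩
  · exact absurd hs h1
  · exact Or.inl ⟨j, hj, hsj⟩
  · exact Or.inr ⟨j, hj, h2, h3⟩

theorem parOK_G2 : parChk chevG2 = true := by decide +kernel
theorem parOK_B2 : parChk chevB2 = true := by decide +kernel
theorem parOK_D4 : parChk chevD4 = true := by decide +kernel
theorem parOK_F4 : parChk chevF4 = true := by decide +kernel
theorem parOK_E6 : parChk chevE6 = true := by decide +kernel
theorem parOK_E7 : parChk chevE7 = true := by decide +kernel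
theorem parOK_E8 : parChk chevE8 = true := by decide +kernel

theorem parFacts_of_mem (D : ChevalleyDatum)
    (hD : D ∈ [chevG2, chevB2, chevD4, chevF4, chevE6, chevE7, chevE8]) : ParFacts D := by
  simp only [List.mem_cons, List.mem_nil_iff, or_false] at hD
  rcases hD with rfl | rfl | rfl | rfl | rfl | rfl | rfl
  · exact parFacts_of_chk _ parOK_G2
  · exact parFacts_of_chk _ parOK_B2
  · exact parFacts_of_chk _ parOK_D4
  · exact parFacts_of_chk _ parOK_F4
  · exact parFacts_of_chk _ parOK_E6
  · exact parFacts_of_chk _ parOK_E7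
  · exact parFacts_of_chk _ parOK_E8

/-- the coefficients of the coroot of a positive root are non-negative -/
theorem cc_nonneg (D : ChevalleyDatum) (s : ℕ) (hs : D.IsPosRoot s) (k : ℕ) : 0 ≤ cc D s k := by
  unfold cc
  have hs2 := hs.2
  generalize D.coroot.getD s #[] = a at hs2 ⊢
  by_cases hk : k < a.size
  · have : a.getD k 0 = a[k] := by simp [Array.getD, hk]
    rw [this]
    apply hs2
    simp
  · have : a.getD k 0 = 0 := by simp [Array.getD, hk]
    rw [this]

/-- the sum of the coefficients of the coroot -/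
def corHt (D : ChevalleyDatum) (s : ℕ) : ℤ := ∑ k ∈ Finset.range D.rank, cc D s k

theorem corHt_nonneg (D : ChevalleyDatum) (s : ℕ) (hs : D.IsPosRoot s) : 0 ≤ corHt D s :=
  Finset.sum_nonneg fun k _ => cc_nonneg D s hs k

theorem inRootSub_iff (D : ChevalleyDatum) (J : Set ℕ) (r : ℕ) :
    D.InRootSub J r ↔ r < D.nroots ∧ ∀ i < D.rank, i ∉ J → cc D r i = 0 := Iff.rfl

variable {F : Type*} [Field F] {D : ChevalleyDatum} (hF : ChevFacts D F) (hP : ParFacts D)
include hF

theorem cc_reflect (i : ℕ) (hi : i < D.rank) (s : ℕ) (hs : s < D.nroots) (k : ℕ) (hk : k < D.rank) :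
    cc D (D.reflectRoot i s) k = cc D s k - if k = i then corSum D s (D.simple i) else 0 :=
  (hF.facts i hi).cor s hs k hk

theorem corHt_reflect (i : ℕ) (hi : i < D.rank) (s : ℕ) (hs : s < D.nroots) :
    corHt D (D.reflectRoot i s) = corHt D s - corSum D s (D.simple i) := by
  unfold corHt
  have : ∀ k ∈ Finset.range D.rank, cc D (D.reflectRoot i s) k =
      cc D s k - if k = i then corSum D s (D.simple i) else 0 :=
    fun k hk => cc_reflect hF i hi s hs k (Finset.mem_range.1 hk)
  rw [Finset.sum_congr rfl this, Finset.sum_sub_distrib, Finset.sum_ite_eq' (Finset.range D.rank) i,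
    if_pos (Finset.mem_range.2 hi)]

theorem inRootSub_simple (J : Set ℕ) (j : ℕ) (hj : j < D.rank) (hjJ : j ∈ J) :
    D.InRootSub J (D.simple j) := by
  refine ⟨hF.simple_lt j hj, ?_⟩
  intro i hi hiJ
  rw [hF.refl.simple_coroot j hj i hi, if_neg]
  rintro rfl
  exact hiJ hjJ

theorem mem_of_inRootSub_simple (J : Set ℕ) (j : ℕ) (hj : j < D.rank)
    (h : D.InRootSub J (D.simple j)) : j ∈ J := by
  by_contra hjJ
  have := h.2 j hj hjJ
  rw [hF.refl.simple_coroot j hj j hj, if_pos rfl] at this
  exact one_ne_zero this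

include hP

theorem inRootSub_neg (J : Set ℕ) (r : ℕ) (h : D.InRootSub J r) : D.InRootSub J (D.neg r) := by
  refine ⟨hF.sign.neg_lt r h.1, ?_⟩
  intro i hi hiJ
  have := hP.cc_neg r h.1 i hi
  unfold cc at this
  rw [this, h.2 i hi hiJ, neg_zero]

theorem inRootSub_reflect (J : Set ℕ) (j : ℕ) (hj : j < D.rank) (hjJ : j ∈ J) (r : ℕ)
    (h : D.InRootSub J r) : D.InRootSub J (D.reflectRoot j r) := by
  refine ⟨(hF.facts j hj).wlt r h.1, ?_⟩
  intro i hi hiJ
  have h1 := cc_reflect hF j hj r h.1 i hi
  unfold cc at h1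
  rw [h1, if_neg (by rintro rfl; exact hiJ hjJ), sub_zero]
  exact h.2 i hi hiJ

/-- `n_j`, `j ∈ J`, lies in `P_J` -/
theorem nGL_mem_parabolic (J : Set ℕ) (j : ℕ) (hj : j < D.rank) (hjJ : j ∈ J) :
    nGL D hF.xadd (D.simple j) ∈ D.parabolicSubgroup F J := by
  unfold ChevalleyDatum.parabolicSubgroup
  apply Subgroup.mem_sup_right
  apply Subgroup.subset_closure
  exact ⟨j, hjJ, hj, nGL_val D hF.xadd _⟩

omit hF hP in
theorem borel_le_parabolic (J : Set ℕ) : D.borelSubgroup F ≤ D.parabolicSubgroup F J := le_sup_left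

/-- the negative root subgroups of `Φ_J` lie in `P_J` -/
theorem xGL_neg_mem_parabolic (J : Set ℕ) : ∀ n : ℕ, ∀ s, D.IsPosRoot s → D.InRootSub J s →
    corHt D s < (n : ℤ) → ∀ t : F, xGL D hF.xadd (D.neg s) t ∈ D.parabolicSubgroup F J := by
  intro n
  induction n with
  | zero =>
    intro s hs _ hlt
    have := corHt_nonneg D s hs
    simp only [Nat.cast_zero] at hlt
    omega
  | succ n ih =>
    intro s hs hsJ hlt t
    have key : ∀ (j : ℕ) (hj : j < D.rank), j ∈ J → ∀ (a : ℕ), a < D.nroots →
        (∀ u : F, xGL D hF.xadd a u ∈ D.parabolicSubgroup F J) →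
        xGL D hF.xadd (D.reflectRoot j a) t ∈ D.parabolicSubgroup F J := by
      intro j hj hjJ a ha hmem
      have hconj := nGL_conj D hF.xadd j _ (hF.nsimple j hj) a ha (((etaOf D j a : ℤ) : F) * t)
      have hsq : (((etaOf D j a : ℤ) : F)) * ((((etaOf D j a : ℤ) : F)) * t) = t := by
        rcases (hF.nsimple j hj).sign a with h | h <;> rw [h] <;> simp
      rw [hsq] at hconj
      rw [← hconj]
      exact mul_mem (mul_mem (nGL_mem_parabolic hF hP J j hj hjJ) (hmem _))
        (inv_mem (nGL_mem_parabolic hF hP J j hj hjJ))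
    by_cases hsimple : ∃ j < D.rank, s = D.simple j
    · obtain ⟨j, hj, rfl⟩ := hsimple
      have hjJ := mem_of_inRootSub_simple hF J j hj hsJ
      have h1 := key j hj hjJ (D.simple j) (hF.simple_lt j hj) (fun u =>
        borel_le_parabolic J (posUnipotent_le_borel D
          (xGL_mem_posUnipotent D hF.xadd _ (hF.simple_pos j hj) u)))
      have h2 : D.reflectRoot j (D.simple j) = D.neg (D.simple j) := by
        unfold ChevalleyDatum.reflectRoot
        simp
      rwa [h2] at h1
    · rcases hP.desc s hs with h | ⟨j, hj, hcj, hpos⟩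
      · exact absurd h hsimple
      · have hjJ : j ∈ J := by
          by_contra hjJ
          exact hcj (hsJ.2 j hj hjJ)
        have hne : s ≠ D.simple j := fun h => hsimple ⟨j, hj, h⟩
        have hs' : D.IsPosRoot (D.reflectRoot j s) := hF.refl.refl_pos j hj s hs hne
        have hs'J : D.InRootSub J (D.reflectRoot j s) := inRootSub_reflect hF hP J j hj hjJ s hsJ
        have hht : corHt D (D.reflectRoot j s) < (n : ℤ) := by
          rw [corHt_reflect hF j hj s hs.1]
          push_cast at hlt
          omega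
        have h1 := key j hj hjJ (D.neg (D.reflectRoot j s)) (hF.sign.neg_lt _ hs'.1)
          (fun u => ih _ hs' hs'J hht u)
        rwa [(hF.facts j hj).wneg _ hs'.1, (hF.facts j hj).winv s hs.1] at h1

/-- `P_J = ⟨H, X_r : r ∈ Φ⁺ ∪ Φ_J⟩` -/
theorem parabolic_eq (J : Set ℕ) :
    D.parabolicSubgroup F J = D.diagonalSubgroup F ⊔
      Subgroup.closure {g : GL D.Idx F | ∃ (r : ℕ) (t : F), (D.IsPosRoot r ∨ D.InRootSub J r) ∧
        (g : Matrix D.Idx D.Idx F) = D.x F r t} := by
  apply le_antisymm
  · unfold ChevalleyDatum.parabolicSubgroup ChevalleyDatum.borelSubgroup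
    apply sup_le
    · apply sup_le
      · refine le_trans ?_ le_sup_right
        unfold ChevalleyDatum.posUnipotent
        apply Subgroup.closure_mono
        rintro g ⟨r, t, hr, hg⟩
        exact ⟨r, t, Or.inl hr, hg⟩
      · exact le_sup_left
    · refine le_trans ?_ le_sup_right
      rw [Subgroup.closure_le]
      rintro g ⟨j, hjJ, hj, hg⟩
      have e : g = nGLt D hF.xadd (D.simple j) 1 := Units.ext (by rw [hg, nGLt_val])
      rw [e, nGLt_eq]
      have h1 : ∀ u : F, xGL D hF.xadd (D.simple j) u ∈ Subgroup.closure {g : GL D.Idx F |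
          ∃ (r : ℕ) (t : F), (D.IsPosRoot r ∨ D.InRootSub J r) ∧
          (g : Matrix D.Idx D.Idx F) = D.x F r t} := fun u =>
        Subgroup.subset_closure ⟨_, u, Or.inl (hF.simple_pos j hj), rfl⟩
      have h2 : ∀ u : F, xGL D hF.xadd (D.neg (D.simple j)) u ∈ Subgroup.closure {g : GL D.Idx F |
          ∃ (r : ℕ) (t : F), (D.IsPosRoot r ∨ D.InRootSub J r) ∧
          (g : Matrix D.Idx D.Idx F) = D.x F r t} := fun u =>
        Subgroup.subset_closure ⟨_, u,
          Or.inr (inRootSub_neg hF hP J _ (inRootSub_simple hF J j hj hjJ)), rfl⟩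
      exact mul_mem (mul_mem (h1 _) (h2 _)) (h1 _)
  · apply sup_le
    · exact le_trans (diagonal_le_borel D) (borel_le_parabolic J)
    · rw [Subgroup.closure_le]
      rintro g ⟨r, t, hr, hg⟩
      have e : g = xGL D hF.xadd r t := Units.ext (by rw [hg, xGL_val])
      rw [e]
      have hpos : ∀ r, D.IsPosRoot r → ∀ t : F, xGL D hF.xadd r t ∈ D.parabolicSubgroup F J :=
        fun r hr t => borel_le_parabolic J (posUnipotent_le_borel D
          (xGL_mem_posUnipotent D hF.xadd _ hr t))
      rcases hr with hr | hr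
      · exact hpos r hr t
      · rcases hF.sign.pos_or_neg r hr.1 with h | h
        · exact hpos r h t
        · have hp := hF.sign.pos_of_neg r h
          have hJ' := inRootSub_neg hF hP J r hr
          have := xGL_neg_mem_parabolic hF hP J (corHt D (D.neg r)).toNat.succ (D.neg r) hp hJ' (by
            have := corHt_nonneg D _ hp
            push_cast
            omega) t
          rwa [hF.sign.neg_neg r hr.1] at this

end Cfsg.Agent.Helper6.ChevL
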