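import Mathlib
import Cfsg.Agent.Lib.Helper6.ChevLPar

/-!
Levi decomposition, part 1: `U_J ⊴ P_J` and `P_J = U_J L_J`.
-/

set_option autoImplicit false
set_option Elab.async false

namespace Cfsg.Agent.Helper6.ChevL

open Cfsg Cfsg.Lie Cfsg.Agent.Lead.Chev

theorem mem_normalizer_of_conj {G : Type*} [Group G] (K : Subgroup G) (g : G)
    (h1 : ∀ k ∈ K, g * k * g⁻¹ ∈ K) (h2 : ∀ k ∈ K, g⁻¹ * k * g ∈ K) :
    g ∈ Subgroup.normalizer (K : Set G) := by
  rw [Subgroup.mem_normalizer_iff]
  intro k
  constructor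
  · exact h1 k
  · intro hk
    have := h2 _ hk
    have e : g⁻¹ * (g * k * g⁻¹) * g = k := by group
    rwa [e] at this

/-- table check: for positive roots `a ≠ s` the roots `i a + j s` are positive and their support contains
the support of `s` -/
def commJChk (D : ChevalleyDatum) (a : ℕ) : Bool :=
  !decide (D.IsPosRoot a) || (List.range D.nroots).all fun s =>
    !decide (D.IsPosRoot s) || decide (s = a) ||
      (D.commTerms a s).all fun c => decide (D.IsPosRoot c.1) &&
        (List.range D.rank).all fun k => decide (cc D s k = 0) || decide (cc D c.1 k ≠ 0)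

def CommJ (D : ChevalleyDatum) : Prop :=
  ∀ a s, D.IsPosRoot a → D.IsPosRoot s → s ≠ a → ∀ c ∈ D.commTerms a s,
    D.IsPosRoot c.1 ∧ ∀ k < D.rank, cc D s k ≠ 0 → cc D c.1 k ≠ 0

theorem commJ_of_chk (D : ChevalleyDatum) (h : ∀ a < D.nroots, commJChk D a = true) : CommJ D := by
  intro a s ha hs hsa c hc
  have h1 := h a ha.1
  unfold commJChk at h1
  simp only [Bool.or_eq_true, Bool.not_eq_true', decide_eq_false_iff_not, List.all_eq_true,
    List.mem_range, decide_eq_true_eq, Bool.and_eq_true] at h1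
  rcases h1 with h1 | h1
  · exact absurd ha h1
  · rcases h1 s hs.1 with (h2 | h2) | h2
    · exact absurd hs h2
    · exact absurd h2 hsa
    · obtain ⟨h3, h4⟩ := h2 c hc
      refine ⟨h3, fun k hk hne => ?_⟩
      rcases h4 k hk with h5 | h5
      · exact absurd h5 hne
      · exact h5

theorem commJOK_G2 : (List.range 12).all (commJChk chevG2) = true := by decide +kernel
theorem commJOK_B2 : (List.range 8).all (commJChk chevB2) = true := by decide +kernel
theorem commJOK_D4 : (List.range 24).all (commJChk chevD4) = true := by decide +kernel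
theorem commJOK_F4 : (List.range 48).all (commJChk chevF4) = true := by decide +kernel
theorem commJOK_E6 : (List.range 72).all (commJChk chevE6) = true := by decide +kernel
theorem all_extend (f : ℕ → Bool) (m k : ℕ) (h1 : ∀ a < m, f a = true)
    (h2 : (List.range' m k).all f = true) : ∀ a < m + k, f a = true := by
  intro a ha
  by_cases h : a < m
  · exact h1 a h
  · exact List.all_eq_true.1 h2 a (List.mem_range'_1.2 ⟨by omega, by omega⟩)

theorem commJOK_E7_neg : (List.range' 0 63).all (commJChk chevE7) = true := by decide +kernel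
theorem commJOK_E7_0 : (List.range' 63 21).all (commJChk chevE7) = true := by decide +kernel
theorem commJOK_E7_1 : (List.range' 84 21).all (commJChk chevE7) = true := by decide +kernel
theorem commJOK_E7_2 : (List.range' 105 21).all (commJChk chevE7) = true := by decide +kernel
theorem commJOK_E7 : ∀ a < 126, commJChk chevE7 a = true := by
  have h0 : ∀ a < 0 + 63, commJChk chevE7 a = true :=
    all_extend _ 0 63 (fun a ha => absurd ha (Nat.not_lt_zero a)) commJOK_E7_neg
  have h1 : ∀ a < 63 + 21, commJChk chevE7 a = true := all_extend _ 63 21 h0 commJOK_E7_0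
  have h2 : ∀ a < 84 + 21, commJChk chevE7 a = true := all_extend _ 84 21 h1 commJOK_E7_1
  have h3 : ∀ a < 105 + 21, commJChk chevE7 a = true := all_extend _ 105 21 h2 commJOK_E7_2
  exact h3

theorem commJOK_E8_neg : (List.range' 0 120).all (commJChk chevE8) = true := by decide +kernel
theorem commJOK_E8_0 : (List.range' 120 20).all (commJChk chevE8) = true := by decide +kernel
theorem commJOK_E8_1 : (List.range' 140 20).all (commJChk chevE8) = true := by decide +kernel
theorem commJOK_E8_2 : (List.range' 160 20).all (commJChk chevE8) = true := by decide +kernel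
theorem commJOK_E8_3 : (List.range' 180 20).all (commJChk chevE8) = true := by decide +kernel
theorem commJOK_E8_4 : (List.range' 200 20).all (commJChk chevE8) = true := by decide +kernel
theorem commJOK_E8_5 : (List.range' 220 20).all (commJChk chevE8) = true := by decide +kernel
theorem commJOK_E8 : ∀ a < 240, commJChk chevE8 a = true := by
  have h0 : ∀ a < 0 + 120, commJChk chevE8 a = true :=
    all_extend _ 0 120 (fun a ha => absurd ha (Nat.not_lt_zero a)) commJOK_E8_neg
  have h1 : ∀ a < 120 + 20, commJChk chevE8 a = true := all_extend _ 120 20 h0 commJOK_E8_0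
  have h2 : ∀ a < 140 + 20, commJChk chevE8 a = true := all_extend _ 140 20 h1 commJOK_E8_1
  have h3 : ∀ a < 160 + 20, commJChk chevE8 a = true := all_extend _ 160 20 h2 commJOK_E8_2
  have h4 : ∀ a < 180 + 20, commJChk chevE8 a = true := all_extend _ 180 20 h3 commJOK_E8_3
  have h5 : ∀ a < 200 + 20, commJChk chevE8 a = true := all_extend _ 200 20 h4 commJOK_E8_4
  have h6 : ∀ a < 220 + 20, commJChk chevE8 a = true := all_extend _ 220 20 h5 commJOK_E8_5
  exact h6

theorem commJ_of_mem (D : ChevalleyDatum)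
    (hD : D ∈ [chevG2, chevB2, chevD4, chevF4, chevE6, chevE7, chevE8]) : CommJ D := by
  simp only [List.mem_cons, List.mem_nil_iff, or_false] at hD
  rcases hD with rfl | rfl | rfl | rfl | rfl | rfl | rfl
  · exact commJ_of_chk _ fun a ha => List.all_eq_true.1 commJOK_G2 a (List.mem_range.2 ha)
  · exact commJ_of_chk _ fun a ha => List.all_eq_true.1 commJOK_B2 a (List.mem_range.2 ha)
  · exact commJ_of_chk _ fun a ha => List.all_eq_true.1 commJOK_D4 a (List.mem_range.2 ha)
  · exact commJ_of_chk _ fun a ha => List.all_eq_true.1 commJOK_F4 a (List.mem_range.2 ha)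
  · exact commJ_of_chk _ fun a ha => List.all_eq_true.1 commJOK_E6 a (List.mem_range.2 ha)
  · exact commJ_of_chk _ commJOK_E7
  · exact commJ_of_chk _ commJOK_E8

variable {F : Type*} [Field F] {D : ChevalleyDatum}

/-- the subgroup generated by the root subgroups `X_r` with `Q r` -/
def rootGen (D : ChevalleyDatum) (F : Type*) [Field F] (Q : ℕ → Prop) : Subgroup (GL D.Idx F) :=
  Subgroup.closure {g | ∃ (r : ℕ) (t : F), Q r ∧ (g : Matrix D.Idx D.Idx F) = D.x F r t}

theorem unipotentRadical_eq (J : Set ℕ) :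
    D.unipotentRadical F J = rootGen D F (fun r => D.IsPosRoot r ∧ ¬ D.InRootSub J r) := by
  unfold ChevalleyDatum.unipotentRadical rootGen
  congr 1
  ext g
  simp only [Set.mem_ofPred_eq, and_assoc]

theorem xGL_mem_rootGen (hX : XAdd D F) (Q : ℕ → Prop) (r : ℕ) (hr : Q r) (t : F) :
    xGL D hX r t ∈ rootGen D F Q :=
  Subgroup.subset_closure ⟨r, t, hr, rfl⟩

theorem wordGL_mem_rootGen (hX : XAdd D F) (Q : ℕ → Prop) (w : List (ℕ × F)) (hw : ∀ q ∈ w, Q q.1) :
    wordGL D hX w ∈ rootGen D F Q := by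
  induction w with
  | nil => rw [wordGL_nil]; exact one_mem _
  | cons q w ih =>
    rw [wordGL_cons]
    exact mul_mem (xGL_mem_rootGen hX Q q.1 (hw q List.mem_cons_self) _)
      (ih fun q' hq' => hw q' (List.mem_cons_of_mem _ hq'))

theorem conj_rootGen (hX : XAdd D F) (g : GL D.Idx F) (Q Q' : ℕ → Prop)
    (h : ∀ r, Q r → ∀ t : F, g * xGL D hX r t * g⁻¹ ∈ rootGen D F Q') (k : GL D.Idx F)
    (hk : k ∈ rootGen D F Q) : g * k * g⁻¹ ∈ rootGen D F Q' := by
  unfold rootGen at hk
  induction hk using Subgroup.closure_induction with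
  | mem x hx =>
    obtain ⟨r, t, hr, hx⟩ := hx
    have e : x = xGL D hX r t := Units.ext (by rw [hx, xGL_val])
    rw [e]
    exact h r hr t
  | one =>
    rw [mul_one, mul_inv_cancel]
    exact one_mem _
  | mul x y _ _ hx hy =>
    have e : g * (x * y) * g⁻¹ = (g * x * g⁻¹) * (g * y * g⁻¹) := by group
    rw [e]
    exact mul_mem hx hy
  | inv x _ hx =>
    have e : g * x⁻¹ * g⁻¹ = (g * x * g⁻¹)⁻¹ := by group
    rw [e]
    exact inv_mem hx

variable (hF : ChevFacts D F)
include hF

/-- conjugation of a root element by an element of `H` -/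
theorem diag_conj_xGL (g : GL D.Idx F) (hg : g ∈ D.diagonalSubgroup F) (s : ℕ) (hs : s < D.nroots)
    (t : F) : ∃ t' : F, g * xGL D hF.xadd s t * g⁻¹ = xGL D hF.xadd s t' := by
  obtain ⟨c, hc, hgc⟩ := exists_Tmat_of_mem D hF.hall g hg
  refine ⟨chi D c s * t, ?_⟩
  apply Units.ext
  have h1 : ((g * xGL D hF.xadd s t * g⁻¹ : GL D.Idx F) : Matrix D.Idx D.Idx F) *
      (g : Matrix D.Idx D.Idx F) =
      (g : Matrix D.Idx D.Idx F) * ((xGL D hF.xadd s t : GL D.Idx F) : Matrix D.Idx D.Idx F) := by
    rw [← Units.val_mul, ← Units.val_mul]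
    congr 1
    group
  rw [xGL_val, hgc, Tmat_conj D hF.hconj s hs c hc t] at h1
  have hinv : Tmat D c * Tmat D (fun i => (c i)⁻¹) = 1 := Tmat_mul_inv D c hc
  have h2 := congrArg (· * Tmat D (fun i => (c i)⁻¹)) h1
  simp only [mul_assoc, hinv, mul_one] at h2
  rw [xGL_val, mul_assoc g _ g⁻¹]
  exact h2

/-- `H` normalizes every subgroup generated by root subgroups -/
theorem diag_conj_rootGen (Q : ℕ → Prop) (hQ : ∀ r, Q r → r < D.nroots) (g : GL D.Idx F)
    (hg : g ∈ D.diagonalSubgroup F) (k : GL D.Idx F) (hk : k ∈ rootGen D F Q) :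
    g * k * g⁻¹ ∈ rootGen D F Q := by
  apply conj_rootGen hF.xadd g Q Q _ k hk
  intro r hr t
  obtain ⟨t', ht'⟩ := diag_conj_xGL hF g hg r (hQ r hr) t
  rw [ht']
  exact xGL_mem_rootGen hF.xadd Q r hr t'

theorem diagonal_le_normalizer_rootGen (Q : ℕ → Prop) (hQ : ∀ r, Q r → r < D.nroots) :
    D.diagonalSubgroup F ≤ Subgroup.normalizer (rootGen D F Q : Set (GL D.Idx F)) := by
  intro g hg
  apply mem_normalizer_of_conj
  · exact diag_conj_rootGen hF Q hQ g hg
  · intro k hk
    have := diag_conj_rootGen hF Q hQ g⁻¹ (inv_mem hg) k hk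
    rwa [inv_inv] at this

variable (hP : ParFacts D) (hC : CommJ D)

/-- the set of roots of `U_J` -/
def QJ (D : ChevalleyDatum) (J : Set ℕ) (r : ℕ) : Prop := D.IsPosRoot r ∧ ¬ D.InRootSub J r

omit hF in
theorem not_inRootSub_iff (J : Set ℕ) (r : ℕ) (hr : r < D.nroots) :
    ¬ D.InRootSub J r ↔ ∃ i < D.rank, i ∉ J ∧ cc D r i ≠ 0 := by
  unfold ChevalleyDatum.InRootSub cc
  constructor
  · intro h
    by_contra hcon
    apply h
    refine ⟨hr, fun i hi hiJ => ?_⟩
    by_contra hne
    exact hcon ⟨i, hi, hiJ, hne⟩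
  · rintro ⟨i, hi, hiJ, hne⟩ h
    exact hne (h.2 i hi hiJ)

include hC in
/-- positive root elements normalize `U_J` -/
theorem xGL_conj_radical (J : Set ℕ) (a : ℕ) (ha : D.IsPosRoot a) (t : F) (k : GL D.Idx F)
    (hk : k ∈ rootGen D F (QJ D J)) :
    xGL D hF.xadd a t * k * (xGL D hF.xadd a t)⁻¹ ∈ rootGen D F (QJ D J) := by
  apply conj_rootGen hF.xadd _ (QJ D J) (QJ D J) _ k hk
  intro s hs u
  by_cases hsa : s = a
  · subst hsa
    have e : xGL D hF.xadd s t * xGL D hF.xadd s u * (xGL D hF.xadd s t)⁻¹ = xGL D hF.xadd s u := by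
      rw [xGL_inv, xGL_mul, xGL_mul]
      congr 1
      ring
    rw [e]
    exact xGL_mem_rootGen hF.xadd _ s hs u
  · have hsna : s ≠ D.neg a := by
      intro h
      rw [h] at hs
      exact hF.sign.not_both _ hs.1 (hF.sign.neg_of_pos a ha)
    have hc := hF.comm a ha.1 s hs.1.1 hsa hsna
    have e : xGL D hF.xadd a t * xGL D hF.xadd s u * (xGL D hF.xadd a t)⁻¹ =
        xGL D hF.xadd s u * wordGL D hF.xadd (D.commWord F a s (-t) u) := by
      rw [xGL_inv]
      have e1 : xGL D hF.xadd s u * xGL D hF.xadd a (-t) =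
          xGL D hF.xadd a (-t) * xGL D hF.xadd s u * wordGL D hF.xadd (D.commWord F a s (-t) u) := by
        apply Units.ext
        rw [Units.val_mul, Units.val_mul, Units.val_mul, wordGL_val, xGL_val, xGL_val]
        exact hc (-t) u
      rw [mul_assoc, e1, ← mul_assoc, ← mul_assoc, xGL_mul, add_neg_cancel, xGL_zero, one_mul]
    rw [e]
    refine mul_mem (xGL_mem_rootGen hF.xadd _ s hs u) (wordGL_mem_rootGen hF.xadd _ _ ?_)
    intro q hq
    unfold ChevalleyDatum.commWord at hq
    obtain ⟨c, hc', rfl⟩ := List.mem_map.1 hq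
    obtain ⟨hpos, hsupp⟩ := hC a s ha hs.1 hsa c hc'
    refine ⟨hpos, ?_⟩
    rw [not_inRootSub_iff J _ hpos.1]
    obtain ⟨i, hi, hiJ, hne⟩ := (not_inRootSub_iff J s hs.1.1).1 hs.2
    exact ⟨i, hi, hiJ, hsupp i hi hne⟩

include hC in
theorem posUnipotent_le_normalizer_radical (J : Set ℕ) :
    D.posUnipotent F ≤ Subgroup.normalizer (rootGen D F (QJ D J) : Set (GL D.Idx F)) := by
  unfold ChevalleyDatum.posUnipotent
  apply closure_le_normalizer_of
  · rintro g ⟨r, t, hr, hg⟩
    refine ⟨r, -t, hr, ?_⟩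
    have : g = xGL D hF.xadd r t := Units.ext (by rw [hg, xGL_val])
    rw [this, xGL_inv]
    rfl
  · rintro g ⟨r, t, hr, hg⟩ k hk
    have : g = xGL D hF.xadd r t := Units.ext (by rw [hg, xGL_val])
    rw [this]
    exact xGL_conj_radical hF hC J r hr t k hk

/-- `n_j`, `j ∈ J`, maps `U_J` into itself -/
theorem nGL_conj_radical (J : Set ℕ) (j : ℕ) (hj : j < D.rank) (hjJ : j ∈ J) (k : GL D.Idx F)
    (hk : k ∈ rootGen D F (QJ D J)) :
    nGL D hF.xadd (D.simple j) * k * (nGL D hF.xadd (D.simple j))⁻¹ ∈ rootGen D F (QJ D J) := by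
  apply conj_rootGen hF.xadd _ (QJ D J) (QJ D J) _ k hk
  intro s hs u
  rw [nGL_conj D hF.xadd j _ (hF.nsimple j hj) s hs.1.1 u]
  apply xGL_mem_rootGen
  have hne : s ≠ D.simple j := by
    rintro rfl
    exact hs.2 (inRootSub_simple hF J j hj hjJ)
  have hpos := hF.refl.refl_pos j hj s hs.1 hne
  refine ⟨hpos, ?_⟩
  rw [not_inRootSub_iff J _ hpos.1]
  obtain ⟨i, hi, hiJ, hne'⟩ := (not_inRootSub_iff J s hs.1.1).1 hs.2
  refine ⟨i, hi, hiJ, ?_⟩
  rw [cc_reflect hF j hj s hs.1.1 i hi, if_neg (by rintro rfl; exact hiJ hjJ), sub_zero]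
  exact hne'

include hP hC in
/-- `P_J` normalizes `U_J` -/
theorem parabolic_le_normalizer (J : Set ℕ) :
    D.parabolicSubgroup F J ≤ Subgroup.normalizer (D.unipotentRadical F J : Set (GL D.Idx F)) := by
  rw [unipotentRadical_eq]
  have hQ : ∀ r, QJ D J r → r < D.nroots := fun r hr => hr.1.1
  have hH := diagonal_le_normalizer_rootGen hF (QJ D J) hQ
  unfold ChevalleyDatum.parabolicSubgroup ChevalleyDatum.borelSubgroup
  apply sup_le
  · exact sup_le (posUnipotent_le_normalizer_radical hF hC J) hH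
  · rw [Subgroup.closure_le]
    rintro g ⟨j, hjJ, hj, hg⟩
    have e : g = nGL D hF.xadd (D.simple j) := Units.ext (by rw [hg, nGL_val])
    rw [e]
    apply mem_normalizer_of_conj
    · exact nGL_conj_radical hF J j hj hjJ
    · intro k hk
      obtain ⟨h, hh, hinv⟩ := nGL_inv_eq D hF.xadd (D.simple j) (hF.simple_lt j hj)
      have h1 := diag_conj_rootGen hF (QJ D J) hQ h hh k hk
      have h2 := nGL_conj_radical hF J j hj hjJ _ h1
      have hh' : h = (nGL D hF.xadd (D.simple j))⁻¹ * (nGL D hF.xadd (D.simple j))⁻¹ := by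
        calc h = (nGL D hF.xadd (D.simple j))⁻¹ * (nGL D hF.xadd (D.simple j) * h) := by group
          _ = _ := by rw [← hinv]
      have e2 : (nGL D hF.xadd (D.simple j))⁻¹ * k * nGL D hF.xadd (D.simple j) =
          nGL D hF.xadd (D.simple j) * (h * k * h⁻¹) * (nGL D hF.xadd (D.simple j))⁻¹ := by
        rw [hh']
        group
      rw [e2]
      exact h2

include hP in
/-- `P_J = U_J L_J` -/
theorem radical_sup_levi (J : Set ℕ) :
    D.unipotentRadical F J ⊔ D.leviSubgroup F J = D.parabolicSubgroup F J := by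
  classical
  rw [parabolic_eq hF hP J]
  unfold ChevalleyDatum.unipotentRadical ChevalleyDatum.leviSubgroup
  apply le_antisymm
  · apply sup_le
    · refine le_trans ?_ le_sup_right
      apply Subgroup.closure_mono
      rintro g ⟨r, t, hr, -, hg⟩
      exact ⟨r, t, Or.inl hr, hg⟩
    · apply sup_le le_sup_left
      refine le_trans ?_ le_sup_right
      apply Subgroup.closure_mono
      rintro g ⟨r, t, hr, hg⟩
      exact ⟨r, t, Or.inr hr, hg⟩
  · apply sup_le
    · exact le_trans le_sup_left le_sup_right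
    · rw [Subgroup.closure_le]
      rintro g ⟨r, t, hr, hg⟩
      by_cases hJ : D.InRootSub J r
      · apply Subgroup.mem_sup_right
        apply Subgroup.mem_sup_right
        exact Subgroup.subset_closure ⟨r, t, hJ, hg⟩
      · rcases hr with hr | hr
        · apply Subgroup.mem_sup_left
          exact Subgroup.subset_closure ⟨r, t, hr, hJ, hg⟩
        · exact absurd hr hJ

end Cfsg.Agent.Helper6.ChevL
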