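import Mathlib
import Cfsg.Agent.Lib.Helper6.ChevLLevi
import Cfsg.Agent.Lib.Lead.ChevExp
import Cfsg.Agent.Lib.Lead.ChevHFacts

/-!
Levi decomposition, part 2: `U_J ∩ L_J = 1`, by a grading of the module: `L_J` keeps the level and
`U_J` strictly raises it.
-/

set_option autoImplicit false
set_option Elab.async false

namespace Cfsg.Agent.Helper6.ChevL

open Cfsg Cfsg.Lie Cfsg.Agent.Lead.Chev

section Grade

variable {ι : Type*} [Fintype ι] [DecidableEq ι] {R : Type*} [CommRing R]

/-- the non-zero entries strictly raise the level -/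
def Raises (L : ι → ℤ) (A : Matrix ι ι R) : Prop := ∀ a b, A a b ≠ 0 → L b < L a

/-- the non-zero entries keep the level -/
def Keeps (L : ι → ℤ) (A : Matrix ι ι R) : Prop := ∀ a b, A a b ≠ 0 → L a = L b

theorem exists_of_mul_ne_zero (A B : Matrix ι ι R) (a c : ι) (h : (A * B) a c ≠ 0) :
    ∃ b, A a b ≠ 0 ∧ B b c ≠ 0 := by
  rw [Matrix.mul_apply] at h
  obtain ⟨b, -, hb⟩ := Finset.exists_ne_zero_of_sum_ne_zero h
  exact ⟨b, left_ne_zero_of_mul hb, right_ne_zero_of_mul hb⟩

theorem Raises.add {L : ι → ℤ} {A B : Matrix ι ι R} (hA : Raises L A) (hB : Raises L B) :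
    Raises L (A + B) := by
  intro a b h
  rw [Matrix.add_apply] at h
  by_cases h1 : A a b = 0
  · rw [h1, zero_add] at h
    exact hB a b h
  · exact hA a b h1

theorem Raises.mul {L : ι → ℤ} {A B : Matrix ι ι R} (hA : Raises L A) (hB : Raises L B) :
    Raises L (A * B) := by
  intro a c h
  obtain ⟨b, h1, h2⟩ := exists_of_mul_ne_zero A B a c h
  exact lt_trans (hB b c h2) (hA a b h1)

theorem Keeps.mul {L : ι → ℤ} {A B : Matrix ι ι R} (hA : Keeps L A) (hB : Keeps L B) :
    Keeps L (A * B) := by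
  intro a c h
  obtain ⟨b, h1, h2⟩ := exists_of_mul_ne_zero A B a c h
  exact (hA a b h1).trans (hB b c h2)

theorem Keeps.one (L : ι → ℤ) : Keeps L (1 : Matrix ι ι R) := by
  intro a b h
  rw [Matrix.one_apply] at h
  by_cases hab : a = b
  · rw [hab]
  · rw [if_neg hab] at h
    exact absurd rfl h

theorem Raises.zero (L : ι → ℤ) : Raises L (0 : Matrix ι ι R) := by
  intro a b h
  exact absurd (Matrix.zero_apply a b) h

theorem Raises.mul_sub_one {L : ι → ℤ} {A B : Matrix ι ι R} (hA : Raises L (A - 1))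
    (hB : Raises L (B - 1)) : Raises L (A * B - 1) := by
  have e : A * B - 1 = (A - 1) + (B - 1) + (A - 1) * (B - 1) := by noncomm_ring
  rw [e]
  exact (hA.add hB).add (hA.mul hB)

/-- the invertible matrices `g` with `g - 1` and `g⁻¹ - 1` strictly raising the level -/
def raiseSub (L : ι → ℤ) : Subgroup (GL ι R) where
  carrier := {g | Raises L ((g : Matrix ι ι R) - 1) ∧ Raises L (((g⁻¹ : GL ι R) : Matrix ι ι R) - 1)}
  one_mem' := by
    constructor
    · rw [Units.val_one, sub_self]; exact Raises.zero L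
    · rw [inv_one, Units.val_one, sub_self]; exact Raises.zero L
  mul_mem' := by
    rintro g h ⟨hg1, hg2⟩ ⟨hh1, hh2⟩
    constructor
    · rw [Units.val_mul]; exact hg1.mul_sub_one hh1
    · rw [mul_inv_rev, Units.val_mul]; exact hh2.mul_sub_one hg2
  inv_mem' := by
    rintro g ⟨hg1, hg2⟩
    exact ⟨hg2, by rw [inv_inv]; exact hg1⟩

/-- the invertible matrices `g` with `g` and `g⁻¹` keeping the level -/
def keepSub (L : ι → ℤ) : Subgroup (GL ι R) where
  carrier := {g | Keeps L (g : Matrix ι ι R) ∧ Keeps L ((g⁻¹ : GL ι R) : Matrix ι ι R)}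
  one_mem' := by
    constructor
    · rw [Units.val_one]; exact Keeps.one L
    · rw [inv_one, Units.val_one]; exact Keeps.one L
  mul_mem' := by
    rintro g h ⟨hg1, hg2⟩ ⟨hh1, hh2⟩
    constructor
    · rw [Units.val_mul]; exact hg1.mul hh1
    · rw [mul_inv_rev, Units.val_mul]; exact hh2.mul hg2
  inv_mem' := by
    rintro g ⟨hg1, hg2⟩
    exact ⟨hg2, by rw [inv_inv]; exact hg1⟩

theorem raiseSub_inf_keepSub (L : ι → ℤ) : raiseSub (R := R) L ⊓ keepSub L = ⊥ := by
  rw [eq_bot_iff]
  rintro g ⟨⟨hg1, -⟩, ⟨hg2, -⟩⟩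
  rw [Subgroup.mem_bot]
  apply Units.ext
  rw [Units.val_one]
  ext a b
  by_contra hne
  have h1 : ((g : Matrix ι ι R) - 1) a b ≠ 0 := by
    rw [Matrix.sub_apply, sub_ne_zero]
    exact hne
  have h2 := hg1 a b h1
  by_cases hab : a = b
  · rw [hab] at h2
    exact lt_irrefl _ h2
  · have h3 : (g : Matrix ι ι R) a b ≠ 0 := by
      rw [Matrix.sub_apply, Matrix.one_apply, if_neg hab, sub_zero] at h1
      exact h1
    have := hg2 a b h3
    omega

end Grade

variable {F : Type*} [Field F]

/-- the level of a coordinate: `0` on the Cartan part, `ω s` on `e_s` -/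
def Lv (D : ChevalleyDatum) (ω : ℕ → ℤ) : D.Idx → ℤ := Sum.elim (fun _ => 0) (fun s => ω s.val)

/-- additive weights on the roots -/
structure AddW (D : ChevalleyDatum) (ω : ℕ → ℤ) : Prop where
  neg : ∀ r < D.nroots, ω (D.negIdx.getD r 0) = - ω r
  chain : ∀ r < D.nroots, ∀ e ∈ (D.chain.getD r #[]).toList, ∀ q ∈ e.2.toList.zipIdx,
    ω q.1.1 = ((q.2 : ℤ) + 1) * ω r + ω e.1

theorem chainCoeff_mem' (D : ChevalleyDatum) (r s u : ℕ) (km : ℕ × ℤ) (h : km ∈ D.chainCoeff r s u) :
    ∃ e ∈ (D.chain.getD r #[]).toList, e.1 = s ∧ ∃ q ∈ e.2.toList.zipIdx, q.1.1 = u ∧ km.1 = q.2 + 1 := by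
  unfold ChevalleyDatum.chainCoeff at h
  simp only [List.mem_flatMap, List.mem_map, List.mem_filter, decide_eq_true_eq] at h
  obtain ⟨e, ⟨he, hes⟩, q, ⟨hq, hqu⟩, rfl⟩ := h
  exact ⟨e, he, hes, q, hq, hqu, rfl⟩

/-- the non-zero entries of `x_r(t) - 1` raise the level by a positive multiple of `ω r` -/
theorem xMat_sub_one_entry (D : ChevalleyDatum) (ω : ℕ → ℤ) (hω : AddW D ω) (r : Fin D.nroots) (t : F)
    (a b : D.Idx) (h : (D.xMat F r t - 1) a b ≠ 0) :
    ∃ k : ℕ, 1 ≤ k ∧ Lv D ω a = Lv D ω b + k * ω r.val := by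
  rw [Matrix.sub_apply] at h
  rcases b with i | s
  · rcases a with i' | u
    · exfalso
      apply h
      simp [ChevalleyDatum.xMat, Matrix.one_apply]
    · by_cases hur : u = r
      · subst hur
        exact ⟨1, le_rfl, by simp [Lv]⟩
      · exfalso
        apply h
        simp [ChevalleyDatum.xMat, Matrix.one_apply, hur]
  · by_cases hsr : s = r
    · exfalso
      apply h
      rcases a with i' | u
      · simp [ChevalleyDatum.xMat, Matrix.one_apply, hsr]
      · simp [ChevalleyDatum.xMat, Matrix.one_apply, hsr]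
    · by_cases hneg : s.val = D.negIdx.getD r.val 0
      · have hωs : ω s.val = - ω r.val := by rw [hneg]; exact hω.neg r.val r.2
        rcases a with i' | u
        · exact ⟨1, le_rfl, by simp [Lv, hωs]⟩
        · by_cases hus : u = s
          · exfalso
            apply h
            simp [ChevalleyDatum.xMat, Matrix.one_apply, hsr, hneg, hus]
          · by_cases hur : u = r
            · subst hur
              refine ⟨2, by norm_num, ?_⟩
              simp only [Lv, Sum.elim_inr, hωs]
              push_cast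
              ring
            · exfalso
              apply h
              simp [ChevalleyDatum.xMat, Matrix.one_apply, hsr, hneg, hus, hur]
      · rcases a with i' | u
        · exfalso
          apply h
          simp only [ChevalleyDatum.xMat, Matrix.of_apply, hsr, hneg, if_false, Matrix.one_apply]
          simp
        · have hne : D.chainCoeff r.val s.val u.val ≠ [] := by
            intro hnil
            apply h
            simp only [ChevalleyDatum.xMat, Matrix.of_apply, hsr, hneg, if_false, hnil, List.map_nil,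
              List.sum_nil, add_zero, Matrix.one_apply, Sum.inr.injEq]
            simp
          obtain ⟨km, hkm⟩ := List.exists_mem_of_ne_nil _ hne
          obtain ⟨e, he, hes, q, hq, hqu, -⟩ := chainCoeff_mem' D _ _ _ km hkm
          have := hω.chain r.val r.2 e he q hq
          rw [hqu, hes] at this
          refine ⟨q.2 + 1, by omega, ?_⟩
          simp only [Lv, Sum.elim_inr, this]
          push_cast
          ring

theorem x_sub_one_entry (D : ChevalleyDatum) (ω : ℕ → ℤ) (hω : AddW D ω) (r : ℕ) (hr : r < D.nroots)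
    (t : F) (a b : D.Idx) (h : (D.x F r t - 1) a b ≠ 0) :
    ∃ k : ℕ, 1 ≤ k ∧ Lv D ω a = Lv D ω b + k * ω r := by
  unfold ChevalleyDatum.x at h
  rw [dif_pos hr] at h
  exact xMat_sub_one_entry D ω hω ⟨r, hr⟩ t a b h

theorem x_raises (D : ChevalleyDatum) (ω : ℕ → ℤ) (hω : AddW D ω) (r : ℕ) (hr : r < D.nroots)
    (hpos : 0 < ω r) (t : F) : Raises (Lv D ω) (D.x F r t - 1) := by
  intro a b h
  obtain ⟨k, hk, e⟩ := x_sub_one_entry D ω hω r hr t a b h
  rw [e]
  have : (0 : ℤ) < k * ω r := mul_pos (by exact_mod_cast hk) hpos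
  omega

theorem x_keeps (D : ChevalleyDatum) (ω : ℕ → ℤ) (hω : AddW D ω) (r : ℕ) (hr : r < D.nroots)
    (h0 : ω r = 0) (t : F) : Keeps (Lv D ω) (D.x F r t) := by
  intro a b h
  by_cases hab : a = b
  · rw [hab]
  · have h1 : (D.x F r t - 1) a b ≠ 0 := by
      rw [Matrix.sub_apply, Matrix.one_apply, if_neg hab, sub_zero]
      exact h
    obtain ⟨k, -, e⟩ := x_sub_one_entry D ω hω r hr t a b h1
    rw [e, h0, mul_zero, add_zero]

/-! ### the weights from the tables -/

/-- a positive multiple of the inverse of the Cartan matrix: `den * c_i(r) = Σ_j A_{p_j, r} B_{j i}` -/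
def bTab (D : ChevalleyDatum) : List (List ℤ) :=
  if D.nroots = 12 then [[2, 1], [3, 2]]
  else if D.nroots = 8 then [[2, 1], [2, 2]]
  else if D.nroots = 24 then [[2, 2, 1, 1], [2, 4, 2, 2], [1, 2, 2, 1], [1, 2, 1, 2]]
  else if D.nroots = 48 then [[2, 3, 2, 1], [3, 6, 4, 2], [4, 8, 6, 3], [2, 4, 3, 2]]
  else if D.nroots = 72 then [[4, 3, 5, 6, 4, 2], [3, 6, 6, 9, 6, 3], [5, 6, 10, 12, 8, 4],
    [6, 9, 12, 18, 12, 6], [4, 6, 8, 12, 10, 5], [2, 3, 4, 6, 5, 4]]
  else if D.nroots = 126 then [[4, 4, 6, 8, 6, 4, 2], [4, 7, 8, 12, 9, 6, 3], [6, 8, 12, 16, 12, 8, 4],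
    [8, 12, 16, 24, 18, 12, 6], [6, 9, 12, 18, 15, 10, 5], [4, 6, 8, 12, 10, 8, 4], [2, 3, 4, 6, 5, 4, 3]]
  else [[4, 5, 7, 10, 8, 6, 4, 2], [5, 8, 10, 15, 12, 9, 6, 3], [7, 10, 14, 20, 16, 12, 8, 4],
    [10, 15, 20, 30, 24, 18, 12, 6], [8, 12, 16, 24, 20, 15, 10, 5], [6, 9, 12, 18, 15, 12, 8, 4],
    [4, 6, 8, 12, 10, 8, 6, 3], [2, 3, 4, 6, 5, 4, 3, 2]]

def bOf (D : ChevalleyDatum) (j i : ℕ) : ℤ := ((bTab D).getD j []).getD i 0

/-- a positive multiple of the coefficient of the root `s` at the `i`-th fundamental root -/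
def rch (D : ChevalleyDatum) (s i : ℕ) : ℤ := ∑ j ∈ Finset.range D.rank, bOf D j i * D.cartan j s

theorem list_range_sum (n : ℕ) (f : ℕ → ℤ) : ((List.range n).map f).sum = ∑ j ∈ Finset.range n, f j := by
  induction n with
  | zero => simp
  | succ n ih => rw [List.range_succ, List.map_append, List.sum_append, ih, Finset.sum_range_succ]; simp

/-- the Cartan integers `A_{p_j, ·}` are additive along the chains -/
def caddChk (D : ChevalleyDatum) (j : ℕ) : Bool :=
  fNat (packRow (cartanRow D j)) fun P =>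
    (List.range D.nroots).all fun r =>
      (D.chain.getD r #[]).toList.all fun e => decide (e.1 < D.nroots) && e.2.toList.zipIdx.all fun q =>
        decide (q.1.1 < D.nroots) &&
          decide (unpackZ P q.1.1 = ((q.2 : ℤ) + 1) * unpackZ P r + unpackZ P e.1)

theorem cadd_of_chk (D : ChevalleyDatum) (hrow : ∀ i < D.rank, rowOK D i = true) (j : ℕ) (hj : j < D.rank)
    (h : caddChk D j = true) : ∀ r < D.nroots, ∀ e ∈ (D.chain.getD r #[]).toList,
      ∀ q ∈ e.2.toList.zipIdx, D.cartan j q.1.1 = ((q.2 : ℤ) + 1) * D.cartan j r + D.cartan j e.1 := by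
  intro r hr e he q hq
  rw [caddChk, fNat_eq, List.all_eq_true] at h
  have h1 := h r (List.mem_range.2 hr)
  rw [List.all_eq_true] at h1
  have h2 := h1 e he
  rw [Bool.and_eq_true, List.all_eq_true] at h2
  have h3 := h2.2 q hq
  simp only [Bool.and_eq_true, decide_eq_true_eq] at h3
  have he1 : e.1 < D.nroots := by simpa using h2.1
  rw [cartanP_eq D j (hrow j hj) _ h3.1, cartanP_eq D j (hrow j hj) _ hr,
    cartanP_eq D j (hrow j hj) _ he1] at h3
  exact h3.2

/-- the sign of the coefficient `c_i(r)` of the coroot against the sign of the coefficient of the root -/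
def sgnChk (D : ChevalleyDatum) (i : ℕ) : Bool :=
  fList fNat (packedRows D) fun Ps =>
    fList fInt ((List.range D.rank).map fun j => bOf D j i) fun col =>
      (List.range D.nroots).all fun r =>
        (decide (cc D r i ≠ 0) || decide (dotP col Ps r = 0)) &&
          (decide (cc D r i ≤ 0) || decide (0 < dotP col Ps r))

theorem sgn_of_chk (D : ChevalleyDatum) (hrow : ∀ i < D.rank, rowOK D i = true) (i : ℕ)
    (h : sgnChk D i = true) (r : ℕ) (hr : r < D.nroots) :
    (cc D r i = 0 → rch D r i = 0) ∧ (0 < cc D r i → 0 < rch D r i) := by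
  rw [sgnChk, fList_eq fNat (fun a k => fNat_eq a k), fList_eq fInt (fun a k => fInt_eq a k)] at h
  have h1 := List.all_eq_true.1 h r (List.mem_range.2 hr)
  have e : dotP ((List.range D.rank).map fun j => bOf D j i) (packedRows D) r = rch D r i := by
    rw [packedRows, dotP_map, rch, list_range_sum]
    apply Finset.sum_congr rfl
    intro j hj
    rw [cartanP_eq D j (hrow j (Finset.mem_range.1 hj)) r hr]
  rw [e] at h1
  simp only [Bool.and_eq_true, Bool.or_eq_true, decide_eq_true_eq] at h1
  constructor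
  · intro h0
    rcases h1.1 with h2 | h2
    · exact absurd h0 h2
    · exact h2
  · intro hpos
    rcases h1.2 with h2 | h2
    · omega
    · exact h2

structure LvlFacts (D : ChevalleyDatum) : Prop where
  add : ∀ r < D.nroots, ∀ e ∈ (D.chain.getD r #[]).toList, ∀ q ∈ e.2.toList.zipIdx,
    ∀ j < D.rank, D.cartan j q.1.1 = ((q.2 : ℤ) + 1) * D.cartan j r + D.cartan j e.1
  zero : ∀ r < D.nroots, ∀ i < D.rank, cc D r i = 0 → rch D r i = 0
  pos : ∀ r < D.nroots, ∀ i < D.rank, 0 < cc D r i → 0 < rch D r i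

theorem lvlFacts_of_chk (D : ChevalleyDatum) (hrow : ∀ i < D.rank, rowOK D i = true)
    (h1 : ∀ j < D.rank, caddChk D j = true) (h2 : ∀ i < D.rank, sgnChk D i = true) : LvlFacts D :=
  ⟨fun r hr e he q hq j hj => cadd_of_chk D hrow j hj (h1 j hj) r hr e he q hq,
    fun r hr i hi => (sgn_of_chk D hrow i (h2 i hi) r hr).1,
    fun r hr i hi => (sgn_of_chk D hrow i (h2 i hi) r hr).2⟩

theorem caddOK_G2 : (List.range 2).all (caddChk chevG2) = true := by decide +kernel
theorem caddOK_B2 : (List.range 2).all (caddChk chevB2) = true := by decide +kernel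
theorem caddOK_D4 : (List.range 4).all (caddChk chevD4) = true := by decide +kernel
theorem caddOK_F4 : (List.range 4).all (caddChk chevF4) = true := by decide +kernel
theorem caddOK_E6 : (List.range 6).all (caddChk chevE6) = true := by decide +kernel
theorem caddOK_E7 : (List.range 7).all (caddChk chevE7) = true := by decide +kernel
theorem caddOK_E8 : (List.range 8).all (caddChk chevE8) = true := by decide +kernel

theorem sgnOK_G2 : (List.range 2).all (sgnChk chevG2) = true := by decide +kernel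
theorem sgnOK_B2 : (List.range 2).all (sgnChk chevB2) = true := by decide +kernel
theorem sgnOK_D4 : (List.range 4).all (sgnChk chevD4) = true := by decide +kernel
theorem sgnOK_F4 : (List.range 4).all (sgnChk chevF4) = true := by decide +kernel
theorem sgnOK_E6 : (List.range 6).all (sgnChk chevE6) = true := by decide +kernel
theorem sgnOK_E7 : (List.range 7).all (sgnChk chevE7) = true := by decide +kernel
theorem sgnOK_E8 : (List.range 8).all (sgnChk chevE8) = true := by decide +kernel

theorem lvlFacts_of_mem (D : ChevalleyDatum)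
    (hD : D ∈ [chevG2, chevB2, chevD4, chevF4, chevE6, chevE7, chevE8]) : LvlFacts D := by
  have hrow := rowOK_of_mem D hD
  simp only [List.mem_cons, List.mem_nil_iff, or_false] at hD
  rcases hD with rfl | rfl | rfl | rfl | rfl | rfl | rfl
  · exact lvlFacts_of_chk _ hrow (fun j hj => List.all_eq_true.1 caddOK_G2 j (List.mem_range.2 hj))
      (fun j hj => List.all_eq_true.1 sgnOK_G2 j (List.mem_range.2 hj))
  · exact lvlFacts_of_chk _ hrow (fun j hj => List.all_eq_true.1 caddOK_B2 j (List.mem_range.2 hj))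
      (fun j hj => List.all_eq_true.1 sgnOK_B2 j (List.mem_range.2 hj))
  · exact lvlFacts_of_chk _ hrow (fun j hj => List.all_eq_true.1 caddOK_D4 j (List.mem_range.2 hj))
      (fun j hj => List.all_eq_true.1 sgnOK_D4 j (List.mem_range.2 hj))
  · exact lvlFacts_of_chk _ hrow (fun j hj => List.all_eq_true.1 caddOK_F4 j (List.mem_range.2 hj))
      (fun j hj => List.all_eq_true.1 sgnOK_F4 j (List.mem_range.2 hj))
  · exact lvlFacts_of_chk _ hrow (fun j hj => List.all_eq_true.1 caddOK_E6 j (List.mem_range.2 hj))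
      (fun j hj => List.all_eq_true.1 sgnOK_E6 j (List.mem_range.2 hj))
  · exact lvlFacts_of_chk _ hrow (fun j hj => List.all_eq_true.1 caddOK_E7 j (List.mem_range.2 hj))
      (fun j hj => List.all_eq_true.1 sgnOK_E7 j (List.mem_range.2 hj))
  · exact lvlFacts_of_chk _ hrow (fun j hj => List.all_eq_true.1 caddOK_E8 j (List.mem_range.2 hj))
      (fun j hj => List.all_eq_true.1 sgnOK_E8 j (List.mem_range.2 hj))

open Classical in
/-- the `J`-level of a root: a positive multiple of the sum of its coefficients outside `J` -/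
noncomputable def ωJ (D : ChevalleyDatum) (J : Set ℕ) (s : ℕ) : ℤ :=
  ∑ i ∈ Finset.range D.rank, if i ∈ J then 0 else rch D s i

variable {D : ChevalleyDatum} (hF : ChevFacts D F) (hP : ParFacts D) (hL : LvlFacts D)

include hF hL in
theorem addW_ωJ (J : Set ℕ) : AddW D (ωJ D J) := by
  classical
  constructor
  · intro r hr
    unfold ωJ
    rw [← Finset.sum_neg_distrib]
    apply Finset.sum_congr rfl
    intro i hi
    by_cases hiJ : i ∈ J
    · simp [hiJ]
    · rw [if_neg hiJ, if_neg hiJ]
      unfold rch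
      rw [← Finset.sum_neg_distrib]
      apply Finset.sum_congr rfl
      intro j hj
      have h1 : D.negIdx.getD r 0 = D.neg r := rfl
      rw [h1, hF.cartan_neg j (Finset.mem_range.1 hj) r hr]
      ring
  · intro r hr e he q hq
    unfold ωJ
    rw [Finset.mul_sum, ← Finset.sum_add_distrib]
    apply Finset.sum_congr rfl
    intro i hi
    by_cases hiJ : i ∈ J
    · simp [hiJ]
    · rw [if_neg hiJ, if_neg hiJ, if_neg hiJ]
      unfold rch
      rw [Finset.mul_sum, ← Finset.sum_add_distrib]
      apply Finset.sum_congr rfl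
      intro j hj
      rw [hL.add r hr e he q hq j (Finset.mem_range.1 hj)]
      ring

include hL in
theorem ωJ_eq_zero (J : Set ℕ) (r : ℕ) (h : D.InRootSub J r) : ωJ D J r = 0 := by
  classical
  unfold ωJ
  apply Finset.sum_eq_zero
  intro i hi
  by_cases hiJ : i ∈ J
  · rw [if_pos hiJ]
  · rw [if_neg hiJ]
    exact hL.zero r h.1 i (Finset.mem_range.1 hi) (h.2 i (Finset.mem_range.1 hi) hiJ)

include hL in
theorem ωJ_pos (J : Set ℕ) (r : ℕ) (h : QJ D J r) : 0 < ωJ D J r := by
  classical
  unfold ωJ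
  obtain ⟨i, hi, hiJ, hne⟩ := (not_inRootSub_iff J r h.1.1).1 h.2
  have hnn : ∀ k ∈ Finset.range D.rank, 0 ≤ (if k ∈ J then 0 else rch D r k) := by
    intro k hk
    by_cases hkJ : k ∈ J
    · rw [if_pos hkJ]
    · rw [if_neg hkJ]
      rcases (cc_nonneg D r h.1 k).lt_or_eq with h1 | h1
      · exact (hL.pos r h.1.1 k (Finset.mem_range.1 hk) h1).le
      · exact (hL.zero r h.1.1 k (Finset.mem_range.1 hk) h1.symm).ge
  apply Finset.sum_pos' hnn
  refine ⟨i, Finset.mem_range.2 hi, ?_⟩
  rw [if_neg hiJ]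
  have h1 : 0 < cc D r i := lt_of_le_of_ne (cc_nonneg D r h.1 i) (Ne.symm hne)
  exact hL.pos r h.1.1 i hi h1

include hF hP hL in
/-- `U_J ∩ L_J = 1` -/
theorem radical_inf_levi (J : Set ℕ) : D.unipotentRadical F J ⊓ D.leviSubgroup F J = ⊥ := by
  have hω := addW_ωJ hF hL J
  have h1 : D.unipotentRadical F J ≤ raiseSub (R := F) (Lv D (ωJ D J)) := by
    unfold ChevalleyDatum.unipotentRadical
    rw [Subgroup.closure_le]
    rintro g ⟨r, t, hr, hrJ, hg⟩
    have e : g = xGL D hF.xadd r t := Units.ext (by rw [hg, xGL_val])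
    have hpos := ωJ_pos hL J r ⟨hr, hrJ⟩
    refine ⟨?_, ?_⟩
    · rw [hg]
      exact x_raises D _ hω r hr.1 hpos t
    · rw [e, xGL_inv, xGL_val]
      exact x_raises D _ hω r hr.1 hpos (-t)
  have h2 : D.leviSubgroup F J ≤ keepSub (R := F) (Lv D (ωJ D J)) := by
    unfold ChevalleyDatum.leviSubgroup
    apply sup_le
    · intro g hg
      have hdiag : ∀ g : GL D.Idx F, g ∈ D.diagonalSubgroup F →
          Keeps (Lv D (ωJ D J)) (g : Matrix D.Idx D.Idx F) := by
        intro g hg
        obtain ⟨c, -, hgc⟩ := exists_Tmat_of_mem D hF.hall g hg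
        intro a b hab
        rw [hgc] at hab
        unfold Tmat at hab
        by_cases h : a = b
        · rw [h]
        · rw [Matrix.diagonal_apply_ne _ h] at hab
          exact absurd rfl hab
      exact ⟨hdiag g hg, hdiag g⁻¹ (inv_mem hg)⟩
    · rw [Subgroup.closure_le]
      rintro g ⟨r, t, hrJ, hg⟩
      have e : g = xGL D hF.xadd r t := Units.ext (by rw [hg, xGL_val])
      have h0 := ωJ_eq_zero hL J r hrJ
      refine ⟨?_, ?_⟩
      · rw [hg]
        exact x_keeps D _ hω r hrJ.1 h0 t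
      · rw [e, xGL_inv, xGL_val]
        exact x_keeps D _ hω r hrJ.1 h0 (-t)
  rw [eq_bot_iff, ← raiseSub_inf_keepSub (R := F) (Lv D (ωJ D J))]
  exact inf_le_inf h1 h2

end Cfsg.Agent.Helper6.ChevL
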