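import Mathlib
import Cfsg.Agent.Lib.Helper17.BNCox3

/-!
Definitions for Steinberg's count of the elements of `p`-power order in a finite group with a split
`(B, N)`-pair whose parabolic subgroups have the expected normal `p`-subgroups (S2314 farm-out, pieces `UNI-*`).
-/

set_option autoImplicit false

namespace Cfsg.Agent.Helper6.Uni

open Cfsg Cfsg.Agent.Helper2.WordLen Cfsg.Agent.Helper2.BN Cfsg.Agent.Helper17.BNCox

/-- an element of `p`-power order -/
def IsPE (p : ℕ) {M : Type*} [Monoid M] (g : M) : Prop := ∃ k : ℕ, orderOf g = p ^ k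

variable {G : Type*} [Group G] (P : Cfsg.BNPair G)

/-- the number of elements of `p`-power order of a subgroup -/
noncomputable def npe (p : ℕ) (H : Subgroup G) : ℕ := Nat.card {g : H // IsPE p g}

/-- `B ∩ n B n⁻¹` -/
def Hn (n : G) : Subgroup G := P.B ⊓ P.B.map (MulAut.conj n).toMonoidHom

/-- the subgroup `N_A` generated by `A` and `B ∩ N` -/
def NA (A : Set P.S) : Subgroup G := Subgroup.closure (Subtype.val '' A) ⊔ (P.B ⊓ P.N)

/-- the relative Steinberg function of the parabolic subgroup `P_A`: the alternating sum of the permutation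
characters of `P_A` on the cosets of the `P_K`, `K ⊆ A` -/
noncomputable def StA (A : Finset P.S) (g : par P (↑A : Set P.S)) : ℂ :=
  ∑ K ∈ A.powerset, (-1 : ℂ) ^ K.card *
    Cfsg.fixedPointCharacter ((par P (↑K : Set P.S)).subgroupOf (par P (↑A : Set P.S))) g

/-- a `(B, N)`-pair of the parabolic subgroup `P_A` is the restriction of `P` -/
structure IsRestr (A : Set P.S) (Q : Cfsg.BNPair ↥(par P A)) : Prop where
  hB : Q.B = P.B.subgroupOf (par P A)
  hN : Q.N = (NA P A).subgroupOf (par P A)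
  hS : Q.S = {x : ↥(par P A) | (x : G) ∈ Subtype.val '' A}

/-- the data of a split `(B, N)`-pair of characteristic `p` with normal `p`-subgroups `R A` of the parabolic
subgroups: `B = U T`, `U` a normal Sylow `p`-subgroup of `B` (and of `G`), `n A` a representative of the longest
element of `W_A` (all generators in `A` are descents), `R A = U ∩ n_A B n_A⁻¹` normal in `P_A` -/
structure SplitData (p : ℕ) where
  U : Subgroup G
  T : Subgroup G
  n : Finset P.S → G
  R : Finset P.S → Subgroup G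
  U_le : U ≤ P.B
  U_norm : ∀ b ∈ P.B, ∀ u ∈ U, b * u * b⁻¹ ∈ U
  U_pgroup : IsPGroup p U
  U_index : ¬ p ∣ U.index
  T_le : T ≤ P.B
  T_conj : ∀ A, ∀ t ∈ T, (n A)⁻¹ * t * n A ∈ P.B
  B_eq : ∀ b ∈ P.B, ∃ u ∈ U, ∃ t ∈ T, b = u * t
  n_mem : ∀ A : Finset P.S, n A ∈ NA P (↑A : Set P.S)
  n_desc : ∀ A : Finset P.S, ∀ s ∈ A, ∃ b ∈ P.B, ∃ b' ∈ P.B, ∃ b'' ∈ P.B,
    (s : G) * b * n A = b' * n A * b''
  R_mem : ∀ A x, x ∈ R A ↔ x ∈ U ∧ (n A)⁻¹ * x * n A ∈ P.B
  R_norm : ∀ A : Finset P.S, ∀ g ∈ par P (↑A : Set P.S), ∀ x ∈ R A, g * x * g⁻¹ ∈ R A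

theorem mem_Hn (n x : G) : x ∈ Hn P n ↔ x ∈ P.B ∧ n⁻¹ * x * n ∈ P.B := by
  unfold Hn
  rw [Subgroup.mem_inf, Subgroup.mem_map]
  constructor
  · rintro ⟨h1, y, hy, rfl⟩
    refine ⟨h1, ?_⟩
    have : n⁻¹ * (MulAut.conj n).toMonoidHom y * n = y := by
      show n⁻¹ * (n * y * n⁻¹) * n = y
      group
    rw [this]
    exact hy
  · rintro ⟨h1, h2⟩
    refine ⟨h1, n⁻¹ * x * n, h2, ?_⟩
    show n * (n⁻¹ * x * n) * n⁻¹ = x
    group

theorem Hn_le (n : G) : Hn P n ≤ P.B := inf_le_left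

theorem NA_le (A : Set P.S) : NA P A ≤ P.N := by
  unfold NA
  apply sup_le
  · rw [Subgroup.closure_le]
    rintro _ ⟨s, _, rfl⟩
    exact P.subset s.2
  · exact inf_le_right

theorem NA_le_par (A : Set P.S) : NA P A ≤ par P A := by
  unfold NA par BNPair.parabolic
  apply sup_le
  · exact le_sup_right
  · exact le_trans inf_le_left le_sup_left

theorem par_mono {A A' : Set P.S} (h : A ⊆ A') : par P A ≤ par P A' := by
  unfold par BNPair.parabolic
  exact sup_le_sup_left (Subgroup.closure_mono (Set.image_mono h)) _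

end Cfsg.Agent.Helper6.Uni
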