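import Mathlib
import Cfsg.Agent.Lib.Helper6.ChevLLevi
import Cfsg.Agent.Lib.Helper2.BNPair

/-!
`N_G(U_J) = P_J`.
-/

set_option autoImplicit false

namespace Cfsg.Agent.Helper6.ChevL

open Cfsg Cfsg.Lie Cfsg.Agent.Lead.Chev

variable {F : Type*} [Field F] {D : ChevalleyDatum} (hF : ChevFacts D F) (hP : ParFacts D)
  (hC : CommJ D)
include hF

theorem radical_le_posUnipotent (J : Set ℕ) : D.unipotentRadical F J ≤ D.posUnipotent F := by
  unfold ChevalleyDatum.unipotentRadical ChevalleyDatum.posUnipotent
  apply Subgroup.closure_mono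
  rintro g ⟨r, t, hr, -, hg⟩
  exact ⟨r, t, hr, hg⟩

/-- if `n_i` normalizes `U_J` then `i ∈ J` -/
theorem mem_of_nGL_mem_normalizer (J : Set ℕ) (i : ℕ) (hi : i < D.rank)
    (h : nGL D hF.xadd (D.simple i) ∈
      Subgroup.normalizer (D.unipotentRadical F J : Set (GL D.Idx F))) : i ∈ J := by
  by_contra hiJ
  have hx : xGL D hF.xadd (D.simple i) 1 ∈ D.unipotentRadical F J := by
    unfold ChevalleyDatum.unipotentRadical
    apply Subgroup.subset_closure
    refine ⟨D.simple i, 1, hF.simple_pos i hi, ?_, rfl⟩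
    intro hJ
    exact hiJ (mem_of_inRootSub_simple hF J i hi hJ)
  rw [Subgroup.mem_normalizer_iff] at h
  have h1 := (h _).1 hx
  rw [hF.nGL_conj_simple i hi 1] at h1
  have h2 := posUnipotent_le_borel D (radical_le_posUnipotent hF J h1)
  have h3 := hF.eq_zero_of_xGL_neg_mem_borel _ (hF.simple_pos i hi) _ h2
  exact absurd h3 (by simp)

include hP hC in
/-- `N_G(U_J) = P_J` -/
theorem normalizer_inf_group (J : Set ℕ) (hJ : ∀ j ∈ J, j < D.rank) :
    Subgroup.normalizer (D.unipotentRadical F J : Set (GL D.Idx F)) ⊓ D.group F =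
      D.parabolicSubgroup F J := by
  have hPN := parabolic_le_normalizer hF hP hC J
  have hPG : D.parabolicSubgroup F J ≤ D.group F := by
    unfold ChevalleyDatum.parabolicSubgroup
    apply sup_le hF.borel_le_group
    rw [Subgroup.closure_le]
    rintro g ⟨j, -, -, hg⟩
    have e : g = nGL D hF.xadd (D.simple j) := Units.ext (by rw [hg, nGL_val])
    rw [e]
    exact nGL_mem_group D hF.xadd _
  apply le_antisymm
  · rintro g ⟨hgN, hgG⟩
    let M : Subgroup ↥(D.group F) :=
      (Subgroup.normalizer (D.unipotentRadical F J : Set (GL D.Idx F))).comap (D.group F).subtype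
    have hM : hF.bnPair.B ≤ M := by
      intro b hb
      have hb' : (b : GL D.Idx F) ∈ D.borelSubgroup F := hb
      exact hPN (borel_le_parabolic J hb')
    have heq := Cfsg.Agent.Helper2.BN.eq_parabolic hF.bnPair M hM
    have hle : hF.bnPair.parabolic {s | s ∈ hF.bnPair.S ∧ s ∈ M} ≤
        (D.parabolicSubgroup F J).comap (D.group F).subtype := by
      unfold BNPair.parabolic
      apply sup_le
      · intro b hb
        have hb' : (b : GL D.Idx F) ∈ D.borelSubgroup F := hb
        exact borel_le_parabolic J hb'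
      · rw [Subgroup.closure_le]
        rintro s ⟨⟨i, hi, hs⟩, hsM⟩
        have e : (s : GL D.Idx F) = nGL D hF.xadd (D.simple i) := Units.ext (by rw [hs, nGL_val])
        have hsN : (s : GL D.Idx F) ∈
            Subgroup.normalizer (D.unipotentRadical F J : Set (GL D.Idx F)) := hsM
        rw [e] at hsN
        have hiJ := mem_of_nGL_mem_normalizer hF J i hi hsN
        show (s : GL D.Idx F) ∈ D.parabolicSubgroup F J
        rw [e]
        exact nGL_mem_parabolic hF hP J i hi hiJ
    have hgM : (⟨g, hgG⟩ : ↥(D.group F)) ∈ M := hgN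
    rw [heq] at hgM
    exact hle hgM
  · exact le_inf hPN hPG

end Cfsg.Agent.Helper6.ChevL
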