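import Mathlib
import Cfsg.Agent.Lib.Helper6.UniDefs
import Cfsg.Agent.Lib.Helper6.ChevLLevi

/-!
S2314 farm-out: the definition shared by the Chevalley pieces.
-/

set_option autoImplicit false

namespace Cfsg.Agent.Helper6.Uni

open Cfsg Cfsg.Lie

/-- the positive roots of `Φ_J` -/
def PJ (D : ChevalleyDatum) (J : Set ℕ) (r : ℕ) : Prop := D.IsPosRoot r ∧ D.InRootSub J r

end Cfsg.Agent.Helper6.Uni
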