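import Mathlib
import Cfsg.Agent.Lib.Helper6.UniDefsChev
import Cfsg.Agent.Lib.Helper6.ChevLNorm
import Cfsg.Agent.Lib.Helper26.UniWNEG
import Cfsg.Agent.Lib.Lead.ChevBV

/-!
S2314 farm-out, PIECE UNI-RJ (core, with UNI-USPLIT as a hypothesis): `U ∩ n_w⁻¹ B n_w = U_J`.
-/

set_option autoImplicit false
set_option linter.unusedSectionVars false
set_option linter.unusedVariables false

namespace Cfsg.Agent.Helper6.Uni

open Cfsg Cfsg.Lie Cfsg.Agent.Lead.Chev Cfsg.Agent.Helper6.ChevL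

variable {F : Type*} [Field F] {D : ChevalleyDatum} (hF : ChevFacts D F)

include hF

/-- a word in `J` gives an element of `P_J` (own copy of UNI-NPAR) -/
theorem uni_rj_nWordGL_mem_parabolic (J : Set ℕ) (w : List ℕ) (hw : ∀ i ∈ w, i ∈ J ∧ i < D.rank) :
    nWordGL D hF.xadd w ∈ D.parabolicSubgroup F J := by
  induction w with
  | nil => rw [nWordGL_nil]; exact one_mem _
  | cons i w ih =>
    rw [nWordGL_cons]
    refine mul_mem ?_ (ih fun j hj => hw j (List.mem_cons_of_mem _ hj))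
    obtain ⟨hiJ, hi⟩ := hw i List.mem_cons_self
    unfold ChevalleyDatum.parabolicSubgroup
    apply Subgroup.mem_sup_right
    exact Subgroup.subset_closure ⟨i, hiJ, hi, nGL_val D hF.xadd _⟩

/-- conjugation by `n_w` maps `⟨X_r : r ∈ Φ_J⁺⟩` into `V` -/
theorem uni_rj_conj_mem_neg (hS : CorSize D) (J : Set ℕ) (w : List ℕ)
    (hw : ∀ i ∈ w, i ∈ J ∧ i < D.rank)
    (hneg : ∀ j ∈ J, j < D.rank → D.IsNegRoot (reflWord D w (D.simple j)))
    (z : GL D.Idx F) (hz : z ∈ rootGen D F (PJ D J)) :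
    nWordGL D hF.xadd w * z * (nWordGL D hF.xadd w)⁻¹ ∈ D.negUnipotent F := by
  have hw' : ∀ i ∈ w, i < D.rank := fun i hi => (hw i hi).2
  have h1 : nWordGL D hF.xadd w * z * (nWordGL D hF.xadd w)⁻¹ ∈ rootGen D F D.IsNegRoot := by
    apply conj_rootGen hF.xadd _ (PJ D J) D.IsNegRoot _ z hz
    intro r hr t
    rw [nWordGL_conj D hF.xadd (etaOf D) hF.nsimple w hw' r hr.1.1 t]
    exact xGL_mem_rootGen hF.xadd _ _
      (reflWord_neg_of_inRootSub hF hS J w hw' hneg r hr.1 hr.2) _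
  exact h1

/-- PIECE UNI-RJ (core): `U ∩ n_w⁻¹ B n_w = U_J`, given the splitting `U = U_J · ⟨X_r : r ∈ Φ_J⁺⟩`. -/
theorem uni_rj_core (hP : ParFacts D) (hC : CommJ D) (hS : CorSize D) (J : Set ℕ) (w : List ℕ)
    (hw : ∀ i ∈ w, i ∈ J ∧ i < D.rank)
    (hneg : ∀ j ∈ J, j < D.rank → D.IsNegRoot (reflWord D w (D.simple j)))
    (hsplit : ∀ x ∈ D.posUnipotent F, ∃ y ∈ D.unipotentRadical F J, ∃ z ∈ rootGen D F (PJ D J),
      x = y * z)
    (x : GL D.Idx F) (hx : x ∈ D.posUnipotent F) :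
    nWordGL D hF.xadd w * x * (nWordGL D hF.xadd w)⁻¹ ∈ D.borelSubgroup F ↔
      x ∈ D.unipotentRadical F J := by
  have hnP := uni_rj_nWordGL_mem_parabolic hF J w hw
  have hnorm := parabolic_le_normalizer hF hP hC J hnP
  rw [Subgroup.mem_normalizer_iff] at hnorm
  constructor
  · intro hb
    obtain ⟨y, hy, z, hz, rfl⟩ := hsplit x hx
    have hy' : nWordGL D hF.xadd w * y * (nWordGL D hF.xadd w)⁻¹ ∈ D.unipotentRadical F J :=
      (hnorm y).1 hy
    have hyB : nWordGL D hF.xadd w * y * (nWordGL D hF.xadd w)⁻¹ ∈ D.borelSubgroup F :=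
      posUnipotent_le_borel D (radical_le_posUnipotent hF J hy')
    have hzV := uni_rj_conj_mem_neg hF hS J w hw hneg z hz
    have e : nWordGL D hF.xadd w * z * (nWordGL D hF.xadd w)⁻¹ =
        (nWordGL D hF.xadd w * y * (nWordGL D hF.xadd w)⁻¹)⁻¹ *
          (nWordGL D hF.xadd w * (y * z) * (nWordGL D hF.xadd w)⁻¹) := by group
    have hzB : nWordGL D hF.xadd w * z * (nWordGL D hF.xadd w)⁻¹ ∈ D.borelSubgroup F := by
      rw [e]
      exact mul_mem (inv_mem hyB) hb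
    have h1 := hF.eq_one_of_neg_mul_diag_mem_borel _ hzV 1 (one_mem _) (by rw [mul_one]; exact hzB)
    have hz1 : z = 1 := by
      have : z = (nWordGL D hF.xadd w)⁻¹ *
          (nWordGL D hF.xadd w * z * (nWordGL D hF.xadd w)⁻¹) * nWordGL D hF.xadd w := by group
      rw [this, h1]
      group
    rw [hz1, mul_one]
    exact hy
  · intro hxJ
    exact posUnipotent_le_borel D (radical_le_posUnipotent hF J ((hnorm x).1 hxJ))

end Cfsg.Agent.Helper6.Uni
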