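import Mathlib
import Cfsg.Agent.Lib.Helper6.UniRJCore

/-!
S2314 farm-out, PIECE UNI-RJ: `U ∩ n_w⁻¹ B n_w = U_J` (exact skeleton name; with an own copy of the
splitting `U = U_J · ⟨X_r : r ∈ Φ_J⁺⟩`).
-/

set_option autoImplicit false
set_option linter.unusedSectionVars false
set_option linter.unusedVariables false

namespace Cfsg.Agent.Helper6.Uni

open Cfsg Cfsg.Lie Cfsg.Agent.Lead.Chev Cfsg.Agent.Helper6.ChevL

variable {F : Type*} [Field F] {D : ChevalleyDatum} (hF : ChevFacts D F)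

include hF

/-- `U = U_J · ⟨X_r : r ∈ Φ_J⁺⟩` (own copy of UNI-USPLIT) -/
theorem uni_rj_split (hC : CommJ D) (J : Set ℕ) (x : GL D.Idx F) (hx : x ∈ D.posUnipotent F) :
    ∃ y ∈ D.unipotentRadical F J, ∃ z ∈ rootGen D F (PJ D J), x = y * z := by
  have hHU : rootGen D F (PJ D J) ≤ D.posUnipotent F := by
    unfold rootGen ChevalleyDatum.posUnipotent
    apply Subgroup.closure_mono
    rintro g ⟨r, t, hr, hg⟩
    exact ⟨r, t, hr.1, hg⟩
  have hnorm : rootGen D F (PJ D J) ≤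
      Subgroup.normalizer (D.unipotentRadical F J : Set (GL D.Idx F)) := by
    rw [unipotentRadical_eq]
    exact le_trans hHU (posUnipotent_le_normalizer_radical hF hC J)
  have hle : D.posUnipotent F ≤ D.unipotentRadical F J ⊔ rootGen D F (PJ D J) := by
    unfold ChevalleyDatum.posUnipotent
    rw [Subgroup.closure_le]
    rintro g ⟨r, t, hr, hg⟩
    by_cases hJ : D.InRootSub J r
    · exact Subgroup.mem_sup_right (Subgroup.subset_closure ⟨r, t, ⟨hr, hJ⟩, hg⟩)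
    · exact Subgroup.mem_sup_left (Subgroup.subset_closure ⟨r, t, hr, hJ, hg⟩)
  have hx' : x ∈ ((D.unipotentRadical F J ⊔ rootGen D F (PJ D J) : Subgroup (GL D.Idx F)) :
      Set (GL D.Idx F)) := hle hx
  rw [Subgroup.coe_mul_of_right_le_normalizer_left _ _ hnorm, Set.mem_mul] at hx'
  obtain ⟨y, hy, z, hz, e⟩ := hx'
  exact ⟨y, hy, z, hz, e.symm⟩

/-- PIECE UNI-RJ: `U ∩ n_w⁻¹ B n_w = U_J`. -/
theorem mem_radical_iff (hP : ParFacts D) (hC : CommJ D) (hS : CorSize D) (J : Set ℕ) (w : List ℕ)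
    (hw : ∀ i ∈ w, i ∈ J ∧ i < D.rank)
    (hneg : ∀ j ∈ J, j < D.rank → D.IsNegRoot (reflWord D w (D.simple j)))
    (x : GL D.Idx F) (hx : x ∈ D.posUnipotent F) :
    nWordGL D hF.xadd w * x * (nWordGL D hF.xadd w)⁻¹ ∈ D.borelSubgroup F ↔
      x ∈ D.unipotentRadical F J :=
  uni_rj_core hF hP hC hS J w hw hneg (fun x hx => uni_rj_split hF hC J x hx) x hx

end Cfsg.Agent.Helper6.Uni
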