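import Mathlib
import Cfsg.Agent.Lib.Lead.ChevBN4
import Cfsg.Agent.Lib.Helper2.BNPair

/-!
Words `w` in the fundamental reflections mapping positive roots to positive roots give elements
`n_w` of the diagonal subgroup `H` (via `N_G(B) = B` for the `(B, N)`-pair).
-/

set_option autoImplicit false

namespace Cfsg.Agent.Helper6.ChevL

open Cfsg Cfsg.Lie Cfsg.Agent.Lead.Chev

variable {F : Type*} [Field F] {D : ChevalleyDatum} (hF : ChevFacts D F)
include hF

/-- conjugation by `n_w` maps `U` into `U` when `w` maps positive roots to positive roots -/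
theorem nWordGL_conj_posUnipotent (w : List ℕ) (hw : ∀ i ∈ w, i < D.rank)
    (h : ∀ s, D.IsPosRoot s → D.IsPosRoot (reflWord D w s)) (u : GL D.Idx F)
    (hu : u ∈ D.posUnipotent F) :
    nWordGL D hF.xadd w * u * (nWordGL D hF.xadd w)⁻¹ ∈ D.posUnipotent F := by
  unfold ChevalleyDatum.posUnipotent at hu
  induction hu using Subgroup.closure_induction with
  | mem x hx =>
    obtain ⟨r, t, hr, hx⟩ := hx
    have e : x = xGL D hF.xadd r t := Units.ext (by rw [hx, xGL_val])
    rw [e, nWordGL_conj D hF.xadd (etaOf D) hF.nsimple w hw r hr.1 t]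
    exact xGL_mem_posUnipotent D hF.xadd _ (h r hr) _
  | one =>
    rw [mul_one, mul_inv_cancel]
    exact one_mem _
  | mul x y _ _ hx hy =>
    have e : nWordGL D hF.xadd w * (x * y) * (nWordGL D hF.xadd w)⁻¹ =
        (nWordGL D hF.xadd w * x * (nWordGL D hF.xadd w)⁻¹) *
          (nWordGL D hF.xadd w * y * (nWordGL D hF.xadd w)⁻¹) := by group
    rw [e]
    exact mul_mem hx hy
  | inv x _ hx =>
    have e : nWordGL D hF.xadd w * x⁻¹ * (nWordGL D hF.xadd w)⁻¹ =
        (nWordGL D hF.xadd w * x * (nWordGL D hF.xadd w)⁻¹)⁻¹ := by group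
    rw [e]
    exact inv_mem hx

/-- conjugation by `n_w` maps `B` into `B` when `w` maps positive roots to positive roots -/
theorem nWordGL_conj_borel (w : List ℕ) (hw : ∀ i ∈ w, i < D.rank)
    (h : ∀ s, D.IsPosRoot s → D.IsPosRoot (reflWord D w s)) (b : GL D.Idx F)
    (hb : b ∈ D.borelSubgroup F) :
    nWordGL D hF.xadd w * b * (nWordGL D hF.xadd w)⁻¹ ∈ D.borelSubgroup F := by
  obtain ⟨u, hu, k, hk, rfl⟩ := (hF.mem_borel_iff b).1 hb
  have e : nWordGL D hF.xadd w * (u * k) * (nWordGL D hF.xadd w)⁻¹ =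
      (nWordGL D hF.xadd w * u * (nWordGL D hF.xadd w)⁻¹) *
        (nWordGL D hF.xadd w * k * (nWordGL D hF.xadd w)⁻¹) := by group
  rw [e]
  exact mul_mem (posUnipotent_le_borel D (nWordGL_conj_posUnipotent hF w hw h u hu))
    (diagonal_le_borel D (nWordGL_conj_mem_diagonal D hF.xadd (etaOf D) hF.nsimple w hw k hk))

/-- if `w` maps positive roots to positive roots then `n_w ∈ H` -/
theorem nWordGL_mem_diagonal_of_pos (w : List ℕ) (hw : ∀ i ∈ w, i < D.rank)
    (h : ∀ s, D.IsPosRoot s → D.IsPosRoot (reflWord D w s)) :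
    nWordGL D hF.xadd w ∈ D.diagonalSubgroup F := by
  have hN : nWordGL D hF.xadd w ∈ D.monomialSubgroup F :=
    nWordGL_mem_monomial D hF.xadd hF.simple_lt w hw
  have hG : nWordGL D hF.xadd w ∈ D.group F := nWordGL_mem_group D hF.xadd w
  have key := Cfsg.Agent.Helper2.BN.mem_of_conj_subset hF.bnPair hF.bnPair.B le_rfl
    (⟨nWordGL D hF.xadd w, hG⟩ : ↥(D.group F)) (by
      intro b hb
      have hb' : (b : GL D.Idx F) ∈ D.borelSubgroup F := hb
      show ((⟨nWordGL D hF.xadd w, hG⟩ * b * (⟨nWordGL D hF.xadd w, hG⟩ : ↥(D.group F))⁻¹ :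
        ↥(D.group F)) : GL D.Idx F) ∈ D.borelSubgroup F
      simp only [Subgroup.coe_mul, Subgroup.coe_inv]
      exact nWordGL_conj_borel hF w hw h _ hb')
  have hB : nWordGL D hF.xadd w ∈ D.borelSubgroup F := key
  rw [← hF.borel_inf_monomial]
  exact ⟨hB, hN⟩

/-- if `w` fixes every root then `n_w ∈ H` -/
theorem nWordGL_mem_diagonal_of_fix (w : List ℕ) (hw : ∀ i ∈ w, i < D.rank)
    (h : ∀ s < D.nroots, reflWord D w s = s) :
    nWordGL D hF.xadd w ∈ D.diagonalSubgroup F :=
  nWordGL_mem_diagonal_of_pos hF w hw fun s hs => by rw [h s hs.1]; exact hs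

/-- if `n_w ∈ B` then `w` fixes every root -/
theorem fix_of_nWordGL_mem_borel (w : List ℕ) (hw : ∀ i ∈ w, i < D.rank)
    (h : nWordGL D hF.xadd w ∈ D.borelSubgroup F) : ∀ s < D.nroots, reflWord D w s = s :=
  (hF.mem_diagonal_of_borel_word _ h 1 (one_mem _) w hw (one_mul _).symm).1

end Cfsg.Agent.Helper6.ChevL
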