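import Mathlib

set_option autoImplicit false
set_option linter.style.haveILetI false
set_option linter.unusedSectionVars false

/-!
S0996 (Brauer, self-centralizing element of prime order): the group-theoretic preliminaries
G0, G1, G4 of `plans/S0996_proof.md`.
-/

namespace Cfsg.Agent.Helper6.BR996

open Subgroup

variable {G : Type*} [Group G] [Finite G]

/-- G0: an element `z` of prime order `p` with `C_G(z) = ⟨z⟩` generates a Sylow `p`-subgroup, which
is self-centralizing. -/
theorem G0_exists_sylow (p : ℕ) [Fact p.Prime] (z : G) (hz : orderOf z = p)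
    (hC : Subgroup.centralizer ({z} : Set G) = Subgroup.zpowers z) :
    ∃ P : Sylow p G, (P : Subgroup G) = Subgroup.zpowers z ∧ Nat.card P = p ∧
      Subgroup.centralizer ((P : Subgroup G) : Set G) = (P : Subgroup G) := by
  have hp : p.Prime := Fact.out
  have hcard : Nat.card (zpowers z) = p := by rw [Nat.card_zpowers, hz]
  have hzp : IsPGroup p (zpowers z) := IsPGroup.of_card (n := 1) (by rw [hcard, pow_one])
  obtain ⟨Q, hQ⟩ := hzp.exists_le_sylow
  have hzQ : z ∈ (Q : Subgroup G) := hQ (mem_zpowers z)
  have hz1 : z ≠ 1 := by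
    intro h
    rw [h, orderOf_one] at hz
    exact hp.one_lt.ne hz
  haveI : Nontrivial (Q : Subgroup G) :=
    ⟨⟨⟨z, hzQ⟩, 1, fun h => hz1 (congrArg Subtype.val h)⟩⟩
  haveI : Nontrivial (Subgroup.center (Q : Subgroup G)) := Q.isPGroup'.center_nontrivial
  obtain ⟨c, hc⟩ := exists_ne (1 : Subgroup.center (Q : Subgroup G))
  -- `c' : G` is a nontrivial element of `Q` commuting with all of `Q`
  set c' : G := ((c : (Q : Subgroup G)) : G) with hc'
  have hc'1 : c' ≠ 1 := by
    intro h
    apply hc
    apply Subtype.ext
    apply Subtype.ext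
    exact h
  have hcomm : ∀ q ∈ (Q : Subgroup G), q * c' = c' * q := by
    intro q hq
    have := (Subgroup.mem_center_iff.mp c.2) ⟨q, hq⟩
    exact congrArg Subtype.val this
  have hc'z : c' ∈ zpowers z := by
    rw [← hC, Subgroup.mem_centralizer_iff]
    intro h hh
    rw [Set.mem_singleton_iff] at hh
    subst hh
    exact hcomm h hzQ
  -- `zpowers c' = zpowers z`
  have hle : zpowers c' ≤ zpowers z := (zpowers_le).mpr hc'z
  have hcc : Nat.card (zpowers c') = p := by
    have hdvd : Nat.card (zpowers c') ∣ p := hcard ▸ Subgroup.card_dvd_of_le hle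
    rcases (Nat.dvd_prime hp).mp hdvd with h | h
    · exfalso
      rw [Nat.card_zpowers, orderOf_eq_one_iff] at h
      exact hc'1 h
    · exact h
  have heq : zpowers c' = zpowers z :=
    Subgroup.eq_of_le_of_card_ge hle (by rw [hcc, hcard])
  have hzc : z ∈ zpowers c' := heq ▸ mem_zpowers z
  obtain ⟨k, hk⟩ := mem_zpowers_iff.mp hzc
  -- `Q ≤ C(z) = zpowers z`
  have hQle : (Q : Subgroup G) ≤ zpowers z := by
    intro q hq
    rw [← hC, Subgroup.mem_centralizer_iff]
    intro h hh
    rw [Set.mem_singleton_iff] at hh
    subst hh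
    rw [← hk]
    have : Commute q c' := hcomm q hq
    exact ((this.zpow_right k).eq).symm
  have hQeq : (Q : Subgroup G) = zpowers z := le_antisymm hQle hQ
  refine ⟨Q, hQeq, by rw [hQeq]; exact hcard, ?_⟩
  rw [hQeq]
  apply le_antisymm
  · intro g hg
    rw [← hC, Subgroup.mem_centralizer_iff]
    intro h hh
    rw [Set.mem_singleton_iff] at hh
    subst hh
    exact (Subgroup.mem_centralizer_iff.mp hg) h (mem_zpowers h)
  · intro g hg
    rw [Subgroup.mem_centralizer_iff]
    intro h hh
    obtain ⟨j, rfl⟩ := mem_zpowers_iff.mp hh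
    obtain ⟨i, rfl⟩ := mem_zpowers_iff.mp hg
    exact ((Commute.refl z).zpow_zpow j i).eq

variable (p : ℕ) [Fact p.Prime] (P : Sylow p G)

/-- A self-centralizing subgroup is commutative (elementwise form). -/
theorem G1_commute (hCP : Subgroup.centralizer ((P : Subgroup G) : Set G) = (P : Subgroup G))
    (x y : (P : Subgroup G)) : x * y = y * x := by
  have hy : (y : G) ∈ Subgroup.centralizer ((P : Subgroup G) : Set G) := by rw [hCP]; exact y.2
  have := (Subgroup.mem_centralizer_iff.mp hy) x x.2
  exact Subtype.ext this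

/-- G1 (Burnside transfer): in a perfect group a self-centralizing Sylow `p`-subgroup of order `p`
is properly contained in its normalizer. -/
theorem G1_two_le_relIndex (hperf : commutator G = ⊤) (hP : Nat.card P = p)
    (hCP : Subgroup.centralizer ((P : Subgroup G) : Set G) = (P : Subgroup G)) :
    2 ≤ (P : Subgroup G).relIndex (Subgroup.normalizer ((P : Subgroup G) : Set G)) := by
  have hp : p.Prime := Fact.out
  by_contra hlt
  have hpos : 0 < (P : Subgroup G).relIndex (Subgroup.normalizer ((P : Subgroup G) : Set G)) := by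
    rw [Nat.pos_iff_ne_zero]
    exact Subgroup.index_ne_zero_of_finite
  have h1 : (P : Subgroup G).relIndex (Subgroup.normalizer ((P : Subgroup G) : Set G)) = 1 := by omega
  have hNP : Subgroup.normalizer ((P : Subgroup G) : Set G) ≤ (P : Subgroup G) := Subgroup.relIndex_eq_one.mp h1
  have hNC : Subgroup.normalizer ((P : Subgroup G) : Set G) ≤ Subgroup.centralizer ((P : Subgroup G) : Set G) := by
    rw [hCP]; exact hNP
  have hcompl := MonoidHom.ker_transferSylow_isComplement' P hNC
  have hker : (MonoidHom.transferSylow P hNC).ker = ⊤ := by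
    rw [eq_top_iff, ← hperf, _root_.commutator_def, Subgroup.commutator_le]
    intro a _ b _
    rw [MonoidHom.mem_ker, map_commutatorElement, commutatorElement_eq_one_iff_commute]
    exact G1_commute p P hCP _ _
  rw [hker, Subgroup.isComplement'_top_left] at hcompl
  rw [hcompl, Subgroup.card_bot] at hP
  exact hp.one_lt.ne hP

/-- The automorphism group of a group of prime order is commutative. -/
theorem G1_mulAut_comm {H : Type*} [Group H] [Finite H] (hH : (Nat.card H).Prime)
    (a b : MulAut H) : a * b = b * a := by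
  haveI : Fact (Nat.card H).Prime := ⟨hH⟩
  haveI : IsCyclic H := isCyclic_of_prime_card rfl
  apply (IsCyclic.mulAutMulEquiv H).injective
  rw [map_mul, map_mul, mul_comm]

/-- G1: in a perfect group a self-centralizing Sylow `p`-subgroup of order `p` is not normal. -/
theorem G1_not_normal (hperf : commutator G = ⊤) (hP : Nat.card P = p)
    (hCP : Subgroup.centralizer ((P : Subgroup G) : Set G) = (P : Subgroup G)) :
    ¬ (P : Subgroup G).Normal := by
  have hp : p.Prime := Fact.out
  intro hn
  haveI := hn
  -- conjugation action on `P`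
  have hker : (MulAut.conjNormal (H := (P : Subgroup G))).ker = ⊤ := by
    rw [eq_top_iff, ← hperf, _root_.commutator_def, Subgroup.commutator_le]
    intro a _ b _
    rw [MonoidHom.mem_ker, map_commutatorElement, commutatorElement_eq_one_iff_commute]
    exact G1_mulAut_comm (by rw [hP]; exact hp) _ _
  -- so every element centralizes `P`, i.e. lies in `P`
  have htop : (P : Subgroup G) = ⊤ := by
    rw [eq_top_iff]
    intro g _
    rw [← hCP, Subgroup.mem_centralizer_iff]
    intro h hh
    have hg : g ∈ (MulAut.conjNormal (H := (P : Subgroup G))).ker := by rw [hker]; trivial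
    rw [MonoidHom.mem_ker] at hg
    have := congrArg (fun f : MulAut (P : Subgroup G) => ((f ⟨h, hh⟩ : (P : Subgroup G)) : G)) hg
    simp only [MulAut.conjNormal_apply, MulAut.one_apply] at this
    -- g * h * g⁻¹ = h
    calc h * g = (g * h * g⁻¹) * g := by rw [this]
      _ = g * h := by group
  -- then `G` is commutative, so its commutator subgroup is trivial
  have hcomm : ∀ a b : G, a * b = b * a := by
    intro a b
    have ha : a ∈ (P : Subgroup G) := by rw [htop]; exact Subgroup.mem_top a
    have hb : b ∈ (P : Subgroup G) := by rw [htop]; exact Subgroup.mem_top b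
    exact congrArg Subtype.val (G1_commute p P hCP ⟨a, ha⟩ ⟨b, hb⟩)
  have hbot : commutator G = ⊥ := by
    rw [eq_bot_iff, _root_.commutator_def, Subgroup.commutator_le]
    intro a _ b _
    rw [Subgroup.mem_bot, commutatorElement_eq_one_iff_commute]
    exact hcomm a b
  rw [hperf] at hbot
  have hcardG : Nat.card G = 1 := by
    rw [← Subgroup.card_top (G := G), hbot, Subgroup.card_bot]
  have : Nat.card (P : Subgroup G) ≤ Nat.card G := Subgroup.card_le_card_group _
  rw [hP, hcardG] at this
  exact absurd hp.one_lt (by omega)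

/-- G1: the number of Sylow `p`-subgroups is `1 + n p` with `n ≥ 1`. -/
theorem G1_card_sylow (hperf : commutator G = ⊤) (hP : Nat.card P = p)
    (hCP : Subgroup.centralizer ((P : Subgroup G) : Set G) = (P : Subgroup G)) :
    ∃ n : ℕ, 1 ≤ n ∧ Nat.card (Sylow p G) = 1 + n * p := by
  have hp : p.Prime := Fact.out
  have hmod : Nat.card (Sylow p G) ≡ 1 [MOD p] := card_sylow_modEq_one p G
  have hne1 : Nat.card (Sylow p G) ≠ 1 := by
    intro h1
    haveI : Subsingleton (Sylow p G) := (Nat.card_eq_one_iff_unique.mp h1).1
    exact G1_not_normal p P hperf hP hCP (Sylow.normal_of_subsingleton P)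
  have hpos : 0 < Nat.card (Sylow p G) := Nat.card_pos
  have h1le : 1 ≤ Nat.card (Sylow p G) := hpos
  have hdvd : p ∣ Nat.card (Sylow p G) - 1 := (Nat.modEq_iff_dvd' h1le).mp hmod.symm
  obtain ⟨n, hn⟩ := hdvd
  refine ⟨n, ?_, by rw [mul_comm n p]; omega⟩
  rcases Nat.eq_zero_or_pos n with h0 | h0
  · rw [h0, mul_zero] at hn
    omega
  · exact h0

/-- Order formula `|G| = p · w · |Syl_p(G)|` with `w = |N_G(P) : P|`. -/
theorem G1_card_eq (hP : Nat.card P = p) :
    Nat.card G = p * (P : Subgroup G).relIndex (Subgroup.normalizer ((P : Subgroup G) : Set G)) *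
      Nat.card (Sylow p G) := by
  have h1 : Nat.card (Subgroup.normalizer ((P : Subgroup G) : Set G)) =
      p * (P : Subgroup G).relIndex (Subgroup.normalizer ((P : Subgroup G) : Set G)) := by
    have := Subgroup.relIndex_mul_relIndex (⊥ : Subgroup G) (P : Subgroup G)
      (Subgroup.normalizer ((P : Subgroup G) : Set G)) bot_le Subgroup.le_normalizer
    rw [Subgroup.relIndex_bot_left, Subgroup.relIndex_bot_left, hP] at this
    exact this.symm
  rw [Sylow.card_eq_index_normalizer P, ← h1]
  exact (Subgroup.card_mul_index _).symm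

/-- G4: a perfect group with a self-centralizing Sylow `p`-subgroup of order `p` acts faithfully
on its Sylow `p`-subgroups. -/
theorem G4_faithful (hperf : commutator G = ⊤) (hP : Nat.card P = p)
    (hCP : Subgroup.centralizer ((P : Subgroup G) : Set G) = (P : Subgroup G)) :
    FaithfulSMul G (Sylow p G) := by
  have hp : p.Prime := Fact.out
  set K : Subgroup G := (MulAction.toPermHom G (Sylow p G)).ker with hK
  have hKmem : ∀ g : G, g ∈ K ↔ ∀ Q : Sylow p G, g • Q = Q := by
    intro g
    rw [hK, MonoidHom.mem_ker]
    constructor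
    · intro h Q
      have := congrArg (fun f : Equiv.Perm (Sylow p G) => f Q) h
      simpa using this
    · intro h
      apply Equiv.ext
      intro Q
      simpa using h Q
  haveI hKn : K.Normal := MonoidHom.normal_ker _
  have hKN : K ≤ Subgroup.normalizer ((P : Subgroup G) : Set G) := by
    intro g hg
    exact Sylow.smul_eq_iff_mem_normalizer.mp ((hKmem g).mp hg P)
  -- `K ⊓ P` is trivial or all of `P`
  have hKbot : K = ⊥ := by
    haveI : Fact (Nat.card (P : Subgroup G)).Prime := ⟨by rw [hP]; exact hp⟩
    rcases Subgroup.eq_bot_or_eq_top_of_prime_card (K.subgroupOf (P : Subgroup G)) with h | h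
    · -- `K ⊓ P = ⊥`: `K` centralizes `P`
      rw [Subgroup.subgroupOf_eq_bot] at h
      rw [eq_bot_iff]
      intro g hg
      have hgP : g ∈ (P : Subgroup G) := by
        rw [← hCP, Subgroup.mem_centralizer_iff]
        intro x hx
        -- the commutator `g * x * g⁻¹ * x⁻¹` lies in `K ⊓ P`
        have h1 : g * x * g⁻¹ * x⁻¹ ∈ K := by
          have : x * g⁻¹ * x⁻¹ ∈ K := hKn.conj_mem _ (K.inv_mem hg) x
          have := K.mul_mem hg this
          simpa [mul_assoc] using this
        have h2 : g * x * g⁻¹ * x⁻¹ ∈ (P : Subgroup G) := by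
          have hgx : g * x * g⁻¹ ∈ (P : Subgroup G) :=
            (Subgroup.mem_normalizer_iff.mp (hKN hg) x).mp hx
          exact (P : Subgroup G).mul_mem hgx ((P : Subgroup G).inv_mem hx)
        have h3 : g * x * g⁻¹ * x⁻¹ = 1 := by
          have := h.le_bot ⟨h1, h2⟩
          simpa using this
        calc x * g = (g * x * g⁻¹ * x⁻¹)⁻¹ * (g * x) := by group
          _ = g * x := by rw [h3, inv_one, one_mul]
      have := h.le_bot ⟨hg, hgP⟩
      simpa using this
    · -- `P ≤ K`: then `P` normalizes every Sylow subgroup, so is the only one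
      exfalso
      rw [Subgroup.subgroupOf_eq_top] at h
      apply G1_not_normal p P hperf hP hCP
      have hall : ∀ Q : Sylow p G, Q = P := by
        intro Q
        have hPQ : (P : Subgroup G) ≤ Subgroup.normalizer ((Q : Subgroup G) : Set G) := by
          intro x hx
          exact Sylow.smul_eq_iff_mem_normalizer.mp ((hKmem x).mp (h hx) Q)
        have hle : (P : Subgroup G) ≤ (Q : Subgroup G) := by
          have this : (P : Subgroup G) ⊓ Subgroup.normalizer ((Q : Subgroup G) : Set G) =
              (P : Subgroup G) ⊓ (Q : Subgroup G) := P.isPGroup'.inf_normalizer_sylow Q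
          rw [inf_eq_left.mpr hPQ] at this
          exact inf_eq_left.mp this.symm
        exact (Sylow.ext (Subgroup.eq_of_le_of_card_ge hle (by
          rw [Sylow.card_eq_multiplicity Q, Sylow.card_eq_multiplicity P]))).symm
      haveI : Subsingleton (Sylow p G) := ⟨fun A B => (hall A).trans (hall B).symm⟩
      exact Sylow.normal_of_subsingleton P
  constructor
  intro g₁ g₂ h
  have hmem : g₂⁻¹ * g₁ ∈ K := by
    rw [hKmem]
    intro Q
    rw [mul_smul, h Q, inv_smul_smul]
  rw [hKbot, Subgroup.mem_bot] at hmem
  calc g₁ = g₂ * (g₂⁻¹ * g₁) := by group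
    _ = g₂ := by rw [hmem, mul_one]

end Cfsg.Agent.Helper6.BR996
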