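import Mathlib
import Cfsg.Agent.Lib.Helper5.TLDefs
import Cfsg.Agent.Lib.Helper5.TL2Defs

set_option autoImplicit false

/-!
# S4441, second wave: common lemmas for the pieces THB0 / TR2

A lattice `L` over `ℤ_[p]` with `σ = Σ_{i<p} X^i = 0` and a basis `B (i, j) = X^i w_j`, `i < p - 1`.
-/

namespace Cfsg.Agent.Helper5.TL

open scoped Padic

variable (p : ℕ) [Fact p.Prime]

variable {L : Type*} [AddCommGroup L] [Module ℤ_[p] L]

theorem sg0_one_le : 1 ≤ p - 1 := by
  have := (Fact.out : p.Prime).two_le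
  omega

/-- (K): `X^(p-1) y = - Σ_{k<p-1} X^k y` when `σ = 0`. -/
theorem sg0_pow_pred (X : Module.End ℤ_[p] L) (h0 : sig p X = 0) (y : L) :
    (X ^ (p - 1)) y = - ∑ k ∈ Finset.range (p - 1), (X ^ k) y := by
  have hp : Finset.range p = Finset.range ((p - 1) + 1) := by
    rw [Nat.sub_add_cancel (Fact.out : p.Prime).one_le]
  have h1 : sig p X y = 0 := by rw [h0]; rfl
  unfold sig at h1
  rw [hp, Finset.sum_range_succ, LinearMap.add_apply, LinearMap.sum_apply] at h1
  exact eq_neg_of_add_eq_zero_right h1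

variable {b : ℕ}

/-- action of `X` on the basis, generic index. -/
theorem sg0_X_basis_lt (X : Module.End ℤ_[p] L) (w : Fin b → L)
    (B : Module.Basis (Fin (p - 1) × Fin b) ℤ_[p] L)
    (hB : ∀ i j, B (i, j) = (X ^ (i : ℕ)) (w j)) (i : Fin (p - 1)) (j : Fin b)
    (h : (i : ℕ) + 1 < p - 1) : X (B (i, j)) = B (⟨(i : ℕ) + 1, h⟩, j) := by
  rw [hB, hB]
  show X ((X ^ (i : ℕ)) (w j)) = (X ^ ((i : ℕ) + 1)) (w j)
  rw [pow_succ', Module.End.mul_apply]

/-- action of `X` on the basis, last index. -/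
theorem sg0_X_basis_eq (X : Module.End ℤ_[p] L) (h0 : sig p X = 0) (w : Fin b → L)
    (B : Module.Basis (Fin (p - 1) × Fin b) ℤ_[p] L)
    (hB : ∀ i j, B (i, j) = (X ^ (i : ℕ)) (w j)) (i : Fin (p - 1)) (j : Fin b)
    (h : (i : ℕ) + 1 = p - 1) : X (B (i, j)) = - ∑ k : Fin (p - 1), B (k, j) := by
  rw [hB]
  have h1 : X ((X ^ (i : ℕ)) (w j)) = (X ^ (p - 1)) (w j) := by
    have h2 : X ((X ^ (i : ℕ)) (w j)) = (X ^ ((i : ℕ) + 1)) (w j) := by
      rw [pow_succ', Module.End.mul_apply]
    rw [h2]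
    exact congrArg (fun n => (X ^ n) (w j)) h
  rw [h1, sg0_pow_pred p X h0, Finset.sum_range]
  congr 1
  apply Finset.sum_congr rfl
  intro k _
  rw [hB]

/-- the semilinear coordinate map `θ z j = (Σ_i repr z (i,j)) mod p`. -/
noncomputable def sg0Theta (B : Module.Basis (Fin (p - 1) × Fin b) ℤ_[p] L) :
    L →ₛₗ[(PadicInt.toZMod : ℤ_[p] →+* ZMod p)] (Fin b → ZMod p) where
  toFun z j := PadicInt.toZMod (∑ i : Fin (p - 1), B.repr z (i, j))
  map_add' z z' := by
    ext j
    simp [Finset.sum_add_distrib]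
  map_smul' c z := by
    ext j
    simp [Finset.mul_sum]

theorem sg0Theta_apply (B : Module.Basis (Fin (p - 1) × Fin b) ℤ_[p] L) (z : L) (j : Fin b) :
    sg0Theta p B z j = PadicInt.toZMod (∑ i : Fin (p - 1), B.repr z (i, j)) := rfl

theorem sg0Theta_basis (B : Module.Basis (Fin (p - 1) × Fin b) ℤ_[p] L) (i : Fin (p - 1))
    (j : Fin b) : sg0Theta p B (B (i, j)) = Pi.single j 1 := by
  ext j'
  rw [sg0Theta_apply, Module.Basis.repr_self]
  by_cases hj : j = j'
  · subst hj
    rw [Pi.single_eq_same]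
    have : ∑ i' : Fin (p - 1), (Finsupp.single (i, j) (1 : ℤ_[p])) (i', j)
        = ∑ i' : Fin (p - 1), if i' = i then (1 : ℤ_[p]) else 0 := by
      apply Finset.sum_congr rfl
      intro i' _
      rw [Finsupp.single_apply]
      by_cases h : i' = i
      · subst h; simp
      · rw [if_neg h, if_neg]
        intro h'
        exact h (Prod.mk.inj h').1.symm
    rw [this, Finset.sum_ite_eq' Finset.univ i]
    simp
  · rw [Pi.single_eq_of_ne (Ne.symm hj)]
    have : ∑ i' : Fin (p - 1), (Finsupp.single (i, j) (1 : ℤ_[p])) (i', j') = 0 := by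
      apply Finset.sum_eq_zero
      intro i' _
      rw [Finsupp.single_apply, if_neg]
      intro h'
      exact hj (Prod.mk.inj h').2
    rw [this, map_zero]

/-- (E1): `θ (X z) = θ z`. -/
theorem sg0Theta_X (X : Module.End ℤ_[p] L) (h0 : sig p X = 0) (w : Fin b → L)
    (B : Module.Basis (Fin (p - 1) × Fin b) ℤ_[p] L)
    (hB : ∀ i j, B (i, j) = (X ^ (i : ℕ)) (w j)) (z : L) :
    sg0Theta p B (X z) = sg0Theta p B z := by
  have key : (sg0Theta p B).comp X = sg0Theta p B := by
    apply B.ext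
    rintro ⟨i, j⟩
    rw [LinearMap.comp_apply]
    by_cases h : (i : ℕ) + 1 < p - 1
    · rw [sg0_X_basis_lt p X w B hB i j h, sg0Theta_basis, sg0Theta_basis]
    · have h' : (i : ℕ) + 1 = p - 1 := by
        have := i.2
        omega
      rw [sg0_X_basis_eq p X h0 w B hB i j h', map_neg, map_sum]
      simp only [sg0Theta_basis]
      rw [Finset.sum_const, Finset.card_univ, Fintype.card_fin]
      ext j'
      have hp1 : ((p - 1 : ℕ) : ZMod p) = -1 := by
        rw [Nat.cast_sub (Fact.out : p.Prime).one_le]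
        simp
      by_cases hj : j = j'
      · subst hj
        simp [hp1]
      · simp [Pi.single_eq_of_ne (Ne.symm hj)]
  have := congrArg (fun f => f z) key
  simpa using this

end Cfsg.Agent.Helper5.TL
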