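import Mathlib
import Cfsg.Agent.Lib.Helper5.TLDefs
import Cfsg.Agent.Lib.Helper5.TL2Defs
import Cfsg.Agent.Lib.Helper20.TLS2
import Cfsg.Agent.Lib.Helper6.TL2Sig0

set_option autoImplicit false

/-!
# S4441, second wave, piece THB0: `theta_sig_zero`
-/

namespace Cfsg.Agent.Helper5.TL

open scoped Padic

variable (p : ℕ) [Fact p.Prime]

variable {L : Type*} [AddCommGroup L] [Module ℤ_[p] L]

theorem thb0_pow_sub_mem (X : Module.End ℤ_[p] L) (i : ℕ) (v : L) :
    (X ^ i) v - v ∈ augRange p X := by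
  induction i with
  | zero => simp
  | succ i ih =>
    have h1 : (X ^ (i + 1)) v - v = (X - 1) ((X ^ i) v) + ((X ^ i) v - v) := by
      rw [pow_succ', Module.End.mul_apply, LinearMap.sub_apply, Module.End.one_apply]
      abel
    rw [h1]
    exact Submodule.add_mem _ (LinearMap.mem_range_self _ _) ih

theorem thb0_p_smul_mem (X : Module.End ℤ_[p] L) (h0 : sig p X = 0) (v : L) :
    (p : ℤ_[p]) • v ∈ augRange p X := by
  have h1 : sig p X v = 0 := by rw [h0]; rfl
  have h3 : ∑ i ∈ Finset.range p, (X ^ i) v = 0 := by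
    unfold sig at h1
    rwa [LinearMap.sum_apply] at h1
  have h2 : (p : ℤ_[p]) • v = - ∑ i ∈ Finset.range p, ((X ^ i) v - v) := by
    rw [Finset.sum_sub_distrib, Finset.sum_const, Finset.card_range, h3, zero_sub, neg_neg,
      Nat.cast_smul_eq_nsmul]
  rw [h2]
  exact Submodule.neg_mem _ (Submodule.sum_mem _ fun i _ => thb0_pow_sub_mem p X i v)

variable {b : ℕ}

theorem thb0_zero_of_mem (X : Module.End ℤ_[p] L) (h0 : sig p X = 0) (w : Fin b → L)
    (B : Module.Basis (Fin (p - 1) × Fin b) ℤ_[p] L)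
    (hB : ∀ i j, B (i, j) = (X ^ (i : ℕ)) (w j)) (u : L) (hu : u ∈ augRange p X) :
    sg0Theta p B u = 0 := by
  obtain ⟨y, rfl⟩ := hu
  rw [LinearMap.sub_apply, Module.End.one_apply, map_sub, sg0Theta_X p X h0 w B hB, sub_self]

theorem thb0_mem_of_zero (X : Module.End ℤ_[p] L) (h0 : sig p X = 0) (w : Fin b → L)
    (B : Module.Basis (Fin (p - 1) × Fin b) ℤ_[p] L)
    (hB : ∀ i j, B (i, j) = (X ^ (i : ℕ)) (w j)) (z : L) (hz : sg0Theta p B z = 0) :
    z ∈ augRange p X := by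
  have hd : ∀ j : Fin b, ∃ a : ℤ_[p], ∑ i : Fin (p - 1), B.repr z (i, j) = a * p := by
    intro j
    have h1 : PadicInt.toZMod (∑ i : Fin (p - 1), B.repr z (i, j)) = 0 := congrFun hz j
    have h2 : (∑ i : Fin (p - 1), B.repr z (i, j)) ∈
        RingHom.ker (PadicInt.toZMod : ℤ_[p] →+* ZMod p) := h1
    rw [PadicInt.ker_toZMod, PadicInt.maximalIdeal_eq_span_p, Ideal.mem_span_singleton'] at h2
    obtain ⟨a, ha⟩ := h2
    exact ⟨a, ha.symm⟩
  choose a ha using hd
  have hz' : z = ∑ ij : Fin (p - 1) × Fin b,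
        B.repr z ij • ((X ^ (ij.1 : ℕ)) (w ij.2) - w ij.2)
      + ∑ j : Fin b, a j • ((p : ℤ_[p]) • w j) := by
    have e1 : ∑ j : Fin b, a j • ((p : ℤ_[p]) • w j)
        = ∑ ij : Fin (p - 1) × Fin b, B.repr z ij • w ij.2 := by
      rw [Fintype.sum_prod_type_right]
      apply Finset.sum_congr rfl
      intro j _
      show a j • ((p : ℤ_[p]) • w j) = ∑ x : Fin (p - 1), (B.repr z) (x, j) • w j
      rw [← Finset.sum_smul, ha j, mul_smul]
    rw [e1, ← Finset.sum_add_distrib]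
    conv_lhs => rw [← B.sum_repr z]
    apply Finset.sum_congr rfl
    rintro ⟨i, j⟩ _
    rw [← smul_add, sub_add_cancel, hB]
  rw [hz']
  apply Submodule.add_mem
  · exact Submodule.sum_mem _ fun ij _ =>
      Submodule.smul_mem _ _ (thb0_pow_sub_mem p X _ _)
  · exact Submodule.sum_mem _ fun j _ =>
      Submodule.smul_mem _ _ (thb0_p_smul_mem p X h0 _)

theorem thb0_toZMod_val (c : ZMod p) : PadicInt.toZMod ((c.val : ℕ) : ℤ_[p]) = c := by
  haveI : NeZero p := ⟨(Fact.out : p.Prime).ne_zero⟩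
  rw [map_natCast, ZMod.natCast_zmod_val]

theorem thb0_sum_single (c : Fin b → ZMod p) :
    ∑ j : Fin b, c j • (Pi.single j 1 : Fin b → ZMod p) = c := by
  ext j'
  rw [Finset.sum_apply]
  simp [Pi.single_apply]

theorem thb0_surj (B : Module.Basis (Fin (p - 1) × Fin b) ℤ_[p] L) (c : Fin b → ZMod p) :
    ∃ u : L, sg0Theta p B u = c := by
  have hp1 := sg0_one_le p
  refine ⟨∑ j : Fin b, ((c j).val : ℤ_[p]) • B (⟨0, by omega⟩, j), ?_⟩
  rw [map_sum]
  simp only [map_smulₛₗ, sg0Theta_basis, thb0_toZMod_val]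
  exact thb0_sum_single p c

theorem thb0_lift (X : Module.End ℤ_[p] L) (h0 : sig p X = 0) (w : Fin b → L)
    (B : Module.Basis (Fin (p - 1) × Fin b) ℤ_[p] L)
    (hB : ∀ i j, B (i, j) = (X ^ (i : ℕ)) (w j)) (g : Matrix (Fin b) (Fin b) (ZMod p)) :
    ∃ φ : Module.End ℤ_[p] L, Commute φ X ∧
      ∀ u, sg0Theta p B (φ u) = g.mulVec (sg0Theta p B u) := by
  set G : Matrix (Fin b) (Fin b) ℤ_[p] := fun j' j => (((g j' j).val : ℕ) : ℤ_[p]) with hG
  set y : Fin b → L := fun j => ∑ j' : Fin b, G j' j • w j' with hy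
  set φ : Module.End ℤ_[p] L :=
    B.constr ℤ_[p] (fun ij : Fin (p - 1) × Fin b => (X ^ (ij.1 : ℕ)) (y ij.2)) with hφdef
  have hφ : ∀ i j, φ (B (i, j)) = (X ^ (i : ℕ)) (y j) := by
    intro i j
    rw [hφdef, Module.Basis.constr_basis]
  refine ⟨φ, ?_, ?_⟩
  · show φ * X = X * φ
    apply B.ext
    rintro ⟨i, j⟩
    rw [Module.End.mul_apply, Module.End.mul_apply, hφ]
    by_cases h : (i : ℕ) + 1 < p - 1
    · rw [sg0_X_basis_lt p X w B hB i j h, hφ]
      show (X ^ ((i : ℕ) + 1)) (y j) = X ((X ^ (i : ℕ)) (y j))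
      rw [pow_succ', Module.End.mul_apply]
    · have h' : (i : ℕ) + 1 = p - 1 := by
        have := i.2
        omega
      rw [sg0_X_basis_eq p X h0 w B hB i j h', map_neg, map_sum]
      simp only [hφ]
      have h2 : X ((X ^ (i : ℕ)) (y j)) = (X ^ (p - 1)) (y j) := by
        have h3 : X ((X ^ (i : ℕ)) (y j)) = (X ^ ((i : ℕ) + 1)) (y j) := by
          rw [pow_succ', Module.End.mul_apply]
        rw [h3]
        exact congrArg (fun n => (X ^ n) (y j)) h'
      rw [h2, sg0_pow_pred p X h0, Finset.sum_range]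
  · intro u
    have key : (sg0Theta p B).comp φ = (Matrix.mulVecLin g).comp (sg0Theta p B) := by
      apply B.ext
      rintro ⟨i, j⟩
      rw [LinearMap.comp_apply, LinearMap.comp_apply, hφ, sg0Theta_basis,
        Matrix.mulVecLin_apply, Matrix.mulVec_single_one]
      have h1 : (X ^ (i : ℕ)) (y j) = ∑ j' : Fin b, G j' j • B (i, j') := by
        rw [hy]
        simp only [map_sum, map_smul, hB]
      rw [h1, map_sum]
      simp only [map_smulₛₗ, sg0Theta_basis, hG, thb0_toZMod_val]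
      exact thb0_sum_single p (fun j' => g j' j)
    have := congrArg (fun f => f u) key
    simpa using this

/-- PIECE THB0: a lattice with `σ = 0`: `Ĥ⁻¹ = L / (X - 1) L`. -/
theorem theta_sig_zero [Module.Free ℤ_[p] L] [Module.Finite ℤ_[p] L] (X : Module.End ℤ_[p] L)
    (hX : X ^ p = 1) (h0 : sig p X = 0) :
    ∃ (b : ℕ) (θ : L → Fin b → ZMod p), (p - 1) * b = Module.finrank ℤ_[p] L ∧
      ThetaData p X ⊤ (augRange p X) b θ := by
  obtain ⟨b, w, hli, hspan⟩ := sig_zero_basis p X hX h0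
  set B : Module.Basis (Fin (p - 1) × Fin b) ℤ_[p] L := Module.Basis.mk hli hspan.ge with hBdef
  have hB : ∀ i j, B (i, j) = (X ^ (i : ℕ)) (w j) := by
    intro i j
    rw [hBdef, Module.Basis.mk_apply]
  have hrank : Module.finrank ℤ_[p] L = (p - 1) * b := by
    rw [Module.finrank_eq_card_basis B, Fintype.card_prod, Fintype.card_fin, Fintype.card_fin]
  refine ⟨b, fun u => sg0Theta p B u, hrank.symm, ?_, ?_, ?_, ?_, ?_, ?_⟩
  · intro u u'
    exact map_add _ u u'
  · intro c u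
    exact map_smulₛₗ _ c u
  · intro u hu
    exact thb0_zero_of_mem p X h0 w B hB u hu
  · intro u _ hu
    exact thb0_mem_of_zero p X h0 w B hB u hu
  · intro c
    obtain ⟨u, hu⟩ := thb0_surj p B c
    exact ⟨u, Submodule.mem_top, hu⟩
  · intro g
    obtain ⟨φ, hc, hφ⟩ := thb0_lift p X h0 w B hB g
    exact ⟨φ, hc, fun u _ => Submodule.mem_top, fun u _ => hφ u⟩

end Cfsg.Agent.Helper5.TL
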