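import Mathlib
import Cfsg.Prelude.Def_Blocks
import Cfsg.Agent.Lib.Helper5.TLDDefs
import Cfsg.Agent.Lib.Helper24.CharComplete

set_option autoImplicit false

/-!
# S4442, Layer D, piece DDEG0 (helper6): `Σ_χ χ(1) · FP θ χ a = 0` for `a ∈ P^#`.
-/

namespace Cfsg.Agent.Helper5.TLD

open scoped ComplexConjugate
open Cfsg Cfsg.Agent.Helper24

variable (p : ℕ) [Fact p.Prime] {G : Type*} [Group G] [Finite G]

/-- an element of order `p` of `P` times a `p`-regular element of `C_G(P)` is not `1`. -/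
theorem ddeg0_orderOf_eq (P : Sylow p G) (hP : Nat.card P = p) (a : G)
    (ha : a ∈ (P : Subgroup G)) (ha1 : a ≠ 1) : orderOf a = p := by
  have hp : p.Prime := Fact.out
  have h1 : orderOf (⟨a, ha⟩ : (P : Subgroup G)) ∣ p := by
    have := orderOf_dvd_natCard (⟨a, ha⟩ : (P : Subgroup G))
    rwa [hP] at this
  have h2 : orderOf (⟨a, ha⟩ : (P : Subgroup G)) = orderOf a := by
    rw [← Subgroup.orderOf_coe]
  rw [h2] at h1
  rcases (Nat.dvd_prime hp).mp h1 with h | h
  · exact absurd (orderOf_eq_one_iff.mp h) ha1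
  · exact h

theorem ddeg0_mul_ne_one (P : Sylow p G) (hP : Nat.card P = p) (a : G)
    (ha : a ∈ (P : Subgroup G)) (ha1 : a ≠ 1)
    (c : Subgroup.centralizer ((P : Subgroup G) : Set G)) (hc : ¬ p ∣ orderOf c) :
    a * (c : G) ≠ 1 := by
  intro h
  have hca : (c : G) = a⁻¹ := (eq_inv_of_mul_eq_one_right h)
  apply hc
  rw [← Subgroup.orderOf_coe, hca, orderOf_inv, ddeg0_orderOf_eq p P hP a ha ha1]

/-- PIECE DDEG0. -/
theorem sum_degree_mul_FP (P : Sylow p G) (hP : Nat.card P = p)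
    (θ : Subgroup.centralizer ((P : Subgroup G) : Set G) → ℂ)
    (a : G) (ha : a ∈ (P : Subgroup G)) (ha1 : a ≠ 1) :
    ∑ᶠ χ : IrrCharacter G, (charDegree (χ : G → ℂ) : ℂ) * FP p P θ (χ : G → ℂ) a = 0 := by
  classical
  haveI : Fintype G := Fintype.ofFinite G
  letI : Fintype (IrrCharacter G) := irrFintype
  rw [finsum_eq_sum_of_fintype]
  set S : Set (Subgroup.centralizer ((P : Subgroup G) : Set G)) := {c | ¬ p ∣ orderOf c} with hS
  have hSfin : S.Finite := Set.toFinite S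
  have key : ∀ c ∈ S, ∑ χ : IrrCharacter G,
      (charDegree (χ : G → ℂ) : ℂ) * (χ : G → ℂ) (a * (c : G)) = 0 := by
    intro c hc
    have h1 := second_orthogonality (a * (c : G)) (1 : G)
    have h2 : Nat.card {y : G // y * 1 * y⁻¹ = a * (c : G)} = 0 := by
      haveI : IsEmpty {y : G // y * 1 * y⁻¹ = a * (c : G)} := by
        constructor
        rintro ⟨y, hy⟩
        apply ddeg0_mul_ne_one p P hP a ha ha1 c hc
        rw [← hy]
        group
      exact Nat.card_of_isEmpty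
    rw [h2, Nat.cast_zero] at h1
    rw [← h1]
    refine Finset.sum_congr rfl fun χ _ => ?_
    rw [irr_one_eq_charDegree χ.2, Complex.conj_natCast]
    ring
  have hFP : ∀ χ : IrrCharacter G, FP p P θ (χ : G → ℂ) a =
      (Nat.card S : ℂ)⁻¹ * ∑ c ∈ hSfin.toFinset, (χ : G → ℂ) (a * (c : G)) * conj (θ c) := by
    intro χ
    simp only [FP]
    rw [finsum_mem_eq_finite_toFinset_sum _ hSfin]
  simp only [hFP]
  have : ∀ χ : IrrCharacter G, (charDegree (χ : G → ℂ) : ℂ) * ((Nat.card S : ℂ)⁻¹ *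
      ∑ c ∈ hSfin.toFinset, (χ : G → ℂ) (a * (c : G)) * conj (θ c)) =
      (Nat.card S : ℂ)⁻¹ * ∑ c ∈ hSfin.toFinset,
        conj (θ c) * ((charDegree (χ : G → ℂ) : ℂ) * (χ : G → ℂ) (a * (c : G))) := by
    intro χ
    rw [Finset.mul_sum, Finset.mul_sum, Finset.mul_sum]
    refine Finset.sum_congr rfl fun c _ => ?_
    ring
  simp only [this]
  rw [← Finset.mul_sum, Finset.sum_comm]
  have h0 : ∑ c ∈ hSfin.toFinset, ∑ χ : IrrCharacter G,
      conj (θ c) * ((charDegree (χ : G → ℂ) : ℂ) * (χ : G → ℂ) (a * (c : G))) = 0 := by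
    refine Finset.sum_eq_zero fun c hc => ?_
    rw [← Finset.mul_sum, key c ((Set.Finite.mem_toFinset hSfin).mp hc), mul_zero]
  rw [h0, mul_zero]

end Cfsg.Agent.Helper5.TLD
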