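import Mathlib
import Cfsg.Prelude.Def_Blocks
import Cfsg.Agent.Lib.Helper5.TLDDefs
import Cfsg.Agent.Lib.Helper24.CharComplete
import Cfsg.Agent.Lib.Helper24.CharHom
import Cfsg.Agent.Lib.Helper15.TLGT
import Cfsg.Agent.Lib.Helper6.TLDDDEG0
import Cfsg.Agent.Lib.Helper1.TLDFPK

set_option autoImplicit false

/-!
# S4442, Layer D, piece DCOL (helper6): the column relations for the `θ`-parts `FP`.
-/

namespace Cfsg.Agent.Helper5.TLD

open scoped ComplexConjugate
open Cfsg Cfsg.Agent.Helper24

section GroupFacts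

variable (p : ℕ) [Fact p.Prime] {G : Type*} [Group G] [Finite G]

/-- a nonidentity element of a Sylow subgroup of order `p` generates it. -/
theorem dcol_zpowers_eq (P : Sylow p G) (hP : Nat.card P = p) (a : G)
    (ha : a ∈ (P : Subgroup G)) (ha1 : a ≠ 1) : Subgroup.zpowers a = (P : Subgroup G) := by
  have hle : Subgroup.zpowers a ≤ (P : Subgroup G) := (Subgroup.zpowers_le).mpr ha
  apply Subgroup.eq_of_le_of_card_ge hle
  rw [Nat.card_zpowers, ddeg0_orderOf_eq p P hP a ha ha1]
  exact hP.le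

/-- centralizing `P` is the same as commuting with a generator. -/
theorem dcol_mem_centralizer_iff (P : Sylow p G) (hP : Nat.card P = p) (a : G)
    (ha : a ∈ (P : Subgroup G)) (ha1 : a ≠ 1) (g : G) :
    g ∈ Subgroup.centralizer ((P : Subgroup G) : Set G) ↔ g * a = a * g := by
  constructor
  · intro hg
    rw [Subgroup.mem_centralizer_iff] at hg
    exact (hg a ha).symm
  · intro hg
    rw [Subgroup.mem_centralizer_iff]
    intro u hu
    rw [SetLike.mem_coe, ← dcol_zpowers_eq p P hP a ha ha1, Subgroup.mem_zpowers_iff] at hu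
    obtain ⟨i, rfl⟩ := hu
    have : Commute g a := hg
    exact ((this.zpow_right i).eq).symm

/-- if `y a' y⁻¹ = a` for nonidentity `a, a' ∈ P` then `y` normalizes `P`. -/
theorem dcol_mem_normalizer (P : Sylow p G) (hP : Nat.card P = p) (a a' : G)
    (ha : a ∈ (P : Subgroup G)) (ha1 : a ≠ 1) (ha' : a' ∈ (P : Subgroup G)) (ha'1 : a' ≠ 1)
    (y : G) (hy : y * a' * y⁻¹ = a) :
    y ∈ Subgroup.normalizer ((P : Subgroup G) : Set G) := by
  rw [Subgroup.mem_normalizer_iff]
  intro h
  constructor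
  · intro hh
    rw [← dcol_zpowers_eq p P hP a' ha' ha'1, Subgroup.mem_zpowers_iff] at hh
    obtain ⟨i, rfl⟩ := hh
    have : y * a' ^ i * y⁻¹ = a ^ i := by
      rw [← hy, conj_zpow]
    rw [this]
    exact Subgroup.zpow_mem _ ha i
  · intro hh
    rw [← dcol_zpowers_eq p P hP a ha ha1, Subgroup.mem_zpowers_iff] at hh
    obtain ⟨i, hi⟩ := hh
    have : h = a' ^ i := by
      have h1 : y * a' ^ i * y⁻¹ = a ^ i := by
        rw [← hy, conj_zpow]
      have h2 : y * h * y⁻¹ = y * a' ^ i * y⁻¹ := by rw [h1, hi]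
      have h3 := mul_right_cancel h2
      exact mul_left_cancel h3
    rw [this]
    exact Subgroup.zpow_mem _ ha' i

/-- the normalizer of `P` normalizes the centralizer of `P`. -/
theorem dcol_conj_mem_centralizer (P : Sylow p G) (y : G)
    (hy : y ∈ Subgroup.normalizer ((P : Subgroup G) : Set G)) (c : G)
    (hc : c ∈ Subgroup.centralizer ((P : Subgroup G) : Set G)) :
    y * c * y⁻¹ ∈ Subgroup.centralizer ((P : Subgroup G) : Set G) := by
  rw [Subgroup.mem_centralizer_iff] at hc ⊢
  intro u hu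
  have hu' : y⁻¹ * u * y ∈ ((P : Subgroup G) : Set G) := by
    have := (Subgroup.mem_normalizer_iff.mp (Subgroup.inv_mem _ hy) u).mp hu
    rw [inv_inv] at this
    exact this
  have h1 := hc _ hu'
  calc u * (y * c * y⁻¹) = y * ((y⁻¹ * u * y) * c) * y⁻¹ := by group
    _ = y * (c * (y⁻¹ * u * y)) * y⁻¹ := by rw [h1]
    _ = y * c * y⁻¹ * u := by group

/-- separation of the `p`-part and the `p'`-part under conjugation. -/
theorem dcol_split (M : ℕ) (hM : Nat.Coprime M p) (a a' k k' y : G)
    (hap : a ^ p = 1) (ha'p : a' ^ p = 1) (hk : k ^ M = 1) (hk' : k' ^ M = 1)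
    (hc : Commute a k) (hc' : Commute a' k') (h : y * (a' * k') * y⁻¹ = a * k) :
    y * a' * y⁻¹ = a ∧ y * k' * y⁻¹ = k := by
  have hp : p.Prime := Fact.out
  obtain ⟨s, -, hs⟩ := Nat.exists_mul_mod_eq_one_of_coprime hM hp.one_lt
  have hpow : ∀ u v : G, u ^ p = 1 → v ^ M = 1 → Commute u v → (u * v) ^ (M * s) = u := by
    intro u v hu hv huv
    rw [huv.mul_pow, pow_mul v, hv, one_pow, mul_one, pow_eq_pow_mod (M * s) hu, hs, pow_one]
  have h1 : y * a' * y⁻¹ = a := by
    have := congrArg (fun g => g ^ (M * s)) h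
    simp only [conj_pow] at this
    rwa [hpow a' k' ha'p hk' hc', hpow a k hap hk hc] at this
  refine ⟨h1, ?_⟩
  have h2 : y * (a' * k') * y⁻¹ = (y * a' * y⁻¹) * (y * k' * y⁻¹) := by group
  rw [h2, h1] at h
  exact mul_left_cancel h

end GroupFacts

section Sums

variable (p : ℕ) [Fact p.Prime] {G : Type*} [Group G] [Finite G]

/-- summing over `C_G(P) = P × K` a function invariant under translation by `P`. -/
theorem dcol_sum_centralizer (P : Sylow p G) (hP : Nat.card P = p) (K : Subgroup G)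
    (hK1 : ∀ y : G, y ∈ K ↔
      (y ∈ Subgroup.centralizer ((P : Subgroup G) : Set G) ∧ ¬ p ∣ orderOf y))
    (hK4 : ∀ c : G, (∀ u ∈ (P : Subgroup G), c * u = u * c) →
        ∃ u k : G, u ∈ (P : Subgroup G) ∧ k ∈ K ∧ c = u * k)
    [Fintype (Subgroup.centralizer ((P : Subgroup G) : Set G))] [Fintype K]
    (F : Subgroup.centralizer ((P : Subgroup G) : Set G) → ℂ)
    (hF : ∀ u c : Subgroup.centralizer ((P : Subgroup G) : Set G), (u : G) ∈ (P : Subgroup G) →
      F (u * c) = F c) :
    ∑ c : Subgroup.centralizer ((P : Subgroup G) : Set G), F c =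
      (p : ℂ) * ∑ k : K, F ⟨(k : G), ((hK1 k).1 k.2).1⟩ := by
  classical
  have hp : p.Prime := Fact.out
  have hPC : (P : Subgroup G) ≤ Subgroup.centralizer ((P : Subgroup G) : Set G) :=
    Cfsg.Agent.Helper5.TL.gt_le_centralizer p P hP
  have hKC : ∀ k : K, (k : G) ∈ Subgroup.centralizer ((P : Subgroup G) : Set G) :=
    fun k => ((hK1 k).1 k.2).1
  haveI : Fintype (P : Subgroup G) := Fintype.ofFinite _
  let e : ↥(P : Subgroup G) × ↥K → Subgroup.centralizer ((P : Subgroup G) : Set G) :=
    fun x => ⟨(x.1 : G) * (x.2 : G), Subgroup.mul_mem _ (hPC x.1.2) (hKC x.2)⟩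
  have he : Function.Bijective e := by
    constructor
    · rintro ⟨u, k⟩ ⟨u', k'⟩ h
      have h1 : (u : G) * (k : G) = (u' : G) * (k' : G) := congrArg Subtype.val h
      have h2 : (u' : G)⁻¹ * (u : G) = (k' : G) * (k : G)⁻¹ := by
        calc (u' : G)⁻¹ * (u : G) = (u' : G)⁻¹ * ((u : G) * (k : G)) * (k : G)⁻¹ := by group
          _ = (u' : G)⁻¹ * ((u' : G) * (k' : G)) * (k : G)⁻¹ := by rw [h1]
          _ = (k' : G) * (k : G)⁻¹ := by group
      have h3 : (u' : G)⁻¹ * (u : G) ∈ (P : Subgroup G) :=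
        Subgroup.mul_mem _ (Subgroup.inv_mem _ u'.2) u.2
      have h4 : (u' : G)⁻¹ * (u : G) ∈ K := by
        rw [h2]
        exact Subgroup.mul_mem _ k'.2 (Subgroup.inv_mem _ k.2)
      have h5 : (u' : G)⁻¹ * (u : G) = 1 := by
        by_contra hne
        have := ddeg0_orderOf_eq p P hP _ h3 hne
        apply ((hK1 _).1 h4).2
        rw [this]
      have h6 : (u : G) = (u' : G) := by
        have := congrArg (fun g => (u' : G) * g) h5
        simpa using this
      have h7 : (k : G) = (k' : G) := by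
        rw [h6] at h1
        exact mul_left_cancel h1
      exact Prod.ext (Subtype.ext h6) (Subtype.ext h7)
    · intro c
      have hc := c.2
      rw [Subgroup.mem_centralizer_iff] at hc
      obtain ⟨u, k, hu, hk, hck⟩ := hK4 (c : G) (fun u hu => (hc u hu).symm)
      exact ⟨(⟨u, hu⟩, ⟨k, hk⟩), Subtype.ext hck.symm⟩
  rw [← Fintype.sum_bijective e he (fun x => F (e x)) F (fun x => rfl), Fintype.sum_prod_type]
  have h1 : ∀ (u : ↥(P : Subgroup G)) (k : ↥K), F (e (u, k)) = F ⟨(k : G), hKC k⟩ := by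
    intro u k
    have : e (u, k) = (⟨(u : G), hPC u.2⟩ : Subgroup.centralizer ((P : Subgroup G) : Set G)) *
        ⟨(k : G), hKC k⟩ := rfl
    rw [this, hF _ _ u.2]
  simp only [h1]
  rw [Finset.sum_const, Finset.card_univ, ← Nat.card_eq_fintype_card, hP, nsmul_eq_mul]

/-- `|C_G(P)| = p |K|`. -/
theorem dcol_card_centralizer (P : Sylow p G) (hP : Nat.card P = p) (K : Subgroup G)
    (hK1 : ∀ y : G, y ∈ K ↔
      (y ∈ Subgroup.centralizer ((P : Subgroup G) : Set G) ∧ ¬ p ∣ orderOf y))
    (hK4 : ∀ c : G, (∀ u ∈ (P : Subgroup G), c * u = u * c) →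
        ∃ u k : G, u ∈ (P : Subgroup G) ∧ k ∈ K ∧ c = u * k) :
    (Nat.card (Subgroup.centralizer ((P : Subgroup G) : Set G)) : ℂ) = (p : ℂ) * (Nat.card K : ℂ) := by
  classical
  haveI : Fintype (Subgroup.centralizer ((P : Subgroup G) : Set G)) := Fintype.ofFinite _
  haveI : Fintype K := Fintype.ofFinite _
  have := dcol_sum_centralizer p P hP K hK1 hK4 (fun _ => (1 : ℂ)) (fun _ _ _ => rfl)
  simp only [Finset.sum_const, Finset.card_univ, nsmul_eq_mul, mul_one] at this
  rw [Nat.card_eq_fintype_card, Nat.card_eq_fintype_card]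
  exact this

open Classical in
/-- first orthogonality on `C_G(P) = P × K` for characters with `P` in the kernel, as a sum
over `K`. -/
theorem dcol_inner (P : Sylow p G) (hP : Nat.card P = p) (K : Subgroup G)
    (hK1 : ∀ y : G, y ∈ K ↔
      (y ∈ Subgroup.centralizer ((P : Subgroup G) : Set G) ∧ ¬ p ∣ orderOf y))
    (hK4 : ∀ c : G, (∀ u ∈ (P : Subgroup G), c * u = u * c) →
        ∃ u k : G, u ∈ (P : Subgroup G) ∧ k ∈ K ∧ c = u * k)
    [Fintype K]
    (θ θ' : Subgroup.centralizer ((P : Subgroup G) : Set G) → ℂ)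
    (hθ : IsIrrCharacter (Subgroup.centralizer ((P : Subgroup G) : Set G)) θ)
    (hθ' : IsIrrCharacter (Subgroup.centralizer ((P : Subgroup G) : Set G)) θ')
    (hθP : ∀ x : Subgroup.centralizer ((P : Subgroup G) : Set G), (x : G) ∈ (P : Subgroup G) →
      θ x = θ 1)
    (hθ'P : ∀ x : Subgroup.centralizer ((P : Subgroup G) : Set G), (x : G) ∈ (P : Subgroup G) →
      θ' x = θ' 1) :
    ∑ k : K, θ ⟨(k : G), ((hK1 k).1 k.2).1⟩ * conj (θ' ⟨(k : G), ((hK1 k).1 k.2).1⟩) =
      if θ = θ' then (Fintype.card K : ℂ) else 0 := by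
  classical
  have hp : p.Prime := Fact.out
  haveI : Fintype (Subgroup.centralizer ((P : Subgroup G) : Set G)) := Fintype.ofFinite _
  have hortho := irr_orthogonality hθ hθ'
  have hinv : ∀ (ψ : Subgroup.centralizer ((P : Subgroup G) : Set G) → ℂ),
      IsIrrCharacter (Subgroup.centralizer ((P : Subgroup G) : Set G)) ψ →
      (∀ x : Subgroup.centralizer ((P : Subgroup G) : Set G), (x : G) ∈ (P : Subgroup G) →
        ψ x = ψ 1) →
      ∀ u c : Subgroup.centralizer ((P : Subgroup G) : Set G), (u : G) ∈ (P : Subgroup G) →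
        ψ (u * c) = ψ c := by
    intro ψ hψ hψP u c hu
    have hch := isCharacter_of_isIrrCharacter hψ
    have hcomm : u * c = c * u := by
      apply Subtype.ext
      have hc := c.2
      rw [Subgroup.mem_centralizer_iff] at hc
      simpa using (hc (u : G) hu)
    rw [hcomm]
    exact char_mul_of_mem_charKer hch ((mem_charKer hch u).2 (hψP u hu)) c
  have hsum := dcol_sum_centralizer p P hP K hK1 hK4 (fun c => θ c * conj (θ' c))
    (fun u c hu => by
      rw [hinv θ hθ hθP u c hu, hinv θ' hθ' hθ'P u c hu])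
  have hcard := dcol_card_centralizer p P hP K hK1 hK4
  simp only [classInner] at hortho
  rw [hsum, hcard] at hortho
  have hp0 : (p : ℂ) ≠ 0 := by exact_mod_cast hp.ne_zero
  have hK0 : (Nat.card K : ℂ) ≠ 0 := by exact_mod_cast (Nat.card_pos (α := K)).ne'
  rw [Nat.card_eq_fintype_card] at hK0 hortho
  by_cases h : θ = θ'
  · rw [if_pos h] at hortho ⊢
    field_simp at hortho
    linear_combination hortho
  · rw [if_neg h] at hortho ⊢
    have : (p : ℂ) * ∑ k : K, θ ⟨(k : G), ((hK1 k).1 k.2).1⟩ *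
        conj (θ' ⟨(k : G), ((hK1 k).1 k.2).1⟩) = 0 := by
      rcases mul_eq_zero.mp hortho with h0 | h0
      · exfalso
        rw [inv_eq_zero] at h0
        exact (mul_ne_zero hp0 hK0) h0
      · exact h0
    rcases mul_eq_zero.mp this with h0 | h0
    · exact absurd h0 hp0
    · exact h0

end Sums

section Main

variable (p : ℕ) [Fact p.Prime] {G : Type*} [Group G] [Finite G]

/-- PIECE DCOL: the column relations. -/
theorem sum_FP_mul_conj (P : Sylow p G) (hP : Nat.card P = p)
    (θ : IrrCharacter (Subgroup.centralizer ((P : Subgroup G) : Set G)))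
    (hθP : ∀ x : Subgroup.centralizer ((P : Subgroup G) : Set G), (x : G) ∈ (P : Subgroup G) →
      (θ : Subgroup.centralizer ((P : Subgroup G) : Set G) → ℂ) x =
        (θ : Subgroup.centralizer ((P : Subgroup G) : Set G) → ℂ) 1)
    (T : Subgroup G)
    (hT : ∀ g : G, g ∈ T ↔ (g ∈ Subgroup.normalizer ((P : Subgroup G) : Set G) ∧
      ∀ c c' : Subgroup.centralizer ((P : Subgroup G) : Set G), (c' : G) = g * c * g⁻¹ →
        (θ : Subgroup.centralizer ((P : Subgroup G) : Set G) → ℂ) c' =
          (θ : Subgroup.centralizer ((P : Subgroup G) : Set G) → ℂ) c))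
    (a a' : G) (ha : a ∈ (P : Subgroup G)) (ha1 : a ≠ 1) (ha' : a' ∈ (P : Subgroup G))
    (ha'1 : a' ≠ 1) :
    ∑ᶠ χ : IrrCharacter G, FP p P (θ : Subgroup.centralizer ((P : Subgroup G) : Set G) → ℂ)
        (χ : G → ℂ) a *
      conj (FP p P (θ : Subgroup.centralizer ((P : Subgroup G) : Set G) → ℂ) (χ : G → ℂ) a') =
      (Set.indicator {u : G | ∃ t ∈ T, u = t * a * t⁻¹} (fun _ => (p : ℂ)) a') := by
  classical
  have hp : p.Prime := Fact.out
  obtain ⟨K, n₀, hK1, hK2, hK3, hK4, -, -⟩ := Cfsg.Agent.Helper5.TL.exists_pcore p P hP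
  haveI : Fintype G := Fintype.ofFinite G
  letI : Fintype (IrrCharacter G) := irrFintype
  haveI : Fintype K := Fintype.ofFinite K
  have hKC : ∀ k : K, (k : G) ∈ Subgroup.centralizer ((P : Subgroup G) : Set G) :=
    fun k => ((hK1 k).1 k.2).1
  -- notation
  set θK : K → ℂ := fun k =>
    (θ : Subgroup.centralizer ((P : Subgroup G) : Set G) → ℂ) ⟨(k : G), hKC k⟩ with hθK
  set θG : G → ℂ := fun g => if h : g ∈ K then θK ⟨g, h⟩ else 0 with hθG
  have hθG_K : ∀ k : K, θG (k : G) = θK k := by
    intro k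
    simp only [hθG]
    rw [dif_pos k.2]
  set cK : ℂ := (Fintype.card K : ℂ) with hcK
  have hcK0 : cK ≠ 0 := by
    rw [hcK]
    exact_mod_cast (Fintype.card_pos (α := K)).ne'
  have hFP : ∀ (χ : G → ℂ) (b : G),
      FP p P (θ : Subgroup.centralizer ((P : Subgroup G) : Set G) → ℂ) χ b =
        cK⁻¹ * ∑ k : K, χ (b * (k : G)) * conj (θK k) :=
    fun χ b => FP_eq_sum p P K hK1 _ χ b
  rw [finsum_eq_sum_of_fintype]
  simp only [hFP]
  -- expand the product
  have e1 : ∀ χ : IrrCharacter G,
      (cK⁻¹ * ∑ k : K, (χ : G → ℂ) (a * (k : G)) * conj (θK k)) *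
        conj (cK⁻¹ * ∑ k : K, (χ : G → ℂ) (a' * (k : G)) * conj (θK k)) =
      cK⁻¹ * cK⁻¹ * ∑ k : K, ∑ k' : K, conj (θK k) * θK k' *
        ((χ : G → ℂ) (a * (k : G)) * conj ((χ : G → ℂ) (a' * (k' : G)))) := by
    intro χ
    rw [map_mul, map_inv₀, hcK, Complex.conj_natCast, map_sum]
    simp only [map_mul, Complex.conj_conj]
    rw [mul_mul_mul_comm, Finset.sum_mul_sum]
    congr 1
    refine Finset.sum_congr rfl fun k _ => Finset.sum_congr rfl fun k' _ => ?_
    ring
  simp only [e1]
  rw [← Finset.mul_sum]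
  -- bring the sum over χ inside and use second orthogonality
  have e2 : ∑ χ : IrrCharacter G, ∑ k : K, ∑ k' : K, conj (θK k) * θK k' *
        ((χ : G → ℂ) (a * (k : G)) * conj ((χ : G → ℂ) (a' * (k' : G)))) =
      ∑ k : K, ∑ k' : K, conj (θK k) * θK k' *
        (Nat.card {y : G // y * (a' * (k' : G)) * y⁻¹ = a * (k : G)} : ℂ) := by
    rw [Finset.sum_comm]
    refine Finset.sum_congr rfl fun k _ => ?_
    rw [Finset.sum_comm]
    refine Finset.sum_congr rfl fun k' _ => ?_
    rw [← Finset.mul_sum, second_orthogonality]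
  rw [e2]
  -- counting form
  have hcnt : ∀ g h : G, (Nat.card {y : G // y * h * y⁻¹ = g} : ℂ) =
      ∑ y : G, if y * h * y⁻¹ = g then (1 : ℂ) else 0 := by
    intro g h
    rw [Finset.sum_boole, Nat.card_eq_fintype_card, Fintype.card_subtype]
  -- separation of the parts
  have hcardK : ∀ k : K, (k : G) ^ Fintype.card K = 1 := by
    intro k
    have := pow_card_eq_one (x := k)
    exact_mod_cast congrArg Subtype.val this
  have hcop : Nat.Coprime (Fintype.card K) p := by
    rw [Nat.coprime_comm]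
    refine (Nat.Prime.coprime_iff_not_dvd hp).mpr ?_
    rwa [← Nat.card_eq_fintype_card]
  have hapow : ∀ b : G, b ∈ (P : Subgroup G) → b ^ p = 1 := by
    intro b hb
    have h1 : (⟨b, hb⟩ : (P : Subgroup G)) ^ Nat.card (P : Subgroup G) = 1 := pow_card_eq_one'
    rw [hP] at h1
    have h2 := congrArg Subtype.val h1
    simpa using h2
  have hcommPK : ∀ b : G, b ∈ (P : Subgroup G) → ∀ k : K, Commute b (k : G) := by
    intro b hb k
    have := hKC k
    rw [Subgroup.mem_centralizer_iff] at this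
    exact this b hb
  have hsplit : ∀ (y : G) (k k' : K), y * (a' * (k' : G)) * y⁻¹ = a * (k : G) ↔
      (y * a' * y⁻¹ = a ∧ y * (k' : G) * y⁻¹ = (k : G)) := by
    intro y k k'
    constructor
    · intro h
      exact dcol_split p (Fintype.card K) hcop a a' k k' y (hapow a ha) (hapow a' ha')
        (hcardK k) (hcardK k') (hcommPK a ha k) (hcommPK a' ha' k') h
    · rintro ⟨h1, h2⟩
      rw [← h1, ← h2]
      group
  -- the inner sum over k
  have hinner : ∀ (y : G) (k' : K), ∑ k : K, conj (θK k) * θK k' *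
        (if y * (a' * (k' : G)) * y⁻¹ = a * (k : G) then (1 : ℂ) else 0) =
      if y * a' * y⁻¹ = a then conj (θG (y * (k' : G) * y⁻¹)) * θK k' else 0 := by
    intro y k'
    by_cases hy : y * a' * y⁻¹ = a
    · rw [if_pos hy]
      have hyN := dcol_mem_normalizer p P hP a a' ha ha1 ha' ha'1 y hy
      have hmem : y * (k' : G) * y⁻¹ ∈ K := hK3 y hyN _ k'.2
      rw [Finset.sum_eq_single (⟨y * (k' : G) * y⁻¹, hmem⟩ : K)]
      · rw [if_pos ((hsplit y _ k').2 ⟨hy, rfl⟩), mul_one]
        have : θG (y * (k' : G) * y⁻¹) = θK ⟨y * (k' : G) * y⁻¹, hmem⟩ := by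
          simp only [hθG]
          rw [dif_pos hmem]
        rw [this]
      · intro k _ hk
        rw [if_neg, mul_zero]
        intro h
        apply hk
        exact Subtype.ext ((hsplit y k k').1 h).2.symm
      · intro h
        exact absurd (Finset.mem_univ _) h
    · rw [if_neg hy]
      refine Finset.sum_eq_zero fun k _ => ?_
      rw [if_neg, mul_zero]
      intro h
      exact hy ((hsplit y k k').1 h).1
  have e3 : ∑ k : K, ∑ k' : K, conj (θK k) * θK k' *
        (Nat.card {y : G // y * (a' * (k' : G)) * y⁻¹ = a * (k : G)} : ℂ) =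
      ∑ y : G, if y * a' * y⁻¹ = a then
        ∑ k' : K, conj (θG (y * (k' : G) * y⁻¹)) * θK k' else 0 := by
    simp only [hcnt, Finset.mul_sum]
    rw [Finset.sum_comm]
    have : ∀ k' : K, ∑ k : K, ∑ y : G, conj (θK k) * θK k' *
        (if y * (a' * (k' : G)) * y⁻¹ = a * (k : G) then (1 : ℂ) else 0) =
        ∑ y : G, if y * a' * y⁻¹ = a then conj (θG (y * (k' : G) * y⁻¹)) * θK k' else 0 := by
      intro k'
      rw [Finset.sum_comm]
      refine Finset.sum_congr rfl fun y _ => ?_
      exact hinner y k'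
    simp only [this]
    rw [Finset.sum_comm]
    refine Finset.sum_congr rfl fun y _ => ?_
    by_cases hy : y * a' * y⁻¹ = a
    · simp only [if_pos hy]
    · simp only [if_neg hy, Finset.sum_const_zero]
  rw [e3]
  by_cases hex : ∃ y₀ : G, y₀ * a' * y₀⁻¹ = a
  · obtain ⟨y₀, hy₀⟩ := hex
    have hy₀N := dcol_mem_normalizer p P hP a a' ha ha1 ha' ha'1 y₀ hy₀
    have hy₀N' : y₀⁻¹ ∈ Subgroup.normalizer ((P : Subgroup G) : Set G) :=
      Subgroup.inv_mem _ hy₀N
    -- the conjugation endomorphism of `C`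
    let cj : Subgroup.centralizer ((P : Subgroup G) : Set G) →*
        Subgroup.centralizer ((P : Subgroup G) : Set G) :=
      { toFun := fun c => ⟨y₀ * (c : G) * y₀⁻¹, dcol_conj_mem_centralizer p P y₀ hy₀N c c.2⟩
        map_one' := by
          apply Subtype.ext
          simp
        map_mul' := by
          intro x z
          apply Subtype.ext
          simp only [Subgroup.coe_mul]
          group }
    have hcj : ∀ c : Subgroup.centralizer ((P : Subgroup G) : Set G),
        ((cj c : Subgroup.centralizer ((P : Subgroup G) : Set G)) : G) = y₀ * (c : G) * y₀⁻¹ :=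
      fun c => rfl
    have hcjsurj : Function.Surjective cj := by
      intro c
      refine ⟨⟨y₀⁻¹ * (c : G) * y₀, ?_⟩, ?_⟩
      · have := dcol_conj_mem_centralizer p P y₀⁻¹ hy₀N' c c.2
        rwa [inv_inv] at this
      · apply Subtype.ext
        rw [hcj]
        simp only
        group
    set θ' : Subgroup.centralizer ((P : Subgroup G) : Set G) → ℂ :=
      (θ : Subgroup.centralizer ((P : Subgroup G) : Set G) → ℂ) ∘ cj with hθ'
    have hθ'irr : IsIrrCharacter (Subgroup.centralizer ((P : Subgroup G) : Set G)) θ' :=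
      isIrrCharacter_comp_of_surjective cj hcjsurj θ.2
    have hθ'P : ∀ x : Subgroup.centralizer ((P : Subgroup G) : Set G),
        (x : G) ∈ (P : Subgroup G) → θ' x = θ' 1 := by
      intro x hx
      simp only [hθ', Function.comp_apply]
      rw [map_one]
      apply hθP
      rw [hcj]
      have := (Subgroup.mem_normalizer_iff.mp hy₀N (x : G)).mp hx
      exact this
    -- the inner sum does not depend on `y`
    have hGf : ∀ y : G, y * a' * y⁻¹ = a →
        ∑ k' : K, conj (θG (y * (k' : G) * y⁻¹)) * θK k' =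
          ∑ k' : K, conj (θG (y₀ * (k' : G) * y₀⁻¹)) * θK k' := by
      intro y hy
      refine Finset.sum_congr rfl fun k' _ => ?_
      congr 2
      have hyN := dcol_mem_normalizer p P hP a a' ha ha1 ha' ha'1 y hy
      have hm : y₀ * (k' : G) * y₀⁻¹ ∈ K := hK3 y₀ hy₀N _ k'.2
      have hm' : y * (k' : G) * y⁻¹ ∈ K := hK3 y hyN _ k'.2
      have hc : y * y₀⁻¹ ∈ Subgroup.centralizer ((P : Subgroup G) : Set G) := by
        rw [dcol_mem_centralizer_iff p P hP a ha ha1]
        have : y * y₀⁻¹ * a * (y * y₀⁻¹)⁻¹ = a := by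
          calc y * y₀⁻¹ * a * (y * y₀⁻¹)⁻¹ = y * (y₀⁻¹ * a * y₀) * y⁻¹ := by group
            _ = y * a' * y⁻¹ := by
              rw [← hy₀]
              group
            _ = a := hy
        calc y * y₀⁻¹ * a = (y * y₀⁻¹ * a * (y * y₀⁻¹)⁻¹) * (y * y₀⁻¹) := by group
          _ = a * (y * y₀⁻¹) := by rw [this]
      simp only [hθG]
      rw [dif_pos hm, dif_pos hm']
      simp only [hθK]
      have hx : (⟨y * (k' : G) * y⁻¹, hKC ⟨_, hm'⟩⟩ :
          Subgroup.centralizer ((P : Subgroup G) : Set G)) =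
          (⟨y * y₀⁻¹, hc⟩ : Subgroup.centralizer ((P : Subgroup G) : Set G)) *
            ⟨y₀ * (k' : G) * y₀⁻¹, hKC ⟨_, hm⟩⟩ *
            (⟨y * y₀⁻¹, hc⟩ : Subgroup.centralizer ((P : Subgroup G) : Set G))⁻¹ := by
        apply Subtype.ext
        simp only [Subgroup.coe_mul, Subgroup.coe_inv]
        group
      rw [hx]
      exact isClassFunction_of_isIrrCharacter θ.2 _ _
    have e4 : (∑ y : G, if y * a' * y⁻¹ = a then
        ∑ k' : K, conj (θG (y * (k' : G) * y⁻¹)) * θK k' else 0) =
        (Nat.card (Subgroup.centralizer ((P : Subgroup G) : Set G)) : ℂ) *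
          ∑ k' : K, conj (θG (y₀ * (k' : G) * y₀⁻¹)) * θK k' := by
      have h1 : ∀ y : G, (if y * a' * y⁻¹ = a then
          ∑ k' : K, conj (θG (y * (k' : G) * y⁻¹)) * θK k' else 0) =
          (if y * a' * y⁻¹ = a then (1 : ℂ) else 0) *
            ∑ k' : K, conj (θG (y₀ * (k' : G) * y₀⁻¹)) * θK k' := by
        intro y
        by_cases hy : y * a' * y⁻¹ = a
        · rw [if_pos hy, if_pos hy, one_mul, hGf y hy]
        · rw [if_neg hy, if_neg hy, zero_mul]
      simp only [h1]
      rw [← Finset.sum_mul]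
      congr 1
      rw [← Fintype.sum_equiv (Equiv.mulRight y₀) (fun y => if (y * y₀) * a' * (y * y₀)⁻¹ = a
        then (1 : ℂ) else 0) (fun y => if y * a' * y⁻¹ = a then (1 : ℂ) else 0)
        (fun y => by simp [Equiv.coe_mulRight])]
      have h2 : ∀ y : G, ((y * y₀) * a' * (y * y₀)⁻¹ = a) ↔
          y ∈ Subgroup.centralizer ((P : Subgroup G) : Set G) := by
        intro y
        rw [dcol_mem_centralizer_iff p P hP a ha ha1]
        have : (y * y₀) * a' * (y * y₀)⁻¹ = y * a * y⁻¹ := by
          rw [← hy₀]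
          group
        rw [this]
        constructor
        · intro h
          calc y * a = (y * a * y⁻¹) * y := by group
            _ = a * y := by rw [h]
        · intro h
          calc y * a * y⁻¹ = (a * y) * y⁻¹ := by rw [h]
            _ = a := by group
      simp only [h2]
      rw [Finset.sum_boole, Nat.card_eq_fintype_card, Fintype.card_subtype]
    rw [e4]
    -- the orthogonality
    have e5 : ∑ k' : K, conj (θG (y₀ * (k' : G) * y₀⁻¹)) * θK k' =
        if (θ : Subgroup.centralizer ((P : Subgroup G) : Set G) → ℂ) = θ' then cK else 0 := by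
      have h1 := dcol_inner p P hP K hK1 hK4 (θ : Subgroup.centralizer ((P : Subgroup G) : Set G) → ℂ)
        θ' θ.2 hθ'irr hθP hθ'P
      rw [← hcK] at h1
      convert h1 using 2
      rename_i k' _
      have hm : y₀ * (k' : G) * y₀⁻¹ ∈ K := hK3 y₀ hy₀N _ k'.2
      rw [mul_comm]
      congr 2
      simp only [hθG]
      rw [dif_pos hm]
      rfl
    rw [e5, dcol_card_centralizer p P hP K hK1 hK4, Nat.card_eq_fintype_card, ← hcK]
    have hp0 : (p : ℂ) ≠ 0 := by exact_mod_cast hp.ne_zero
    -- the indicator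
    have hiff : ((θ : Subgroup.centralizer ((P : Subgroup G) : Set G) → ℂ) = θ') ↔
        a' ∈ {u : G | ∃ t ∈ T, u = t * a * t⁻¹} := by
      constructor
      · intro h
        have hy₀T : y₀ ∈ T := by
          rw [hT]
          refine ⟨hy₀N, ?_⟩
          intro c c' hc
          have h1 := congrFun h c
          simp only [hθ', Function.comp_apply] at h1
          have : cj c = c' := Subtype.ext (by rw [hcj, hc])
          rw [this] at h1
          exact h1.symm
        refine ⟨y₀⁻¹, Subgroup.inv_mem _ hy₀T, ?_⟩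
        rw [← hy₀]
        group
      · rintro ⟨t, ht, hat⟩
        have htN := ((hT t).1 ht).1
        have htθ := ((hT t).1 ht).2
        have hc : y₀ * t ∈ Subgroup.centralizer ((P : Subgroup G) : Set G) := by
          rw [dcol_mem_centralizer_iff p P hP a ha ha1]
          have : y₀ * t * a * (y₀ * t)⁻¹ = a := by
            calc y₀ * t * a * (y₀ * t)⁻¹ = y₀ * (t * a * t⁻¹) * y₀⁻¹ := by group
              _ = a := by rw [← hat, hy₀]
          calc y₀ * t * a = (y₀ * t * a * (y₀ * t)⁻¹) * (y₀ * t) := by group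
            _ = a * (y₀ * t) := by rw [this]
        funext x
        simp only [hθ', Function.comp_apply]
        -- `t⁻¹ x t ∈ C`
        have htN' : t⁻¹ ∈ Subgroup.normalizer ((P : Subgroup G) : Set G) :=
          Subgroup.inv_mem _ htN
        have hx' : t⁻¹ * (x : G) * t ∈ Subgroup.centralizer ((P : Subgroup G) : Set G) := by
          have := dcol_conj_mem_centralizer p P t⁻¹ htN' x x.2
          rwa [inv_inv] at this
        have h1 : (θ : Subgroup.centralizer ((P : Subgroup G) : Set G) → ℂ) x =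
            (θ : Subgroup.centralizer ((P : Subgroup G) : Set G) → ℂ) ⟨t⁻¹ * (x : G) * t, hx'⟩ := by
          apply htθ ⟨t⁻¹ * (x : G) * t, hx'⟩ x
          simp only
          group
        have h2 : cj x = (⟨y₀ * t, hc⟩ : Subgroup.centralizer ((P : Subgroup G) : Set G)) *
            ⟨t⁻¹ * (x : G) * t, hx'⟩ *
            (⟨y₀ * t, hc⟩ : Subgroup.centralizer ((P : Subgroup G) : Set G))⁻¹ := by
          apply Subtype.ext
          rw [hcj]
          simp only [Subgroup.coe_mul, Subgroup.coe_inv]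
          group
        rw [h2, isClassFunction_of_isIrrCharacter θ.2 _ _, ← h1]
    by_cases h : (θ : Subgroup.centralizer ((P : Subgroup G) : Set G) → ℂ) = θ'
    · rw [if_pos h, Set.indicator_of_mem (hiff.1 h)]
      field_simp
    · rw [if_neg h, Set.indicator_of_notMem (fun hh => h (hiff.2 hh))]
      ring
  · have h0 : (∑ y : G, if y * a' * y⁻¹ = a then
        ∑ k' : K, conj (θG (y * (k' : G) * y⁻¹)) * θK k' else 0) = 0 := by
      refine Finset.sum_eq_zero fun y _ => ?_
      rw [if_neg]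
      intro hy
      exact hex ⟨y, hy⟩
    rw [h0, mul_zero, Set.indicator_of_notMem]
    rintro ⟨t, ht, hat⟩
    apply hex
    refine ⟨t⁻¹, ?_⟩
    rw [hat]
    group

end Main

end Cfsg.Agent.Helper5.TLD
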