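import Mathlib
import Cfsg.Prelude.Def_Blocks
import Cfsg.Agent.Lib.Helper24.CharLinear
import Cfsg.Agent.Lib.Helper24.CharInduced
import Cfsg.Agent.Lib.Helper24.CharComplete
import Cfsg.Agent.Lib.Helper10.BR996Defs
import Cfsg.Agent.Lib.Helper6.BR996G0

/-!
# S0996, PIECE GA: group-theoretic basics (`P` of prime order, self-centralizing)   (helper6)
-/

set_option autoImplicit false
set_option linter.unusedSectionVars false
set_option linter.unusedVariables false
set_option linter.style.haveILetI false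

namespace Cfsg.Agent.Helper10.BR996

open scoped ComplexConjugate Pointwise
open Cfsg Cfsg.Agent.Helper24

universe u

namespace GA

variable {G : Type u} [Group G] [Finite G] (p : ℕ) [Fact p.Prime] (P : Subgroup G)

/-- a subgroup of prime order is commutative (elementwise) -/
theorem commute_of_card (hcard : Nat.card P = p) (x y : G) (hx : x ∈ P) (hy : y ∈ P) :
    x * y = y * x := by
  have hp : p.Prime := Fact.out
  haveI : Fact (Nat.card P).Prime := ⟨by rw [hcard]; exact hp⟩
  haveI : IsCyclic P := isCyclic_of_prime_card rfl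
  letI := IsCyclic.commGroup (α := P)
  have := mul_comm (⟨x, hx⟩ : P) ⟨y, hy⟩
  exact congrArg Subtype.val this

/-- `C_G(P) = P` -/
theorem centralizer_eq (hcard : Nat.card P = p) (hcent : Subgroup.centralizer (P : Set G) ≤ P) :
    Subgroup.centralizer (P : Set G) = P := by
  apply le_antisymm hcent
  intro x hx
  rw [Subgroup.mem_centralizer_iff]
  intro y hy
  exact commute_of_card p P hcard y x hy hx

/-- a nontrivial element of `P` generates `P` -/
theorem zpowers_eq (hcard : Nat.card P = p) {c : G} (hc : c ∈ P) (hc1 : c ≠ 1) :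
    Subgroup.zpowers c = P := by
  have hp : p.Prime := Fact.out
  have hle : Subgroup.zpowers c ≤ P := (Subgroup.zpowers_le).mpr hc
  apply Subgroup.eq_of_le_of_card_ge hle
  have hdvd : Nat.card (Subgroup.zpowers c) ∣ p := hcard ▸ Subgroup.card_dvd_of_le hle
  rcases (Nat.dvd_prime hp).mp hdvd with h | h
  · exfalso
    rw [Nat.card_zpowers, orderOf_eq_one_iff] at h
    exact hc1 h
  · rw [h, hcard]

/-- an element commuting with a nontrivial element of `P` lies in `P` -/
theorem mem_of_commute (hcard : Nat.card P = p) (hcent : Subgroup.centralizer (P : Set G) ≤ P)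
    {c : G} (hc : c ∈ P) (hc1 : c ≠ 1) {q : G} (hq : q * c = c * q) : q ∈ P := by
  apply hcent
  rw [Subgroup.mem_centralizer_iff]
  intro y hy
  rw [← zpowers_eq p P hcard hc hc1] at hy
  obtain ⟨k, rfl⟩ := Subgroup.mem_zpowers_iff.mp hy
  have : Commute q c := hq
  exact ((this.zpow_right k).eq).symm

/-- `P` is a Sylow `p`-subgroup -/
theorem exists_sylow_eq (hcard : Nat.card P = p) (hcent : Subgroup.centralizer (P : Set G) ≤ P) :
    ∃ S : Sylow p G, (S : Subgroup G) = P := by
  have hp : p.Prime := Fact.out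
  have hPp : IsPGroup p P := IsPGroup.of_card (n := 1) (by rw [hcard, pow_one])
  obtain ⟨Q, hQ⟩ := hPp.exists_le_sylow
  refine ⟨Q, le_antisymm ?_ hQ⟩
  -- a nontrivial element of `P`
  have hone : 1 < Nat.card P := by rw [hcard]; exact hp.one_lt
  haveI : Nontrivial P := (Finite.one_lt_card_iff_nontrivial).mp hone
  obtain ⟨z, hz⟩ := exists_ne (1 : P)
  have hz1 : (z : G) ≠ 1 := fun h => hz (Subtype.ext h)
  haveI : Nontrivial (Q : Subgroup G) :=
    ⟨⟨⟨z, hQ z.2⟩, 1, fun h => hz1 (congrArg Subtype.val h)⟩⟩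
  haveI : Nontrivial (Subgroup.center (Q : Subgroup G)) := Q.isPGroup'.center_nontrivial
  obtain ⟨c, hc⟩ := exists_ne (1 : Subgroup.center (Q : Subgroup G))
  set c' : G := ((c : (Q : Subgroup G)) : G) with hc'
  have hc'1 : c' ≠ 1 := by
    intro h
    apply hc
    apply Subtype.ext
    apply Subtype.ext
    exact h
  have hcomm : ∀ q ∈ (Q : Subgroup G), q * c' = c' * q := by
    intro q hq
    have := (Subgroup.mem_center_iff.mp c.2) ⟨q, hq⟩
    exact congrArg Subtype.val this
  have hc'P : c' ∈ P := by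
    apply hcent
    rw [Subgroup.mem_centralizer_iff]
    intro y hy
    exact hcomm y (hQ hy)
  intro q hq
  exact mem_of_commute p P hcard hcent hc'P hc'1 (hcomm q hq)

end GA

variable {G : Type u} [Group G] [Fintype G] [Fintype (IrrCharacter G)]
  (p : ℕ) [Fact p.Prime] (P : Subgroup G)

local notation "𝒩" => Subgroup.normalizer (P : Set G)

/-- PIECE GA. -/
theorem card_normalizer (hcard : Nat.card P = p) : Nat.card 𝒩 = p * P.relIndex 𝒩 := by
  have := Subgroup.relIndex_mul_relIndex (⊥ : Subgroup G) P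
    (Subgroup.normalizer (P : Set G)) bot_le Subgroup.le_normalizer
  rw [Subgroup.relIndex_bot_left, Subgroup.relIndex_bot_left, hcard] at this
  exact this.symm

/-- PIECE GA. -/
theorem relIndex_dvd (hcard : Nat.card P = p) (hcent : Subgroup.centralizer (P : Set G) ≤ P) :
    P.relIndex 𝒩 ∣ p - 1 := by
  have hp : p.Prime := Fact.out
  haveI hn : (P.subgroupOf (Subgroup.normalizer (P : Set G))).Normal :=
    Subgroup.normal_in_normalizer
  -- conjugation action of `N` on `P ⊓ N = P`
  let φ : ↥(Subgroup.normalizer (P : Set G)) →*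
      MulAut ↥(P.subgroupOf (Subgroup.normalizer (P : Set G))) := MulAut.conjNormal
  have hker : φ.ker = P.subgroupOf (Subgroup.normalizer (P : Set G)) := by
    ext x
    rw [MonoidHom.mem_ker, Subgroup.mem_subgroupOf]
    constructor
    · intro hx
      apply hcent
      rw [Subgroup.mem_centralizer_iff]
      intro y hy
      have hyN : y ∈ Subgroup.normalizer (P : Set G) := Subgroup.le_normalizer hy
      have := congrArg (fun f : MulAut ↥(P.subgroupOf (Subgroup.normalizer (P : Set G))) =>
        (((f ⟨⟨y, hyN⟩, hy⟩ : ↥(P.subgroupOf (Subgroup.normalizer (P : Set G)))) :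
          ↥(Subgroup.normalizer (P : Set G))) : G)) hx
      simp only [φ, MulAut.conjNormal_apply, MulAut.one_apply, Subgroup.coe_mul,
        InvMemClass.coe_inv] at this
      -- x * y * x⁻¹ = y
      calc y * (x : G) = ((x : G) * y * (x : G)⁻¹) * (x : G) := by rw [this]
        _ = (x : G) * y := by group
    · intro hx
      apply MulEquiv.ext
      intro y
      apply Subtype.ext
      apply Subtype.ext
      simp only [φ, MulAut.conjNormal_apply, MulAut.one_apply, Subgroup.coe_mul,
        InvMemClass.coe_inv]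
      have hy : ((y : ↥(Subgroup.normalizer (P : Set G))) : G) ∈ P := y.2
      rw [GA.commute_of_card p P hcard _ _ hx hy]
      group
  have h1 : P.relIndex (Subgroup.normalizer (P : Set G)) = Nat.card φ.range := by
    have := Subgroup.index_ker φ
    rw [hker] at this
    exact this
  have hcardS : Nat.card ↥(P.subgroupOf (Subgroup.normalizer (P : Set G))) = p := by
    rw [← hcard]
    exact Nat.card_congr (Subgroup.subgroupOfEquivOfLe Subgroup.le_normalizer).toEquiv
  haveI : Fact (Nat.card ↥(P.subgroupOf (Subgroup.normalizer (P : Set G)))).Prime :=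
    ⟨by rw [hcardS]; exact hp⟩
  haveI : IsCyclic ↥(P.subgroupOf (Subgroup.normalizer (P : Set G))) :=
    isCyclic_of_prime_card rfl
  have h2 : Nat.card (MulAut ↥(P.subgroupOf (Subgroup.normalizer (P : Set G)))) = p - 1 := by
    rw [IsCyclic.card_mulAut, hcardS, Nat.totient_prime hp]
  rw [h1, ← h2]
  exact Subgroup.card_subgroup_dvd_card _

/-- PIECE GA. (Sylow) -/
theorem exists_index_eq (hcard : Nat.card P = p) (hcent : Subgroup.centralizer (P : Set G) ≤ P) :
    ∃ n : ℕ, (𝒩).index = 1 + n * p := by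
  obtain ⟨S, rfl⟩ := GA.exists_sylow_eq p P hcard hcent
  have hidx : Nat.card (Sylow p G) = (Subgroup.normalizer ((S : Subgroup G) : Set G)).index :=
    Sylow.card_eq_index_normalizer S
  rw [← hidx]
  have hmod : Nat.card (Sylow p G) ≡ 1 [MOD p] := card_sylow_modEq_one p G
  have h1le : 1 ≤ Nat.card (Sylow p G) := Nat.card_pos
  have hdvd : p ∣ Nat.card (Sylow p G) - 1 := (Nat.modEq_iff_dvd' h1le).mp hmod.symm
  obtain ⟨n, hn⟩ := hdvd
  exact ⟨n, by rw [mul_comm n p]; omega⟩

/-- PIECE GA. -/
theorem card_eq (hcard : Nat.card P = p) : Nat.card G = p * P.relIndex 𝒩 * (𝒩).index := by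
  rw [← card_normalizer p P hcard]
  exact (Subgroup.card_mul_index _).symm

/-- PIECE GA (Burnside transfer). -/
theorem two_le_relIndex (hcard : Nat.card P = p) (hcent : Subgroup.centralizer (P : Set G) ≤ P)
    (hperf : commutator G = ⊤) : 2 ≤ P.relIndex 𝒩 := by
  have hce := GA.centralizer_eq p P hcard hcent
  obtain ⟨S, rfl⟩ := GA.exists_sylow_eq p P hcard hcent
  exact Cfsg.Agent.Helper6.BR996.G1_two_le_relIndex p S hperf hcard hce

/-- PIECE GA. -/
theorem index_ne_one (hcard : Nat.card P = p) (hcent : Subgroup.centralizer (P : Set G) ≤ P)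
    (hperf : commutator G = ⊤) : (𝒩).index ≠ 1 := by
  have hce := GA.centralizer_eq p P hcard hcent
  obtain ⟨S, rfl⟩ := GA.exists_sylow_eq p P hcard hcent
  intro h1
  rw [Subgroup.index_eq_one] at h1
  apply Cfsg.Agent.Helper6.BR996.G1_not_normal p S hperf hcard hce
  exact Subgroup.normalizer_eq_top_iff.mp h1

/-- PIECE GA: an element of `N ∖ P` is `p`-regular. -/
theorem not_dvd_orderOf_of_mem_normalizer (hcard : Nat.card P = p)
    (hcent : Subgroup.centralizer (P : Set G) ≤ P) {y : G} (hy : y ∈ 𝒩) (hyP : y ∉ P) :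
    ¬ p ∣ orderOf y := by
  have hp : p.Prime := Fact.out
  intro hdvd
  obtain ⟨S, hS⟩ := GA.exists_sylow_eq p P hcard hcent
  have ho : orderOf y ≠ 0 := (orderOf_pos y).ne'
  set y' : G := y ^ (orderOf y / p) with hy'
  have hoy' : orderOf y' = p := orderOf_pow_orderOf_div ho hdvd
  have hy'1 : y' ≠ 1 := by
    intro h
    rw [h, orderOf_one] at hoy'
    exact hp.one_lt.ne hoy'
  have hy'N : y' ∈ Subgroup.normalizer (P : Set G) := Subgroup.pow_mem _ hy _
  -- `zpowers y'` is a `p`-subgroup of `N_G(P)`, hence inside `P`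
  have hQp : IsPGroup p (Subgroup.zpowers y') :=
    IsPGroup.of_card (n := 1) (by rw [Nat.card_zpowers, hoy', pow_one])
  have hQN : Subgroup.zpowers y' ≤ Subgroup.normalizer ((S : Subgroup G) : Set G) := by
    rw [hS]; exact (Subgroup.zpowers_le).mpr hy'N
  have hinf : Subgroup.zpowers y' ⊓ Subgroup.normalizer ((S : Subgroup G) : Set G) =
      Subgroup.zpowers y' ⊓ (S : Subgroup G) := hQp.inf_normalizer_sylow S
  rw [inf_eq_left.mpr hQN] at hinf
  have hy'P : y' ∈ P := by
    rw [← hS]
    exact (inf_eq_left.mp hinf.symm) (Subgroup.mem_zpowers y')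
  apply hyP
  apply GA.mem_of_commute p P hcard hcent hy'P hy'1
  exact ((Commute.refl y).pow_right _).eq

/-- PIECE GA: `p`-singular elements are conjugate into `P ∖ 1`. -/
theorem exists_conj_mem_of_dvd (hcard : Nat.card P = p)
    (hcent : Subgroup.centralizer (P : Set G) ≤ P) {g : G} (hg : p ∣ orderOf g) :
    ∃ x : G, x⁻¹ * g * x ∈ P ∧ x⁻¹ * g * x ≠ 1 := by
  have hp : p.Prime := Fact.out
  obtain ⟨S, hS⟩ := GA.exists_sylow_eq p P hcard hcent
  have ho : orderOf g ≠ 0 := (orderOf_pos g).ne'
  set g' : G := g ^ (orderOf g / p) with hg'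
  have hog' : orderOf g' = p := orderOf_pow_orderOf_div ho hg
  have hg'1 : g' ≠ 1 := by
    intro h
    rw [h, orderOf_one] at hog'
    exact hp.one_lt.ne hog'
  have hg1 : g ≠ 1 := by
    intro h
    rw [h, orderOf_one] at hg
    exact hp.one_lt.ne' (Nat.dvd_one.mp hg)
  have hQp : IsPGroup p (Subgroup.zpowers g') :=
    IsPGroup.of_card (n := 1) (by rw [Nat.card_zpowers, hog', pow_one])
  obtain ⟨Q, hQ⟩ := hQp.exists_le_sylow
  obtain ⟨x, hx⟩ := MulAction.exists_smul_eq G Q S
  -- `x * g' * x⁻¹ ∈ S = P`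
  have h1 : x * g' * x⁻¹ ∈ (S : Subgroup G) := by
    rw [← hx]
    change x * g' * x⁻¹ ∈ MulAut.conj x • (Q : Subgroup G)
    have h0 := Subgroup.smul_mem_pointwise_smul g' (MulAut.conj x) (Q : Subgroup G)
      (hQ (Subgroup.mem_zpowers g'))
    simpa [MulAut.smul_def, MulAut.conj_apply] using h0
  rw [hS] at h1
  have h2 : x * g' * x⁻¹ ≠ 1 := by
    intro h
    apply hg'1
    have : g' = x⁻¹ * (x * g' * x⁻¹) * x := by group
    rw [this, h]; group
  refine ⟨x⁻¹, ?_, ?_⟩
  · rw [inv_inv]
    apply GA.mem_of_commute p P hcard hcent h1 h2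
    have hc : Commute g g' := (Commute.refl g).pow_right _
    calc x * g * x⁻¹ * (x * g' * x⁻¹) = x * (g * g') * x⁻¹ := by group
      _ = x * (g' * g) * x⁻¹ := by rw [hc.eq]
      _ = x * g' * x⁻¹ * (x * g * x⁻¹) := by group
  · rw [inv_inv]
    intro h
    apply hg1
    have : g = x⁻¹ * (x * g * x⁻¹) * x := by group
    rw [this, h]; group

/-- PIECE GA: the action on the cosets of `N` is faithful (the core of `N` is trivial) when `P` is not normal. -/
theorem core_normalizer_eq_bot (hcard : Nat.card P = p)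
    (hcent : Subgroup.centralizer (P : Set G) ≤ P) (hnn : (𝒩).index ≠ 1) :
    (𝒩).normalCore = ⊥ := by
  have hp : p.Prime := Fact.out
  obtain ⟨S, hS⟩ := GA.exists_sylow_eq p P hcard hcent
  set K : Subgroup G := (Subgroup.normalizer (P : Set G)).normalCore with hK
  haveI hKn : K.Normal := Subgroup.normalCore_normal _
  have hKN : K ≤ Subgroup.normalizer (P : Set G) := Subgroup.normalCore_le _
  haveI : Fact (Nat.card P).Prime := ⟨by rw [hcard]; exact hp⟩
  rcases Subgroup.eq_bot_or_eq_top_of_prime_card (K.subgroupOf P) with h | h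
  · -- `K ⊓ P = ⊥`: `K` centralizes `P`
    rw [Subgroup.subgroupOf_eq_bot] at h
    rw [eq_bot_iff]
    intro g hg
    have hgP : g ∈ P := by
      apply hcent
      rw [Subgroup.mem_centralizer_iff]
      intro x hx
      have h1 : g * x * g⁻¹ * x⁻¹ ∈ K := by
        have : x * g⁻¹ * x⁻¹ ∈ K := hKn.conj_mem _ (K.inv_mem hg) x
        have := K.mul_mem hg this
        simpa [mul_assoc] using this
      have h2 : g * x * g⁻¹ * x⁻¹ ∈ P := by
        have hgx : g * x * g⁻¹ ∈ P :=
          (Subgroup.mem_normalizer_iff.mp (hKN hg) x).mp hx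
        exact P.mul_mem hgx (P.inv_mem hx)
      have h3 : g * x * g⁻¹ * x⁻¹ = 1 := by
        have := h.le_bot ⟨h1, h2⟩
        simpa using this
      calc x * g = (g * x * g⁻¹ * x⁻¹)⁻¹ * (g * x) := by group
        _ = g * x := by rw [h3, inv_one, one_mul]
    have := h.le_bot ⟨hg, hgP⟩
    simpa using this
  · -- `P ≤ K`: every conjugate of `P` is a `p`-subgroup of `N_G(P)`, so `P` is normal
    exfalso
    rw [Subgroup.subgroupOf_eq_top] at h
    apply hnn
    rw [Subgroup.index_eq_one, Subgroup.normalizer_eq_top_iff]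
    constructor
    intro n hn g
    -- `zpowers (g n g⁻¹) ≤ K ≤ N`, a `p`-group
    have hmemK : g * n * g⁻¹ ∈ K := hKn.conj_mem n (h hn) g
    by_cases hn1 : n = 1
    · rw [hn1]; simp
    have hQp : IsPGroup p (Subgroup.zpowers (g * n * g⁻¹)) := by
      have hzn : Subgroup.zpowers n = P := GA.zpowers_eq p P hcard hn hn1
      have : orderOf (g * n * g⁻¹) = p := by
        have h0 := MulEquiv.orderOf_eq (MulAut.conj g) n
        rw [MulAut.conj_apply] at h0
        rw [h0, ← Nat.card_zpowers, hzn, hcard]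
      exact IsPGroup.of_card (n := 1) (by rw [Nat.card_zpowers, this, pow_one])
    have hQN : Subgroup.zpowers (g * n * g⁻¹) ≤
        Subgroup.normalizer ((S : Subgroup G) : Set G) := by
      rw [hS]; exact (Subgroup.zpowers_le).mpr (hKN hmemK)
    have hinf : Subgroup.zpowers (g * n * g⁻¹) ⊓ Subgroup.normalizer ((S : Subgroup G) : Set G) =
        Subgroup.zpowers (g * n * g⁻¹) ⊓ (S : Subgroup G) := hQp.inf_normalizer_sylow S
    rw [inf_eq_left.mpr hQN] at hinf
    rw [← hS]
    exact (inf_eq_left.mp hinf.symm) (Subgroup.mem_zpowers _)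

end Cfsg.Agent.Helper10.BR996
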