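import Mathlib
import Cfsg.Prelude.Def_Perm

set_option autoImplicit false
set_option linter.style.haveILetI false

/-!
S0996, piece P9 (core, no dependence on S0732): the one-dimensional semi-affine group of a finite
field is solvable; a perfect nontrivial group acting faithfully cannot be permutation isomorphic
to a group of semi-affine maps; the image of a faithful action as a subgroup of `Equiv.Perm Ω`.
-/

namespace Cfsg.Agent.Helper6.BR996

open Cfsg

section SA

variable {K : Type*} [Field K]

theorem P9_sa_unique {a a' : Kˣ} {b b' : K} {φ φ' : RingAut K}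
    (h : ∀ x, (a : K) * φ x + b = (a' : K) * φ' x + b') : a = a' ∧ b = b' ∧ φ = φ' := by
  have h0 := h 0
  simp only [map_zero, mul_zero, zero_add] at h0
  have h1 := h 1
  simp only [map_one, mul_one, h0] at h1
  have ha : a = a' := Units.ext (add_right_cancel h1)
  refine ⟨ha, h0, ?_⟩
  ext x
  have hx := h x
  rw [h0, ha] at hx
  exact (Units.mul_right_inj a').mp (add_right_cancel hx)

theorem P9_sa_exists (σ : semiaffineGroup K) :
    ∃ φ : RingAut K, ∃ a : Kˣ, ∃ b : K, ∀ x, (σ : Equiv.Perm K) x = (a : K) * φ x + b := by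
  obtain ⟨a, b, φ, h⟩ := σ.2
  exact ⟨φ, a, b, h⟩

/-- The field-automorphism part of a semi-affine map. -/
noncomputable def P9_autFun (σ : semiaffineGroup K) : RingAut K := Classical.choose (P9_sa_exists σ)

theorem P9_autFun_spec (σ : semiaffineGroup K) :
    ∃ a : Kˣ, ∃ b : K, ∀ x, (σ : Equiv.Perm K) x = (a : K) * (P9_autFun σ) x + b :=
  Classical.choose_spec (P9_sa_exists σ)

theorem P9_autFun_eq {σ : semiaffineGroup K} {φ : RingAut K} {a : Kˣ} {b : K}
    (h : ∀ x, (σ : Equiv.Perm K) x = (a : K) * φ x + b) : P9_autFun σ = φ := by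
  obtain ⟨a', b', h'⟩ := P9_autFun_spec σ
  exact (P9_sa_unique (fun x => (h' x).symm.trans (h x))).2.2

/-- `σ ↦` its field-automorphism part, as a homomorphism. -/
noncomputable def P9_aut : semiaffineGroup K →* RingAut K :=
  MonoidHom.mk' P9_autFun (by
    intro σ τ
    obtain ⟨a, b, hσ⟩ := P9_autFun_spec σ
    obtain ⟨c, d, hτ⟩ := P9_autFun_spec τ
    apply P9_autFun_eq (a := a * Units.map ((P9_autFun σ : K ≃+* K) : K →* K) c)
      (b := (a : K) * P9_autFun σ d + b)
    intro x
    simp only [Subgroup.coe_mul, Equiv.Perm.coe_mul, Function.comp_apply, hτ, hσ, Units.val_mul,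
      Units.coe_map, MonoidHom.coe_coe, RingAut.mul_apply, map_add, map_mul, mul_add, mul_assoc,
      add_assoc])

theorem P9_ker_exists (σ : (P9_aut (K := K)).ker) :
    ∃ a : Kˣ, ∃ b : K, ∀ x, ((σ : semiaffineGroup K) : Equiv.Perm K) x = (a : K) * x + b := by
  obtain ⟨a, b, h⟩ := P9_autFun_spec (σ : semiaffineGroup K)
  have h1 : P9_autFun (σ : semiaffineGroup K) = 1 := σ.2
  refine ⟨a, b, fun x => ?_⟩
  rw [h x, h1, RingAut.one_apply]

/-- The multiplier of an affine map. -/
noncomputable def P9_linFun (σ : (P9_aut (K := K)).ker) : Kˣ := Classical.choose (P9_ker_exists σ)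

theorem P9_linFun_spec (σ : (P9_aut (K := K)).ker) :
    ∃ b : K, ∀ x, ((σ : semiaffineGroup K) : Equiv.Perm K) x = (P9_linFun σ : K) * x + b :=
  Classical.choose_spec (P9_ker_exists σ)

theorem P9_linFun_eq {σ : (P9_aut (K := K)).ker} {a : Kˣ} {b : K}
    (h : ∀ x, ((σ : semiaffineGroup K) : Equiv.Perm K) x = (a : K) * x + b) : P9_linFun σ = a := by
  obtain ⟨b', h'⟩ := P9_linFun_spec σ
  exact (P9_sa_unique (φ := 1) (φ' := 1) (fun x => by
    simp only [RingAut.one_apply]
    exact (h' x).symm.trans (h x))).1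

noncomputable def P9_lin : (P9_aut (K := K)).ker →* Kˣ :=
  MonoidHom.mk' P9_linFun (by
    intro σ τ
    obtain ⟨b, hσ⟩ := P9_linFun_spec σ
    obtain ⟨d, hτ⟩ := P9_linFun_spec τ
    apply P9_linFun_eq (b := (P9_linFun σ : K) * d + b)
    intro x
    simp only [Subgroup.coe_mul, Equiv.Perm.coe_mul, Function.comp_apply, hτ, hσ, Units.val_mul,
      mul_add, mul_assoc, add_assoc])

theorem P9_linker_spec (σ : (P9_lin (K := K)).ker) :
    ∃ b : K, ∀ x, (((σ : (P9_aut (K := K)).ker) : semiaffineGroup K) : Equiv.Perm K) x = x + b := by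
  obtain ⟨b, h⟩ := P9_linFun_spec (σ : (P9_aut (K := K)).ker)
  have h1 : P9_linFun (σ : (P9_aut (K := K)).ker) = 1 := σ.2
  refine ⟨b, fun x => ?_⟩
  rw [h x, h1, Units.val_one, one_mul]

/-- The one-dimensional semi-affine group of a field with commuting automorphisms is solvable. -/
theorem P9_isSolvable_semiaffine (hcomm : ∀ φ ψ : RingAut K, φ * ψ = ψ * φ) :
    Group.IsSolvable (semiaffineGroup K) := by
  haveI h3 : Group.IsSolvable (P9_lin (K := K)).ker := by
    refine Group.isSolvable_of_comm (fun σ τ => ?_)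
    obtain ⟨b, hσ⟩ := P9_linker_spec σ
    obtain ⟨d, hτ⟩ := P9_linker_spec τ
    apply Subtype.ext
    apply Subtype.ext
    apply Subtype.ext
    apply Equiv.ext
    intro x
    simp only [Subgroup.coe_mul, Equiv.Perm.coe_mul, Function.comp_apply, hτ, hσ]
    ring
  haveI h2 : Group.IsSolvable (P9_aut (K := K)).ker :=
    Group.isSolvable_of_ker_le_range (P9_lin (K := K)).ker.subtype P9_lin
      (le_of_eq (Subgroup.range_subtype _).symm)
  haveI h1 : Group.IsSolvable (RingAut K) := Group.isSolvable_of_comm hcomm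
  exact Group.isSolvable_of_ker_le_range (P9_aut (K := K)).ker.subtype P9_aut
    (le_of_eq (Subgroup.range_subtype _).symm)

end SA

/-- Ring automorphisms of a finite field commute (the automorphism group over the prime field is
cyclic). -/
theorem P9_ringAut_comm {K : Type*} [Field K] [Finite K] (φ ψ : RingAut K) : φ * ψ = ψ * φ := by
  obtain ⟨p, hp⟩ := CharP.exists K
  haveI := hp
  haveI : Fact p.Prime := ⟨CharP.char_is_prime K p⟩
  letI : Algebra (ZMod p) K := ZMod.algebra K p
  have hmap : ∀ (f : RingAut K) (r : ZMod p), f (algebraMap (ZMod p) K r) = algebraMap (ZMod p) K r := by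
    intro f r
    have : ((f : K ≃+* K) : K →+* K).comp (algebraMap (ZMod p) K) = algebraMap (ZMod p) K :=
      Subsingleton.elim _ _
    exact RingHom.congr_fun this r
  have hc : (AlgEquiv.ofRingEquiv (f := (φ : K ≃+* K)) (hmap φ) : K ≃ₐ[ZMod p] K) *
      AlgEquiv.ofRingEquiv (f := (ψ : K ≃+* K)) (hmap ψ) =
      AlgEquiv.ofRingEquiv (f := (ψ : K ≃+* K)) (hmap ψ) *
      AlgEquiv.ofRingEquiv (f := (φ : K ≃+* K)) (hmap φ) := by
    letI := IsCyclic.commGroup (α := K ≃ₐ[ZMod p] K)
    exact mul_comm _ _
  ext x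
  have := AlgEquiv.congr_fun hc x
  simpa using this

/-- A perfect nontrivial group cannot embed into the semi-affine group of a finite field. -/
theorem P9_false_of_semiaffine {G : Type*} [Group G] (hperf : commutator G = ⊤) [Nontrivial G]
    {K : Type*} [Field K] [Finite K] (f : G →* Equiv.Perm K) (hf : Function.Injective f)
    (hmem : ∀ g, f g ∈ semiaffineGroup K) : False := by
  haveI : Group.IsSolvable (semiaffineGroup K) := P9_isSolvable_semiaffine P9_ringAut_comm
  let f' : G →* semiaffineGroup K := f.codRestrict _ hmem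
  have hf' : Function.Injective f' := fun a b hab => hf (congrArg Subtype.val hab)
  haveI : Group.IsSolvable G := Group.isSolvable_of_isSolvable_injective hf'
  exact (Group.IsSolvable.commutator_lt_top_of_nontrivial G).ne hperf

section Image

variable {G : Type*} [Group G] {Ω : Type*} [MulAction G Ω]

/-- The image of `G` in `Equiv.Perm Ω` is transitive if `G` is. -/
theorem P9_range_pretransitive [MulAction.IsPretransitive G Ω] :
    MulAction.IsPretransitive (MulAction.toPermHom G Ω).range Ω := by
  constructor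
  intro x y
  obtain ⟨g, hg⟩ := MulAction.exists_smul_eq G x y
  exact ⟨⟨MulAction.toPermHom G Ω g, ⟨g, rfl⟩⟩, hg⟩

/-- `G` is isomorphic to its image in `Equiv.Perm Ω` when the action is faithful. -/
noncomputable def P9_equivRange [FaithfulSMul G Ω] : G ≃* (MulAction.toPermHom G Ω).range :=
  MonoidHom.ofInjective (f := MulAction.toPermHom G Ω) MulAction.toPerm_injective

theorem P9_equivRange_coe [FaithfulSMul G Ω] (g : G) :
    ((P9_equivRange (G := G) (Ω := Ω) g : (MulAction.toPermHom G Ω).range) : Equiv.Perm Ω) =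
      MulAction.toPerm g := rfl

/-- Semi-affine alternative of S0732 is impossible for a perfect nontrivial group. -/
theorem P9_semiaffine_absurd [FaithfulSMul G Ω] (hperf : commutator G = ⊤) [Nontrivial G]
    {K : Type*} [Field K] [Finite K] (e : Ω ≃ K)
    (h : ∀ g : (MulAction.toPermHom G Ω).range,
      (e.symm.trans ((g : Equiv.Perm Ω).trans e)) ∈ semiaffineGroup K) : False := by
  refine P9_false_of_semiaffine hperf
    ((e.permCongrHom.toMonoidHom).comp (MulAction.toPermHom G Ω)) ?_ ?_
  · intro a b hab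
    exact MulAction.toPerm_injective (e.permCongrHom.injective hab)
  · intro g
    have := h ⟨MulAction.toPermHom G Ω g, ⟨g, rfl⟩⟩
    convert this using 1
    apply Equiv.ext
    intro x
    simp [Equiv.permCongrHom, Equiv.permCongr_apply]

end Image

end Cfsg.Agent.Helper6.BR996
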