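import Mathlib
import Cfsg.Agent.S0732
import Cfsg.Agent.Lib.Helper6.BR996P9Core

set_option autoImplicit false
set_option linter.style.haveILetI false

namespace Cfsg.Agent.Helper6.BR996

/-- S0996, piece P9 (section 9 of plans/S0996_proof.md): a perfect group acting faithfully and
transitively on `p + 1` points, of order `(p+1) p w` with `w < p`, `w ≠ p - 1`, is `PSL(2,p)` and
`2 w = p - 1`. -/
theorem psl2p_of_n_eq_one {G : Type*} [Group G] [Finite G] (hperf : commutator G = ⊤)
    {Ω : Type*} [Finite Ω] [MulAction G Ω] [MulAction.IsPretransitive G Ω] [FaithfulSMul G Ω]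
    (p w : ℕ) (hp : p.Prime) (hΩ : Nat.card Ω = p + 1) (hG : Nat.card G = (p + 1) * p * w)
    (hw : w < p) (hw1 : w ≠ p - 1) :
    2 * w = p - 1 ∧ Nonempty (G ≃* Matrix.ProjectiveSpecialLinearGroup (Fin 2) (ZMod p)) := by
  classical
  haveI : Fintype Ω := Fintype.ofFinite Ω
  haveI : Nontrivial G := by
    rw [← Finite.one_lt_card_iff_nontrivial, hG]
    have hw0 : 0 < w := by
      rcases Nat.eq_zero_or_pos w with h | h
      · rw [h, mul_zero] at hG
        exact absurd hG Nat.card_pos.ne'
      · exact h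
    have h2 := hp.two_le
    have h6 : 6 ≤ (p + 1) * p := by nlinarith
    calc 1 < 6 * 1 := by norm_num
      _ ≤ (p + 1) * p * w := Nat.mul_le_mul h6 hw0
  haveI := P9_range_pretransitive (G := G) (Ω := Ω)
  have hα : Fintype.card Ω = p + 1 := by rw [← Nat.card_eq_fintype_card]; exact hΩ
  have hG' : Nat.card (MulAction.toPermHom G Ω).range = (p + 1) * p * w := by
    rw [← hG]; exact (Nat.card_congr (P9_equivRange (G := G) (Ω := Ω)).toEquiv).symm
  rcases Cfsg.Agent.S0732.result hp hα (MulAction.toPermHom G Ω).range hG' hw with h | h | h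
  · exact absurd h.1 hw1
  · obtain ⟨h1, ⟨e⟩⟩ := h
    exact ⟨h1, ⟨(P9_equivRange (G := G) (Ω := Ω)).trans e⟩⟩
  · obtain ⟨q, hq, hpq, hd, e, he⟩ := h
    exact (P9_semiaffine_absurd hperf e he).elim

end Cfsg.Agent.Helper6.BR996
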