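import Mathlib
import Cfsg.Prelude.Def_Blocks
import Cfsg.Agent.Lib.Helper24.CharLinear
import Cfsg.Agent.Lib.Helper24.CharInduced
import Cfsg.Agent.Lib.Helper24.CharComplete
import Cfsg.Agent.Lib.Helper10.BR996Defs
import Cfsg.Agent.Lib.Helper6.BR996GA
import Cfsg.Agent.Lib.Helper6.BR996P9

/-!
# S0996, PIECE ENDF: `n = 1` ⇒ S0732 ⇒ `PSL(2,p)`   (helper6)
-/

set_option autoImplicit false
set_option linter.unusedSectionVars false
set_option linter.unusedVariables false
set_option linter.style.haveILetI false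

namespace Cfsg.Agent.Helper10.BR996

open scoped ComplexConjugate
open Cfsg Cfsg.Agent.Helper24

universe u

variable {G : Type u} [Group G] [Fintype G] [Fintype (IrrCharacter G)]
  (p : ℕ) [Fact p.Prime] (P : Subgroup G)

local notation "𝒩" => Subgroup.normalizer (P : Set G)

/-- PIECE ENDF (S0732): `n = 1`, `2 ≤ t`. -/
theorem endF (hcard : Nat.card P = p) (hcent : Subgroup.centralizer (P : Set G) ≤ P)
    (hperf : commutator G = ⊤) (hidx : (𝒩).index = 1 + p) (hw : P.relIndex 𝒩 < p - 1) :
    ∃ (F : Type) (_ : Field F) (_ : Fintype F), Fintype.card F = p ∧ 3 < p ∧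
      Nonempty (G ≃* Matrix.ProjectiveSpecialLinearGroup (Fin 2) F) := by
  have hp : p.Prime := Fact.out
  have hnn : (Subgroup.normalizer (P : Set G)).index ≠ 1 := by
    rw [hidx]; have := hp.pos; omega
  have hcore := core_normalizer_eq_bot p P hcard hcent hnn
  haveI : FaithfulSMul G (G ⧸ Subgroup.normalizer (P : Set G)) := by
    constructor
    intro g₁ g₂ h
    have hker : (MulAction.toPermHom G (G ⧸ Subgroup.normalizer (P : Set G))).ker = ⊥ := by
      rw [← Subgroup.normalCore_eq_ker]; exact hcore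
    have hinj := (MonoidHom.ker_eq_bot_iff _).mp hker
    apply hinj
    apply Equiv.ext
    intro a
    exact h a
  have hΩ : Nat.card (G ⧸ Subgroup.normalizer (P : Set G)) = p + 1 := by
    rw [← Subgroup.index_eq_card, hidx, add_comm]
  have hG : Nat.card G = (p + 1) * p * P.relIndex (Subgroup.normalizer (P : Set G)) := by
    rw [card_eq p P hcard, hidx]; ring
  have hw2 := two_le_relIndex p P hcard hcent hperf
  obtain ⟨h2w, ⟨e⟩⟩ := Cfsg.Agent.Helper6.BR996.psl2p_of_n_eq_one hperf
    (Ω := G ⧸ Subgroup.normalizer (P : Set G)) p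
    (P.relIndex (Subgroup.normalizer (P : Set G))) hp hΩ hG (by omega) (by omega)
  haveI : NeZero p := ⟨hp.ne_zero⟩
  refine ⟨ZMod p, inferInstance, inferInstance, ZMod.card p, by omega, ⟨e⟩⟩

end Cfsg.Agent.Helper10.BR996
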