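import Mathlib
import Cfsg.Agent.Lib.Helper6.ChevLNorm
import Cfsg.Agent.Lib.Lead.ChevBruhat2
import Cfsg.Agent.Lib.Lead.ChevU3
import Cfsg.Agent.Lib.Lead.ChevCore

/-!
# The centralizer of a root element `x_r(1)` which is central in `U`

If `x_r(c)` commutes with `U` and with the `X_{-p_j}`, `j ≠ k` (Boolean tests on the commutator formula), if the
Cartan integers `A_{p_j, r}` vanish for `j ≠ k`, `A_{p_k, r} = 1`, and `w_k r ≠ r`, then the centralizer of `x_r(1)` in the
Chevalley group is generated by `U` and the `X_{-p_j}`, `j ≠ k`.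
-/

set_option autoImplicit false
set_option linter.unusedSectionVars false
set_option linter.unusedSimpArgs false
set_option linter.unusedVariables false

namespace Cfsg.Agent.Helper6.RootCent

open Cfsg Cfsg.Lie Cfsg.Agent.Lead.Chev Cfsg.Agent.Helper6.ChevL

variable {F : Type*} [Field F] {D : ChevalleyDatum}

/-! ## root elements of distinct positive roots are distinct -/

theorem prodL_single (D : ChevalleyDatum) (hX : XAdd D F) (L : List ℕ) (hnd : L.Nodup) (s : ℕ) (hs : s ∈ L)
    (a : F) : prodL D L (fun r => if r = s then a else 0) = D.x F s a := by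
  induction L with
  | nil => simp at hs
  | cons r L ih =>
    rw [prodL_cons]
    have hnd' := (List.nodup_cons.1 hnd).2
    have hr := (List.nodup_cons.1 hnd).1
    by_cases hrs : r = s
    · subst hrs
      rw [if_pos rfl]
      have : prodL D L (fun r' => if r' = r then a else 0) = prodL D L (fun _ => (0 : F)) := by
        apply prodL_congr
        intro r' hr'
        rw [if_neg]
        rintro rfl
        exact hr hr'
      rw [this]
      have h0 : prodL D L (fun _ => (0 : F)) = 1 := by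
        clear ih hnd hnd' hr hs this
        induction L with
        | nil => exact prodL_nil D _
        | cons q L ih => rw [prodL_cons, hX.zero' q, ih, one_mul]
      rw [h0, mul_one]
    · rw [if_neg hrs, hX.zero' r, one_mul]
      rcases List.mem_cons.1 hs with h | h
      · exact absurd h.symm hrs
      · exact ih hnd' h

theorem posRoots_nodup (D : ChevalleyDatum) : D.posRoots.Nodup := by
  unfold ChevalleyDatum.posRoots
  exact List.Nodup.filter _ List.nodup_range

theorem mem_posRoots (D : ChevalleyDatum) (s : ℕ) (hs : D.IsPosRoot s) : s ∈ D.posRoots := by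
  unfold ChevalleyDatum.posRoots
  rw [List.mem_filter]
  exact ⟨List.mem_range.2 hs.1, by simpa using hs⟩

section facts

variable (hF : ChevFacts D F)
include hF

/-- `x_s(a) = x_r(c)` for distinct positive roots forces `a = 0` -/
theorem eq_zero_of_xGL_eq (s r : ℕ) (hs : D.IsPosRoot s) (hr : D.IsPosRoot r) (hsr : s ≠ r) (a c : F)
    (h : xGL D hF.xadd s a = xGL D hF.xadd r c) : a = 0 := by
  have h1 := congrArg (fun g : GL D.Idx F => (g : Matrix D.Idx D.Idx F)) h
  simp only [xGL_val] at h1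
  rw [← prodL_single D hF.xadd D.posRoots (posRoots_nodup D) s (mem_posRoots D s hs) a,
    ← prodL_single D hF.xadd D.posRoots (posRoots_nodup D) r (mem_posRoots D r hr) c] at h1
  have h2 := prodL_posRoots_inj D hF.ufacts hF.xadd.add hF.xadd.zero _ _ h1 s hs
  simp only [if_true] at h2
  rw [if_neg hsr] at h2
  exact h2

/-- `c ↦ x_r(c)` is injective for a positive root -/
theorem xGL_pos_inj (r : ℕ) (hr : D.IsPosRoot r) (a c : F)
    (h : xGL D hF.xadd r a = xGL D hF.xadd r c) : a = c := by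
  have h1 := congrArg (fun g : GL D.Idx F => (g : Matrix D.Idx D.Idx F)) h
  simp only [xGL_val] at h1
  rw [← prodL_single D hF.xadd D.posRoots (posRoots_nodup D) r (mem_posRoots D r hr) a,
    ← prodL_single D hF.xadd D.posRoots (posRoots_nodup D) r (mem_posRoots D r hr) c] at h1
  have h2 := prodL_posRoots_inj D hF.ufacts hF.xadd.add hF.xadd.zero _ _ h1 r hr
  simpa using h2

/-- if `x_s(a) = x_r(c)` with `a ≠ 0` and `r` positive then `s = r` -/
theorem root_eq_of_xGL_eq (s r : ℕ) (hs : s < D.nroots) (hr : D.IsPosRoot r) (a c : F) (ha : a ≠ 0)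
    (h : xGL D hF.xadd s a = xGL D hF.xadd r c) : s = r := by
  by_contra hsr
  rcases hF.sign.pos_or_neg s hs with hp | hn
  · exact ha (eq_zero_of_xGL_eq hF s r hp hr hsr a c h)
  · have hp := hF.sign.pos_of_neg s hn
    have hnn := hF.sign.neg_neg s hs
    have hmem : xGL D hF.xadd (D.neg (D.neg s)) a ∈ D.borelSubgroup F := by
      rw [hnn, h]
      exact posUnipotent_le_borel D (xGL_mem_posUnipotent D hF.xadd r hr c)
    exact ha (hF.eq_zero_of_xGL_neg_mem_borel _ hp a hmem)

end facts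

/-! ## commuting root elements -/

/-- all coefficients of the commutator formula of `(r, s)` vanish in `F` -/
def CentOK (D : ChevalleyDatum) (F : Type*) [Field F] (r s : ℕ) : Prop :=
  ∀ c ∈ D.commTerms r s, ((c.2.1 : ℤ) : F) = 0

theorem wordMat_commWord_eq_one (hX : XAdd D F) (r s : ℕ) (h : CentOK D F r s) (t u : F) :
    D.wordMat F (D.commWord F r s t u) = 1 := by
  unfold ChevalleyDatum.commWord
  unfold CentOK at h
  generalize D.commTerms r s = L at h
  induction L with
  | nil => simp [ChevalleyDatum.wordMat]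
  | cons c L ih =>
    rw [List.map_cons, wordMat_cons, ih (fun c' hc' => h c' (List.mem_cons_of_mem _ hc')), mul_one]
    have h0 := h c List.mem_cons_self
    show D.x F c.1 (((c.2.1 : ℤ) : F) * (-t) ^ c.2.2.1 * u ^ c.2.2.2) = 1
    rw [h0, zero_mul, zero_mul, hX.zero']

/-- the subgroup generated by `U` and the `X_{-p_j}`, `j ≠ k` -/
def QK (D : ChevalleyDatum) (k : ℕ) (r : ℕ) : Prop :=
  D.IsPosRoot r ∨ ∃ j < D.rank, j ≠ k ∧ r = D.neg (D.simple j)

theorem mem_rootGen_eq_iff (hX : XAdd D F) (r : ℕ) (g : GL D.Idx F) :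
    g ∈ rootGen D F (fun s => s = r) ↔ ∃ c : F, g = xGL D hX r c := by
  constructor
  · intro hg
    unfold rootGen at hg
    induction hg using Subgroup.closure_induction with
    | mem x hx =>
      obtain ⟨r', t, rfl, hx⟩ := hx
      exact ⟨t, Units.ext (by rw [hx, xGL_val])⟩
    | one => exact ⟨0, (xGL_zero D hX r).symm⟩
    | mul x y _ _ hx hy =>
      obtain ⟨a, rfl⟩ := hx
      obtain ⟨b, rfl⟩ := hy
      exact ⟨a + b, xGL_mul D hX r a b⟩
    | inv x _ hx =>
      obtain ⟨a, rfl⟩ := hx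
      exact ⟨-a, xGL_inv D hX r a⟩
  · rintro ⟨c, rfl⟩
    exact xGL_mem_rootGen hX (fun s => s = r) r rfl c

section facts2

variable (hF : ChevFacts D F)
include hF

theorem commute_of_centOK (r s : ℕ) (hr : r < D.nroots) (hs : s < D.nroots) (hsr : s ≠ r) (hsn : s ≠ D.neg r)
    (h : CentOK D F r s) (t u : F) : Commute (xGL D hF.xadd s u) (xGL D hF.xadd r t) := by
  apply Units.ext
  rw [Units.val_mul, Units.val_mul, xGL_val, xGL_val]
  have := hF.comm r hr s hs hsr hsn t u
  rw [wordMat_commWord_eq_one hF.xadd r s h t u, mul_one] at this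
  exact this

/-- the data of the theorem -/
structure CentData (r₀ k : ℕ) : Prop where
  pos : D.IsPosRoot r₀
  klt : k < D.rank
  hU : ∀ s, D.IsPosRoot s → s ≠ r₀ → CentOK D F r₀ s
  hJ : ∀ j < D.rank, j ≠ k → CentOK D F r₀ (D.neg (D.simple j))
  hJ0 : ∀ j < D.rank, j ≠ k → D.cartan j r₀ = 0
  hk1 : D.cartan k r₀ = 1
  hkr : D.reflectRoot k r₀ ≠ r₀
  hne : ∀ j < D.rank, D.neg (D.simple j) ≠ r₀ ∧ D.neg (D.simple j) ≠ D.neg r₀

variable {r₀ k : ℕ} (hd : CentData (F := F) (D := D) r₀ k)
include hd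

theorem QK_lt (r : ℕ) (hr : QK D k r) : r < D.nroots := by
  rcases hr with hr | ⟨j, hj, -, rfl⟩
  · exact hr.1
  · exact hF.neg_simple_lt j hj

/-- `K` centralizes the root subgroup `X_{r₀}` -/
theorem K_commute (g : GL D.Idx F) (hg : g ∈ rootGen D F (QK D k)) (c : F) :
    Commute g (xGL D hF.xadd r₀ c) := by
  unfold rootGen at hg
  induction hg using Subgroup.closure_induction with
  | mem x hx =>
    obtain ⟨s, u, hs, hx⟩ := hx
    have e : x = xGL D hF.xadd s u := Units.ext (by rw [hx, xGL_val])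
    rw [e]
    rcases hs with hs | ⟨j, hj, hjk, rfl⟩
    · by_cases hsr : s = r₀
      · subst hsr
        show xGL D hF.xadd s u * xGL D hF.xadd s c = xGL D hF.xadd s c * xGL D hF.xadd s u
        rw [xGL_mul, xGL_mul, add_comm]
      · refine commute_of_centOK hF r₀ s hd.pos.1 hs.1 hsr ?_ (hd.hU s hs hsr) c u
        intro h
        have := hF.sign.neg_of_pos r₀ hd.pos
        rw [← h] at this
        exact hF.sign.not_both s hs this
    · exact commute_of_centOK hF r₀ _ hd.pos.1 (hF.neg_simple_lt j hj) (hd.hne j hj).1 (hd.hne j hj).2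
        (hd.hJ j hj hjk) c u
  | one => exact Commute.one_left _
  | mul x y _ _ hx hy => exact hx.mul_left hy
  | inv x _ hx => exact hx.inv_left

end facts2

/-! ## the normalizer of the root subgroup -/

section main

variable (hF : ChevFacts D F) {r₀ k : ℕ} (hd : CentData (F := F) (D := D) r₀ k)
include hF hd

theorem posUnipotent_le_K : D.posUnipotent F ≤ rootGen D F (QK D k) := by
  unfold ChevalleyDatum.posUnipotent rootGen
  apply Subgroup.closure_mono
  rintro g ⟨r, t, hr, hg⟩
  exact ⟨r, t, Or.inl hr, hg⟩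

/-- `B` normalizes `X_{r₀}` -/
theorem borel_conj (b : GL D.Idx F) (hb : b ∈ D.borelSubgroup F) (c : F) :
    ∃ c' : F, (c ≠ 0 → c' ≠ 0) ∧ b * xGL D hF.xadd r₀ c * b⁻¹ = xGL D hF.xadd r₀ c' := by
  obtain ⟨u, hu, h, hh, rfl⟩ := (hF.mem_borel_iff b).1 hb
  obtain ⟨a, ha, hconj⟩ := hF.diagonal_conj_xGL h hh r₀ hd.pos.1
  refine ⟨a * c, fun hc => mul_ne_zero ha hc, ?_⟩
  have e : u * h * xGL D hF.xadd r₀ c * (u * h)⁻¹ = u * (h * xGL D hF.xadd r₀ c * h⁻¹) * u⁻¹ := by group
  rw [e, hconj c]
  have hcomm := K_commute hF hd u (posUnipotent_le_K hF hd hu) (a * c)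
  rw [hcomm.eq, mul_assoc, mul_inv_cancel, mul_one]

theorem borel_le_normalizer :
    D.borelSubgroup F ≤ Subgroup.normalizer (rootGen D F (fun s => s = r₀) : Set (GL D.Idx F)) := by
  intro b hb
  apply mem_normalizer_of_conj
  · intro x hx
    obtain ⟨c, rfl⟩ := (mem_rootGen_eq_iff hF.xadd r₀ x).1 hx
    obtain ⟨c', -, e⟩ := borel_conj hF hd b hb c
    rw [e]
    exact (mem_rootGen_eq_iff hF.xadd r₀ _).2 ⟨c', rfl⟩
  · intro x hx
    obtain ⟨c, rfl⟩ := (mem_rootGen_eq_iff hF.xadd r₀ x).1 hx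
    obtain ⟨c', -, e⟩ := borel_conj hF hd b⁻¹ (inv_mem hb) c
    rw [inv_inv] at e
    rw [e]
    exact (mem_rootGen_eq_iff hF.xadd r₀ _).2 ⟨c', rfl⟩

theorem signWord_cast_ne_zero (w : List ℕ) (hw : ∀ i ∈ w, i < D.rank) (s : ℕ) :
    ((signWord D (etaOf D) w s : ℤ) : F) ≠ 0 ∧
      ((signWord D (etaOf D) w s : ℤ) : F) * ((signWord D (etaOf D) w s : ℤ) : F) = 1 := by
  have := signWord_sq D (etaOf D) w (fun i hi s => (hF.nsimple i (hw i hi)).sign s) s
  rcases this with h | h <;> rw [h] <;> simp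

theorem nWordGL_mem_normalizer (w : List ℕ) (hw : ∀ i ∈ w, i < D.rank) (h : reflWord D w r₀ = r₀) :
    nWordGL D hF.xadd w ∈ Subgroup.normalizer (rootGen D F (fun s => s = r₀) : Set (GL D.Idx F)) := by
  have hconj := fun t => nWordGL_conj D hF.xadd (etaOf D) hF.nsimple w hw r₀ hd.pos.1 t
  rw [h] at hconj
  obtain ⟨hε0, hε1⟩ := signWord_cast_ne_zero hF hd w hw r₀
  apply mem_normalizer_of_conj
  · intro x hx
    obtain ⟨c, rfl⟩ := (mem_rootGen_eq_iff hF.xadd r₀ x).1 hx
    rw [hconj c]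
    exact (mem_rootGen_eq_iff hF.xadd r₀ _).2 ⟨_, rfl⟩
  · intro x hx
    obtain ⟨c, rfl⟩ := (mem_rootGen_eq_iff hF.xadd r₀ x).1 hx
    have e := hconj (((signWord D (etaOf D) w r₀ : ℤ) : F) * c)
    rw [← mul_assoc, hε1, one_mul] at e
    rw [← e]
    have : (nWordGL D hF.xadd w)⁻¹ * (nWordGL D hF.xadd w *
        xGL D hF.xadd r₀ (((signWord D (etaOf D) w r₀ : ℤ) : F) * c) * (nWordGL D hF.xadd w)⁻¹) *
        nWordGL D hF.xadd w = xGL D hF.xadd r₀ (((signWord D (etaOf D) w r₀ : ℤ) : F) * c) := by group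
    rw [this]
    exact (mem_rootGen_eq_iff hF.xadd r₀ _).2 ⟨_, rfl⟩

/-- the centralizer of `x_{r₀}(1)` normalizes the root subgroup -/
theorem centralizer_le_normalizer (hS : CorSize D) (g : GL D.Idx F) (hg : g ∈ D.group F)
    (hc : Commute g (xGL D hF.xadd r₀ 1)) :
    g ∈ Subgroup.normalizer (rootGen D F (fun s => s = r₀) : Set (GL D.Idx F)) := by
  obtain ⟨b, hb, w, hw, u, hu, rfl⟩ := hF.exists_bruhat hS g hg
  have huU := hF.negPart_le_posUnipotent w hu
  have huc := K_commute hF hd u (posUnipotent_le_K hF hd huU) 1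
  -- `n t n⁻¹ = b⁻¹ t b`
  have h1 : nWordGL D hF.xadd w * xGL D hF.xadd r₀ 1 * (nWordGL D hF.xadd w)⁻¹ =
      b⁻¹ * xGL D hF.xadd r₀ 1 * b := by
    have e1 : b * nWordGL D hF.xadd w * u * xGL D hF.xadd r₀ 1 =
        xGL D hF.xadd r₀ 1 * (b * nWordGL D hF.xadd w * u) := hc.eq
    have e2 : u * xGL D hF.xadd r₀ 1 = xGL D hF.xadd r₀ 1 * u := huc.eq
    have e3 : b * nWordGL D hF.xadd w * xGL D hF.xadd r₀ 1 * u =
        xGL D hF.xadd r₀ 1 * (b * nWordGL D hF.xadd w) * u := by
      rw [mul_assoc (b * nWordGL D hF.xadd w), ← e2, ← mul_assoc, e1, mul_assoc, mul_assoc, mul_assoc]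
    have e4 := mul_right_cancel e3
    calc nWordGL D hF.xadd w * xGL D hF.xadd r₀ 1 * (nWordGL D hF.xadd w)⁻¹
        = b⁻¹ * (b * nWordGL D hF.xadd w * xGL D hF.xadd r₀ 1) * (nWordGL D hF.xadd w)⁻¹ := by group
      _ = b⁻¹ * (xGL D hF.xadd r₀ 1 * (b * nWordGL D hF.xadd w)) * (nWordGL D hF.xadd w)⁻¹ := by rw [e4]
      _ = b⁻¹ * xGL D hF.xadd r₀ 1 * b := by group
  obtain ⟨c', hc', e5⟩ := borel_conj hF hd b⁻¹ (inv_mem hb) 1
  rw [inv_inv] at e5
  rw [e5, nWordGL_conj D hF.xadd (etaOf D) hF.nsimple w hw r₀ hd.pos.1 1] at h1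
  obtain ⟨hε0, -⟩ := signWord_cast_ne_zero hF hd w hw r₀
  have hlt := reflWord_lt D (etaOf D) (fun i hi => (hF.nsimple i hi).facts) w hw r₀ hd.pos.1
  have hfix := root_eq_of_xGL_eq hF _ r₀ hlt hd.pos _ c' (by rw [mul_one]; exact hε0) h1
  have hn := nWordGL_mem_normalizer hF hd w hw hfix
  have hbn := borel_le_normalizer hF hd hb
  have hun := borel_le_normalizer hF hd (posUnipotent_le_borel D huU)
  exact mul_mem (mul_mem hbn hn) hun

end main

/-! ## the parabolic subgroup and the torus -/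

theorem wordGL_flatMap_hWord_simple (D : ChevalleyDatum) (hX : XAdd D F) (L : List ℕ) (c : ℕ → F) :
    wordGL D hX (L.flatMap fun i => D.hWord (D.simple i) (c i)) =
      (L.map fun i => hGLt D hX (D.simple i) (c i)).prod := by
  induction L with
  | nil => simp [wordGL_nil]
  | cons a L ih =>
    rw [List.flatMap_cons, wordGL_append, ih, List.map_cons, List.prod_cons]
    rfl

theorem prod_map_single {M : Type*} [CommMonoid M] (L : List ℕ) (hnd : L.Nodup) (k : ℕ) (hk : k ∈ L) (f : ℕ → M)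
    (h : ∀ i ∈ L, i ≠ k → f i = 1) : (L.map f).prod = f k := by
  induction L with
  | nil => simp at hk
  | cons a L ih =>
    rw [List.map_cons, List.prod_cons]
    have hnd' := (List.nodup_cons.1 hnd).2
    have ha := (List.nodup_cons.1 hnd).1
    by_cases hak : a = k
    · subst hak
      have : (L.map f).prod = 1 := by
        apply List.prod_eq_one
        intro x hx
        obtain ⟨i, hi, rfl⟩ := List.mem_map.1 hx
        apply h i (List.mem_cons_of_mem _ hi)
        rintro rfl
        exact ha hi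
      rw [this, mul_one]
    · rw [h a List.mem_cons_self hak, one_mul]
      rcases List.mem_cons.1 hk with e | e
      · exact absurd e.symm hak
      · exact ih hnd' e (fun i hi => h i (List.mem_cons_of_mem _ hi))

section final

variable (hF : ChevFacts D F) (hP : ParFacts D) {r₀ k : ℕ} (hd : CentData (F := F) (D := D) r₀ k)
include hF hd

include hP in
/-- `N_G(X_{r₀}) ≤ P_J` -/
theorem normalizer_le_parabolic (g : GL D.Idx F) (hgG : g ∈ D.group F)
    (hgN : g ∈ Subgroup.normalizer (rootGen D F (fun s => s = r₀) : Set (GL D.Idx F))) :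
    g ∈ D.parabolicSubgroup F {j | j < D.rank ∧ j ≠ k} := by
  let M : Subgroup ↥(D.group F) :=
    (Subgroup.normalizer (rootGen D F (fun s => s = r₀) : Set (GL D.Idx F))).comap (D.group F).subtype
  have hM : hF.bnPair.B ≤ M := by
    intro b hb
    have hb' : (b : GL D.Idx F) ∈ D.borelSubgroup F := hb
    exact borel_le_normalizer hF hd hb'
  have heq := Cfsg.Agent.Helper2.BN.eq_parabolic hF.bnPair M hM
  have hle : hF.bnPair.parabolic {s | s ∈ hF.bnPair.S ∧ s ∈ M} ≤
      (D.parabolicSubgroup F {j | j < D.rank ∧ j ≠ k}).comap (D.group F).subtype := by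
    unfold BNPair.parabolic
    apply sup_le
    · intro b hb
      have hb' : (b : GL D.Idx F) ∈ D.borelSubgroup F := hb
      exact borel_le_parabolic _ hb'
    · rw [Subgroup.closure_le]
      rintro s ⟨⟨i, hi, hs⟩, hsM⟩
      have e : (s : GL D.Idx F) = nGL D hF.xadd (D.simple i) := Units.ext (by rw [hs, nGL_val])
      have hsN : (s : GL D.Idx F) ∈
          Subgroup.normalizer (rootGen D F (fun s => s = r₀) : Set (GL D.Idx F)) := hsM
      rw [e] at hsN
      have h1 := ((Subgroup.mem_normalizer_iff.1 hsN) (xGL D hF.xadd r₀ 1)).1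
        ((mem_rootGen_eq_iff hF.xadd r₀ _).2 ⟨1, rfl⟩)
      obtain ⟨c', hc'⟩ := (mem_rootGen_eq_iff hF.xadd r₀ _).1 h1
      rw [nGL_conj D hF.xadd i _ (hF.nsimple i hi) r₀ hd.pos.1 1] at hc'
      have hη : ((etaOf D i r₀ : ℤ) : F) * 1 ≠ 0 := by
        rcases (hF.nsimple i hi).sign r₀ with h | h <;> rw [h] <;> simp
      have hfix := root_eq_of_xGL_eq hF _ r₀ ((hF.nsimple i hi).facts.wlt r₀ hd.pos.1) hd.pos _ c' hη hc'
      have hik : i ≠ k := by
        rintro rfl
        exact hd.hkr hfix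
      show (s : GL D.Idx F) ∈ D.parabolicSubgroup F {j | j < D.rank ∧ j ≠ k}
      rw [e]
      exact nGL_mem_parabolic hF hP _ i hi ⟨hi, hik⟩
  have hgM : (⟨g, hgG⟩ : ↥(D.group F)) ∈ M := hgN
  rw [heq] at hgM
  exact hle hgM

theorem parabolic_le_sup :
    D.parabolicSubgroup F {j | j < D.rank ∧ j ≠ k} ≤ rootGen D F (QK D k) ⊔ D.diagonalSubgroup F := by
  unfold ChevalleyDatum.parabolicSubgroup ChevalleyDatum.borelSubgroup
  apply sup_le
  · apply sup_le
    · exact le_trans (posUnipotent_le_K hF hd) le_sup_left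
    · exact le_sup_right
  · rw [Subgroup.closure_le]
    rintro g ⟨j, ⟨hj, hjk⟩, -, hg⟩
    have e : g = nGL D hF.xadd (D.simple j) := Units.ext (by rw [hg, nGL_val])
    rw [e]
    apply Subgroup.mem_sup_left
    unfold nGL
    apply wordGL_mem_rootGen
    intro q hq
    simp only [ChevalleyDatum.nWord, List.mem_cons, List.mem_nil_iff, or_false] at hq
    rcases hq with rfl | rfl | rfl
    · exact Or.inl (hF.simple_pos j hj)
    · exact Or.inr ⟨j, hj, hjk, rfl⟩
    · exact Or.inl (hF.simple_pos j hj)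

/-- an element of `H` centralizing `x_{r₀}(1)` lies in `K` -/
theorem diagonal_mem_K (h : GL D.Idx F) (hh : h ∈ D.diagonalSubgroup F)
    (hc : Commute h (xGL D hF.xadd r₀ 1)) : h ∈ rootGen D F (QK D k) := by
  obtain ⟨c, hc0, hhc⟩ := exists_Tmat_of_mem D hF.hall h hh
  have h1 := hF.Tmat_conj_xGL h c hc0 hhc r₀ hd.pos.1 1
  have h2 : h * xGL D hF.xadd r₀ 1 * h⁻¹ = xGL D hF.xadd r₀ 1 := by
    rw [hc.eq, mul_assoc, mul_inv_cancel, mul_one]
  rw [h2] at h1
  have h3 := xGL_pos_inj hF r₀ hd.pos _ _ h1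
  have h4 : chi D c r₀ = c k := by
    unfold chi
    rw [prod_map_single (List.range D.rank) List.nodup_range k (List.mem_range.2 hd.klt)
      (fun i => c i ^ D.cartan i r₀)]
    · rw [hd.hk1, zpow_one]
    · intro i hi hik
      rw [hd.hJ0 i (List.mem_range.1 hi) hik, zpow_zero]
  rw [mul_one, h4] at h3
  have h5 : h = wordGL D hF.xadd ((List.range D.rank).flatMap fun i => D.hWord (D.simple i) (c i)) :=
    Units.ext (by rw [hhc, wordGL_val, wordMat_eq_Tmat D hF.hsimple c hc0])
  rw [h5, wordGL_flatMap_hWord_simple]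
  apply Subgroup.list_prod_mem
  intro x hx
  obtain ⟨i, hi, rfl⟩ := List.mem_map.1 hx
  have hi' := List.mem_range.1 hi
  by_cases hik : i = k
  · subst hik
    rw [← h3]
    have : hGLt D hF.xadd (D.simple i) (1 : F) = 1 := by
      apply Units.ext
      rw [hGLt_val, hF.hsimple i hi' 1 one_ne_zero]
      rw [Units.val_one, ← Matrix.diagonal_one]
      congr 1
      funext idx
      rcases idx with j | v
      · rfl
      · simp
    rw [this]
    exact one_mem _
  · unfold hGLt
    apply wordGL_mem_rootGen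
    intro q hq
    simp only [ChevalleyDatum.hWord, ChevalleyDatum.nWord, List.mem_append, List.mem_cons, List.mem_nil_iff,
      or_false] at hq
    rcases hq with (rfl | rfl | rfl) | (rfl | rfl | rfl)
    · exact Or.inl (hF.simple_pos i hi')
    · exact Or.inr ⟨i, hi', hik, rfl⟩
    · exact Or.inl (hF.simple_pos i hi')
    · exact Or.inl (hF.simple_pos i hi')
    · exact Or.inr ⟨i, hi', hik, rfl⟩
    · exact Or.inl (hF.simple_pos i hi')

include hP in
/-- **the centralizer of `x_{r₀}(1)`** -/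
theorem centralizer_eq (hS : CorSize D) (t : GL D.Idx F)
    (ht : (t : Matrix D.Idx D.Idx F) = D.x F r₀ 1) :
    D.group F ⊓ Subgroup.centralizer {t} = rootGen D F (QK D k) := by
  have et : t = xGL D hF.xadd r₀ 1 := Units.ext (by rw [ht, xGL_val])
  subst et
  apply le_antisymm
  · rintro g ⟨hgG, hgC⟩
    have hc : Commute g (xGL D hF.xadd r₀ 1) := by
      have hgC' : g ∈ Subgroup.centralizer ({xGL D hF.xadd r₀ 1} : Set (GL D.Idx F)) := hgC
      rw [Subgroup.mem_centralizer_iff] at hgC'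
      exact (hgC' _ rfl).symm
    have hN := centralizer_le_normalizer hF hd hS g hgG hc
    have hPJ := normalizer_le_parabolic hF hP hd g hgG hN
    have hsup := parabolic_le_sup hF hd hPJ
    have hle : D.diagonalSubgroup F ≤ Subgroup.normalizer (rootGen D F (QK D k) : Set (GL D.Idx F)) :=
      diagonal_le_normalizer_rootGen hF (QK D k) (QK_lt hF hd)
    have hcoe := Subgroup.coe_mul_of_right_le_normalizer_left (rootGen D F (QK D k)) (D.diagonalSubgroup F) hle
    have hmem : g ∈ ((rootGen D F (QK D k) ⊔ D.diagonalSubgroup F : Subgroup (GL D.Idx F)) :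
        Set (GL D.Idx F)) := hsup
    rw [hcoe] at hmem
    obtain ⟨k', hk', h, hh, rfl⟩ := Set.mem_mul.1 hmem
    have hk'c := K_commute hF hd k' hk' 1
    have hhc : Commute h (xGL D hF.xadd r₀ 1) := by
      have e1 : k' * h * xGL D hF.xadd r₀ 1 = xGL D hF.xadd r₀ 1 * (k' * h) := hc.eq
      have e2 : k' * xGL D hF.xadd r₀ 1 = xGL D hF.xadd r₀ 1 * k' := hk'c.eq
      have e3 : k' * (h * xGL D hF.xadd r₀ 1) = k' * (xGL D hF.xadd r₀ 1 * h) := by
        rw [← mul_assoc, e1, ← mul_assoc, ← e2, mul_assoc]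
      exact mul_left_cancel e3
    exact mul_mem hk' (diagonal_mem_K hF hd h hh hhc)
  · intro g hg
    refine ⟨?_, ?_⟩
    · have hle : rootGen D F (QK D k) ≤ D.group F := by
        unfold rootGen
        rw [Subgroup.closure_le]
        rintro x ⟨r, u, -, hx⟩
        have e : x = xGL D hF.xadd r u := Units.ext (by rw [hx, xGL_val])
        rw [e]
        exact xGL_mem_group D hF.xadd r u
      exact hle hg
    · show g ∈ Subgroup.centralizer ({xGL D hF.xadd r₀ 1} : Set (GL D.Idx F))
      rw [Subgroup.mem_centralizer_iff]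
      intro y hy
      rw [Set.mem_singleton_iff] at hy
      subst hy
      exact (K_commute hF hd g hg 1).eq.symm

end final

end Cfsg.Agent.Helper6.RootCent
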