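import Mathlib
import Cfsg.Prelude.Def_TwoFusion

set_option autoImplicit false

namespace Cfsg.Agent.Helper6

variable {G : Type*} [Group G]

theorem inv_eq_self_of_mul_self {x : G} (hx : x * x = 1) : x⁻¹ = x :=
  inv_eq_of_mul_eq_one_left hx

/-- An involution inverts its product with another involution. -/
theorem conj_mul_inv (x y : G) (hx : x * x = 1) (hy : y * y = 1) :
    x * (x * y) * x⁻¹ = (x * y)⁻¹ := by
  rw [mul_inv_rev, inv_eq_self_of_mul_self hx, inv_eq_self_of_mul_self hy]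
  rw [← mul_assoc x x y, hx, one_mul]

theorem conj_pow_inv (x y : G) (hx : x * x = 1) (hy : y * y = 1) (n : ℕ) :
    x * (x * y) ^ n * x⁻¹ = ((x * y) ^ n)⁻¹ := by
  rw [← conj_pow, conj_mul_inv x y hx hy, inv_pow]

/-- `x r^n = r^{-n} x`. -/
theorem mul_pow_eq (x y : G) (hx : x * x = 1) (hy : y * y = 1) (n : ℕ) :
    x * (x * y) ^ n = ((x * y) ^ n)⁻¹ * x := by
  have h := conj_pow_inv x y hx hy n
  rw [← h]; group

theorem mem_closure_pair_left (x y : G) : x ∈ Subgroup.closure ({x, y} : Set G) :=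
  Subgroup.subset_closure (by simp)

theorem mem_closure_pair_right (x y : G) : y ∈ Subgroup.closure ({x, y} : Set G) :=
  Subgroup.subset_closure (by simp)

theorem pow_mem_closure_pair (x y : G) (n : ℕ) : (x * y) ^ n ∈ Subgroup.closure ({x, y} : Set G) :=
  Subgroup.pow_mem _ (Subgroup.mul_mem _ (mem_closure_pair_left x y) (mem_closure_pair_right x y)) n

/-- In the dihedral group generated by involutions `x, y`, every element `x (xy)^n` is conjugate
(inside the group generated by `x, y`) to `x` or to `y`. -/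
theorem dihedral_conj (x y : G) (hx : x * x = 1) (hy : y * y = 1) (n : ℕ) :
    ∃ u ∈ Subgroup.closure ({x, y} : Set G),
      x * (x * y) ^ n = u * x * u⁻¹ ∨ x * (x * y) ^ n = u * y * u⁻¹ := by
  rcases Nat.even_or_odd' n with ⟨i, hi | hi⟩
  · refine ⟨((x * y) ^ i)⁻¹, Subgroup.inv_mem _ (pow_mem_closure_pair x y i), Or.inl ?_⟩
    rw [inv_inv, ← mul_pow_eq x y hx hy i, hi, two_mul, pow_add, mul_assoc]
  · refine ⟨((x * y) ^ i)⁻¹, Subgroup.inv_mem _ (pow_mem_closure_pair x y i), Or.inr ?_⟩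
    rw [inv_inv, hi, pow_succ, two_mul, pow_add]
    have h1 : x * ((x * y) ^ i * (x * y) ^ i * (x * y)) = (x * (x * y) ^ i) * ((x * y) ^ i * (x * y)) := by group
    rw [h1, mul_pow_eq x y hx hy i]
    have h2 : (x * y) ^ i * (x * y) = (x * y) * (x * y) ^ i := by
      rw [← pow_succ, ← pow_succ']
    rw [h2]
    have h3 : ((x * y) ^ i)⁻¹ * x * ((x * y) * (x * y) ^ i) = ((x * y) ^ i)⁻¹ * (x * x * y) * (x * y) ^ i := by
      simp only [mul_assoc]
    rw [h3, hx, one_mul]

/-- If the product of two involutions has odd order `2k+1`, they are conjugate by `(xy)^k`. -/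
theorem conj_of_odd_order (x y : G) (hx : x * x = 1) (hy : y * y = 1) (k : ℕ)
    (hk : (x * y) ^ (2 * k + 1) = 1) :
    (x * y) ^ k * x * ((x * y) ^ k)⁻¹ = y := by
  have h1 : x * ((x * y) ^ k)⁻¹ = (x * y) ^ k * x := by
    have := mul_pow_eq x y hx hy k
    calc x * ((x * y) ^ k)⁻¹ = (x * y) ^ k * (((x * y) ^ k)⁻¹ * x) * ((x * y) ^ k)⁻¹ := by group
      _ = (x * y) ^ k * (x * (x * y) ^ k) * ((x * y) ^ k)⁻¹ := by rw [this]
      _ = (x * y) ^ k * x := by group
  have h2 : (x * y) ^ k * x * ((x * y) ^ k)⁻¹ = (x * y) ^ k * (x * y) ^ k * x := by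
    rw [mul_assoc, h1, mul_assoc]
  rw [h2]
  have h3 : (x * y) ^ k * (x * y) ^ k = (x * y)⁻¹ := by
    rw [← pow_add, ← two_mul]
    have : (x * y) ^ (2 * k) * (x * y) = 1 := by rw [← pow_succ]; exact hk
    exact eq_inv_of_mul_eq_one_left this
  rw [h3, mul_inv_rev, inv_eq_self_of_mul_self hx, inv_eq_self_of_mul_self hy, mul_assoc, hx, mul_one]

/-- A conjugate of an isolated involution is an isolated involution. -/
theorem isolated_conj {z : G} (hz : Cfsg.IsIsolatedInvolution z) (g : G) :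
    Cfsg.IsIsolatedInvolution (g * z * g⁻¹) := by
  refine ⟨?_, ?_⟩
  · rw [← hz.1]
    have := (MulAut.conj g).orderOf_eq z
    rwa [MulAut.conj_apply] at this
  · intro h hc
    -- conjugate back
    have h1 : Commute z ((g⁻¹ * h * g) * z * (g⁻¹ * h * g)⁻¹) := by
      have : (g⁻¹ * h * g) * z * (g⁻¹ * h * g)⁻¹ = g⁻¹ * (h * (g * z * g⁻¹) * h⁻¹) * g := by group
      rw [this]
      have hc' : g * z * g⁻¹ * (h * (g * z * g⁻¹) * h⁻¹) = (h * (g * z * g⁻¹) * h⁻¹) * (g * z * g⁻¹) := hc
      show z * (g⁻¹ * (h * (g * z * g⁻¹) * h⁻¹) * g) = (g⁻¹ * (h * (g * z * g⁻¹) * h⁻¹) * g) * z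
      calc z * (g⁻¹ * (h * (g * z * g⁻¹) * h⁻¹) * g)
          = g⁻¹ * (g * z * g⁻¹ * (h * (g * z * g⁻¹) * h⁻¹)) * g := by group
        _ = g⁻¹ * ((h * (g * z * g⁻¹) * h⁻¹) * (g * z * g⁻¹)) * g := by rw [hc']
        _ = (g⁻¹ * (h * (g * z * g⁻¹) * h⁻¹) * g) * z := by group
    have h2 := hz.2 _ h1
    calc h * (g * z * g⁻¹) * h⁻¹ = g * ((g⁻¹ * h * g) * z * (g⁻¹ * h * g)⁻¹) * g⁻¹ := by group
      _ = g * z * g⁻¹ := by rw [h2]

theorem isolated_mul_self {z : G} (hz : Cfsg.IsIsolatedInvolution z) : z * z = 1 := by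
  have := pow_orderOf_eq_one z
  rw [hz.1, pow_two] at this
  exact this

theorem isolated_ne_one {z : G} (hz : Cfsg.IsIsolatedInvolution z) : z ≠ 1 := by
  intro h
  have := hz.1
  rw [h, orderOf_one] at this
  omega

/-- The product of an isolated involution with any of its conjugates has odd order. -/
theorem isolated_odd_order [Finite G] {z : G} (hz : Cfsg.IsIsolatedInvolution z) (g : G) :
    Odd (orderOf (z * (g * z * g⁻¹))) := by
  set w := g * z * g⁻¹ with hw
  have hzz := isolated_mul_self hz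
  have hww : w * w = 1 := isolated_mul_self (isolated_conj hz g)
  rcases Nat.even_or_odd (orderOf (z * w)) with he | ho
  · exfalso
    obtain ⟨k, hk⟩ := he
    have hpos : 0 < orderOf (z * w) := orderOf_pos _
    have hk0 : 0 < k := by omega
    set c := (z * w) ^ k with hc
    have hc1 : c ≠ 1 := by
      apply pow_ne_one_of_lt_orderOf (by omega) (by omega)
    have hcc : c * c = 1 := by
      rw [hc, ← pow_add, ← hk, pow_orderOf_eq_one]
    have hcinv : c⁻¹ = c := inv_eq_self_of_mul_self hcc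
    have hcomm : z * c = c * z := by
      have := mul_pow_eq z w hzz hww k
      rw [← hc, hcinv] at this
      exact this
    obtain ⟨u, -, hu⟩ := dihedral_conj z w hzz hww k
    rw [← hc] at hu
    -- z * c is a G-conjugate of z
    have hconj : ∃ v : G, z * c = v * z * v⁻¹ := by
      rcases hu with hu | hu
      · exact ⟨u, hu⟩
      · refine ⟨u * g, ?_⟩
        rw [hu, hw]; group
    obtain ⟨v, hv⟩ := hconj
    have hcm : Commute z (v * z * v⁻¹) := by
      rw [← hv]
      show z * (z * c) = (z * c) * z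
      rw [mul_assoc, hcomm]
    have := hz.2 v hcm
    rw [← hv] at this
    exact hc1 (by simpa using this)
  · exact ho

/-- `S1180`-type statement: conjugates of an isolated involution inside a subgroup containing it
are conjugate within the subgroup. -/
theorem isolated_conj_in_subgroup [Finite G] {z : G} (hz : Cfsg.IsIsolatedInvolution z)
    (H : Subgroup G) (hzH : z ∈ H) (g : G) (hg : g * z * g⁻¹ ∈ H) :
    ∃ h ∈ H, h * z * h⁻¹ = g * z * g⁻¹ := by
  obtain ⟨k, hk⟩ := isolated_odd_order hz g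
  have hzz := isolated_mul_self hz
  have hww : (g * z * g⁻¹) * (g * z * g⁻¹) = 1 := isolated_mul_self (isolated_conj hz g)
  refine ⟨(z * (g * z * g⁻¹)) ^ k, Subgroup.pow_mem _ (Subgroup.mul_mem _ hzH hg) k, ?_⟩
  apply conj_of_odd_order z (g * z * g⁻¹) hzz hww k
  rw [← hk, pow_orderOf_eq_one]

theorem eq_one_of_sq_of_odd_pow {e : G} (h2 : e * e = 1) (m : ℕ) (hm : e ^ (2 * m + 1) = 1) : e = 1 := by
  have : e ^ (2 * m + 1) = e := by
    rw [pow_succ, pow_mul, pow_two, h2, one_pow, one_mul]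
  rw [← this, hm]

/-- Elements of odd order with the same square are equal. -/
theorem eq_of_sq_eq_of_odd {x y : G} (hx : Odd (orderOf x)) (hy : Odd (orderOf y))
    (h : x * x = y * y) : x = y := by
  obtain ⟨m, hm⟩ := hx
  obtain ⟨n, hn⟩ := hy
  have hxm : x ^ (2 * m + 1) = 1 := by rw [← hm]; exact pow_orderOf_eq_one x
  have hyn : y ^ (2 * n + 1) = 1 := by rw [← hn]; exact pow_orderOf_eq_one y
  have hxq : x = (x * x) ^ (m + 1) := by
    rw [← pow_two, ← pow_mul]
    have : 2 * (m + 1) = (2 * m + 1) + 1 := by ring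
    rw [this, pow_succ, hxm, one_mul]
  have hyq : y = (x * x) ^ (n + 1) := by
    rw [h, ← pow_two, ← pow_mul]
    have : 2 * (n + 1) = (2 * n + 1) + 1 := by ring
    rw [this, pow_succ, hyn, one_mul]
  have hcomm : Commute x y := by
    rw [hxq, hyq]
    exact (Commute.refl (x * x)).pow_pow _ _
  have hq : (x * x) ^ (2 * m + 1) = 1 := by
    rw [← pow_two, ← pow_mul, mul_comm, pow_mul, hxm, one_pow]
  have hy1 : y ^ (2 * m + 1) = 1 := by
    rw [hyq, ← pow_mul, mul_comm, pow_mul, hq, one_pow]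
  have he : x⁻¹ * y = 1 := by
    apply eq_one_of_sq_of_odd_pow _ m
    · rw [(hcomm.inv_left).mul_pow, inv_pow, hxm, hy1]; simp
    · have := (hcomm.inv_left).mul_pow 2
      rw [pow_two, pow_two, pow_two] at this
      rw [this, ← h]; group
  calc x = x * (x⁻¹ * y) := by rw [he, mul_one]
    _ = y := by group

end Cfsg.Agent.Helper6
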