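import Mathlib
import Cfsg.Agent.Lib.Helper6.RootCent

/-!
# The centralizer of a root involution in characteristic two: the Boolean test and the data
-/

set_option autoImplicit false
set_option linter.unusedSectionVars false
set_option linter.unusedSimpArgs false
set_option linter.unusedVariables false
set_option maxRecDepth 100000

namespace Cfsg.Agent.Helper6.RootCent

open Cfsg Cfsg.Lie Cfsg.Agent.Lead.Chev Cfsg.Agent.Helper6.ChevL

/-- all coefficients of the commutator formula of `(r, s)` are even -/
def evenChk (D : ChevalleyDatum) (r s : ℕ) : Bool :=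
  (D.commTerms r s).all fun c => decide (c.2.1 % 2 = 0)

/-- the Boolean test of the hypotheses of `centralizer_eq` in characteristic two -/
def centChk (D : ChevalleyDatum) (r₀ k : ℕ) : Bool :=
  decide (D.IsPosRoot r₀) && decide (k < D.rank) &&
  ((List.range D.nroots).all fun s => !(decide (D.IsPosRoot s)) || decide (s = r₀) || evenChk D r₀ s) &&
  ((List.range D.rank).all fun j => decide (j = k) ||
    (evenChk D r₀ (D.neg (D.simple j)) && decide (D.cartan j r₀ = 0))) &&
  decide (D.cartan k r₀ = 1) && decide (D.reflectRoot k r₀ ≠ r₀) &&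
  ((List.range D.rank).all fun j =>
    decide (D.neg (D.simple j) ≠ r₀) && decide (D.neg (D.simple j) ≠ D.neg r₀))

theorem centOK_of_evenChk {F : Type*} [Field F] [CharP F 2] (D : ChevalleyDatum) (r s : ℕ)
    (h : evenChk D r s = true) : CentOK D F r s := by
  intro c hc
  unfold evenChk at h
  rw [List.all_eq_true] at h
  have := h c hc
  rw [decide_eq_true_eq] at this
  exact (CharP.intCast_eq_zero_iff F 2 c.2.1).2 (by exact_mod_cast Int.dvd_of_emod_eq_zero this)

theorem centData_of_chk {F : Type*} [Field F] [CharP F 2] (D : ChevalleyDatum) (r₀ k : ℕ)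
    (h : centChk D r₀ k = true) : CentData (F := F) (D := D) r₀ k := by
  unfold centChk at h
  simp only [Bool.and_eq_true, decide_eq_true_eq, List.all_eq_true, List.mem_range, Bool.or_eq_true,
    Bool.not_eq_true', decide_eq_false_iff_not] at h
  obtain ⟨⟨⟨⟨⟨⟨h1, h2⟩, h3⟩, h4⟩, h5⟩, h6⟩, h7⟩ := h
  refine ⟨h1, h2, ?_, ?_, ?_, h5, h6, ?_⟩
  · intro s hs hsr
    rcases h3 s hs.1 with (h | h) | h
    · exact absurd hs h
    · exact absurd h hsr
    · exact centOK_of_evenChk D r₀ s h
  · intro j hj hjk
    rcases h4 j hj with h | h
    · exact absurd h hjk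
    · exact centOK_of_evenChk D r₀ _ h.1
  · intro j hj hjk
    rcases h4 j hj with h | h
    · exact absurd h hjk
    · exact h.2
  · intro j hj
    exact h7 j hj

theorem centOK_E6 : centChk chevE6 71 1 = true := by decide +kernel
theorem centOK_E7 : centChk chevE7 125 0 = true := by decide +kernel
theorem centOK_E8 : centChk chevE8 239 7 = true := by decide +kernel
theorem centOK_F4_long : centChk chevF4 47 3 = true := by decide +kernel
theorem centOK_F4_short : centChk chevF4 44 0 = true := by decide +kernel
theorem centOK_G2 : centChk chevG2 11 1 = true := by decide +kernel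

end Cfsg.Agent.Helper6.RootCent
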