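import Mathlib
import Cfsg.Agent.Lib.Lead.ChevCalc

/-!
Small table utilities on top of the calculator: the pairing `⟨s, r^∨⟩` computed row by row, signs from a
bit mask, and the symbolic word `n_r(1)`.
-/

set_option autoImplicit false
set_option linter.unusedSectionVars false
set_option linter.unusedSimpArgs false
set_option linter.unusedVariables false

namespace Cfsg.Agent.Helper6.ChevT

open Cfsg Cfsg.Lie Cfsg.Agent.Lead.Chev

variable {F : Type*} [Field F]

/-- the integer `⟨s, r^∨⟩ = Σ_i c_i(r) A_{p_i, s}` -/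
def pairing (D : ChevalleyDatum) (r s : ℕ) : ℤ :=
  ((List.range D.rank).map fun i => (D.coroot.getD r #[]).getD i 0 * D.cartan i s).sum

/-- the entry `c_i(r)` of the coroot table -/
def cor (D : ChevalleyDatum) (r i : ℕ) : ℤ := (D.coroot.getD r #[]).getD i 0

theorem getD_tail (l : List ℤ) (s : ℕ) : l.tail.getD s 0 = l.getD (s + 1) 0 := by
  cases l <;> simp

theorem headD_eq_getD (l : List ℤ) : l.headD 0 = l.getD 0 0 := by
  cases l <;> simp

theorem toList_getD (a : Array ℤ) (s : ℕ) : a.toList.getD s 0 = a.getD s 0 := by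
  simp [List.getD_eq_getElem?_getD, Array.getD_eq_getD_getElem?]

theorem range_map_getD (n : ℕ) (f : ℕ → ℤ) (j : ℕ) (hj : j < n) :
    ((List.range n).map f).getD j 0 = f j := by
  simp [List.getD_eq_getElem?_getD, hj]

/-- `Σ_{j<n} a_j b_j` -/
def dotR (n : ℕ) (a b : List ℤ) : ℤ := ((List.range n).map fun j => a.getD j 0 * b.getD j 0).sum

/-- the column `r` of the Cartan table -/
def carCol (D : ChevalleyDatum) (r : ℕ) : List ℤ := (List.range D.rank).map fun j => D.cartan j r

theorem dotR_carCol (D : ChevalleyDatum) (r s : ℕ) :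
    dotR D.rank (D.coroot.getD s #[]).toList (carCol D r) = pairing D s r := by
  unfold dotR pairing
  congr 1
  apply List.map_congr_left
  intro j hj
  rw [toList_getD, carCol, range_map_getD _ _ _ (List.mem_range.1 hj)]

/-- the sign read off a bit mask: `-1` iff bit `s` is set -/
def sgn (mask s : ℕ) : ℤ := if mask.testBit s then -1 else 1

theorem sgn_eq (mask s : ℕ) : sgn mask s = 1 ∨ sgn mask s = -1 := by
  unfold sgn
  split_ifs
  · right; rfl
  · left; rfl

theorem sgn_mul_self (mask s : ℕ) : sgn mask s * sgn mask s = 1 := by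
  rcases sgn_eq mask s with h | h <;> rw [h] <;> rfl

/-- the symbolic word `n_r(1) = x_r(1) x_{-r}(-1) x_r(1)` -/
def nW (D : ChevalleyDatum) (r : ℕ) : List (ℕ × LPoly) :=
  [(r, pconst 1), (D.neg r, pconst (-1)), (r, pconst 1)]

theorem evalWord_nW (D : ChevalleyDatum) (v : Val F) (r : ℕ) :
    evalWord v (nW D r) = D.nWord r (1 : F) := by
  simp [evalWord, nW, ChevalleyDatum.nWord]

end Cfsg.Agent.Helper6.ChevT
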