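import Mathlib
import Cfsg.Agent.Lib.Helper6.ChevBase

/-!
`n_r = n_r(1)` for an arbitrary root `r` is a signed monomial matrix on the root vectors and acts as the
reflection `w_r` on the `h`'s, provided Boolean table tests hold. The permutation is supplied as a list, the
signs as a bit mask.
-/

set_option autoImplicit false
set_option linter.unusedSectionVars false
set_option linter.unusedSimpArgs false
set_option linter.unusedVariables false

namespace Cfsg.Agent.Helper6.ChevN

open Cfsg Cfsg.Lie Cfsg.Agent.Lead.Chev Cfsg.Agent.Helper6.ChevT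

/-- the expected column `h_{p_j}` of `n_r` -/
def nExpL (D : ChevalleyDatum) (r j : ℕ) : SVec :=
  (.inl j, pconst 1) :: (List.range D.rank).map fun i => ((Sum.inl i : Code), pconst (-(D.cartan j r * cor D r i)))

/-- test for the column `h_{p_j}` of `n_r` -/
def nAllL (D : ChevalleyDatum) (r j : ℕ) : Bool := colEq D (nW D r) (.inl j) (nExpL D r j)

/-- all the `h`-columns of `n_r` -/
def nBlkL (D : ChevalleyDatum) (r : ℕ) : Bool := (List.range D.rank).all (nAllL D r)

/-- the test at one root vector: the column of `n_r`, the range of the image, the involution property, the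
sign relation `η_s η_{-s} = 1` and the compatibility with the coroots -/
def nStep (D : ChevalleyDatum) (r mask : ℕ) (perm : List ℕ) (cr car : List ℤ) (s p ns : ℕ) (cs : List ℤ) :
    Bool :=
  colEq D (nW D r) (.inr s) [(.inr p, pconst (sgn mask s))] &&
    decide (p < D.nroots) && (perm.getD p 0 == s) && (sgn mask s * sgn mask ns == 1) &&
    (List.range D.rank).all fun i =>
      cor D p i == cs.getD i 0 - dotR D.rank cs car * cr.getD i 0

/-- the columns `e_{s0}, …, e_{s0+k-1}` of `n_r`, walking along the list `P` of images, the list `N` of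
negatives and the list `C` of coroot rows -/
def nRun (D : ChevalleyDatum) (r mask : ℕ) (perm : List ℕ) (cr car : List ℤ) :
    ℕ → ℕ → List ℕ → List ℕ → List (Array ℤ) → Bool
  | 0, _, _, _, _ => true
  | k + 1, s, P, N, C =>
    nStep D r mask perm cr car s (P.headD 0) (N.headD 0) (C.headD #[]).toList &&
      nRun D r mask perm cr car k (s + 1) P.tail N.tail C.tail

theorem nRun_spec (D : ChevalleyDatum) (r mask : ℕ) (perm : List ℕ) (cr car : List ℤ) (k s0 : ℕ)
    (P N : List ℕ) (C : List (Array ℤ)) (h : nRun D r mask perm cr car k s0 P N C = true) (j : ℕ)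
    (hj : j < k) :
    nStep D r mask perm cr car (s0 + j) (P.getD j 0) (N.getD j 0) (C.getD j #[]).toList = true := by
  induction k generalizing s0 P N C j with
  | zero => omega
  | succ k ih =>
    simp only [nRun, Bool.and_eq_true] at h
    cases j with
    | zero =>
      have := h.1
      have e1 : P.headD 0 = P.getD 0 0 := by cases P <;> simp
      have e3 : N.headD 0 = N.getD 0 0 := by cases N <;> simp
      have e2 : C.headD #[] = C.getD 0 #[] := by cases C <;> simp
      rw [e1, e2, e3] at this
      simpa using this
    | succ j =>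
      have := ih (s0 + 1) P.tail N.tail C.tail h.2 j (by omega)
      have e1 : P.tail.getD j 0 = P.getD (j + 1) 0 := by cases P <;> simp
      have e3 : N.tail.getD j 0 = N.getD (j + 1) 0 := by cases N <;> simp
      have e2 : C.tail.getD j #[] = C.getD (j + 1) #[] := by cases C <;> simp
      have e : s0 + 1 + j = s0 + (j + 1) := by omega
      rwa [e1, e2, e3, e] at this

/-- the block of columns `e_lo, …, e_{lo+len-1}` of `n_r` -/
def nBlkR (D : ChevalleyDatum) (r mask : ℕ) (perm : List ℕ) (lo len : ℕ) : Bool :=
  nRun D r mask perm (D.coroot.getD r #[]).toList (carCol D r) len lo (perm.drop lo)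
    (D.negIdx.toList.drop lo) (D.coroot.toList.drop lo)

/-- the property of the tables at the pair `(r, s)` which the tests establish -/
structure NAt (D : ChevalleyDatum) (r mask : ℕ) (perm : List ℕ) (s : ℕ) : Prop where
  col : colEq D (nW D r) (.inr s) [(.inr (perm.getD s 0), pconst (sgn mask s))] = true
  lt : perm.getD s 0 < D.nroots
  invol : perm.getD (perm.getD s 0) 0 = s
  sign : sgn mask s * sgn mask (D.neg s) = 1
  cor : ∀ i < D.rank, cor D (perm.getD s 0) i = cor D s i - pairing D s r * cor D r i

theorem nAt_of_blk (D : ChevalleyDatum) (r mask : ℕ) (perm : List ℕ) (lo len : ℕ)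
    (h : nBlkR D r mask perm lo len = true) (s : ℕ) (h1 : lo ≤ s) (h2 : s < lo + len) :
    NAt D r mask perm s := by
  have h3 := nRun_spec D r mask perm _ _ _ _ _ _ _ h (s - lo) (by omega)
  have e : lo + (s - lo) = s := by omega
  have e1 : (perm.drop lo).getD (s - lo) 0 = perm.getD s 0 := by
    rw [List.getD_eq_getElem?_getD, List.getElem?_drop, ← List.getD_eq_getElem?_getD, e]
  have e3 : (D.negIdx.toList.drop lo).getD (s - lo) 0 = D.neg s := by
    rw [List.getD_eq_getElem?_getD, List.getElem?_drop, e]
    simp [ChevalleyDatum.neg, Array.getD_eq_getD_getElem?]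
  have e2 : (D.coroot.toList.drop lo).getD (s - lo) #[] = D.coroot.getD s #[] := by
    rw [List.getD_eq_getElem?_getD, List.getElem?_drop, e]
    simp [Array.getD_eq_getD_getElem?]
  rw [e, e1, e2, e3] at h3
  simp only [nStep, Bool.and_eq_true, decide_eq_true_eq, beq_iff_eq, List.all_eq_true,
    List.mem_range] at h3
  obtain ⟨⟨⟨⟨hc, hlt⟩, hinv⟩, hsg⟩, hcor⟩ := h3
  refine ⟨hc, hlt, hinv, hsg, ?_⟩
  intro i hi
  have := hcor i hi
  rw [dotR_carCol, toList_getD, toList_getD] at this
  exact this

/-- the statement proved for each root by the generated files -/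
structure NChkAt (D : ChevalleyDatum) (r mask : ℕ) (perm : List ℕ) : Prop where
  colL : ∀ j < D.rank, nAllL D r j = true
  at_ : ∀ s < D.nroots, NAt D r mask perm s

theorem nChkAt_of_blks (D : ChevalleyDatum) (r mask : ℕ) (perm : List ℕ) (b K : ℕ) (hb : 0 < b)
    (hK : D.nroots ≤ b * K) (hL : nBlkL D r = true)
    (h : ∀ k < K, nBlkR D r mask perm (b * k) b = true) : NChkAt D r mask perm := by
  refine ⟨fun j hj => List.all_eq_true.1 hL j (List.mem_range.2 hj), ?_⟩
  intro s hs
  have hk : s / b < K := by
    apply Nat.div_lt_of_lt_mul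
    omega
  apply nAt_of_blk D r mask perm (b * (s / b)) b (h _ hk) s
  · exact Nat.mul_div_le s b
  · have := Nat.lt_mul_div_succ s hb
    rw [Nat.mul_succ] at this
    exact this

end Cfsg.Agent.Helper6.ChevN
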