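import Mathlib
import Cfsg.Agent.Lib.Helper6.ChevNAll
import Cfsg.Agent.Lib.Lead.ChevCol

/-!
# Monomial matrices: the elements of `N` permute the root vectors up to scalars
-/

set_option autoImplicit false
set_option linter.unusedSectionVars false
set_option linter.unusedSimpArgs false
set_option linter.unusedVariables false

namespace Cfsg.Agent.Helper6.ChevN

open Cfsg Cfsg.Lie Cfsg.Agent.Lead.Chev Cfsg.Agent.Helper6.ChevT

variable {F : Type*} [Field F]

/-- the coroot `h_s = Σ_i c_i(s) h_{p_i}` as a vector -/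
def hvec (D : ChevalleyDatum) (s : ℕ) : D.Idx → F :=
  ((List.range D.rank).map fun i => ((cor D s i : ℤ) : F) • (bvec D (.inl i) : D.Idx → F)).sum

theorem mulVec_lsum (D : ChevalleyDatum) (A : Matrix D.Idx D.Idx F) (l : List (D.Idx → F)) :
    A.mulVec l.sum = (l.map fun v => A.mulVec v).sum := by
  induction l with
  | nil => simp
  | cons a l ih => simp [Matrix.mulVec_add, ih]

/-- a matrix permuting the root vectors up to scalars, and the coroots accordingly -/
def IsMono (D : ChevalleyDatum) (A : Matrix D.Idx D.Idx F) : Prop :=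
  ∃ π : ℕ → ℕ, (∀ s < D.nroots, π s < D.nroots) ∧
    (∀ s < D.nroots, ∃ a : F, A.mulVec (bvec D (.inr s)) = a • (bvec D (.inr (π s)) : D.Idx → F)) ∧
    (∀ s < D.nroots, A.mulVec (hvec D s) = (hvec D (π s) : D.Idx → F))

theorem IsMono.one (D : ChevalleyDatum) : IsMono D (1 : Matrix D.Idx D.Idx F) :=
  ⟨id, fun _ h => h, fun s _ => ⟨1, by simp⟩, fun s _ => by simp⟩

theorem IsMono.mul {D : ChevalleyDatum} {A B : Matrix D.Idx D.Idx F} (hA : IsMono D A)
    (hB : IsMono D B) : IsMono D (A * B) := by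
  obtain ⟨π, hπ, hAe, hAh⟩ := hA
  obtain ⟨σ, hσ, hBe, hBh⟩ := hB
  refine ⟨π ∘ σ, fun s hs => hπ _ (hσ s hs), ?_, ?_⟩
  · intro s hs
    obtain ⟨b, hb⟩ := hBe s hs
    obtain ⟨a, ha⟩ := hAe (σ s) (hσ s hs)
    refine ⟨b * a, ?_⟩
    rw [← Matrix.mulVec_mulVec, hb, Matrix.mulVec_smul, ha, smul_smul]
    rfl
  · intro s hs
    rw [← Matrix.mulVec_mulVec, hBh s hs, hAh _ (hσ s hs)]
    rfl

theorem bvec_inr_apply (D : ChevalleyDatum) (s : ℕ) (t : Fin D.nroots) :
    (bvec D (.inr s) : D.Idx → F) (Sum.inr t) = if s = t.val then 1 else 0 := by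
  simp [bvec, codeOf]

theorem bvec_inr_ne_zero (D : ChevalleyDatum) (s : ℕ) (hs : s < D.nroots) :
    (bvec D (.inr s) : D.Idx → F) ≠ 0 := by
  intro h
  have := congrFun h (Sum.inr ⟨s, hs⟩)
  rw [bvec_inr_apply] at this
  simp at this

theorem IsMono.inv {D : ChevalleyDatum} (g : GL D.Idx F)
    (hg : IsMono D (g : Matrix D.Idx D.Idx F)) :
    IsMono D ((g⁻¹ : GL D.Idx F) : Matrix D.Idx D.Idx F) := by
  obtain ⟨π, hπ, he, hh⟩ := hg
  have hinvmul : ∀ v : D.Idx → F,
      ((g⁻¹ : GL D.Idx F) : Matrix D.Idx D.Idx F).mulVec ((g : Matrix D.Idx D.Idx F).mulVec v) = v := by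
    intro v
    rw [Matrix.mulVec_mulVec, ← Units.val_mul, inv_mul_cancel, Units.val_one, Matrix.one_mulVec]
  have hinj_g : ∀ v : D.Idx → F, (g : Matrix D.Idx D.Idx F).mulVec v = 0 → v = 0 := by
    intro v hv
    have := hinvmul v
    rw [hv, Matrix.mulVec_zero] at this
    exact this.symm
  -- the scalars are non-zero
  have hne : ∀ s (hs : s < D.nroots) (a : F),
      (g : Matrix D.Idx D.Idx F).mulVec (bvec D (.inr s)) = a • (bvec D (.inr (π s)) : D.Idx → F) →
        a ≠ 0 := by
    intro s hs a ha h0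
    rw [h0, zero_smul] at ha
    exact bvec_inr_ne_zero D s hs (hinj_g _ ha)
  -- `π` is injective on the roots
  have hinj : ∀ s < D.nroots, ∀ s' < D.nroots, π s = π s' → s = s' := by
    intro s hs s' hs' hp
    by_contra hne'
    obtain ⟨a, ha⟩ := he s hs
    obtain ⟨a', ha'⟩ := he s' hs'
    have h0 : (g : Matrix D.Idx D.Idx F).mulVec
        (a' • (bvec D (.inr s) : D.Idx → F) - a • (bvec D (.inr s') : D.Idx → F)) = 0 := by
      rw [Matrix.mulVec_sub, Matrix.mulVec_smul, Matrix.mulVec_smul, ha, ha', hp, smul_smul, smul_smul,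
        mul_comm, sub_self]
    have h1 := congrFun (hinj_g _ h0) (Sum.inr ⟨s, hs⟩)
    simp only [Pi.sub_apply, Pi.smul_apply, bvec_inr_apply, smul_eq_mul, Pi.zero_apply] at h1
    have hss : ¬ s' = s := fun h => hne' h.symm
    simp [hss] at h1
    exact hne s' hs' a' ha' h1
  -- hence surjective
  have hsurj : ∀ s' < D.nroots, ∃ s < D.nroots, π s = s' := by
    let f : Fin D.nroots → Fin D.nroots := fun s => ⟨π s, hπ s s.2⟩
    have hf : Function.Injective f := by
      intro s s' h
      apply Fin.ext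
      exact hinj s s.2 s' s'.2 (by simpa [f] using congrArg Fin.val h)
    have hs := Finite.injective_iff_surjective.1 hf
    intro s' hs'
    obtain ⟨s, hs2⟩ := hs ⟨s', hs'⟩
    exact ⟨s.val, s.2, by simpa [f] using congrArg Fin.val hs2⟩
  classical
  let σ : ℕ → ℕ := fun s' => if h : s' < D.nroots then Classical.choose (hsurj s' h) else 0
  have hσ : ∀ s' (h : s' < D.nroots), σ s' < D.nroots ∧ π (σ s') = s' := by
    intro s' h
    have := Classical.choose_spec (hsurj s' h)
    simp only [σ, dif_pos h]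
    exact this
  refine ⟨σ, fun s hs => (hσ s hs).1, ?_, ?_⟩
  · intro s' hs'
    obtain ⟨h1, h2⟩ := hσ s' hs'
    obtain ⟨a, ha⟩ := he (σ s') h1
    have hane := hne _ h1 a ha
    refine ⟨a⁻¹, ?_⟩
    have := hinvmul (bvec D (.inr (σ s')))
    rw [ha, Matrix.mulVec_smul, h2] at this
    rw [← this, smul_smul, inv_mul_cancel₀ hane, one_smul]
  · intro s' hs'
    obtain ⟨h1, h2⟩ := hσ s' hs'
    have := hinvmul (hvec D (σ s'))
    rw [hh _ h1, h2] at this
    exact this

/-- the subgroup of monomial matrices -/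
def monoSubgroup (D : ChevalleyDatum) (F : Type*) [Field F] : Subgroup (GL D.Idx F) where
  carrier := {g | IsMono D (g : Matrix D.Idx D.Idx F)}
  mul_mem' := fun ha hb => by
    show IsMono D _
    rw [Units.val_mul]
    exact IsMono.mul ha hb
  one_mem' := by
    show IsMono D _
    rw [Units.val_one]
    exact IsMono.one D
  inv_mem' := fun {g} hg => IsMono.inv g hg

theorem mulVec_hvec (D : ChevalleyDatum) (A : Matrix D.Idx D.Idx F) (s : ℕ) :
    A.mulVec (hvec D s) =
      ((List.range D.rank).map fun i => ((cor D s i : ℤ) : F) • A.mulVec (bvec D (.inl i))).sum := by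
  unfold hvec
  rw [mulVec_lsum, List.map_map]
  congr 1
  apply List.map_congr_left
  intro i _
  simp [Matrix.mulVec_smul]

theorem sum_sub_smul (D : ChevalleyDatum) (l : List ℕ) (f g : ℕ → ℤ) (b : ℤ) (v : ℕ → D.Idx → F) :
    (l.map fun i => ((f i - b * g i : ℤ) : F) • v i).sum =
      (l.map fun i => ((f i : ℤ) : F) • v i).sum - (b : F) • (l.map fun i => ((g i : ℤ) : F) • v i).sum := by
  induction l with
  | nil => simp
  | cons i l ih =>
    simp only [List.map_cons, List.sum_cons, ih]
    push_cast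
    module

theorem sum_neg_mul_smul (D : ChevalleyDatum) (l : List ℕ) (g : ℕ → ℤ) (a : ℤ) (v : ℕ → D.Idx → F) :
    (l.map fun i => ((-(a * g i) : ℤ) : F) • v i).sum =
      -((a : F) • (l.map fun i => ((g i : ℤ) : F) • v i).sum) := by
  induction l with
  | nil => simp
  | cons i l ih =>
    simp only [List.map_cons, List.sum_cons, ih]
    push_cast
    module

/-- a diagonal matrix scales the basis vectors -/
theorem diagonal_mulVec_bvec (D : ChevalleyDatum) (d : D.Idx → F) (idx : D.Idx) :
    (Matrix.diagonal d).mulVec (bvec D (codeOf D idx)) = d idx • (bvec D (codeOf D idx) : D.Idx → F) := by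
  rw [bvec_codeOf]
  funext j
  simp only [Matrix.mulVec, dotProduct, Matrix.diagonal_apply, Pi.single_apply, Pi.smul_apply, smul_eq_mul]
  by_cases h : j = idx
  · subst h
    simp
  · have h' : ¬ idx = j := fun e => h e.symm
    simp [h, h']

/-- a diagonal matrix with entries `1` at the `h`'s is monomial -/
theorem isMono_diagonal (D : ChevalleyDatum) (d : Fin D.nroots → F) :
    IsMono D (Matrix.diagonal (Sum.elim (fun _ => (1 : F)) d)) := by
  refine ⟨id, fun _ h => h, ?_, ?_⟩
  · intro s hs
    have e : (Sum.inr s : Code) = codeOf D (Sum.inr ⟨s, hs⟩) := rfl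
    exact ⟨_, by rw [e, diagonal_mulVec_bvec]; rfl⟩
  · intro s hs
    rw [mulVec_hvec]
    unfold hvec
    congr 1
    apply List.map_congr_left
    intro i hi
    have hi' := List.mem_range.1 hi
    have e : (Sum.inl i : Code) = codeOf D (Sum.inl ⟨i, hi'⟩) := rfl
    rw [e, diagonal_mulVec_bvec]
    simp

/-- hypothesis: every `h_r(t)` is diagonal with entries `1` at the `h`'s -/
def HDiagAll (F : Type*) [Field F] (D : ChevalleyDatum) : Prop :=
  ∀ r < D.nroots, ∀ t : F, t ≠ 0 →
    ∃ d : Fin D.nroots → F, D.hMat F r t = Matrix.diagonal (Sum.elim (fun _ => (1 : F)) d)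

/-- the columns of `n_r` at the root vectors -/
theorem nMat_mulVec_inr (D : ChevalleyDatum) (r mask : ℕ) (perm : List ℕ) (s : ℕ) (hs : s < D.nroots)
    (h : NAt D r mask perm s) :
    (D.nMat F r 1).mulVec (bvec D (.inr s)) =
      ((sgn mask s : ℤ) : F) • (bvec D (.inr (perm.getD s 0)) : D.Idx → F) := by
  let v : Val F := ⟨1, one_ne_zero, 0, 0⟩
  have hw : evalWord v (nW D r) = D.nWord r (1 : F) := evalWord_nW D v _
  have e : (Sum.inr s : Code) = codeOf D (Sum.inr ⟨s, hs⟩) := rfl
  have hcol := h.col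
  rw [e] at hcol
  have := mulVec_of_colEq D v _ _ _ hcol
  rw [hw] at this
  unfold ChevalleyDatum.nMat
  rw [e, bvec_codeOf, this, evalV_singleton, evalP_pconst]

/-- the columns of `n_r` at the `h`'s -/
theorem nMat_mulVec_inl (D : ChevalleyDatum) (r : ℕ) (j : ℕ) (hj : j < D.rank)
    (h : nAllL D r j = true) :
    (D.nMat F r 1).mulVec (bvec D (.inl j)) =
      (bvec D (.inl j) : D.Idx → F) - ((D.cartan j r : ℤ) : F) • hvec D r := by
  let v : Val F := ⟨1, one_ne_zero, 0, 0⟩
  have hw : evalWord v (nW D r) = D.nWord r (1 : F) := evalWord_nW D v _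
  have e : (Sum.inl j : Code) = codeOf D (Sum.inl ⟨j, hj⟩) := rfl
  rw [nAllL, e] at h
  have := mulVec_of_colEq D v _ _ _ h
  rw [hw] at this
  unfold ChevalleyDatum.nMat
  rw [e, bvec_codeOf, this, evalV_eq_sum, nExpL, List.map_cons, List.sum_cons, List.map_map]
  rw [evalP_pconst, Int.cast_one, one_smul, ← bvec_codeOf, ← e]
  show (bvec D (.inl j) : D.Idx → F) + _ = _
  have : ((List.range D.rank).map ((fun e : Code × LPoly => evalP v e.2 • (bvec D e.1 : D.Idx → F)) ∘
      fun i => ((Sum.inl i : Code), pconst (-(D.cartan j r * cor D r i))))).sum =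
      - (((D.cartan j r : ℤ) : F) • hvec D r) := by
    unfold hvec
    rw [← sum_neg_mul_smul]
    congr 1
    apply List.map_congr_left
    intro i _
    simp only [Function.comp, evalP_pconst]
  rw [this, sub_eq_add_neg]

/-- `n_r` is monomial -/
theorem isMono_nMat (D : ChevalleyDatum) (r mask : ℕ) (perm : List ℕ) (h : NChkAt D r mask perm) :
    IsMono D (D.nMat F r 1) := by
  refine ⟨fun s => perm.getD s 0, fun s hs => (h.at_ s hs).lt, ?_, ?_⟩
  · intro s hs
    exact ⟨_, nMat_mulVec_inr D r mask perm s hs (h.at_ s hs)⟩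
  · intro s hs
    rw [mulVec_hvec]
    have e1 : ((List.range D.rank).map fun i =>
        ((cor D s i : ℤ) : F) • (D.nMat F r 1).mulVec (bvec D (.inl i))) =
        (List.range D.rank).map fun i => ((cor D s i : ℤ) : F) •
          ((bvec D (.inl i) : D.Idx → F) - ((D.cartan i r : ℤ) : F) • hvec D r) := by
      apply List.map_congr_left
      intro i hi
      rw [nMat_mulVec_inl D r i (List.mem_range.1 hi) (h.colL i (List.mem_range.1 hi))]
    rw [e1]
    have e2 : (hvec D (perm.getD s 0) : D.Idx → F) =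
        ((List.range D.rank).map fun i =>
          ((cor D s i - pairing D s r * cor D r i : ℤ) : F) • (bvec D (.inl i) : D.Idx → F)).sum := by
      unfold hvec
      congr 1
      apply List.map_congr_left
      intro i hi
      rw [(h.at_ s hs).cor i (List.mem_range.1 hi)]
    rw [e2, sum_sub_smul]
    -- the left-hand side
    have e3 : ∀ l : List ℕ, (l.map fun i => ((cor D s i : ℤ) : F) •
          ((bvec D (.inl i) : D.Idx → F) - ((D.cartan i r : ℤ) : F) • hvec D r)).sum =
        (l.map fun i => ((cor D s i : ℤ) : F) • (bvec D (.inl i) : D.Idx → F)).sum -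
          (((l.map fun i => cor D s i * D.cartan i r).sum : ℤ) : F) • (hvec D r : D.Idx → F) := by
      intro l
      induction l with
      | nil => simp
      | cons i l ih =>
        simp only [List.map_cons, List.sum_cons, ih]
        push_cast
        module
    rw [e3]
    rfl

end Cfsg.Agent.Helper6.ChevN
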