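import Mathlib
import Cfsg.Agent.Lib.Helper6.ChevMono

/-!
# Conjugating root elements by a signed permutation matrix

If a matrix `P` maps each root vector `e_v` to `±e_{π v}`, acts integrally on the `h`'s and maps the coroot
vectors accordingly, then `P x_s(t) = x_{π s}(ε_s t) P` as soon as the tables satisfy the conditions `ConjAt`.
-/

set_option autoImplicit false
set_option linter.unusedSectionVars false
set_option linter.unusedSimpArgs false
set_option linter.unusedVariables false

namespace Cfsg.Agent.Helper6.ChevC

open Cfsg Cfsg.Lie Cfsg.Agent.Lead.Chev Cfsg.Agent.Helper6.ChevT Cfsg.Agent.Helper6.ChevN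

variable {F : Type*} [Field F]

/-- data of a signed permutation of the root vectors with an integral action on the `h`'s:
`W i j` is the coefficient of `h_{p_i}` in the image of `h_{p_j}` -/
structure SP where
  π : ℕ → ℕ
  ε : ℕ → ℤ
  W : ℕ → ℕ → ℤ

/-- the matrix `P` acts according to the data -/
structure Acts (D : ChevalleyDatum) (P : Matrix D.Idx D.Idx F) (d : SP) : Prop where
  onE : ∀ v < D.nroots, P.mulVec (bvec D (.inr v)) = ((d.ε v : ℤ) : F) • (bvec D (.inr (d.π v)) : D.Idx → F)
  onH : ∀ j < D.rank, P.mulVec (bvec D (.inl j)) =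
    ((List.range D.rank).map fun i => ((d.W i j : ℤ) : F) • (bvec D (.inl i) : D.Idx → F)).sum
  onHv : ∀ s < D.nroots, P.mulVec (hvec D s) = (hvec D (d.π s) : D.Idx → F)

/-- the conditions on the tables at the root `s` -/
structure ConjAt (D : ChevalleyDatum) (d : SP) (s : ℕ) : Prop where
  hs : s < D.nroots
  hs' : d.π s < D.nroots
  hε : d.ε s = 1 ∨ d.ε s = -1
  car : ∀ j < D.rank,
    D.cartan j s = ((List.range D.rank).map fun i => d.W i j * D.cartan i (d.π s)).sum
  negLt : D.neg s < D.nroots
  negNe : D.neg s ≠ s
  negπ : d.π (D.neg s) = D.neg (d.π s)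
  negε : d.ε (D.neg s) = d.ε s
  neg'Ne : D.neg (d.π s) ≠ d.π s
  neg'Lt : D.neg (d.π s) < D.nroots
  chain : ∀ v < D.nroots, v ≠ s → v ≠ D.neg s →
    d.π v < D.nroots ∧ d.π v ≠ d.π s ∧ d.π v ≠ D.neg (d.π s) ∧
    (∀ x ∈ chainTerms D s v, x.1 < D.nroots) ∧
    (chainTerms D s v).map (fun x => (d.π x.1, x.2.1, x.2.2 * d.ε x.1)) =
      (chainTerms D (d.π s) (d.π v)).map (fun x => (x.1, x.2.1, d.ε v * x.2.2 * d.ε s ^ x.2.1))

/-- the vector `Σ M t^k e_w` of a list of terms `(w, k, M)` -/
def termSum (D : ChevalleyDatum) (t : F) (L : List (ℕ × ℕ × ℤ)) : D.Idx → F :=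
  (L.map fun y => (((y.2.2 : ℤ) : F) * t ^ y.2.1) • (bvec D (.inr y.1) : D.Idx → F)).sum

theorem conj_x (D : ChevalleyDatum) (P : Matrix D.Idx D.Idx F) (d : SP) (hP : Acts D P d) (s : ℕ)
    (h : ConjAt D d s) (t : F) :
    P * D.x F s t = D.x F (d.π s) (((d.ε s : ℤ) : F) * t) * P := by
  have hεsq : ((d.ε s : ℤ) : F) * ((d.ε s : ℤ) : F) = 1 := by
    rcases h.hε with e | e <;> rw [e] <;> simp
  apply mat_eq_of_cols
  intro idx
  rw [← Matrix.mulVec_mulVec, ← Matrix.mulVec_mulVec, ← bvec_codeOf]
  rcases idx with j | v
  · -- the column `h_j`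
    have e : codeOf D (Sum.inl j) = (Sum.inl j.val : Code) := rfl
    rw [e, x_mulVec_bvec_inl D s h.hs t j.val j.2, Matrix.mulVec_sub, Matrix.mulVec_smul,
      hP.onE s h.hs, hP.onH j.val j.2, Lead.Chev.mulVec_list_sum]
    have e2 : ((List.range D.rank).map fun i => (D.x F (d.π s) (((d.ε s : ℤ) : F) * t)).mulVec
        (((d.W i j.val : ℤ) : F) • (bvec D (.inl i) : D.Idx → F))) =
        (List.range D.rank).map fun i => ((d.W i j.val : ℤ) : F) •
          ((bvec D (.inl i) : D.Idx → F) - ((((D.cartan i (d.π s) : ℤ) : F)) * (((d.ε s : ℤ) : F) * t)) •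
            bvec D (.inr (d.π s))) := by
      apply List.map_congr_left
      intro i hi
      rw [Matrix.mulVec_smul, x_mulVec_bvec_inl D _ h.hs' _ i (List.mem_range.1 hi)]
      rfl
    rw [e2]
    have e3 : ∀ l : List ℕ, (l.map fun i => ((d.W i j.val : ℤ) : F) •
          ((bvec D (.inl i) : D.Idx → F) - ((((D.cartan i (d.π s) : ℤ) : F)) * (((d.ε s : ℤ) : F) * t)) •
            bvec D (.inr (d.π s)))).sum =
        (l.map fun i => ((d.W i j.val : ℤ) : F) • (bvec D (.inl i) : D.Idx → F)).sum -
          ((((l.map fun i => d.W i j.val * D.cartan i (d.π s)).sum : ℤ) : F) * (((d.ε s : ℤ) : F) * t)) •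
            (bvec D (.inr (d.π s)) : D.Idx → F) := by
      intro l
      induction l with
      | nil => simp
      | cons i l ih =>
        simp only [List.map_cons, List.sum_cons, ih]
        push_cast
        module
    rw [e3, ← h.car j.val j.2]
    have : (D.cartanSR.getD j.val #[]).getD s 0 = D.cartan j.val s := rfl
    rw [this]
    module
  · by_cases hvs : v.val = s
    · -- the column `e_s`
      have e : codeOf D (Sum.inr v) = (Sum.inr s : Code) := by rw [← hvs]; rfl
      rw [e, x_mulVec_bvec_self D s h.hs, hP.onE s h.hs, Matrix.mulVec_smul,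
        x_mulVec_bvec_self D _ h.hs']
    · by_cases hvn : v.val = D.neg s
      · -- the column `e_{-s}`
        have e : codeOf D (Sum.inr v) = (Sum.inr (D.neg s) : Code) := by rw [← hvn]; rfl
        rw [e, x_mulVec_bvec_neg D s h.hs t (D.neg s) h.negLt h.negNe rfl]
        have hv1 : ((List.range D.rank).map fun i =>
            ((((D.coroot.getD s #[]).getD i 0 : ℤ) : F) * t) • (bvec D (.inl i) : D.Idx → F)).sum =
            t • (hvec D s : D.Idx → F) := by
          unfold hvec
          rw [List.smul_sum, List.map_map]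
          congr 1
          apply List.map_congr_left
          intro i _
          simp only [Function.comp, cor]
          module
        have hv2 : ((List.range D.rank).map fun i =>
            ((((D.coroot.getD (d.π s) #[]).getD i 0 : ℤ) : F) * (((d.ε s : ℤ) : F) * t)) •
              (bvec D (.inl i) : D.Idx → F)).sum =
            (((d.ε s : ℤ) : F) * t) • (hvec D (d.π s) : D.Idx → F) := by
          unfold hvec
          rw [List.smul_sum, List.map_map]
          congr 1
          apply List.map_congr_left
          intro i _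
          simp only [Function.comp, cor]
          module
        rw [hv1, Matrix.mulVec_add, Matrix.mulVec_sub, Matrix.mulVec_smul, Matrix.mulVec_smul,
          hP.onE _ h.negLt, hP.onE s h.hs, hP.onHv s h.hs, h.negπ, h.negε, Matrix.mulVec_smul,
          x_mulVec_bvec_neg D _ h.hs' _ (D.neg (d.π s)) h.neg'Lt h.neg'Ne rfl, hv2]
        have : (((d.ε s : ℤ) : F) * t) ^ 2 = t ^ 2 := by
          rw [mul_pow, pow_two (((d.ε s : ℤ) : F)), hεsq, one_mul]
        rw [this]
        rcases h.hε with e1 | e1 <;> rw [e1] <;> push_cast <;> module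
      · -- the other columns
        have hv := v.2
        obtain ⟨hπv, hne1, hne2, hlt, hlist⟩ := h.chain v.val hv hvs hvn
        have e : codeOf D (Sum.inr v) = (Sum.inr v.val : Code) := rfl
        rw [e, x_mulVec_bvec_chain D s h.hs t v.val hv hvs hvn, Matrix.mulVec_add, hP.onE _ hv,
          Matrix.mulVec_smul, x_mulVec_bvec_chain D _ h.hs' _ (d.π v.val) hπv hne1 hne2, smul_add]
        congr 1
        -- left-hand side
        have hL : P.mulVec ((chainTerms D s v.val).map fun x =>
            (((x.2.2 : ℤ) : F) * t ^ x.2.1) • (bvec D (.inr x.1) : D.Idx → F)).sum =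
            termSum D t ((chainTerms D s v.val).map
              (fun x => (d.π x.1, x.2.1, x.2.2 * d.ε x.1))) := by
          rw [Lead.Chev.mulVec_list_sum, termSum, List.map_map]
          congr 1
          apply List.map_congr_left
          intro x hx
          simp only [Function.comp]
          rw [Matrix.mulVec_smul, hP.onE _ (hlt x hx)]
          push_cast
          module
        have hR : ((d.ε v.val : ℤ) : F) • ((chainTerms D (d.π s) (d.π v.val)).map fun x =>
            (((x.2.2 : ℤ) : F) * (((d.ε s : ℤ) : F) * t) ^ x.2.1) •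
              (bvec D (.inr x.1) : D.Idx → F)).sum =
            termSum D t ((chainTerms D (d.π s) (d.π v.val)).map
              (fun x => (x.1, x.2.1, d.ε v.val * x.2.2 * d.ε s ^ x.2.1))) := by
          rw [List.smul_sum, termSum, List.map_map, List.map_map]
          congr 1
          apply List.map_congr_left
          intro x _
          simp only [Function.comp]
          push_cast
          rw [mul_pow]
          module
        rw [hL, hR, hlist]

end Cfsg.Agent.Helper6.ChevC
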