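import Mathlib
import Cfsg.Agent.Lib.Helper6.ChevConj

/-!
# A Boolean test for the conditions `ConjAt`
-/

set_option autoImplicit false
set_option linter.unusedSectionVars false
set_option linter.unusedSimpArgs false
set_option linter.unusedVariables false

namespace Cfsg.Agent.Helper6.ChevC

open Cfsg Cfsg.Lie Cfsg.Agent.Lead.Chev Cfsg.Agent.Helper6.ChevT Cfsg.Agent.Helper6.ChevN

/-- the test at the pair `(s, v)` -/
def conjOkAt (D : ChevalleyDatum) (d : SP) (s v : ℕ) : Bool :=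
  decide (v = s) || decide (v = D.neg s) ||
    (decide (d.π v < D.nroots) && decide (d.π v ≠ d.π s) && decide (d.π v ≠ D.neg (d.π s)) &&
      (chainTerms D s v).all (fun x => decide (x.1 < D.nroots)) &&
      decide ((chainTerms D s v).map (fun x => (d.π x.1, x.2.1, x.2.2 * d.ε x.1)) =
        (chainTerms D (d.π s) (d.π v)).map (fun x => (x.1, x.2.1, d.ε v * x.2.2 * d.ε s ^ x.2.1))))

/-- the test at the root `s` -/
def conjOk (D : ChevalleyDatum) (d : SP) (s : ℕ) : Bool :=
  decide (s < D.nroots) && decide (d.π s < D.nroots) &&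
    (List.range D.rank).all (fun j => decide (D.cartan j s =
      ((List.range D.rank).map fun i => d.W i j * D.cartan i (d.π s)).sum)) &&
    decide (D.neg s < D.nroots) && decide (D.neg s ≠ s) && decide (d.π (D.neg s) = D.neg (d.π s)) &&
    decide (d.ε (D.neg s) = d.ε s) && decide (D.neg (d.π s) ≠ d.π s) &&
    decide (D.neg (d.π s) < D.nroots) &&
    (List.range D.nroots).all (conjOkAt D d s)

theorem conjAt_of_ok (D : ChevalleyDatum) (d : SP) (s : ℕ) (hε : d.ε s = 1 ∨ d.ε s = -1)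
    (h : conjOk D d s = true) : ConjAt D d s := by
  simp only [conjOk, Bool.and_eq_true, decide_eq_true_eq, List.all_eq_true, List.mem_range] at h
  obtain ⟨⟨⟨⟨⟨⟨⟨⟨⟨h1, h2⟩, h3⟩, h4⟩, h5⟩, h6⟩, h7⟩, h8⟩, h9⟩, h10⟩ := h
  refine ⟨h1, h2, hε, h3, h4, h5, h6, h7, h8, h9, ?_⟩
  intro v hv hvs hvn
  have := h10 v hv
  simp only [conjOkAt, Bool.or_eq_true, Bool.and_eq_true, decide_eq_true_eq, List.all_eq_true, hvs, hvn,
    false_or] at this
  obtain ⟨⟨⟨⟨a1, a2⟩, a3⟩, a4⟩, a5⟩ := this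
  exact ⟨a1, a2, a3, a4, a5⟩

end Cfsg.Agent.Helper6.ChevC
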