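import Mathlib
import Cfsg.Agent.Lib.Helper6.ChevConjChk

/-!
# Graph automorphisms as conjugation by a signed permutation matrix
-/

set_option autoImplicit false
set_option linter.unusedSectionVars false
set_option linter.unusedSimpArgs false
set_option linter.unusedVariables false

namespace Cfsg.Agent.Helper6.ChevC

open Cfsg Cfsg.Lie Cfsg.Agent.Lead.Chev Cfsg.Agent.Helper6.ChevT Cfsg.Agent.Helper6.ChevN

variable {F : Type*} [Field F]

/-- data of a signed permutation matrix: permutation `π` of the roots with signs `ε`, permutation `ρ` of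
the fundamental coroots -/
structure GP where
  π : ℕ → ℕ
  ε : ℕ → ℤ
  ρ : ℕ → ℕ

/-- the associated conjugation data -/
def GP.sp (d : GP) : SP := ⟨d.π, d.ε, fun i j => if i = d.ρ j then 1 else 0⟩

/-- the signed permutation matrix -/
def spMat (D : ChevalleyDatum) (F : Type*) [Field F] (d : GP) : Matrix D.Idx D.Idx F :=
  Matrix.of fun row col =>
    match codeOf D col with
    | .inl j => if (Sum.inl (d.ρ j) : Code) = codeOf D row then 1 else 0
    | .inr v => if (Sum.inr (d.π v) : Code) = codeOf D row then ((d.ε v : ℤ) : F) else 0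

theorem mulVec_bvec_codeOf (D : ChevalleyDatum) (A : Matrix D.Idx D.Idx F) (col : D.Idx) :
    A.mulVec (bvec D (codeOf D col)) = fun row => A row col := by
  rw [bvec_codeOf]
  funext row
  simp [Matrix.mulVec, dotProduct, Pi.single_apply]

theorem spMat_mulVec_inr (D : ChevalleyDatum) (d : GP) (v : ℕ) (hv : v < D.nroots) :
    (spMat D F d).mulVec (bvec D (.inr v)) = ((d.ε v : ℤ) : F) • (bvec D (.inr (d.π v)) : D.Idx → F) := by
  have e : (Sum.inr v : Code) = codeOf D (Sum.inr ⟨v, hv⟩) := rfl
  rw [e, mulVec_bvec_codeOf]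
  funext row
  simp only [spMat, Matrix.of_apply, ← e, Pi.smul_apply, bvec, smul_eq_mul]
  split_ifs <;> simp

theorem spMat_mulVec_inl (D : ChevalleyDatum) (d : GP) (j : ℕ) (hj : j < D.rank) :
    (spMat D F d).mulVec (bvec D (.inl j)) = (bvec D (.inl (d.ρ j)) : D.Idx → F) := by
  have e : (Sum.inl j : Code) = codeOf D (Sum.inl ⟨j, hj⟩) := rfl
  rw [e, mulVec_bvec_codeOf]
  funext row
  simp only [spMat, Matrix.of_apply, ← e, bvec]

theorem sum_indicator' (D : ChevalleyDatum) (n i : ℕ) (hi : i < n) (v : ℕ → D.Idx → F) :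
    ((List.range n).map fun j => (((if j = i then 1 else 0 : ℤ) : ℤ) : F) • v j).sum = v i := by
  induction n with
  | zero => omega
  | succ n ih =>
    rw [List.range_succ, List.map_append, List.sum_append]
    by_cases h : i < n
    · rw [ih h]
      have : n ≠ i := by omega
      simp [this]
    · have hin : i = n := by omega
      subst hin
      have : ((List.range i).map fun j => (((if j = i then 1 else 0 : ℤ) : ℤ) : F) • v j).sum = 0 := by
        apply List.sum_eq_zero
        intro x hx
        obtain ⟨j, hj, rfl⟩ := List.mem_map.1 hx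
        have : j ≠ i := by
          have := List.mem_range.1 hj
          omega
        simp [this]
      rw [this]
      simp

/-- table conditions making `spMat` act on the coroot vectors as required -/
structure GPOk (D : ChevalleyDatum) (d : GP) : Prop where
  ρlt : ∀ j < D.rank, d.ρ j < D.rank
  ρperm : ((List.range D.rank).map d.ρ).Perm (List.range D.rank)
  cor : ∀ s < D.nroots, ∀ j < D.rank, cor D (d.π s) (d.ρ j) = cor D s j

theorem spMat_acts (D : ChevalleyDatum) (d : GP) (h : GPOk D d) : Acts D (spMat D F d) d.sp := by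
  refine ⟨fun v hv => spMat_mulVec_inr D d v hv, ?_, ?_⟩
  · intro j hj
    rw [spMat_mulVec_inl D d j hj]
    exact (sum_indicator' (F := F) D D.rank (d.ρ j) (h.ρlt j hj) (fun i => bvec D (.inl i))).symm
  · intro s hs
    rw [mulVec_hvec]
    have e1 : ((List.range D.rank).map fun i =>
        ((cor D s i : ℤ) : F) • (spMat D F d).mulVec (bvec D (.inl i))) =
        ((List.range D.rank).map d.ρ).map fun i =>
          ((cor D (d.π s) i : ℤ) : F) • (bvec D (.inl i) : D.Idx → F) := by
      rw [List.map_map]
      apply List.map_congr_left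
      intro i hi
      have hi' := List.mem_range.1 hi
      simp only [Function.comp]
      rw [spMat_mulVec_inl D d i hi', h.cor s hs i hi']
    rw [e1]
    unfold hvec
    exact (h.ρperm.map _).sum_eq

/-- table conditions for two data to be inverse to each other -/
structure GPInv (D : ChevalleyDatum) (d e : GP) : Prop where
  πlt : ∀ v < D.nroots, e.π v < D.nroots
  ππ : ∀ v < D.nroots, d.π (e.π v) = v
  εε : ∀ v < D.nroots, e.ε v * d.ε (e.π v) = 1
  ρlt : ∀ j < D.rank, e.ρ j < D.rank
  ρρ : ∀ j < D.rank, d.ρ (e.ρ j) = j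

theorem spMat_mul_spMat (D : ChevalleyDatum) (d e : GP) (h : GPInv D d e) :
    spMat D F d * spMat D F e = 1 := by
  apply mat_eq_of_cols
  intro idx
  rw [← Matrix.mulVec_mulVec, Matrix.one_mulVec, ← bvec_codeOf]
  rcases idx with j | v
  · have e1 : codeOf D (Sum.inl j) = (Sum.inl j.val : Code) := rfl
    rw [e1, spMat_mulVec_inl D e _ j.2, spMat_mulVec_inl D d _ (h.ρlt _ j.2), h.ρρ _ j.2]
  · have e1 : codeOf D (Sum.inr v) = (Sum.inr v.val : Code) := rfl
    rw [e1, spMat_mulVec_inr D e _ v.2, Matrix.mulVec_smul, spMat_mulVec_inr D d _ (h.πlt _ v.2),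
      h.ππ _ v.2, smul_smul, ← Int.cast_mul, h.εε _ v.2, Int.cast_one, one_smul]

/-- the signed permutation matrix as a unit -/
def spU (D : ChevalleyDatum) (F : Type*) [Field F] (d e : GP) (h1 : GPInv D d e) (h2 : GPInv D e d) :
    GL D.Idx F where
  val := spMat D F d
  inv := spMat D F e
  val_inv := spMat_mul_spMat D d e h1
  inv_val := spMat_mul_spMat D e d h2

end Cfsg.Agent.Helper6.ChevC
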