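import Mathlib
import Cfsg.Agent.Lib.Helper6.ChevGraph

/-!
# The graph automorphism of the Chevalley group induced by a signed permutation matrix
-/

set_option autoImplicit false
set_option linter.unusedSectionVars false
set_option linter.unusedSimpArgs false
set_option linter.unusedVariables false

namespace Cfsg.Agent.Helper6.ChevC

open Cfsg Cfsg.Lie Cfsg.Agent.Lead.Chev Cfsg.Agent.Helper6.ChevT Cfsg.Agent.Helper6.ChevN

variable {F : Type*} [Field F]

/-- all the conditions on the data of a graph automorphism -/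
structure GraphData (D : ChevalleyDatum) (d e : GP) : Prop where
  ok : GPOk D d
  inv1 : GPInv D d e
  inv2 : GPInv D e d
  hε : ∀ v, d.ε v = 1 ∨ d.ε v = -1
  conj : ∀ s < D.nroots, conjOk D d.sp s = true

theorem x_eq_xMat (D : ChevalleyDatum) (r : ℕ) (hr : r < D.nroots) (t : F) :
    D.x F r t = D.xMat F ⟨r, hr⟩ t := by
  unfold ChevalleyDatum.x
  rw [dif_pos hr]

section

variable (D : ChevalleyDatum) (d e : GP) (h : GraphData D d e)
include h

theorem sp_conj (s : ℕ) (hs : s < D.nroots) (t : F) :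
    spMat D F d * D.x F s t * spMat D F e = D.x F (d.π s) (((d.ε s : ℤ) : F) * t) := by
  have hc := conj_x D (spMat D F d) d.sp (spMat_acts D d h.ok) s
    (conjAt_of_ok D d.sp s (h.hε s) (h.conj s hs)) t
  rw [hc, mul_assoc, spMat_mul_spMat D d e h.inv1, mul_one]
  rfl

theorem sp_conj_inv (r : ℕ) (hr : r < D.nroots) (t : F) :
    spMat D F e * D.x F r t * spMat D F d = D.x F (e.π r) (((d.ε (e.π r) : ℤ) : F) * t) := by
  have hs := h.inv1.πlt r hr
  have hc := conj_x D (spMat D F d) d.sp (spMat_acts D d h.ok) (e.π r)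
    (conjAt_of_ok D d.sp _ (h.hε _) (h.conj _ hs)) (((d.ε (e.π r) : ℤ) : F) * t)
  have hπ : d.sp.π (e.π r) = r := h.inv1.ππ r hr
  have hεsq : ((d.ε (e.π r) : ℤ) : F) * (((d.ε (e.π r) : ℤ) : F) * t) = t := by
    rcases h.hε (e.π r) with e1 | e1 <;> rw [e1] <;> simp
  have hc' : spMat D F d * D.x F (e.π r) (((d.ε (e.π r) : ℤ) : F) * t) = D.x F r t * spMat D F d := by
    rw [hc, hπ]
    show D.x F r (((d.ε (e.π r) : ℤ) : F) * (((d.ε (e.π r) : ℤ) : F) * t)) * _ = _
    rw [hεsq]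
  rw [mul_assoc, ← hc', ← mul_assoc, spMat_mul_spMat D e d h.inv2, one_mul]

theorem conj_mem_group (g : GL D.Idx F) (hg : g ∈ D.group F) :
    spU D F d e h.inv1 h.inv2 * g * (spU D F d e h.inv1 h.inv2)⁻¹ ∈ D.group F := by
  unfold ChevalleyDatum.group at hg
  induction hg using Subgroup.closure_induction with
  | mem x hx =>
    obtain ⟨r, t, hx⟩ := hx
    apply Subgroup.subset_closure
    have hlt : d.π r.val < D.nroots :=
      (conjAt_of_ok D d.sp r.val (h.hε _) (h.conj _ r.2)).hs'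
    refine ⟨⟨d.π r.val, hlt⟩, ((d.ε r.val : ℤ) : F) * t, ?_⟩
    rw [← x_eq_xMat D _ hlt, ← sp_conj D d e h r.val r.2 t, x_eq_xMat D r.val r.2, ← hx]
    rfl
  | one =>
    rw [mul_one, mul_inv_cancel]
    exact one_mem _
  | mul x y _ _ hx hy =>
    have : spU D F d e h.inv1 h.inv2 * (x * y) * (spU D F d e h.inv1 h.inv2)⁻¹ =
        (spU D F d e h.inv1 h.inv2 * x * (spU D F d e h.inv1 h.inv2)⁻¹) *
          (spU D F d e h.inv1 h.inv2 * y * (spU D F d e h.inv1 h.inv2)⁻¹) := by group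
    rw [this]
    exact mul_mem hx hy
  | inv x _ hx =>
    have : spU D F d e h.inv1 h.inv2 * x⁻¹ * (spU D F d e h.inv1 h.inv2)⁻¹ =
        (spU D F d e h.inv1 h.inv2 * x * (spU D F d e h.inv1 h.inv2)⁻¹)⁻¹ := by group
    rw [this]
    exact inv_mem hx

theorem conj_inv_mem_group (g : GL D.Idx F) (hg : g ∈ D.group F) :
    (spU D F d e h.inv1 h.inv2)⁻¹ * g * spU D F d e h.inv1 h.inv2 ∈ D.group F := by
  unfold ChevalleyDatum.group at hg
  induction hg using Subgroup.closure_induction with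
  | mem x hx =>
    obtain ⟨r, t, hx⟩ := hx
    apply Subgroup.subset_closure
    have hlt : e.π r.val < D.nroots := h.inv1.πlt _ r.2
    refine ⟨⟨e.π r.val, hlt⟩, ((d.ε (e.π r.val) : ℤ) : F) * t, ?_⟩
    rw [← x_eq_xMat D _ hlt, ← sp_conj_inv D d e h r.val r.2 t, x_eq_xMat D r.val r.2, ← hx]
    rfl
  | one =>
    rw [mul_one, inv_mul_cancel]
    exact one_mem _
  | mul x y _ _ hx hy =>
    have : (spU D F d e h.inv1 h.inv2)⁻¹ * (x * y) * spU D F d e h.inv1 h.inv2 =
        ((spU D F d e h.inv1 h.inv2)⁻¹ * x * spU D F d e h.inv1 h.inv2) *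
          ((spU D F d e h.inv1 h.inv2)⁻¹ * y * spU D F d e h.inv1 h.inv2) := by group
    rw [this]
    exact mul_mem hx hy
  | inv x _ hx =>
    have : (spU D F d e h.inv1 h.inv2)⁻¹ * x⁻¹ * spU D F d e h.inv1 h.inv2 =
        ((spU D F d e h.inv1 h.inv2)⁻¹ * x * spU D F d e h.inv1 h.inv2)⁻¹ := by group
    rw [this]
    exact inv_mem hx

/-- the automorphism of the Chevalley group -/
noncomputable def graphAut : ↥(D.group F) ≃* ↥(D.group F) where
  toFun g := ⟨spU D F d e h.inv1 h.inv2 * g.val * (spU D F d e h.inv1 h.inv2)⁻¹,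
    conj_mem_group D d e h g.val g.2⟩
  invFun g := ⟨(spU D F d e h.inv1 h.inv2)⁻¹ * g.val * spU D F d e h.inv1 h.inv2,
    conj_inv_mem_group D d e h g.val g.2⟩
  left_inv g := by
    apply Subtype.ext
    show (spU D F d e h.inv1 h.inv2)⁻¹ * (spU D F d e h.inv1 h.inv2 * g.val *
      (spU D F d e h.inv1 h.inv2)⁻¹) * spU D F d e h.inv1 h.inv2 = g.val
    group
  right_inv g := by
    apply Subtype.ext
    show spU D F d e h.inv1 h.inv2 * ((spU D F d e h.inv1 h.inv2)⁻¹ * g.val *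
      spU D F d e h.inv1 h.inv2) * (spU D F d e h.inv1 h.inv2)⁻¹ = g.val
    group
  map_mul' a b := by
    apply Subtype.ext
    show spU D F d e h.inv1 h.inv2 * (a.val * b.val) * (spU D F d e h.inv1 h.inv2)⁻¹ =
      (spU D F d e h.inv1 h.inv2 * a.val * (spU D F d e h.inv1 h.inv2)⁻¹) *
        (spU D F d e h.inv1 h.inv2 * b.val * (spU D F d e h.inv1 h.inv2)⁻¹)
    group

theorem graphAut_apply (g : ↥(D.group F)) (s : ℕ) (hs : s < D.nroots) (t : F)
    (hg : ((g : GL D.Idx F) : Matrix D.Idx D.Idx F) = D.x F s t) :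
    ((graphAut D d e h g : GL D.Idx F) : Matrix D.Idx D.Idx F) =
      D.x F (d.π s) (((d.ε s : ℤ) : F) * t) := by
  show ((spU D F d e h.inv1 h.inv2 * g.val * (spU D F d e h.inv1 h.inv2)⁻¹ : GL D.Idx F) :
    Matrix D.Idx D.Idx F) = _
  rw [Units.val_mul, Units.val_mul, hg, ← sp_conj D d e h s hs t]
  rfl

end

end Cfsg.Agent.Helper6.ChevC
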