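import Mathlib
import Cfsg.Agent.Lib.Helper6.ChevGraphAut
import Cfsg.Prelude.Def_ChevE6

/-!
# Data of the graph automorphism of type E6, symmetry [5, 1, 4, 3, 2, 0]
-/

set_option autoImplicit false
set_option maxRecDepth 100000

namespace Cfsg.Agent.Helper6.ChevC.GE6

open Cfsg Cfsg.Lie Cfsg.Agent.Lead.Chev Cfsg.Agent.Helper6.ChevT Cfsg.Agent.Helper6.ChevN

/-- the permutation of the roots -/
def piL : List ℕ := [0, 1, 2, 5, 16, 3, 6, 17, 8, 19, 22, 11, 26, 30, 33, 35, 4, 7, 18, 9, 20, 23, 10, 21, 24, 25, 12, 27, 31, 34, 13, 28, 32, 14, 29, 15, 56, 42, 57, 39, 43, 58, 37, 40, 44, 59, 46, 47, 50, 61, 48, 51, 62, 53, 64, 67, 36, 38, 41, 45, 60, 49, 52, 63, 54, 65, 68, 55, 66, 69, 70, 71]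
/-- the inverse permutation of the roots -/
def piInvL : List ℕ := [0, 1, 2, 5, 16, 3, 6, 17, 8, 19, 22, 11, 26, 30, 33, 35, 4, 7, 18, 9, 20, 23, 10, 21, 24, 25, 12, 27, 31, 34, 13, 28, 32, 14, 29, 15, 56, 42, 57, 39, 43, 58, 37, 40, 44, 59, 46, 47, 50, 61, 48, 51, 62, 53, 64, 67, 36, 38, 41, 45, 60, 49, 52, 63, 54, 65, 68, 55, 66, 69, 70, 71]
/-- the symmetry of the diagram -/
def rhoL : List ℕ := [5, 1, 4, 3, 2, 0]
/-- the inverse symmetry of the diagram -/
def rhoInvL : List ℕ := [5, 1, 4, 3, 2, 0]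
/-- the signs -/
def mask : ℕ := 173717956742448109200
/-- the signs of the inverse -/
def maskInv : ℕ := 173717956742448109200

/-- the signed permutation -/
def gp : GP := ⟨fun v => piL.getD v 0, sgn mask, fun j => rhoL.getD j 0⟩
/-- the inverse signed permutation -/
def gpInv : GP := ⟨fun v => piInvL.getD v 0, sgn maskInv, fun j => rhoInvL.getD j 0⟩

theorem ok : GPOk chevE6 gp := by
  refine ⟨?_, ?_, ?_⟩
  · decide +kernel
  · decide +kernel
  · decide +kernel

theorem inv1 : GPInv chevE6 gp gpInv := by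
  refine ⟨?_, ?_, ?_, ?_, ?_⟩ <;> decide +kernel

theorem inv2 : GPInv chevE6 gpInv gp := by
  refine ⟨?_, ?_, ?_, ?_, ?_⟩ <;> decide +kernel

theorem conj : ∀ s < chevE6.nroots, conjOk chevE6 gp.sp s = true := by
  decide +kernel

theorem data : GraphData chevE6 gp gpInv :=
  ⟨ok, inv1, inv2, fun v => sgn_eq _ _, conj⟩

theorem simple_lt : ∀ i < chevE6.rank, chevE6.simple i < chevE6.nroots := by
  decide +kernel

theorem neg_simple_lt : ∀ i < chevE6.rank, chevE6.neg (chevE6.simple i) < chevE6.nroots := by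
  decide +kernel

theorem pi_simple : ∀ i < chevE6.rank, gp.π (chevE6.simple i) = chevE6.simple (rhoL.getD i 0) := by
  decide +kernel

theorem eps_simple : ∀ i < chevE6.rank, gp.ε (chevE6.simple i) = 1 := by
  decide +kernel

theorem pi_neg_simple : ∀ i < chevE6.rank, gp.π (chevE6.neg (chevE6.simple i)) =
    chevE6.neg (chevE6.simple (rhoL.getD i 0)) := by
  decide +kernel

theorem eps_neg_simple : ∀ i < chevE6.rank, gp.ε (chevE6.neg (chevE6.simple i)) = 1 := by
  decide +kernel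

end Cfsg.Agent.Helper6.ChevC.GE6
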