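import Mathlib

/-!
A homomorphism out of `SL₂(F)` from the rank-one relations.

If `X, Y : F → G` are additive, `n = X 1 * Y (-1) * X 1` conjugates `X u` to `Y (-u)`, and the elements
`h s = X s * Y (-s⁻¹) * X s * n⁻¹` are multiplicative in `s` and act on `X v` by `s ^ 2`, then there is a
homomorphism `SL₂(F) → G` with upper unitriangular matrices going to `X` and lower unitriangular ones to `Y`.
The map is defined by the Bruhat normal form and multiplicativity is checked on the generators.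
-/

set_option autoImplicit false
set_option linter.unusedSectionVars false

namespace Cfsg.Agent.Helper6.SL2Hom

open Matrix

variable {F : Type*} [Field F]

/-- the upper unitriangular element of `SL₂` -/
def xS (t : F) : SpecialLinearGroup (Fin 2) F := ⟨!![1, t; 0, 1], by simp [Matrix.det_fin_two]⟩

/-- the lower unitriangular element -/
def yS (t : F) : SpecialLinearGroup (Fin 2) F := ⟨!![1, 0; t, 1], by simp [Matrix.det_fin_two]⟩

/-- the Weyl element -/
def nS (F : Type*) [Field F] : SpecialLinearGroup (Fin 2) F := ⟨!![0, 1; -1, 0], by simp [Matrix.det_fin_two]⟩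

theorem xS_coe (t : F) :
    ((xS t : SpecialLinearGroup (Fin 2) F) : Matrix (Fin 2) (Fin 2) F) = !![1, t; 0, 1] := rfl

theorem yS_coe (t : F) :
    ((yS t : SpecialLinearGroup (Fin 2) F) : Matrix (Fin 2) (Fin 2) F) = !![1, 0; t, 1] := rfl

theorem nS_coe :
    ((nS F : SpecialLinearGroup (Fin 2) F) : Matrix (Fin 2) (Fin 2) F) = !![0, 1; -1, 0] := rfl

theorem det_eq (g : SpecialLinearGroup (Fin 2) F) : g 0 0 * g 1 1 - g 0 1 * g 1 0 = 1 := by
  have := g.det_coe
  rwa [Matrix.det_fin_two] at this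

theorem mul_xS_00 (g : SpecialLinearGroup (Fin 2) F) (v : F) : (g * xS v) 0 0 = g 0 0 := by
  simp [xS_coe, Matrix.mul_apply, Fin.sum_univ_two]

theorem mul_xS_01 (g : SpecialLinearGroup (Fin 2) F) (v : F) : (g * xS v) 0 1 = g 0 0 * v + g 0 1 := by
  simp [xS_coe, Matrix.mul_apply, Fin.sum_univ_two]

theorem mul_xS_10 (g : SpecialLinearGroup (Fin 2) F) (v : F) : (g * xS v) 1 0 = g 1 0 := by
  simp [xS_coe, Matrix.mul_apply, Fin.sum_univ_two]

theorem mul_xS_11 (g : SpecialLinearGroup (Fin 2) F) (v : F) : (g * xS v) 1 1 = g 1 0 * v + g 1 1 := by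
  simp [xS_coe, Matrix.mul_apply, Fin.sum_univ_two]

theorem mul_nS_00 (g : SpecialLinearGroup (Fin 2) F) : (g * nS F) 0 0 = - g 0 1 := by
  simp [nS_coe, Matrix.mul_apply, Fin.sum_univ_two]

theorem mul_nS_01 (g : SpecialLinearGroup (Fin 2) F) : (g * nS F) 0 1 = g 0 0 := by
  simp [nS_coe, Matrix.mul_apply, Fin.sum_univ_two]

theorem mul_nS_10 (g : SpecialLinearGroup (Fin 2) F) : (g * nS F) 1 0 = - g 1 1 := by
  simp [nS_coe, Matrix.mul_apply, Fin.sum_univ_two]

theorem mul_nS_11 (g : SpecialLinearGroup (Fin 2) F) : (g * nS F) 1 1 = g 1 0 := by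
  simp [nS_coe, Matrix.mul_apply, Fin.sum_univ_two]

/-- `y(t) = n x(-t) n³` -/
theorem yS_eq (t : F) : yS t = nS F * xS (-t) * nS F * nS F * nS F := by
  apply Matrix.SpecialLinearGroup.ext
  intro i j
  fin_cases i <;> fin_cases j <;>
    simp [xS_coe, yS_coe, nS_coe, Matrix.mul_apply, Fin.sum_univ_two]

theorem nS_pow_four : (nS F) * nS F * nS F * nS F = 1 := by
  apply Matrix.SpecialLinearGroup.ext
  intro i j
  fin_cases i <;> fin_cases j <;>
    simp [nS_coe, Matrix.mul_apply, Fin.sum_univ_two]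

/-- the factorization of an element with non-zero lower left entry -/
theorem eq_of_ne (g : SpecialLinearGroup (Fin 2) F) (hc : g 1 0 ≠ 0) :
    g = xS ((g 0 0 - 1) / g 1 0) * yS (g 1 0) * xS ((g 1 1 - 1) / g 1 0) := by
  have hd := det_eq g
  apply Matrix.SpecialLinearGroup.ext
  intro i j
  fin_cases i <;> fin_cases j
  · simp [xS_coe, yS_coe, Matrix.mul_apply, Fin.sum_univ_two]
    field_simp
    ring
  · simp [xS_coe, yS_coe, Matrix.mul_apply, Fin.sum_univ_two]
    field_simp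
    linear_combination (-1 : F) * hd
  · simp [xS_coe, yS_coe, Matrix.mul_apply, Fin.sum_univ_two]
  · simp [xS_coe, yS_coe, Matrix.mul_apply, Fin.sum_univ_two]
    field_simp
    ring

/-- `SL₂(F)` is generated, as a monoid, by the `x(t)` and `n` -/
theorem mem_closure (g : SpecialLinearGroup (Fin 2) F) :
    g ∈ Submonoid.closure (({nS F} : Set (SpecialLinearGroup (Fin 2) F)) ∪ Set.range xS) := by
  have hn : (nS F) ∈
      Submonoid.closure (({nS F} : Set (SpecialLinearGroup (Fin 2) F)) ∪ Set.range xS) :=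
    Submonoid.subset_closure (Or.inl rfl)
  have hx : ∀ t : F, xS t ∈
      Submonoid.closure (({nS F} : Set (SpecialLinearGroup (Fin 2) F)) ∪ Set.range xS) :=
    fun t => Submonoid.subset_closure (Or.inr ⟨t, rfl⟩)
  have hy : ∀ t : F, yS t ∈
      Submonoid.closure (({nS F} : Set (SpecialLinearGroup (Fin 2) F)) ∪ Set.range xS) := by
    intro t
    rw [yS_eq]
    exact mul_mem (mul_mem (mul_mem (mul_mem hn (hx _)) hn) hn) hn
  have key : ∀ g : SpecialLinearGroup (Fin 2) F, g 1 0 ≠ 0 → g ∈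
      Submonoid.closure (({nS F} : Set (SpecialLinearGroup (Fin 2) F)) ∪ Set.range xS) := by
    intro g hc
    rw [eq_of_ne g hc]
    exact mul_mem (mul_mem (hx _) (hy _)) (hx _)
  by_cases hc : g 1 0 = 0
  · have hd : g 1 1 ≠ 0 := by
      intro h
      have := det_eq g
      rw [hc, h] at this
      simp at this
    have h1 : (g * nS F) 1 0 ≠ 0 := by
      rw [mul_nS_10]
      exact neg_ne_zero.2 hd
    have h2 : g = g * nS F * nS F * nS F * nS F := by
      rw [mul_assoc, mul_assoc, mul_assoc, ← mul_assoc (nS F), ← mul_assoc (nS F * nS F), nS_pow_four, mul_one]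
    rw [h2]
    exact mul_mem (mul_mem (mul_mem (key _ h1) hn) hn) hn
  · exact key g hc

variable {G : Type*} [Group G]

/-- `n = x(1) y(-1) x(1)` -/
def nn (X Y : F → G) : G := X 1 * Y (-1) * X 1

/-- `h(s) = x(s) y(-s⁻¹) x(s) n⁻¹` -/
def hh (X Y : F → G) (s : F) : G := X s * Y (-s⁻¹) * X s * (nn X Y)⁻¹

/-- the rank-one relations -/
structure RankOne (X Y : F → G) : Prop where
  xadd : ∀ t u, X t * X u = X (t + u)
  yadd : ∀ t u, Y t * Y u = Y (t + u)
  nconj : ∀ u, nn X Y * X u * (nn X Y)⁻¹ = Y (-u)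
  hconj : ∀ s, s ≠ 0 → ∀ v, hh X Y s * X v * (hh X Y s)⁻¹ = X (s ^ 2 * v)
  hmul : ∀ s s', s ≠ 0 → s' ≠ 0 → hh X Y (s * s') = hh X Y s * hh X Y s'

namespace RankOne

variable {X Y : F → G} (h : RankOne X Y)
include h

theorem x_zero : X 0 = 1 := by
  have := h.xadd 0 0
  rw [add_zero] at this
  exact mul_left_cancel (this.trans (mul_one _).symm)

theorem y_zero : Y 0 = 1 := by
  have := h.yadd 0 0
  rw [add_zero] at this
  exact mul_left_cancel (this.trans (mul_one _).symm)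

theorem x_inv (t : F) : (X t)⁻¹ = X (-t) := by
  apply inv_eq_of_mul_eq_one_right
  rw [h.xadd, add_neg_cancel, h.x_zero]

theorem y_inv (t : F) : (Y t)⁻¹ = Y (-t) := by
  apply inv_eq_of_mul_eq_one_right
  rw [h.yadd, add_neg_cancel, h.y_zero]

theorem hh_one : hh X Y 1 = 1 := by
  unfold hh nn
  rw [inv_one, mul_inv_cancel]

theorem nn_inv : (nn X Y)⁻¹ = X (-1) * Y 1 * X (-1) := by
  unfold nn
  rw [_root_.mul_inv_rev, _root_.mul_inv_rev, h.x_inv, h.y_inv, neg_neg, mul_assoc]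

theorem hh_neg_one : hh X Y (-1) = (nn X Y)⁻¹ * (nn X Y)⁻¹ := by
  have e : -(-1 : F)⁻¹ = 1 := by
    rw [inv_neg, inv_one, neg_neg]
  unfold hh
  rw [e, ← h.nn_inv]

theorem nn_sq : nn X Y * nn X Y = hh X Y (-1) := by
  have h1 := h.hmul (-1) (-1) (by simp) (by simp)
  rw [neg_mul_neg, one_mul, h.hh_one, h.hh_neg_one] at h1
  rw [h.hh_neg_one]
  have h2 : nn X Y * nn X Y * 1 = nn X Y * nn X Y *
      ((nn X Y)⁻¹ * (nn X Y)⁻¹ * ((nn X Y)⁻¹ * (nn X Y)⁻¹)) := by rw [← h1]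
  rw [mul_one] at h2
  rw [h2]
  group

theorem h_x (s : F) (hs : s ≠ 0) (v : F) : hh X Y s * X v = X (s ^ 2 * v) * hh X Y s := by
  rw [← h.hconj s hs v, inv_mul_cancel_right]

theorem hneg_x (v : F) : hh X Y (-1) * X v = X v * hh X Y (-1) := by
  have := h.h_x (-1) (by simp) v
  rwa [neg_one_sq, one_mul] at this

theorem hneg_n : hh X Y (-1) * nn X Y = nn X Y * hh X Y (-1) := by
  rw [← h.nn_sq, mul_assoc]

/-- the key relation `n x(u) n = x(-u⁻¹) h(-u⁻¹) n x(-u⁻¹)` -/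
theorem key (u : F) (hu : u ≠ 0) :
    nn X Y * X u * nn X Y = X (-u⁻¹) * hh X Y (-u⁻¹) * nn X Y * X (-u⁻¹) := by
  have e1 : nn X Y * X u = Y (-u) * nn X Y := by
    rw [← h.nconj u, inv_mul_cancel_right]
  have e2 : hh X Y u⁻¹ * nn X Y = X u⁻¹ * Y (-u) * X u⁻¹ := by
    unfold hh
    rw [inv_inv, inv_mul_cancel_right]
  have e3 : Y (-u) = X (-u⁻¹) * hh X Y u⁻¹ * nn X Y * X (-u⁻¹) := by
    rw [mul_assoc (X (-u⁻¹)), e2, ← h.x_inv]
    group
  have e4 : hh X Y (-u⁻¹) = hh X Y u⁻¹ * hh X Y (-1) := by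
    rw [← h.hmul u⁻¹ (-1) (inv_ne_zero hu) (by simp), mul_neg_one]
  rw [e1, mul_assoc, h.nn_sq, e3, e4]
  rw [mul_assoc _ (X (-u⁻¹)) (hh X Y (-1)), ← h.hneg_x, ← mul_assoc, mul_assoc _ (nn X Y) (hh X Y (-1)),
    ← h.hneg_n]
  group

end RankOne

open Classical in
/-- the map defined by the Bruhat normal form -/
noncomputable def phi (X Y : F → G) (g : SpecialLinearGroup (Fin 2) F) : G :=
  if g 1 0 = 0 then X (g 0 0 * g 0 1) * hh X Y (g 0 0)
  else X (g 0 0 / g 1 0) * hh X Y (-(g 1 0)⁻¹) * nn X Y * X (g 1 1 / g 1 0)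

namespace RankOne

variable {X Y : F → G} (h : RankOne X Y)
include h

theorem phi_one : phi X Y 1 = 1 := by
  unfold phi
  have e1 : (1 : SpecialLinearGroup (Fin 2) F) 1 0 = 0 := by simp
  have e2 : (1 : SpecialLinearGroup (Fin 2) F) 0 0 = 1 := by simp
  have e3 : (1 : SpecialLinearGroup (Fin 2) F) 0 1 = 0 := by simp
  rw [if_pos e1, e2, e3, mul_zero, h.x_zero, h.hh_one, mul_one]

theorem phi_mul_xS (g : SpecialLinearGroup (Fin 2) F) (v : F) :
    phi X Y (g * xS v) = phi X Y g * X v := by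
  unfold phi
  rw [mul_xS_00, mul_xS_01, mul_xS_10, mul_xS_11]
  by_cases hc : g 1 0 = 0
  · rw [if_pos hc, if_pos hc]
    have ha : g 0 0 ≠ 0 := by
      intro h0
      have := det_eq g
      rw [hc, h0] at this
      simp at this
    rw [mul_assoc, h.h_x _ ha, ← mul_assoc, h.xadd]
    congr 2
    ring
  · rw [if_neg hc, if_neg hc]
    rw [mul_assoc _ (X _) (X v), h.xadd]
    congr 2
    field_simp
    ring

theorem phi_mul_nS (g : SpecialLinearGroup (Fin 2) F) :
    phi X Y (g * nS F) = phi X Y g * nn X Y := by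
  unfold phi
  rw [mul_nS_00, mul_nS_01, mul_nS_10, mul_nS_11]
  have hdet := det_eq g
  by_cases hc : g 1 0 = 0
  · have had : g 0 0 * g 1 1 = 1 := by
      rw [hc, mul_zero, sub_zero] at hdet
      exact hdet
    have hd : g 1 1 ≠ 0 := right_ne_zero_of_mul_eq_one had
    have ha : g 0 0 = (g 1 1)⁻¹ := eq_inv_of_mul_eq_one_left had
    rw [if_pos hc, if_neg (neg_ne_zero.2 hd)]
    have e1 : -g 0 1 / -g 1 1 = g 0 0 * g 0 1 := by
      rw [ha]
      field_simp
    have e2 : -(-g 1 1)⁻¹ = g 0 0 := by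
      rw [ha, inv_neg, neg_neg]
    rw [e1, e2, hc, zero_div, h.x_zero, mul_one]
  · by_cases hd : g 1 1 = 0
    · have hbc : g 0 1 * g 1 0 = -1 := by
        rw [hd, mul_zero, zero_sub] at hdet
        linear_combination (-1 : F) * hdet
      have hb : g 0 1 = -(g 1 0)⁻¹ := by
        field_simp
        linear_combination hbc
      rw [if_neg hc, if_pos (by rw [hd, neg_zero])]
      rw [hd, zero_div, h.x_zero, mul_one, mul_assoc, h.nn_sq]
      rw [mul_assoc, ← h.hmul _ _ (neg_ne_zero.2 (inv_ne_zero hc)) (by simp)]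
      have e1 : -g 0 1 * g 0 0 = g 0 0 / g 1 0 := by
        rw [hb]
        field_simp
      have e2 : -g 0 1 = -(g 1 0)⁻¹ * -1 := by
        rw [hb]
        ring
      rw [e1, e2]
    · rw [if_neg hc, if_neg (neg_ne_zero.2 hd)]
      have hu : g 1 1 / g 1 0 ≠ 0 := div_ne_zero hd hc
      rw [mul_assoc _ (X (g 1 1 / g 1 0)) (nn X Y), mul_assoc _ (nn X Y) (X (g 1 1 / g 1 0) * nn X Y),
        ← mul_assoc (nn X Y), h.key _ hu]
      rw [← mul_assoc, ← mul_assoc, ← mul_assoc,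
        mul_assoc (X (g 0 0 / g 1 0)) (hh X Y (-(g 1 0)⁻¹)) (X _),
        h.h_x _ (neg_ne_zero.2 (inv_ne_zero hc)), ← mul_assoc, h.xadd,
        mul_assoc (X _) (hh X Y _) (hh X Y _),
        ← h.hmul _ _ (neg_ne_zero.2 (inv_ne_zero hc)) (neg_ne_zero.2 (inv_ne_zero hu))]
      have e1 : g 0 0 / g 1 0 + (-(g 1 0)⁻¹) ^ 2 * -(g 1 1 / g 1 0)⁻¹ = -g 0 1 / -g 1 1 := by
        field_simp
        linear_combination hdet
      have e2 : -(g 1 0)⁻¹ * -(g 1 1 / g 1 0)⁻¹ = -(-g 1 1)⁻¹ := by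
        field_simp
      have e3 : -(g 1 1 / g 1 0)⁻¹ = g 1 0 / -g 1 1 := by
        field_simp
      rw [e1, e2, e3]

theorem phi_xS (t : F) : phi X Y (xS t) = X t := by
  have := h.phi_mul_xS 1 t
  rwa [one_mul, h.phi_one, one_mul] at this

theorem phi_nS : phi X Y (nS F) = nn X Y := by
  have := h.phi_mul_nS 1
  rwa [one_mul, h.phi_one, one_mul] at this

theorem phi_mul (g g' : SpecialLinearGroup (Fin 2) F) :
    phi X Y (g * g') = phi X Y g * phi X Y g' := by
  have hmem := mem_closure g'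
  induction hmem using Submonoid.closure_induction generalizing g with
  | mem x hx =>
    rcases hx with hx | ⟨t, rfl⟩
    · rw [Set.mem_singleton_iff] at hx
      subst hx
      rw [h.phi_mul_nS, h.phi_nS]
    · rw [h.phi_mul_xS, h.phi_xS]
  | one => rw [mul_one, h.phi_one, mul_one]
  | mul a b _ _ iha ihb =>
    rw [← mul_assoc, ihb, iha, ihb a, mul_assoc]

/-- the homomorphism -/
noncomputable def hom : SpecialLinearGroup (Fin 2) F →* G := MonoidHom.mk' (phi X Y) h.phi_mul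

theorem hom_xS (t : F) : h.hom (xS t) = X t := h.phi_xS t

theorem hom_nS : h.hom (nS F) = nn X Y := h.phi_nS

theorem hom_yS (t : F) : h.hom (yS t) = Y t := by
  have e4 : ∀ a : SpecialLinearGroup (Fin 2) F, a * nS F * nS F * nS F * nS F = a := fun a => by
    rw [mul_assoc, mul_assoc, mul_assoc, ← mul_assoc (nS F), ← mul_assoc (nS F * nS F), nS_pow_four, mul_one]
  have e : yS t = nS F * xS (-t) * (nS F)⁻¹ := by
    rw [yS_eq, eq_mul_inv_iff_mul_eq, e4]
  rw [e, map_mul, map_mul, map_inv, h.hom_nS, h.hom_xS, h.nconj, neg_neg]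

theorem nn_mem : nn X Y ∈ Subgroup.closure (Set.range X) ⊔ Subgroup.closure (Set.range Y) := by
  unfold nn
  exact mul_mem (mul_mem (Subgroup.mem_sup_left (Subgroup.subset_closure ⟨_, rfl⟩))
    (Subgroup.mem_sup_right (Subgroup.subset_closure ⟨_, rfl⟩)))
    (Subgroup.mem_sup_left (Subgroup.subset_closure ⟨_, rfl⟩))

theorem hh_mem (s : F) : hh X Y s ∈ Subgroup.closure (Set.range X) ⊔ Subgroup.closure (Set.range Y) := by
  unfold hh
  exact mul_mem (mul_mem (mul_mem (Subgroup.mem_sup_left (Subgroup.subset_closure ⟨_, rfl⟩))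
    (Subgroup.mem_sup_right (Subgroup.subset_closure ⟨_, rfl⟩)))
    (Subgroup.mem_sup_left (Subgroup.subset_closure ⟨_, rfl⟩))) (inv_mem h.nn_mem)

theorem hom_range : h.hom.range = Subgroup.closure (Set.range X) ⊔ Subgroup.closure (Set.range Y) := by
  apply le_antisymm
  · rintro _ ⟨g, rfl⟩
    show phi X Y g ∈ _
    unfold phi
    have hx : ∀ t : F, X t ∈ Subgroup.closure (Set.range X) ⊔ Subgroup.closure (Set.range Y) :=
      fun t => Subgroup.mem_sup_left (Subgroup.subset_closure ⟨_, rfl⟩)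
    split_ifs
    · exact mul_mem (hx _) (h.hh_mem _)
    · exact mul_mem (mul_mem (mul_mem (hx _) (h.hh_mem _)) h.nn_mem) (hx _)
  · apply sup_le
    · rw [Subgroup.closure_le]
      rintro _ ⟨t, rfl⟩
      exact ⟨xS t, h.hom_xS t⟩
    · rw [Subgroup.closure_le]
      rintro _ ⟨t, rfl⟩
      exact ⟨yS t, h.hom_yS t⟩

/-- the relations are stable under conjugation -/
theorem conj (c : G) : RankOne (fun t => c * X t * c⁻¹) (fun t => c * Y t * c⁻¹) := by
  have hn : nn (fun t => c * X t * c⁻¹) (fun t => c * Y t * c⁻¹) = c * nn X Y * c⁻¹ := by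
    unfold nn
    group
  have hhs : ∀ s, hh (fun t => c * X t * c⁻¹) (fun t => c * Y t * c⁻¹) s = c * hh X Y s * c⁻¹ := by
    intro s
    unfold hh
    rw [hn]
    unfold nn
    group
  refine ⟨?_, ?_, ?_, ?_, ?_⟩
  · intro t u
    show c * X t * c⁻¹ * (c * X u * c⁻¹) = c * X (t + u) * c⁻¹
    rw [← h.xadd]
    group
  · intro t u
    show c * Y t * c⁻¹ * (c * Y u * c⁻¹) = c * Y (t + u) * c⁻¹
    rw [← h.yadd]
    group
  · intro u
    rw [hn]
    show c * nn X Y * c⁻¹ * (c * X u * c⁻¹) * (c * nn X Y * c⁻¹)⁻¹ = c * Y (-u) * c⁻¹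
    rw [← h.nconj]
    group
  · intro s hs v
    rw [hhs]
    show c * hh X Y s * c⁻¹ * (c * X v * c⁻¹) * (c * hh X Y s * c⁻¹)⁻¹ = c * X (s ^ 2 * v) * c⁻¹
    rw [← h.hconj s hs v]
    group
  · intro s s' hs hs'
    rw [hhs, hhs, hhs, h.hmul s s' hs hs']
    group

/-- the relations are stable under the change of sign of the parameter -/
theorem neg : RankOne (fun t => X (-t)) (fun t => Y (-t)) := by
  have hn : nn (fun t => X (-t)) (fun t => Y (-t)) = (nn X Y)⁻¹ := by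
    show X (-1) * Y (- -1) * X (-1) = _
    rw [neg_neg, h.nn_inv]
  have hhs : ∀ s, s ≠ 0 → hh (fun t => X (-t)) (fun t => Y (-t)) s = hh X Y s := by
    intro s hs
    have e1 : hh (fun t => X (-t)) (fun t => Y (-t)) s = hh X Y (-s) * (nn X Y * nn X Y) := by
      unfold hh
      rw [hn, inv_inv]
      show X (-s) * Y (- -s⁻¹) * X (-s) * nn X Y = X (-s) * Y (-(-s)⁻¹) * X (-s) * (nn X Y)⁻¹ * (nn X Y * nn X Y)
      rw [inv_neg]
      group
    rw [e1, h.nn_sq, ← h.hmul (-s) (-1) (neg_ne_zero.2 hs) (by simp), neg_mul_neg, mul_one]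
  refine ⟨?_, ?_, ?_, ?_, ?_⟩
  · intro t u
    show X (-t) * X (-u) = X (-(t + u))
    rw [h.xadd, neg_add]
  · intro t u
    show Y (-t) * Y (-u) = Y (-(t + u))
    rw [h.yadd, neg_add]
  · intro u
    rw [hn, inv_inv]
    show (nn X Y)⁻¹ * X (-u) * nn X Y = Y (- -u)
    have e : (hh X Y (-1))⁻¹ * X (-u) * hh X Y (-1) = X (-u) := by
      rw [mul_assoc, ← h.hneg_x, inv_mul_cancel_left]
    have e2 : (nn X Y)⁻¹ * X (-u) * nn X Y =
        nn X Y * ((nn X Y * nn X Y)⁻¹ * X (-u) * (nn X Y * nn X Y)) * (nn X Y)⁻¹ := by group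
    rw [e2, h.nn_sq, e, h.nconj]
  · intro s hs v
    rw [hhs s hs]
    show hh X Y s * X (-v) * (hh X Y s)⁻¹ = X (-(s ^ 2 * v))
    rw [h.hconj s hs, mul_neg]
  · intro s s' hs hs'
    rw [hhs s hs, hhs s' hs', hhs _ (mul_ne_zero hs hs'), h.hmul s s' hs hs']

end RankOne

end Cfsg.Agent.Helper6.SL2Hom
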