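import Mathlib
import Cfsg.Agent.Lib.Helper1.M22LocDefs

/-!
# S0429 LOCAL, piece BASIC1 (helper6): srg basics at a vertex `o` of an srg(77,16,0,4).
-/

set_option autoImplicit false
set_option linter.unusedSectionVars false
set_option linter.unusedVariables false

namespace Cfsg.Agent.Helper1.M22

open Finset

variable {V : Type*} [Fintype V] [DecidableEq V] {G : SimpleGraph V} [DecidableRel G.Adj]

omit [DecidableEq V] in
/-- common neighbours as a filter: cardinality -/
theorem basic1_card_filter (u w : V) :
    (univ.filter fun z => G.Adj u z ∧ G.Adj w z).card = Fintype.card (G.commonNeighbors u w) := by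
  symm
  apply Fintype.card_of_subtype
  intro z
  rw [mem_filter]
  simp only [mem_univ, true_and]
  exact (G.mem_commonNeighbors).symm

omit [Fintype V] [DecidableEq V] [DecidableRel G.Adj] in
theorem basic1_mem_nA [Fintype V] [DecidableRel G.Adj] {o x : V} : x ∈ nA G o ↔ G.Adj o x := by
  simp [nA]

omit [Fintype V] [DecidableRel G.Adj] in
theorem basic1_mem_nB [Fintype V] [DecidableRel G.Adj] {o x : V} :
    x ∈ nB G o ↔ x ≠ o ∧ ¬ G.Adj o x := by
  simp [nB]

omit [Fintype V] [DecidableEq V] [DecidableRel G.Adj] in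
theorem basic1_mem_blk [Fintype V] [DecidableRel G.Adj] {o b a : V} :
    a ∈ blk G o b ↔ G.Adj o a ∧ G.Adj b a := by
  simp [blk]

variable (hG : G.IsSRGWith 77 16 0 4) (o : V)
include hG

/-- PIECE BASIC1 -/
theorem no_triangle {a b c : V} (hab : G.Adj a b) (hac : G.Adj a c) (hbc : G.Adj b c) : False := by
  have h0 : (univ.filter fun z => G.Adj a z ∧ G.Adj b z).card = 0 := by
    rw [basic1_card_filter]; exact hG.of_adj a b hab
  rw [card_eq_zero] at h0
  have : c ∈ (univ.filter fun z => G.Adj a z ∧ G.Adj b z) := by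
    rw [mem_filter]; exact ⟨mem_univ _, hac, hbc⟩
  rw [h0] at this
  exact absurd this (notMem_empty c)

/-- PIECE BASIC1 -/
theorem card_cn {u w : V} (hne : u ≠ w) (hna : ¬ G.Adj u w) :
    (univ.filter fun z => G.Adj u z ∧ G.Adj w z).card = 4 := by
  rw [basic1_card_filter]; exact hG.of_not_adj hne hna

/-- PIECE BASIC1 -/
theorem card_nA : (nA G o).card = 16 := by
  have h : nA G o = G.neighborFinset o := by
    ext z
    rw [basic1_mem_nA, SimpleGraph.mem_neighborFinset]
  rw [h]
  exact hG.regular o

/-- PIECE BASIC1 -/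
theorem card_nB : (nB G o).card = 60 := by
  have h1 : (univ : Finset V) = insert o (nA G o ∪ nB G o) := by
    ext z
    simp only [mem_univ, mem_insert, mem_union, basic1_mem_nA, basic1_mem_nB, true_iff]
    by_cases h : z = o
    · exact Or.inl h
    · by_cases h' : G.Adj o z
      · exact Or.inr (Or.inl h')
      · exact Or.inr (Or.inr ⟨h, h'⟩)
  have h2 : o ∉ nA G o ∪ nB G o := by
    simp [basic1_mem_nA, basic1_mem_nB]
  have h3 : Disjoint (nA G o) (nB G o) := by
    rw [disjoint_left]
    intro z hz hz'
    rw [basic1_mem_nA] at hz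
    exact (basic1_mem_nB.mp hz').2 hz
  have h4 := congrArg Finset.card h1
  rw [card_univ, hG.card, card_insert_of_notMem h2, card_union_of_disjoint h3, card_nA hG] at h4
  omega

/-- PIECE BASIC1 -/
theorem card_blk {b : V} (hb : b ∈ nB G o) : (blk G o b).card = 4 := by
  rw [basic1_mem_nB] at hb
  have := card_cn hG (u := o) (w := b) (fun h => hb.1 h.symm) hb.2
  unfold blk
  exact this

/-- PIECE BASIC1 (adjacent vertices have no common neighbour) -/
theorem ii_eq_zero_of_adj {b c : V} (h : G.Adj b c) : ii G o b c = 0 := by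
  unfold ii
  rw [card_eq_zero, eq_empty_iff_forall_notMem]
  intro a ha
  rw [mem_inter, basic1_mem_blk, basic1_mem_blk] at ha
  exact no_triangle hG h ha.1.2 ha.2.2

end Cfsg.Agent.Helper1.M22
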