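import Mathlib
import Cfsg.Agent.Lib.Helper1.M22LocDefs
import Cfsg.Agent.Lib.Helper6.M22BASIC1

/-!
# S0429 LOCAL, piece BASIC2 (helper6): counting at a vertex `o` of an srg(77,16,0,4).
-/

set_option autoImplicit false
set_option linter.unusedSectionVars false
set_option linter.unusedVariables false

namespace Cfsg.Agent.Helper1.M22

open Finset

variable {V : Type*} [Fintype V] [DecidableEq V] {G : SimpleGraph V} [DecidableRel G.Adj]
  (hG : G.IsSRGWith 77 16 0 4) (o : V)
include hG

/-- PIECE BASIC2: a neighbour `a` of `o` has 15 neighbours in `nB` (its other neighbour is `o`; no triangles) -/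
theorem card_through {a : V} (ha : a ∈ nA G o) :
    ((nB G o).filter fun b => a ∈ blk G o b).card = 15 := by
  rw [basic1_mem_nA] at ha
  have h1 : G.neighborFinset a = insert o ((nB G o).filter fun b => a ∈ blk G o b) := by
    ext z
    simp only [SimpleGraph.mem_neighborFinset, mem_insert, mem_filter, basic1_mem_nB, basic1_mem_blk]
    constructor
    · intro hz
      by_cases h : z = o
      · exact Or.inl h
      · exact Or.inr ⟨⟨h, fun h' => no_triangle hG ha h' hz⟩, ha, hz.symm⟩
    · rintro (h | h)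
      · rw [h]; exact ha.symm
      · exact h.2.2.symm
  have h2 : o ∉ (nB G o).filter fun b => a ∈ blk G o b := by
    simp [basic1_mem_nB]
  have h3 := congrArg Finset.card h1
  rw [card_insert_of_notMem h2] at h3
  have h4 : (G.neighborFinset a).card = 16 := hG.regular a
  omega

/-- PIECE BASIC2: two neighbours of `o` have 4 common neighbours: `o` and 3 in `nB` -/
theorem card_through_two {a a' : V} (ha : a ∈ nA G o) (ha' : a' ∈ nA G o) (hne : a ≠ a') :
    ((nB G o).filter fun b => a ∈ blk G o b ∧ a' ∈ blk G o b).card = 3 := by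
  rw [basic1_mem_nA] at ha ha'
  have hnab : ¬ G.Adj a a' := fun h => no_triangle hG ha ha' h
  have h1 : (univ.filter fun z => G.Adj a z ∧ G.Adj a' z) =
      insert o ((nB G o).filter fun b => a ∈ blk G o b ∧ a' ∈ blk G o b) := by
    ext z
    simp only [mem_insert, mem_filter, mem_univ, true_and, basic1_mem_nB, basic1_mem_blk]
    constructor
    · rintro ⟨hza, hzb⟩
      by_cases h : z = o
      · exact Or.inl h
      · exact Or.inr ⟨⟨h, fun h' => no_triangle hG ha h' hza⟩, ⟨ha, hza.symm⟩, ⟨ha', hzb.symm⟩⟩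
    · rintro (h | h)
      · rw [h]; exact ⟨ha.symm, ha'.symm⟩
      · exact ⟨h.2.1.2.symm, h.2.2.2.symm⟩
  have h2 : o ∉ (nB G o).filter fun b => a ∈ blk G o b ∧ a' ∈ blk G o b := by
    simp [basic1_mem_nB]
  have h3 := congrArg Finset.card h1
  rw [card_cn hG hne hnab, card_insert_of_notMem h2] at h3
  omega

/-- PIECE BASIC2: `b` has 16 neighbours, 4 of them in `nA` -/
theorem card_nbr_B {b : V} (hb : b ∈ nB G o) : ((nB G o).filter fun c => G.Adj b c).card = 12 := by
  have hb' := basic1_mem_nB.mp hb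
  have h1 : G.neighborFinset b = blk G o b ∪ (nB G o).filter fun c => G.Adj b c := by
    ext z
    simp only [SimpleGraph.mem_neighborFinset, mem_union, basic1_mem_blk, mem_filter, basic1_mem_nB]
    constructor
    · intro hz
      by_cases h : G.Adj o z
      · exact Or.inl ⟨h, hz⟩
      · refine Or.inr ⟨⟨?_, h⟩, hz⟩
        rintro rfl
        exact hb'.2 hz.symm
    · rintro (h | h)
      · exact h.2
      · exact h.2
  have h2 : Disjoint (blk G o b) ((nB G o).filter fun c => G.Adj b c) := by
    rw [disjoint_left]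
    intro z hz hz'
    exact (basic1_mem_nB.mp (mem_filter.mp hz').1).2 (basic1_mem_blk.mp hz).1
  have h3 := congrArg Finset.card h1
  rw [card_union_of_disjoint h2, card_blk hG o hb] at h3
  have h4 : (G.neighborFinset b).card = 16 := hG.regular b
  omega

/-- PIECE BASIC2: the 4 common neighbours of `b`, `c` are in `nA` (these are `blk b ∩ blk c`) or in `nB` -/
theorem card_cn_B {b c : V} (hb : b ∈ nB G o) (hc : c ∈ nB G o) (hne : b ≠ c) (hna : ¬ G.Adj b c) :
    ((nB G o).filter fun x => G.Adj b x ∧ G.Adj c x).card + ii G o b c = 4 := by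
  have hb' := basic1_mem_nB.mp hb
  have h1 : (univ.filter fun z => G.Adj b z ∧ G.Adj c z) =
      ((nB G o).filter fun x => G.Adj b x ∧ G.Adj c x) ∪ (blk G o b ∩ blk G o c) := by
    ext z
    simp only [mem_union, mem_inter, mem_filter, mem_univ, true_and, basic1_mem_nB, basic1_mem_blk]
    constructor
    · rintro ⟨hzb, hzc⟩
      by_cases h : G.Adj o z
      · exact Or.inr ⟨⟨h, hzb⟩, ⟨h, hzc⟩⟩
      · refine Or.inl ⟨⟨?_, h⟩, hzb, hzc⟩
        rintro rfl
        exact hb'.2 hzb.symm
    · rintro (h | h)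
      · exact h.2
      · exact ⟨h.1.2, h.2.2⟩
  have h2 : Disjoint ((nB G o).filter fun x => G.Adj b x ∧ G.Adj c x) (blk G o b ∩ blk G o c) := by
    rw [disjoint_left]
    intro z hz hz'
    exact (basic1_mem_nB.mp (mem_filter.mp hz).1).2 (basic1_mem_blk.mp (mem_inter.mp hz').1).1
  have h3 := congrArg Finset.card h1
  rw [card_cn hG hne hna, card_union_of_disjoint h2] at h3
  unfold ii
  omega

/-- PIECE BASIC2: `a ∈ nA` and `b ∈ nB` non-adjacent: their 4 common neighbours are in `nB` -/
theorem card_adj_through {a b : V} (ha : a ∈ nA G o) (hb : b ∈ nB G o) (hab : a ∉ blk G o b) :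
    ((nB G o).filter fun c => G.Adj b c ∧ a ∈ blk G o c).card = 4 := by
  rw [basic1_mem_nA] at ha
  have hb' := basic1_mem_nB.mp hb
  have hnab : ¬ G.Adj b a := fun h => hab (basic1_mem_blk.mpr ⟨ha, h⟩)
  have hne : b ≠ a := by
    rintro rfl
    exact hb'.2 ha
  have h1 : (univ.filter fun z => G.Adj b z ∧ G.Adj a z) =
      (nB G o).filter fun c => G.Adj b c ∧ a ∈ blk G o c := by
    ext z
    simp only [mem_filter, mem_univ, true_and, basic1_mem_nB, basic1_mem_blk]
    constructor
    · rintro ⟨hzb, hza⟩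
      refine ⟨⟨?_, fun h' => no_triangle hG ha h' hza⟩, hzb, ha, hza.symm⟩
      rintro rfl
      exact hb'.2 hzb.symm
    · rintro ⟨_, hzb, _, hza⟩
      exact ⟨hzb, hza.symm⟩
  rw [← h1]
  exact card_cn hG hne hnab

end Cfsg.Agent.Helper1.M22
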