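import Mathlib
import Cfsg.Agent.Lib.Helper1.M22LocDefs
import Cfsg.Agent.Lib.Helper6.M22BASIC1
import Cfsg.Agent.Lib.Helper6.M22BASIC2

/-!
# S0429 LOCAL, piece SUM1 (helper6): `sum_ii`, `sum_adj_ii`.
-/

set_option autoImplicit false
set_option linter.unusedSectionVars false
set_option linter.unusedVariables false

namespace Cfsg.Agent.Helper1.M22

open Finset

variable {V : Type*} [Fintype V] [DecidableEq V] {G : SimpleGraph V} [DecidableRel G.Adj]

/-- `ii b c = ∑ a ∈ blk b, [a ∈ blk c]` -/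
theorem sum1_ii_eq (o b c : V) :
    ii G o b c = ∑ a ∈ blk G o b, if a ∈ blk G o c then 1 else 0 := by
  unfold ii
  rw [← Finset.filter_mem_eq_inter, Finset.card_filter]

/-- `ii` is symmetric -/
theorem sum1_ii_comm (o b c : V) : ii G o b c = ii G o c b := by
  unfold ii
  rw [Finset.inter_comm]

/-- `ii c b = ∑ a ∈ blk b, [a ∈ blk c]` -/
theorem sum1_ii_eq' (o b c : V) :
    ii G o c b = ∑ a ∈ blk G o b, if a ∈ blk G o c then 1 else 0 := by
  rw [sum1_ii_comm, sum1_ii_eq]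

omit [DecidableEq V] in
/-- `blk b ⊆ nA` -/
theorem sum1_blk_sub {o b a : V} (ha : a ∈ blk G o b) : a ∈ nA G o := by
  rw [basic1_mem_nA]
  exact (basic1_mem_blk.mp ha).1

variable (hG : G.IsSRGWith 77 16 0 4) (o : V)
include hG

/-- PIECE SUM1: `= ∑ a ∈ blk b, 15` -/
theorem sum_ii {b : V} (hb : b ∈ nB G o) : ∑ c ∈ nB G o, ii G o b c = 60 := by
  have h1 : ∑ c ∈ nB G o, ii G o b c
      = ∑ c ∈ nB G o, ∑ a ∈ blk G o b, if a ∈ blk G o c then 1 else 0 :=
    Finset.sum_congr rfl fun c _ => sum1_ii_eq o b c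
  rw [h1, Finset.sum_comm]
  have h2 : ∀ a ∈ blk G o b, (∑ c ∈ nB G o, if a ∈ blk G o c then 1 else 0) = 15 := by
    intro a ha
    rw [← Finset.card_filter]
    exact card_through hG o (sum1_blk_sub ha)
  rw [Finset.sum_congr rfl h2, Finset.sum_const, card_blk hG o hb]
  rfl

/-- PIECE SUM1: `∑ a ∈ blk b', #{c ~ b : a ∈ blk c}`, which is 4 for `a ∉ blk b` and 0 for `a ∈ blk b` -/
theorem sum_adj_ii {b b' : V} (hb : b ∈ nB G o) (hb' : b' ∈ nB G o) :
    ∑ c ∈ nB G o, (if G.Adj b c then ii G o c b' else 0) + 4 * ii G o b b' = 16 := by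
  have h1 : ∑ c ∈ nB G o, (if G.Adj b c then ii G o c b' else 0)
      = ∑ c ∈ nB G o, ∑ a ∈ blk G o b', if (G.Adj b c ∧ a ∈ blk G o c) then 1 else 0 := by
    apply Finset.sum_congr rfl
    intro c _
    by_cases h : G.Adj b c
    · rw [if_pos h, sum1_ii_eq' o b' c]
      apply Finset.sum_congr rfl
      intro a _
      by_cases h' : a ∈ blk G o c
      · rw [if_pos h', if_pos ⟨h, h'⟩]
      · rw [if_neg h', if_neg (fun hh => h' hh.2)]
    · rw [if_neg h]
      symm
      apply Finset.sum_eq_zero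
      intro a _
      rw [if_neg (fun hh => h hh.1)]
  rw [h1, Finset.sum_comm]
  have h2 : ∀ a ∈ blk G o b', (∑ c ∈ nB G o, if (G.Adj b c ∧ a ∈ blk G o c) then 1 else 0)
      = if a ∈ blk G o b then 0 else 4 := by
    intro a ha
    rw [← Finset.card_filter]
    by_cases hab : a ∈ blk G o b
    · rw [if_pos hab, card_eq_zero, eq_empty_iff_forall_notMem]
      intro c hc
      rw [mem_filter] at hc
      exact no_triangle hG hc.2.1 (basic1_mem_blk.mp hab).2 (basic1_mem_blk.mp hc.2.2).2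
    · rw [if_neg hab]
      exact card_adj_through hG o (sum1_blk_sub ha) hb hab
  rw [Finset.sum_congr rfl h2]
  -- `∑ a ∈ blk b', if a ∈ blk b then 0 else 4 = 4 * (4 - ii b b')`
  have h3 : ∑ a ∈ blk G o b', (if a ∈ blk G o b then 0 else 4)
      + 4 * ∑ a ∈ blk G o b', (if a ∈ blk G o b then 1 else 0) = 4 * (blk G o b').card := by
    rw [Finset.mul_sum, ← Finset.sum_add_distrib, Finset.card_eq_sum_ones, Finset.mul_sum]
    apply Finset.sum_congr rfl
    intro a _
    by_cases h : a ∈ blk G o b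
    · rw [if_pos h, if_pos h]; rfl
    · rw [if_neg h, if_neg h]; rfl
  rw [← sum1_ii_eq' o b' b, card_blk hG o hb'] at h3
  omega

end Cfsg.Agent.Helper1.M22
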