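import Mathlib
import Cfsg.Agent.Lib.Helper1.M22LocDefs
import Cfsg.Agent.Lib.Helper6.M22BASIC1
import Cfsg.Agent.Lib.Helper6.M22BASIC2
import Cfsg.Agent.Lib.Helper6.M22SUM1

/-!
# S0429 LOCAL, piece SUM2 (helper6): `sum_ii_ii`.
-/

set_option autoImplicit false
set_option linter.unusedSectionVars false
set_option linter.unusedVariables false

namespace Cfsg.Agent.Helper1.M22

open Finset

variable {V : Type*} [Fintype V] [DecidableEq V] {G : SimpleGraph V} [DecidableRel G.Adj]
  (hG : G.IsSRGWith 77 16 0 4) (o : V)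
include hG

/-- PIECE SUM2: `∑ a ∈ blk b, ∑ a' ∈ blk b', #{c : a, a' ∈ blk c}` with 15 for `a = a'` and 3 otherwise -/
theorem sum_ii_ii {b b' : V} (hb : b ∈ nB G o) (hb' : b' ∈ nB G o) :
    ∑ c ∈ nB G o, ii G o b c * ii G o c b' = 48 + 12 * ii G o b b' := by
  have h1 : ∑ c ∈ nB G o, ii G o b c * ii G o c b'
      = ∑ c ∈ nB G o, ∑ a ∈ blk G o b, ∑ a' ∈ blk G o b',
          if (a ∈ blk G o c ∧ a' ∈ blk G o c) then 1 else 0 := by
    apply Finset.sum_congr rfl
    intro c _
    rw [sum1_ii_eq o b c, sum1_ii_eq' o b' c, Finset.sum_mul_sum]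
    apply Finset.sum_congr rfl
    intro a _
    apply Finset.sum_congr rfl
    intro a' _
    by_cases h : a ∈ blk G o c
    · by_cases h' : a' ∈ blk G o c
      · simp [h, h']
      · simp [h, h']
    · simp [h]
  rw [h1, Finset.sum_comm]
  have h2 : ∀ a ∈ blk G o b, (∑ c ∈ nB G o, ∑ a' ∈ blk G o b',
      if (a ∈ blk G o c ∧ a' ∈ blk G o c) then 1 else 0)
      = 12 + 12 * (if a ∈ blk G o b' then 1 else 0) := by
    intro a ha
    rw [Finset.sum_comm]
    have h3 : ∀ a' ∈ blk G o b', (∑ c ∈ nB G o,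
        if (a ∈ blk G o c ∧ a' ∈ blk G o c) then 1 else 0) = 3 + (if a = a' then 12 else 0) := by
      intro a' ha'
      rw [← Finset.card_filter]
      by_cases h : a = a'
      · subst h
        rw [if_pos rfl]
        have : ((nB G o).filter fun c => a ∈ blk G o c ∧ a ∈ blk G o c)
            = (nB G o).filter fun c => a ∈ blk G o c := by
          apply Finset.filter_congr
          intro c _
          exact and_self_iff
        rw [this]
        exact card_through hG o (sum1_blk_sub ha)
      · rw [if_neg h]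
        exact card_through_two hG o (sum1_blk_sub ha) (sum1_blk_sub ha') h
    rw [Finset.sum_congr rfl h3, Finset.sum_add_distrib, Finset.sum_const, card_blk hG o hb',
      Finset.sum_ite_eq]
    by_cases h : a ∈ blk G o b'
    · rw [if_pos h, if_pos h]; rfl
    · rw [if_neg h, if_neg h]; rfl
  rw [Finset.sum_congr rfl h2, Finset.sum_add_distrib, Finset.sum_const, card_blk hG o hb,
    ← Finset.mul_sum, ← sum1_ii_eq o b b']
  rfl

end Cfsg.Agent.Helper1.M22
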