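import Mathlib

/-!
# S0429 LOCAL, piece SRG2 (helper6): the abstract counting core of `common_near`.
-/

set_option autoImplicit false

namespace Cfsg.Agent.Helper1.M22

open Finset

/-- abstract core of `common_near`: two `ℚ`-valued functions with values in `{1/12, 1/48, -1/24}` on a
60-set, value distribution `4 / 32 / 24`, the `1/12`-row and the `1/12`-column concentrated at the value `w`,
and `∑ f g = w` with `w ≠ 1/12`: then `#{f = 1/48 ∧ g = 1/48} = 16`. -/
theorem srg2_core {V : Type*} [DecidableEq V] (S : Finset V) (f g : V → ℚ) (w : ℚ)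
    (hf : ∀ c ∈ S, f c = 1 / 12 ∨ f c = 1 / 48 ∨ f c = -1 / 24)
    (hg : ∀ c ∈ S, g c = 1 / 12 ∨ g c = 1 / 48 ∨ g c = -1 / 24)
    (hS : S.card = 60)
    (hfa : (S.filter fun c => f c = 1 / 12).card = 4)
    (hfb : (S.filter fun c => f c = 1 / 48).card = 32)
    (hga : (S.filter fun c => g c = 1 / 12).card = 4)
    (hgb : (S.filter fun c => g c = 1 / 48).card = 32)
    (hrow : ∀ c ∈ S, f c = 1 / 12 → g c = w)
    (hcol : ∀ c ∈ S, g c = 1 / 12 → f c = w)
    (hw : w = 1 / 48 ∨ w = -1 / 24)
    (hidem : ∑ c ∈ S, f c * g c = w) :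
    (S.filter fun c => f c = 1 / 48 ∧ g c = 1 / 48).card = 16 := by
  classical
  have key : ∀ c ∈ S, f c * g c = 1 / 576
      - (1 / 192) * (if g c = 1 / 12 then 1 else 0) - (1 / 384) * (if g c = 1 / 48 then 1 else 0)
      - (1 / 192) * (if f c = 1 / 12 then 1 else 0) - (1 / 384) * (if f c = 1 / 48 then 1 else 0)
      + (1 / 64) * (if (f c = 1 / 12 ∧ g c = 1 / 12) then 1 else 0)
      + (1 / 128) * (if (f c = 1 / 12 ∧ g c = 1 / 48) then 1 else 0)
      + (1 / 128) * (if (f c = 1 / 48 ∧ g c = 1 / 12) then 1 else 0)
      + (1 / 256) * (if (f c = 1 / 48 ∧ g c = 1 / 48) then 1 else 0) := by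
    intro c hc
    rcases hf c hc with h | h | h <;> rcases hg c hc with h' | h' | h' <;> rw [h, h'] <;> norm_num
  rw [Finset.sum_congr rfl key] at hidem
  simp only [Finset.sum_add_distrib, Finset.sum_sub_distrib, ← Finset.mul_sum, Finset.sum_boole,
    Finset.sum_const, hS, hfa, hfb, hga, hgb] at hidem
  -- the three mixed counts
  have haa : (S.filter fun c => f c = 1 / 12 ∧ g c = 1 / 12).card = 0 := by
    rw [card_eq_zero, eq_empty_iff_forall_notMem]
    intro c hc
    rw [mem_filter] at hc
    have := hrow c hc.1 hc.2.1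
    rw [hc.2.2] at this
    rcases hw with hw | hw <;> rw [hw] at this <;> norm_num at this
  have hab : ((S.filter fun c => f c = 1 / 12 ∧ g c = 1 / 48).card : ℚ)
      = if w = 1 / 48 then 4 else 0 := by
    by_cases h : w = 1 / 48
    · rw [if_pos h]
      have : (S.filter fun c => f c = 1 / 12 ∧ g c = 1 / 48) = S.filter fun c => f c = 1 / 12 := by
        apply Finset.filter_congr
        intro c hc
        constructor
        · exact fun hh => hh.1
        · intro hh
          exact ⟨hh, by rw [hrow c hc hh, h]⟩
      rw [this, hfa]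
      norm_num
    · rw [if_neg h]
      have : (S.filter fun c => f c = 1 / 12 ∧ g c = 1 / 48) = ∅ := by
        rw [eq_empty_iff_forall_notMem]
        intro c hc
        rw [mem_filter] at hc
        apply h
        rw [← hrow c hc.1 hc.2.1, hc.2.2]
      rw [this]
      norm_num
  have hba : ((S.filter fun c => f c = 1 / 48 ∧ g c = 1 / 12).card : ℚ)
      = if w = 1 / 48 then 4 else 0 := by
    by_cases h : w = 1 / 48
    · rw [if_pos h]
      have : (S.filter fun c => f c = 1 / 48 ∧ g c = 1 / 12) = S.filter fun c => g c = 1 / 12 := by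
        apply Finset.filter_congr
        intro c hc
        constructor
        · exact fun hh => hh.2
        · intro hh
          exact ⟨by rw [hcol c hc hh, h], hh⟩
      rw [this, hga]
      norm_num
    · rw [if_neg h]
      have : (S.filter fun c => f c = 1 / 48 ∧ g c = 1 / 12) = ∅ := by
        rw [eq_empty_iff_forall_notMem]
        intro c hc
        rw [mem_filter] at hc
        apply h
        rw [← hcol c hc.1 hc.2.2, hc.2.1]
      rw [this]
      norm_num
  rw [haa, hab, hba] at hidem
  have hx : ((S.filter fun c => f c = 1 / 48 ∧ g c = 1 / 48).card : ℚ) = 16 := by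
    rcases hw with hw | hw
    · rw [hw] at hidem
      norm_num at hidem
      linarith
    · rw [hw] at hidem
      norm_num at hidem
      linarith
  exact_mod_cast hx

end Cfsg.Agent.Helper1.M22
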