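import Mathlib
import Cfsg.Agent.Lib.Helper1.M22LocDefs
import Cfsg.Agent.Lib.Helper6.M22BASIC1
import Cfsg.Agent.Lib.Helper6.M22SRG2Core
import Cfsg.Agent.Lib.Helper9.M22IDEM
import Cfsg.Agent.Lib.Helper23.M22VAL1
import Cfsg.Agent.Lib.Helper23.M22VAL2
import Cfsg.Agent.Lib.Helper1.M22COUNT

/-!
# S0429 LOCAL, piece SRG2 (helper6): `common_near`.
-/

set_option autoImplicit false
set_option linter.unusedSectionVars false
set_option linter.unusedVariables false

namespace Cfsg.Agent.Helper1.M22

open Finset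

variable {V : Type*} [Fintype V] [DecidableEq V] {G : SimpleGraph V} [DecidableRel G.Adj]
  (hG : G.IsSRGWith 77 16 0 4) (o : V)
include hG

/-- the three possible values of `pp` on `nB` -/
theorem srg2_vals {x y : V} (hx : x ∈ nB G o) (hy : y ∈ nB G o) :
    pp G o x y = 1 / 12 ∨ pp G o x y = 1 / 48 ∨ pp G o x y = -1 / 24 := by
  by_cases hxy : x = y
  · subst hxy; exact Or.inl (pp_self hG o hx)
  · rcases pp_values hG o hx hy hxy with h1 | h1 | h1
    · exact Or.inl h1.2.2
    · exact Or.inr (Or.inl h1.2.2)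
    · exact Or.inr (Or.inr h1.2)

/-- PIECE SRG2 -/
theorem common_near {b b' : V} (hb : b ∈ nB G o) (hb' : b' ∈ nB G o) (h : pp G o b b' ≠ 1 / 12) :
    ((nB G o).filter fun c => pp G o b c = 1 / 48 ∧ pp G o c b' = 1 / 48).card = 16 := by
  have hw : pp G o b b' = 1 / 48 ∨ pp G o b b' = -1 / 24 := by
    rcases srg2_vals hG o hb hb' with h1 | h1 | h1
    · exact absurd h1 h
    · exact Or.inl h1
    · exact Or.inr h1
  have hc1 : ((nB G o).filter fun c => pp G o c b' = 1 / 12) = cls G o b' := by
    unfold cls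
    apply Finset.filter_congr
    intro c _
    rw [pp_symm]
  have hc2 : ((nB G o).filter fun c => pp G o c b' = 1 / 48)
      = (nB G o).filter fun c => pp G o b' c = 1 / 48 := by
    apply Finset.filter_congr
    intro c _
    rw [pp_symm]
  refine srg2_core (nB G o) (fun c => pp G o b c) (fun c => pp G o c b') (pp G o b b')
    (fun c hc => srg2_vals hG o hb hc) (fun c hc => srg2_vals hG o hc hb') (card_nB hG o)
    (card_cls hG o hb) (card_near hG o hb) ?_ ?_ ?_ ?_ hw (pp_idem hG o hb hb')
  · show ((nB G o).filter fun c => pp G o c b' = 1 / 12).card = 4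
    rw [hc1]
    exact card_cls hG o hb'
  · show ((nB G o).filter fun c => pp G o c b' = 1 / 48).card = 32
    rw [hc2]
    exact card_near hG o hb'
  · intro c hc hfc
    exact ((pp_rows hG o hb hc hfc) b' hb').symm
  · intro c hc hgc
    show pp G o b c = pp G o b b'
    have h1 : pp G o b' c = 1 / 12 := by rw [pp_symm]; exact hgc
    have h2 := (pp_rows hG o hb' hc h1) b hb
    rw [pp_symm o b c, pp_symm o b b']
    exact h2.symm

end Cfsg.Agent.Helper1.M22
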