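import Mathlib
import Cfsg.Agent.Lib.Helper1.NMDefs
import Cfsg.Agent.Lib.Helper1.NMBAS1

/-!
# S4146, piece KC1: `Cfg.typeC_data`
-/

namespace Cfsg.Agent.Helper1.NM

open Subgroup

variable {G : Type*} [Group G] [Finite G] {n m : ℕ}

/-- a Sylow `r`-subgroup of a subgroup `H`, as a subgroup of `G`. -/
theorem kc1_exists_sylow (r : ℕ) [Fact r.Prime] (H : Subgroup G) :
    ∃ R : Subgroup G, R ≤ H ∧ IsPGroup r R ∧
      Nat.card R = r ^ (Nat.card H).factorization r := by
  obtain ⟨P⟩ : Nonempty (Sylow r H) := inferInstance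
  refine ⟨(P : Subgroup H).map H.subtype, Subgroup.map_subtype_le _, ?_, ?_⟩
  · exact P.isPGroup'.map _
  · rw [Subgroup.card_subtype]
    exact P.card_eq_multiplicity

theorem kc1_isPrimary_of_mem {r : ℕ} [Fact r.Prime] {R : Subgroup G} (hR : IsPGroup r R) {x : G}
    (hx : x ∈ R) : IsPrimary r x := by
  obtain ⟨k, hk⟩ := hR ⟨x, hx⟩
  have h1 : x ^ r ^ k = 1 := by
    have := congrArg Subtype.val hk
    simpa using this
  obtain ⟨j, _, hj⟩ := (Nat.dvd_prime_pow (Fact.out : r.Prime)).1 (orderOf_dvd_of_pow_eq_one h1)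
  exact ⟨j, hj⟩

/-- KC1. -/
theorem Cfg.typeC_data (c : Cfg G n m) (hAB : AB G n m) (M : Subgroup G) [M.Normal]
    (hM : ∀ g : G, g ∈ M ↔ (ix g = 1 ∨ ix g = m)) (hMc : ∀ x ∈ M, ∀ y ∈ M, x * y = y * x)
    (hcent : ∀ a : G, ix a = n → ∀ b ∈ M, a * b = b * a) :
    ∃ (p r : ℕ) (a x b' : G), p.Prime ∧ r.Prime ∧ p ∣ m ∧ r ∣ n ∧ ix a = n ∧ IsPrimary p a ∧
      IsPrimary p x ∧ ix x = n * m ∧ a * x = x * a ∧ b' ∈ M ∧ IsPrimary r b' ∧
      x * b' ≠ b' * x := by
  have hn1 := c.one_lt_n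
  have hm1 := c.one_lt_m
  obtain ⟨a0, ha0⟩ := c.exn
  obtain ⟨p, a, hp, hap, _, hCz⟩ := c.exists_primary ha0
  have ha : ix a = n := by
    show (Cz a).index = n
    rw [hCz]; exact ha0
  have hpm : p ∣ m := hAB.1 p a hp ha hap
  haveI : Fact p.Prime := ⟨hp⟩
  have hpn : ¬ p ∣ n := by
    intro hpn
    have := Nat.eq_one_of_dvd_coprimes c.cop hpn hpm
    exact hp.one_lt.ne' this
  obtain ⟨P, hPa, hPp, hPcard⟩ := kc1_exists_sylow p (Cz a)
  have hvp : (Nat.card (Cz a)).factorization p = (Nat.card G).factorization p := by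
    have h1 := factorization_card_Cz a p
    rw [ha, Nat.factorization_eq_zero_of_not_dvd hpn] at h1
    simpa using h1
  obtain ⟨b, hb⟩ := c.exm
  have hbM : b ∈ M := (hM b).2 (Or.inr hb)
  -- P is not contained in C(b)
  have hex : ∃ x ∈ P, x ∉ Cz b := by
    by_contra hcon
    push Not at hcon
    have hle : P ≤ Cz b := hcon
    have hdvd : Nat.card P ∣ Nat.card (Cz b) := Subgroup.card_dvd_of_le hle
    rw [hPcard, hvp] at hdvd
    have h2 : (Nat.card G).factorization p ≤ (Nat.card (Cz b)).factorization p := by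
      have hne : Nat.card (Cz b) ≠ 0 := Nat.card_pos.ne'
      exact (hp.pow_dvd_iff_le_factorization hne).1 hdvd
    have h3 := factorization_card_Cz b p
    rw [hb] at h3
    have h4 : 0 < m.factorization p :=
      hp.factorization_pos_of_dvd (by omega) hpm
    omega
  obtain ⟨x, hxP, hxb⟩ := hex
  have hxp : IsPrimary p x := kc1_isPrimary_of_mem hPp hxP
  have hax : a * x = x * a := mem_Cz.1 (hPa hxP)
  have hxb' : ¬ b * x = x * b := fun h => hxb (mem_Cz.2 h)
  have hx : ix x = n * m := by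
    rcases c.cases x with h | h | h | h
    · exfalso
      have hxZ : x ∈ center G := ix_eq_one_iff.1 h
      exact hxb' (Subgroup.mem_center_iff.1 hxZ b)
    · exfalso
      exact hxb' (hcent x h b hbM).symm
    · exfalso
      have hxM : x ∈ M := (hM x).2 (Or.inr h)
      exact hxb' (hMc b hbM x hxM)
    · exact h
  -- a primary power of b outside C(x)
  have hex2 : ∃ (r : ℕ) (k : ℕ), r.Prime ∧ IsPrimary r (b ^ k) ∧ b ^ k ∉ Cz x := by
    by_contra hcon
    push Not at hcon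
    apply hxb
    have : b ∈ Cz x := by
      apply Helper19.MaxCent.mem_of_primary_parts (Cz x) b
      intro q hq k hk
      exact hcon q k hq hk
    exact mem_Cz_comm.1 this
  obtain ⟨r, k, hr, hbr, hbx⟩ := hex2
  have hb'M : b ^ k ∈ M := M.pow_mem hbM k
  have hxb2 : x * b ^ k ≠ b ^ k * x := fun h => hbx (mem_Cz.2 h)
  have hb'ix : ix (b ^ k) = m := by
    rcases (hM _).1 hb'M with h | h
    · exfalso
      have hZ : b ^ k ∈ center G := ix_eq_one_iff.1 h
      exact hxb2 (Subgroup.mem_center_iff.1 hZ x)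
    · exact h
  have hrn : r ∣ n := hAB.2 r (b ^ k) hr hb'ix hbr
  exact ⟨p, r, a, x, b ^ k, hp, hr, hpm, hrn, ha, hap, hxp, hx, hax, hb'M, hbr, hxb2⟩

end Cfsg.Agent.Helper1.NM
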