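import Mathlib
import Cfsg.Agent.Lib.Helper1.NMDefs
import Cfsg.Agent.Lib.Helper1.NMBAS1

/-!
# S4146, piece KF1: `Cfg.typeF_sylow_central`
-/

namespace Cfsg.Agent.Helper1.NM

open Subgroup

variable {G : Type*} [Group G] [Finite G] {n m : ℕ}

/-- an `r`-element centralizes a nontrivial element of a normal subgroup of order divisible
by `r` (fixed points of the conjugation action of the cyclic `r`-group it generates). -/
theorem kf1_exists_fixed {r : ℕ} (hr : r.Prime) (T : Subgroup G) [T.Normal]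
    (hrT : r ∣ Nat.card T) {y : G} (hy : IsPrimary r y) :
    ∃ z ∈ T, z ≠ 1 ∧ y * z = z * y := by
  haveI : Fact r.Prime := ⟨hr⟩
  obtain ⟨k, hk⟩ := hy
  set A : Subgroup (ConjAct G) := zpowers (ConjAct.toConjAct y) with hA
  have hAp : IsPGroup r A := by
    apply IsPGroup.of_card (n := k)
    rw [hA, Nat.card_zpowers, MulEquiv.orderOf_eq, hk]
  have h1 : (1 : T) ∈ MulAction.fixedPoints A T := by
    intro g
    rw [Subgroup.smul_def, smul_one]
  obtain ⟨b, hb, hb1⟩ :=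
    hAp.exists_fixed_point_of_prime_dvd_card_of_fixed_point (α := T) hrT h1
  refine ⟨b.1, b.2, ?_, ?_⟩
  · intro h
    apply hb1
    exact Subtype.ext h.symm
  · have h2 := hb ⟨ConjAct.toConjAct y, mem_zpowers _⟩
    rw [Subgroup.smul_def] at h2
    have h3 := congrArg Subtype.val h2
    rw [ConjAct.Subgroup.val_conj_smul, ConjAct.toConjAct_smul] at h3
    calc y * b.1 = y * b.1 * y⁻¹ * y := by group
      _ = b.1 * y := by rw [h3]

/-- KF1. -/
theorem Cfg.typeF_sylow_central (c : Cfg G n m)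
    (hAB1 : ∀ (p : ℕ) (a : G), p.Prime → ix a = n → IsPrimary p a → p ∣ m)
    (M : Subgroup G) [M.Normal] (hM : ∀ g : G, g ∈ M ↔ (ix g = 1 ∨ ix g = m))
    {p : ℕ} (hp : p.Prime) (hpm : p ∣ m) {a : G} (ha : ix a = n) (hap : IsPrimary p a)
    (T : Subgroup G) [T.Normal] (hTM : T ≤ M) (hTn : Nat.card T ∣ n)
    (hTZ : T ⊓ center G = ⊥) (hCM : M ⊓ Cz a = center G) {r : ℕ} (hr : r.Prime)
    (hrT : r ∣ Nat.card T) :
    ∀ y ∈ Cz a, IsPrimary r y → y ∈ center G := by
  intro y hy hyr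
  by_contra hyZ
  have hrn : r ∣ n := dvd_trans hrT hTn
  have hrm : ¬ r ∣ m := by
    intro hrm
    have := Nat.eq_one_of_dvd_coprimes c.cop hrn hrm
    exact hr.one_lt.ne' this
  have hpr : r ≠ p := by
    rintro rfl
    exact hrm hpm
  have hiy : ix y = n * m := by
    rcases c.cases y with h | h | h | h
    · exact absurd (ix_eq_one_iff.1 h) hyZ
    · exact absurd (hAB1 r y hr h hyr) hrm
    · exfalso
      have h1 : y ∈ M ⊓ Cz a := ⟨(hM y).2 (Or.inr h), hy⟩
      rw [hCM] at h1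
      exact hyZ h1
    · exact h
  have hcop : (orderOf y).Coprime (orderOf a) := by
    obtain ⟨k, hk⟩ := hyr
    obtain ⟨j, hj⟩ := hap
    rw [hk, hj]
    exact Nat.Coprime.pow _ _ ((Nat.coprime_primes hr hp).2 hpr)
  have hle : Cz y ≤ Cz a := c.Cz_le_of_nm hiy (mem_Cz_comm.1 hy) hcop
  obtain ⟨z, hzT, hz1, hzy⟩ := kf1_exists_fixed hr T hrT hyr
  have hza : z ∈ Cz a := hle (mem_Cz.2 hzy)
  have h2 : z ∈ M ⊓ Cz a := ⟨hTM hzT, hza⟩
  rw [hCM] at h2
  have h3 : z ∈ T ⊓ center G := ⟨hzT, h2⟩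
  rw [hTZ, Subgroup.mem_bot] at h3
  exact hz1 h3

end Cfsg.Agent.Helper1.NM
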