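import Mathlib
import Cfsg.Agent.Lib.Helper1.NMDefs
import Cfsg.Agent.Lib.Helper1.NMBAS1
import Cfsg.Agent.Lib.Helper6.NMKC1

/-!
# S4146, piece KF2: `Cfg.typeF_false`
-/

namespace Cfsg.Agent.Helper1.NM

open Subgroup

variable {G : Type*} [Group G] [Finite G] {n m : ℕ}

omit [Finite G] in
theorem kf2_center_le_Cz (g : G) : center G ≤ Cz g := by
  intro z hz
  exact mem_Cz.2 (Subgroup.mem_center_iff.1 hz g)

/-- if all `r`-elements of `H` lie in the subgroup `Z ≤ H`, then `v_r |H| = v_r |Z|`. -/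
theorem kf2_val_eq {r : ℕ} (hr : r.Prime) (H Z : Subgroup G) (hZH : Z ≤ H)
    (hcent : ∀ y ∈ H, IsPrimary r y → y ∈ Z) :
    (Nat.card H).factorization r = (Nat.card Z).factorization r := by
  haveI : Fact r.Prime := ⟨hr⟩
  apply le_antisymm
  · obtain ⟨R, hRH, hRp, hRcard⟩ := kc1_exists_sylow r H
    have hRZ : R ≤ Z := fun x hx => hcent x (hRH hx) (kc1_isPrimary_of_mem hRp hx)
    have hdvd : Nat.card R ∣ Nat.card Z := Subgroup.card_dvd_of_le hRZ
    rw [hRcard] at hdvd
    exact (hr.pow_dvd_iff_le_factorization Nat.card_pos.ne').1 hdvd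
  · have hdvd : Nat.card Z ∣ Nat.card H := Subgroup.card_dvd_of_le hZH
    exact (Nat.factorization_le_iff_dvd Nat.card_pos.ne' Nat.card_pos.ne').2 hdvd r

/-- if `Z ≤ H` is normal in `G` with `v_r |H| = v_r |Z|`, every `r`-element of `H` lies in `Z`. -/
theorem kf2_mem_of_val_eq {r : ℕ} (hr : r.Prime) (H Z : Subgroup G) [Z.Normal] (hZH : Z ≤ H)
    (hval : (Nat.card H).factorization r = (Nat.card Z).factorization r)
    {y : G} (hy : y ∈ H) (hyr : IsPrimary r y) : y ∈ Z := by
  have h1 : Z.relIndex H * Nat.card Z = Nat.card H := by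
    have := Helper21.ClassSize.relIndex_mul_card_inf Z H
    rwa [inf_eq_left.2 hZH] at this
  have hk0 : Z.relIndex H ≠ 0 := by
    intro h0
    rw [h0, zero_mul] at h1
    exact Nat.card_pos.ne' h1.symm
  have hnd : ¬ r ∣ Z.relIndex H := by
    intro hd
    have h2 : 0 < (Z.relIndex H).factorization r := hr.factorization_pos_of_dvd hk0 hd
    have h3 : (Nat.card H).factorization r
        = (Z.relIndex H).factorization r + (Nat.card Z).factorization r := by
      rw [← h1, Nat.factorization_mul hk0 Nat.card_pos.ne']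
      rfl
    omega
  have hmem : y ^ Z.relIndex H ∈ Z := Subgroup.pow_relIndex_mem Z hy
  obtain ⟨j, hj⟩ := hyr
  have hcop : (Z.relIndex H).Coprime (orderOf y) := by
    rw [hj]
    exact Nat.Coprime.pow_right j ((Nat.Prime.coprime_iff_not_dvd hr).2 hnd).symm
  obtain ⟨e, he⟩ := exists_pow_eq_self_of_coprime hcop
  rw [← he]
  exact Z.pow_mem hmem e

/-- KF2. -/
theorem Cfg.typeF_false (c : Cfg G n m) (M : Subgroup G) [M.Normal]
    (hM : ∀ g : G, g ∈ M ↔ (ix g = 1 ∨ ix g = m)) (hMc : ∀ x ∈ M, ∀ y ∈ M, x * y = y * x)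
    {a : G} (ha : ix a = n) (T : Subgroup G) (hTM : T ≤ M) (hTn : Nat.card T ∣ n)
    (hTZ : T ⊓ center G = ⊥) (hMZT : ∀ b ∈ M, ∃ z ∈ center G, ∃ t ∈ T, b = z * t)
    {r : ℕ} (hr : r.Prime) (hrT : r ∣ Nat.card T)
    (hcent : ∀ y ∈ Cz a, IsPrimary r y → y ∈ center G) : False := by
  have hn1 := c.one_lt_n
  have hm1 := c.one_lt_m
  haveI : Fact r.Prime := ⟨hr⟩
  have hrn : r ∣ n := dvd_trans hrT hTn
  have hrm : ¬ r ∣ m := by
    intro hrm
    have := Nat.eq_one_of_dvd_coprimes c.cop hrn hrm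
    exact hr.one_lt.ne' this
  have hvm : m.factorization r = 0 := Nat.factorization_eq_zero_of_not_dvd hrm
  -- v_r |C(a)| = v_r |Z|
  have hva : (Nat.card (Cz a)).factorization r = (Nat.card (center G)).factorization r :=
    kf2_val_eq hr (Cz a) (center G) (kf2_center_le_Cz a) hcent
  -- r-elements of C(g) are central when i(g) ∈ {n, nm}
  have hstep : ∀ g : G, (ix g = n ∨ ix g = n * m) → ∀ y ∈ Cz g, IsPrimary r y → y ∈ center G := by
    intro g hg y hy hyr
    have hvg : (ix g).factorization r = n.factorization r := by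
      rcases hg with h | h
      · rw [h]
      · rw [h, Nat.factorization_mul (by omega) (by omega)]
        simp [hvm]
    have h1 := factorization_card_Cz g r
    have h2 := factorization_card_Cz a r
    rw [hvg] at h1
    rw [ha] at h2
    have hval : (Nat.card (Cz g)).factorization r = (Nat.card (center G)).factorization r := by
      omega
    exact kf2_mem_of_val_eq hr (Cz g) (center G) (kf2_center_le_Cz g) hval hy hyr
  -- an element of order r in T
  obtain ⟨y0, hy0⟩ := exists_prime_orderOf_dvd_card' (G := T) r hrT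
  have hyo : orderOf (y0 : G) = r := by rw [Subgroup.orderOf_coe]; exact hy0
  have hyr : IsPrimary r (y0 : G) := ⟨1, by rw [hyo, pow_one]⟩
  have hyT : (y0 : G) ∈ T := y0.2
  have hyM : (y0 : G) ∈ M := hTM hyT
  have hyZ : (y0 : G) ∉ center G := by
    intro hZ
    have h1 : (y0 : G) ∈ T ⊓ center G := ⟨hyT, hZ⟩
    rw [hTZ, Subgroup.mem_bot] at h1
    rw [h1, orderOf_one] at hyo
    exact hr.one_lt.ne' hyo.symm
  -- C(y) = M
  have hCM : Cz (y0 : G) = M := by
    apply le_antisymm
    · intro g hg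
      rw [hM]
      rcases c.cases g with h | h | h | h
      · exact Or.inl h
      · exact absurd (hstep g (Or.inl h) _ (mem_Cz_comm.1 hg) hyr) hyZ
      · exact Or.inr h
      · exact absurd (hstep g (Or.inr h) _ (mem_Cz_comm.1 hg) hyr) hyZ
    · intro g hg
      exact mem_Cz.2 (hMc _ hyM g hg)
  have hiy : ix (y0 : G) = m := by
    rcases (hM _).1 hyM with h | h
    · exact absurd (ix_eq_one_iff.1 h) hyZ
    · exact h
  have hMidx : M.index = m := by
    rw [← hCM]; exact hiy
  -- counting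
  obtain ⟨w, hw⟩ := c.exnm
  have e1 : Nat.card (Cz w) * (n * m) = Nat.card G := by
    have := Subgroup.card_mul_index (Cz w)
    rw [show (Cz w).index = n * m from hw] at this
    exact this
  have e2 : Nat.card M * m = Nat.card G := by
    have := Subgroup.card_mul_index M
    rwa [hMidx] at this
  have hZM : center G ≤ M := by
    intro z hz
    exact (hM z).2 (Or.inl (ix_eq_one_iff.2 hz))
  have e3 : Nat.card M ≤ Nat.card (center G) * Nat.card T := by
    rw [← Nat.card_prod]
    let f : center G × T → M := fun zt => ⟨zt.1.1 * zt.2.1, M.mul_mem (hZM zt.1.2) (hTM zt.2.2)⟩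
    apply Nat.card_le_card_of_surjective f
    intro b
    obtain ⟨z, hz, t, ht, hb⟩ := hMZT b.1 b.2
    exact ⟨(⟨z, hz⟩, ⟨t, ht⟩), Subtype.ext hb.symm⟩
  have e4 : Nat.card T ≤ n := Nat.le_of_dvd (by omega) hTn
  have e5 : Nat.card (Cz w) ≤ Nat.card (center G) := by
    have h1 : Nat.card (Cz w) * (n * m) ≤ Nat.card (center G) * (n * m) := by
      calc Nat.card (Cz w) * (n * m) = Nat.card M * m := by rw [e1, e2]
        _ ≤ (Nat.card (center G) * Nat.card T) * m := Nat.mul_le_mul_right m e3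
        _ ≤ (Nat.card (center G) * n) * m :=
            Nat.mul_le_mul_right m (Nat.mul_le_mul_left _ e4)
        _ = Nat.card (center G) * (n * m) := by ring
    exact Nat.le_of_mul_le_mul_right h1 (by positivity)
  have e6 : center G = Cz w := Subgroup.eq_of_le_of_card_ge (kf2_center_le_Cz w) e5
  have hwZ : w ∈ center G := by rw [e6]; exact self_mem_Cz w
  have := ix_eq_one_iff.2 hwZ
  rw [hw] at this
  nlinarith

end Cfsg.Agent.Helper1.NM
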