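import Mathlib

/-!
# S4700 (Brauer–Reynolds, Theorem 2): the arithmetic   (helper6)

`CondC p n` is alternative (c) of S4700; `NC p n` says that every divisor `d ≡ 1 (mod p)` of
`(p - 1) (1 + n p)` is `1` or `1 + n p`.  `¬ CondC p n → NC p n` (Lemma A), and under `NC p n` the three
arithmetic lemmas `L5`, `L6`, `L7` of `Helper10.BRArith` hold without any bound on `n` (Lemma B).
-/

set_option autoImplicit false

namespace Cfsg.Agent.Helper6.BR4700

/-- alternative (c) of S4700 -/
def CondC (p n : ℕ) : Prop :=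
  ∃ h u : ℕ, 0 < h ∧ 0 < u ∧ n * (u + 1) = h * u * p + u ^ 2 + u + h

/-- every divisor `d ≡ 1 (mod p)` of `(p - 1) (1 + n p)` is `1` or `1 + n p` -/
def NC (p n : ℕ) : Prop :=
  ∀ d : ℕ, d ∣ (p - 1) * (1 + n * p) → d % p = 1 → d = 1 ∨ d = 1 + n * p

/-- Lemma A: a divisor `d ≡ 1 (mod p)` of `(p - 1) (1 + n p)` other than `1`, `1 + n p` gives (c). -/
theorem lemmaA {p n d : ℕ} (hp : 2 ≤ p) (hd : d ∣ (p - 1) * (1 + n * p)) (hmod : d % p = 1)
    (h1 : d ≠ 1) (hr : d ≠ 1 + n * p) : CondC p n := by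
  obtain ⟨y, hy⟩ := hd
  obtain ⟨u, hu⟩ : ∃ u, d = u * p + 1 := ⟨d / p, by
    have := Nat.div_add_mod d p
    rw [hmod] at this
    linarith [mul_comm p (d / p)]⟩
  have hu1 : 1 ≤ u := by
    rcases Nat.eq_zero_or_pos u with h | h
    · subst h; omega
    · exact h
  have hpZ : (2 : ℤ) ≤ p := by exact_mod_cast hp
  have hp1 : ((p - 1 : ℕ) : ℤ) = (p : ℤ) - 1 := by
    have : 1 ≤ p := by omega
    push_cast [this]; ring
  have hyZ : ((p : ℤ) - 1) * (1 + n * p) = (u * p + 1) * y := by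
    have : (((p - 1) * (1 + n * p) : ℕ) : ℤ) = ((d * y : ℕ) : ℤ) := by rw [hy]
    rw [hu] at this
    push_cast at this
    rw [hp1] at this
    linarith
  have hu1Z : (1 : ℤ) ≤ u := by exact_mod_cast hu1
  have hn0 : (0 : ℤ) ≤ n := by positivity
  have hy0 : (0 : ℤ) ≤ y := by positivity
  -- `y + 1 = p k`
  set k : ℤ := 1 + n * p - n - u * y with hk
  have hyk : (y : ℤ) + 1 = p * k := by rw [hk]; linarith
  have hkpos : 0 < k := by
    have : (0 : ℤ) < p * k := by rw [← hyk]; linarith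
    by_contra hneg
    push Not at hneg
    nlinarith
  -- `n (p-1) = u (p-1) + (k-1)(u p + 1)`
  have hmain : (n : ℤ) * (p - 1) = u * (p - 1) + (k - 1) * (u * p + 1) := by
    have hyy : (y : ℤ) = p * k - 1 := by linarith
    have e1 : k = 1 + n * p - n - u * (p * k - 1) := by rw [← hyy]
    linear_combination (-1 : ℤ) * e1
  have hk1 : k ≠ 1 := by
    intro h
    rw [h] at hmain
    have h2 : ((n : ℤ) - u) * (p - 1) = 0 := by linarith
    have hp0 : (p : ℤ) - 1 ≠ 0 := by linarith
    rcases mul_eq_zero.mp h2 with h3 | h3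
    · apply hr
      have : (n : ℤ) = u := by linarith
      have hnu : n = u := by exact_mod_cast this
      rw [hu, hnu]; ring
    · exact hp0 h3
  have hk2 : 2 ≤ k := by omega
  -- `(k-1)(u+1) = (p-1) h`
  set h : ℤ := n - k * u with hh
  have hdiv : (k - 1) * ((u : ℤ) + 1) = (p - 1) * h := by
    rw [hh]; linear_combination (-1 : ℤ) * hmain
  have hhpos : 0 < h := by
    have : (0 : ℤ) < (p - 1) * h := by
      rw [← hdiv]
      have : (0 : ℤ) < k - 1 := by linarith
      positivity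
    by_contra hneg
    push Not at hneg
    nlinarith
  have hfinal : (n : ℤ) * (u + 1) = h * u * p + u ^ 2 + u + h := by
    have hn' : (n : ℤ) = h + k * u := by rw [hh]; ring
    have e2 : k * (u : ℤ) * (u + 1) = u * ((k - 1) * (u + 1)) + u * (u + 1) := by ring
    rw [hn']
    have : (h + k * u) * ((u : ℤ) + 1) = h * (u + 1) + k * u * (u + 1) := by ring
    rw [this, e2, hdiv]; ring
  refine ⟨h.toNat, u, ?_, hu1, ?_⟩
  · omega
  · have hcast : ((h.toNat : ℕ) : ℤ) = h := Int.toNat_of_nonneg hhpos.le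
    have : ((n * (u + 1) : ℕ) : ℤ) = ((h.toNat * u * p + u ^ 2 + u + h.toNat : ℕ) : ℤ) := by
      push_cast
      rw [hcast]
      exact hfinal
    exact_mod_cast this

/-- `¬ (c)` implies `(NC)`. -/
theorem nc_of_not_condC {p n : ℕ} (hp : 2 ≤ p) (h : ¬ CondC p n) : NC p n := by
  intro d hd hmod
  by_contra hcon
  push Not at hcon
  exact h (lemmaA hp hd hmod hcon.1 hcon.2)

/-- the witness of (c) in the reduction to `O_{p'}(G) = 1` -/
theorem condC_of_mul {p n nb m : ℕ} (hp : 1 ≤ p) (hnb : 1 ≤ nb) (hm : 1 ≤ m)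
    (h : 1 + n * p = (1 + nb * p) * (1 + m * p)) : CondC p n := by
  have hn : n = nb + m + nb * m * p := by
    have h1 : n * p = (nb + m + nb * m * p) * p := by
      have : (1 + nb * p) * (1 + m * p) = 1 + (nb + m + nb * m * p) * p := by ring
      omega
    exact Nat.eq_of_mul_eq_mul_right hp h1
  refine ⟨m * (nb + 1), nb, by positivity, hnb, ?_⟩
  rw [hn]; ring

/-- `w r ∣ (p - 1) r` -/
theorem mul_dvd_aux {p w t n : ℕ} (hp : p = w * t + 1) (x : ℕ) (hx : x ∣ t * (w * (1 + n * p))) :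
    x ∣ (p - 1) * (1 + n * p) := by
  have : (p - 1) * (1 + n * p) = t * (w * (1 + n * p)) := by
    have : p - 1 = w * t := by omega
    rw [this]; ring
  rw [this]; exact hx

/-- Lemma B1 = `L5` under `(NC)`. -/
theorem L5' {p w t n u x : ℕ} (hp : p = w * t + 1) (hw : 1 ≤ w) (ht : 1 ≤ t)
    (hnc : NC p n) (hu : 1 ≤ u) (hx : x = u * p + 1) (hdvd : x ∣ w * (1 + n * p)) :
    u = n := by
  have hp2 : 2 ≤ p := by
    have : 1 ≤ w * t := Nat.mul_pos hw ht
    omega
  have h1 : x ∣ (p - 1) * (1 + n * p) := mul_dvd_aux hp x (Dvd.dvd.mul_left hdvd t)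
  have h2 : x % p = 1 := by
    rw [hx, add_comm, Nat.add_mul_mod_self_right, Nat.mod_eq_of_lt (by omega)]
  rcases hnc x h1 h2 with h | h
  · exfalso
    rw [hx] at h
    have : 0 < u * p := Nat.mul_pos hu (by omega)
    omega
  · rw [hx] at h
    have : u * p = n * p := by omega
    exact Nat.eq_of_mul_eq_mul_right (by omega) this

/-- Lemma B2 = `L6` under `(NC)` (the hypothesis `hsq` is not needed any more). -/
theorem L6' {p w t n u x : ℕ} (hp : p = w * t + 1) (hw : 1 ≤ w) (ht : 2 ≤ t)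
    (hnc : NC p n) (hu : 1 ≤ u) (hx : x + 1 = u * p) (hdvd : x ∣ w * (1 + n * p)) : u = 1 := by
  have hp2 : 2 ≤ p := by
    have : 1 ≤ w * t := Nat.mul_pos hw (by omega)
    omega
  obtain ⟨y, hy⟩ := hdvd
  have hypos : 0 < y := by
    rcases Nat.eq_zero_or_pos y with h | h
    · rw [h, mul_zero] at hy
      have : 0 < w * (1 + n * p) := Nat.mul_pos hw (by omega)
      omega
    · exact h
  -- `t y ∣ (p-1) r`
  have h1 : t * y ∣ (p - 1) * (1 + n * p) := by
    apply mul_dvd_aux hp
    rw [hy]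
    exact ⟨x, by ring⟩
  -- `t y ≡ 1 (mod p)`
  have h2 : (t * y) % p = 1 := by
    have hZ : ((t * y : ℕ) : ℤ) ≡ 1 [ZMOD (p : ℤ)] := by
      have hyZ : (w : ℤ) * (1 + n * p) = x * y := by exact_mod_cast hy
      have hxZ : (x : ℤ) = u * p - 1 := by
        have : (x : ℤ) + 1 = u * p := by exact_mod_cast hx
        linarith
      have hpZ : (p : ℤ) = w * t + 1 := by exact_mod_cast hp
      rw [hxZ] at hyZ
      -- `y = u p y - w - w n p`, `t y = p (t u y - t w n) - t w = p (...) - (p - 1)`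
      have : ((t * y : ℕ) : ℤ) = 1 + p * (t * u * y - t * w * n - 1) := by
        push_cast
        have e : (y : ℤ) = u * p * y - w * (1 + n * p) := by linarith
        calc (t : ℤ) * y = t * (u * p * y - w * (1 + n * p)) := by rw [← e]
          _ = 1 + p * (t * u * y - t * w * n - 1) + (p - (w * t + 1)) := by ring
          _ = 1 + p * (t * u * y - t * w * n - 1) := by rw [← hpZ]; ring
      rw [this]
      exact Int.modEq_iff_dvd.mpr ⟨-(t * u * y - t * w * n - 1), by ring⟩
    have h3 : (t * y) % p = 1 % p := by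
      have := Int.natCast_modEq_iff.mp (by simpa using hZ : ((t * y : ℕ) : ℤ) ≡ ((1 : ℕ) : ℤ) [ZMOD ((p : ℕ) : ℤ)])
      exact this
    rw [h3, Nat.mod_eq_of_lt (by omega)]
  rcases hnc (t * y) h1 h2 with h | h
  · exfalso
    have : 2 * 1 ≤ t * y := Nat.mul_le_mul ht hypos
    omega
  · -- `x r = x t y = (p-1) r`
    have h4 : x * (1 + n * p) = (p - 1) * (1 + n * p) := by
      have : (p - 1) * (1 + n * p) = t * (x * y) := by
        rw [← hy]
        have : p - 1 = w * t := by omega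
        rw [this]; ring
      rw [this, ← h]; ring
    have h5 : x = p - 1 := Nat.eq_of_mul_eq_mul_right (by omega) h4
    have h6 : u * p = 1 * p := by omega
    exact Nat.eq_of_mul_eq_mul_right (by omega) h6

/-- Lemma B3 = `L7` under `(NC)`. -/
theorem L7' {p w t n u0 x0 : ℕ} (hp : p = w * t + 1) (hw : 1 ≤ w) (ht : 2 ≤ t)
    (hnc : NC p n) (hx : x0 + w = u0 * p) (hx0 : 0 < x0) (hdvd : x0 ∣ w * (1 + n * p)) :
    n + 1 = u0 * t := by
  have hp2 : 2 ≤ p := by
    have : 1 ≤ w * t := Nat.mul_pos hw (by omega)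
    omega
  have h1 : t * x0 ∣ (p - 1) * (1 + n * p) := by
    apply mul_dvd_aux hp
    exact Nat.mul_dvd_mul_left t hdvd
  have h2 : (t * x0) % p = 1 := by
    have hkey : t * x0 + p * 1 = 1 + (t * u0) * p := by
      have : t * (x0 + w) = t * (u0 * p) := by rw [hx]
      have e : t * (x0 + w) = t * x0 + w * t := by ring
      have e2 : t * (u0 * p) = (t * u0) * p := by ring
      omega
    have h3 : (t * x0 + p * 1) % p = (1 + (t * u0) * p) % p := by rw [hkey]
    rw [Nat.add_mul_mod_self_left, Nat.add_mul_mod_self_right, Nat.mod_eq_of_lt (a := 1) (by omega)] at h3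
    exact h3
  rcases hnc (t * x0) h1 h2 with h | h
  · exfalso
    have : 2 * 1 ≤ t * x0 := Nat.mul_le_mul ht hx0
    omega
  · have h3 : (n + 1) * p = (u0 * t) * p := by
      have : t * (x0 + w) = t * (u0 * p) := by rw [hx]
      have e : t * (x0 + w) = t * x0 + w * t := by ring
      have e2 : t * (u0 * p) = (u0 * t) * p := by ring
      have e3 : (n + 1) * p = n * p + p := by ring
      omega
    exact Nat.eq_of_mul_eq_mul_right (by omega) h3

/-- the bound of S0996 implies `(NC)` (this is `L5` of S0996 for `w = p - 1`, `t = 1`);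
so Theorem S below contains S0996. -/
theorem nc_of_le {p n : ℕ} (hp : 2 ≤ p) (hn : 2 * n ≤ p + 1) : NC p n := by
  apply nc_of_not_condC hp
  rintro ⟨h, u, hh, hu, he⟩
  -- `n (u+1) = h u p + u² + u + h ≥ u p + u² + u + 1`, and `2 n ≤ p + 1`
  have h1 : u * p + u ^ 2 + u + 1 ≤ n * (u + 1) := by
    rw [he, mul_assoc]
    have := Nat.le_mul_of_pos_left (u * p) hh
    omega
  have h2 : 2 * (n * (u + 1)) ≤ (p + 1) * (u + 1) := by
    have := Nat.mul_le_mul_right (u + 1) hn
    linarith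
  nlinarith

end Cfsg.Agent.Helper6.BR4700
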