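import Mathlib
import Cfsg.Agent.Lib.Helper1.BR996NUM1
import Cfsg.Agent.Lib.Helper7.BR996NUM2
import Cfsg.Agent.Lib.Helper6.BR4700A

/-!
# S4700: the numerical core of S0996 under `(NC)` instead of `2 n ≤ p + 1`   (helper6)

`num_core'`, `num_t1'` are helper1's `num_core` and helper7's `num_t1` (S0996 pieces NUM1, NUM2), word for word, with
the hypothesis `hn : 2 * n ≤ p + 1` replaced by `hn : NC p n` and `BRArith.L5/L6/L7` replaced by `L5'/L6'/L7'`.
-/

set_option autoImplicit false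
set_option linter.unusedVariables false

namespace Cfsg.Agent.Helper6.BR4700

theorem num_core' {ι : Type*} [Fintype ι] [DecidableEq ι] (deg a : ι → ℕ) (X Y : Finset ι)
    (sg : ι → ℤ) (d0 : ℤ) (one : ι) (p w t n : ℕ)
    (hp : p = w * t + 1) (hw : 2 ≤ w) (ht : 2 ≤ t) (hn1 : 1 ≤ n) (hn : NC p n)
    (hdisj : Disjoint X Y) (hX : X.card = w) (hY : Y.card = t)
    (hsg : ∀ i ∈ X, sg i = 1 ∨ sg i = -1) (hd0 : d0 = 1 ∨ d0 = -1)
    (hone : one ∈ X) (hsg1 : sg one = 1) (hdeg1 : deg one = 1) (hperf : ∀ i, deg i = 1 → i = one)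
    (hdegpos : ∀ i, 0 < deg i)
    (hwX : ∀ i ∈ X, (p : ℤ) * a i = deg i + sg i * ((p : ℤ) - 1))
    (hwY : ∀ i ∈ Y, (p : ℤ) * a i = deg i + d0 * w)
    (hwD : ∀ i, i ∉ X → i ∉ Y → (p : ℤ) * a i = deg i)
    (hYdeg : ∀ i ∈ Y, ∀ j ∈ Y, deg i = deg j)
    (hdvd : ∀ i, deg i ∣ p * w * (1 + n * p))
    (hsq : ∑ i, deg i ^ 2 = p * w * (1 + n * p))
    (hdegeq : ((p : ℤ) - 1) * ∑ i ∈ X, sg i * (deg i : ℤ) + d0 * w * ∑ i ∈ Y, (deg i : ℤ) = 0)
    (hnorm : ∑ i, a i ^ 2 = w * (n + 1)) :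
    ∃ e u0 : ℕ, (X.filter (fun i => i ≠ one ∧ sg i = 1)).card = e ∧
      (∀ i ∈ X, i ≠ one → sg i = 1 → deg i = 1 + n * p ∧ a i = n + 1) ∧
      (∀ i ∈ X, sg i = -1 → deg i + 1 = p ∧ a i = 0) ∧
      (∀ i ∈ Y, a i = u0 ∧ (deg i : ℤ) = u0 * p - d0 * w) ∧
      (∑ i ∈ (Finset.univ \ X) \ Y, a i ^ 2 = n) ∧
      ((d0 = 1 ∧ n + 1 = u0 * t ∧ w = 1 + e * (n + 1) + u0) ∨
        (d0 = -1 ∧ u0 = 0 ∧ w = 1 + e * (n + 1))) := by
  classical
  have hwt : 4 ≤ w * t := by nlinarith
  have hp5 : 5 ≤ p := by omega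
  have hwp : w < p := by nlinarith
  have hp5Z : (5 : ℤ) ≤ p := by exact_mod_cast hp5
  have hcopw : Nat.Coprime w p := by
    have : Nat.Coprime p w := Cfsg.Agent.Helper10.BR996.NUM1.cop_add (x := p) (k := t) (p := w) (by rw [hp]; ring)
    exact this.symm
  have hdv : ∀ i, Nat.Coprime (deg i) p → deg i ∣ w * (1 + n * p) := by
    intro i hc
    have h1 := hdvd i
    rw [mul_assoc] at h1
    exact (Nat.Coprime.dvd_mul_left hc).1 h1
  -- the characters with sign `+1`
  have hA : ∀ i ∈ X, i ≠ one → sg i = 1 → deg i = 1 + n * p ∧ a i = n + 1 := by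
    intro i hi hne hs
    have h := hwX i hi
    rw [hs, one_mul] at h
    have hdp : (0 : ℤ) < deg i := by exact_mod_cast hdegpos i
    have ha1 : 1 ≤ a i := by
      by_contra hcon
      have h0 : a i = 0 := by omega
      rw [h0] at h
      simp at h
      linarith
    obtain ⟨u, hu⟩ : ∃ u, a i = u + 1 := ⟨a i - 1, by omega⟩
    have hdeg : deg i = u * p + 1 := by
      rw [hu] at h
      push_cast at h
      have : (deg i : ℤ) = u * p + 1 := by linarith
      exact_mod_cast this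
    have hu1 : 1 ≤ u := by
      by_contra hcon
      have h0 : u = 0 := by omega
      rw [h0] at hdeg
      exact hne (hperf i (by omega))
    have hun := L5' hp (by omega) (by omega) hn hu1 hdeg
      (hdv i (Cfsg.Agent.Helper10.BR996.NUM1.cop_add hdeg))
    rw [hun] at hdeg hu
    exact ⟨by rw [hdeg]; ring, hu⟩
  -- the characters with sign `-1`
  have hB : ∀ i ∈ X, sg i = -1 → deg i + 1 = p ∧ a i = 0 := by
    intro i hi hs
    have h := hwX i hi
    rw [hs] at h
    have hne : i ≠ one := by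
      rintro rfl
      rw [hsg1] at hs
      exact absurd hs (by decide)
    have hdeg : deg i + 1 = (a i + 1) * p := by
      have : ((deg i : ℤ)) + 1 = (a i + 1) * p := by linarith
      exact_mod_cast this
    have hsq' : deg i * deg i < p * w * (1 + n * p) := by
      have h1 : ∑ j ∈ ({i, one} : Finset ι), deg j ^ 2 ≤ ∑ j, deg j ^ 2 :=
        Finset.sum_le_sum_of_subset (Finset.subset_univ _)
      rw [Finset.sum_pair hne, hdeg1, hsq] at h1
      nlinarith
    have hu := L6' hp (by omega) ht hn (by omega) hdeg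
      (hdv i (Cfsg.Agent.Helper10.BR996.NUM1.cop_sub (c := 1) hdeg (Nat.coprime_one_left p)))
    have ha0 : a i = 0 := by omega
    rw [ha0] at hdeg
    exact ⟨by omega, ha0⟩
  -- the principal character
  have haone : a one = 1 := by
    have h := hwX one hone
    rw [hsg1, hdeg1] at h
    have : (p : ℤ) * a one = p * 1 := by push_cast at h ⊢; linarith
    have h2 := mul_left_cancel₀ (by linarith : (p : ℤ) ≠ 0) this
    exact_mod_cast h2
  -- the exceptional characters
  obtain ⟨j0, hj0⟩ : Y.Nonempty := Finset.card_pos.1 (by omega)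
  have hC : ∀ i ∈ Y, a i = a j0 ∧ (deg i : ℤ) = (a j0 : ℕ) * p - d0 * w := by
    intro i hi
    have h1 := hwY i hi
    have h2 := hwY j0 hj0
    rw [hYdeg i hi j0 hj0] at h1
    have h3 : (p : ℤ) * a i = p * a j0 := by rw [h1, h2]
    have h4 := mul_left_cancel₀ (by linarith : (p : ℤ) ≠ 0) h3
    refine ⟨by exact_mod_cast h4, ?_⟩
    rw [hYdeg i hi j0 hj0]
    linarith
  set u0 := a j0 with hu0
  set x0 := deg j0 with hx0
  -- sums over `X`
  have hXe : (X.erase one).card = w - 1 := by rw [Finset.card_erase_of_mem hone, hX]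
  set E := (X.erase one).filter (fun i => sg i = 1) with hE
  set F := (X.erase one).filter (fun i => ¬ sg i = 1) with hF
  have hEF : E.card + F.card = w - 1 := by
    rw [hE, hF, Finset.card_filter_add_card_filter_not, hXe]
  have hfilt : X.filter (fun i => i ≠ one ∧ sg i = 1) = E := by
    ext i
    simp only [hE, Finset.mem_filter, Finset.mem_erase]
    tauto
  have hS1 : ∑ i ∈ X, sg i * (deg i : ℤ) =
      1 + ((E.card : ℤ) * (1 + n * p) - (F.card : ℤ) * ((p : ℤ) - 1)) := by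
    rw [← Finset.add_sum_erase X _ hone, hsg1, hdeg1,
      ← Finset.sum_filter_add_sum_filter_not (X.erase one) (fun i => sg i = 1)]
    have e1 : ∑ i ∈ E, sg i * (deg i : ℤ) = (E.card : ℤ) * (1 + n * p) := by
      rw [Finset.sum_congr rfl (g := fun _ => ((1 : ℤ) + n * p))]
      · rw [Finset.sum_const, nsmul_eq_mul]
      · intro i hi
        rw [hE, Finset.mem_filter, Finset.mem_erase] at hi
        rw [hi.2, (hA i hi.1.2 hi.1.1 hi.2).1]
        push_cast
        ring
    have e2 : ∑ i ∈ F, sg i * (deg i : ℤ) = -((F.card : ℤ) * ((p : ℤ) - 1)) := by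
      rw [Finset.sum_congr rfl (g := fun _ => (-((p : ℤ) - 1)))]
      · rw [Finset.sum_const, nsmul_eq_mul]; ring
      · intro i hi
        rw [hF, Finset.mem_filter, Finset.mem_erase] at hi
        have hs : sg i = -1 := by
          rcases hsg i hi.1.2 with h | h
          · exact absurd h hi.2
          · exact h
        have hd := (hB i hi.1.2 hs).1
        have hd' : (deg i : ℤ) = p - 1 := by
          have : ((deg i : ℤ)) + 1 = p := by exact_mod_cast hd
          linarith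
        rw [hs, hd']
        ring
    rw [e1, e2]
    push_cast
    ring
  have hS2 : ∑ i ∈ X, a i ^ 2 = 1 + E.card * (n + 1) ^ 2 := by
    rw [← Finset.add_sum_erase X _ hone, haone,
      ← Finset.sum_filter_add_sum_filter_not (X.erase one) (fun i => sg i = 1)]
    have e1 : ∑ i ∈ E, a i ^ 2 = E.card * (n + 1) ^ 2 := by
      rw [Finset.sum_congr rfl (g := fun _ => (n + 1) ^ 2)]
      · rw [Finset.sum_const, smul_eq_mul]
      · intro i hi
        rw [hE, Finset.mem_filter, Finset.mem_erase] at hi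
        rw [(hA i hi.1.2 hi.1.1 hi.2).2]
    have e2 : ∑ i ∈ F, a i ^ 2 = 0 := by
      apply Finset.sum_eq_zero
      intro i hi
      rw [hF, Finset.mem_filter, Finset.mem_erase] at hi
      have hs : sg i = -1 := by
        rcases hsg i hi.1.2 with h | h
        · exact absurd h hi.2
        · exact h
      rw [(hB i hi.1.2 hs).2]
      rfl
    rw [e1, e2]
    ring
  -- sums over `Y`
  have hS3 : ∑ i ∈ Y, (deg i : ℤ) = (t : ℤ) * x0 := by
    rw [Finset.sum_congr rfl (g := fun _ => (x0 : ℤ))]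
    · rw [Finset.sum_const, nsmul_eq_mul, hY]
    · intro i hi
      rw [hYdeg i hi j0 hj0]
  have hS4 : ∑ i ∈ Y, a i ^ 2 = t * u0 ^ 2 := by
    rw [Finset.sum_congr rfl (g := fun _ => u0 ^ 2)]
    · rw [Finset.sum_const, smul_eq_mul, hY]
    · intro i hi
      rw [(hC i hi).1]
  -- the decomposition of the full sum
  have hsplit : ∑ i, a i ^ 2 =
      ∑ i ∈ (Finset.univ \ X) \ Y, a i ^ 2 + ∑ i ∈ Y, a i ^ 2 + ∑ i ∈ X, a i ^ 2 := by
    have hYsub : Y ⊆ Finset.univ \ X := by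
      intro i hi
      rw [Finset.mem_sdiff]
      exact ⟨Finset.mem_univ _, fun hx => Finset.disjoint_left.1 hdisj hx hi⟩
    rw [Finset.sum_sdiff hYsub, Finset.sum_sdiff (Finset.subset_univ X)]
  set K := ∑ i ∈ (Finset.univ \ X) \ Y, a i ^ 2 with hK
  rw [hsplit, hS2, hS4] at hnorm
  rw [hS1, hS3] at hdegeq
  -- integer versions
  have hpZ : (p : ℤ) = w * t + 1 := by exact_mod_cast hp
  have hEFZ : (F.card : ℤ) = w - 1 - E.card := by
    have : ((E.card + F.card : ℕ) : ℤ) = ((w - 1 : ℕ) : ℤ) := by rw [hEF]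
    rw [Nat.cast_sub (by omega)] at this
    push_cast at this
    linarith
  have hnormZ : (K : ℤ) + t * (u0 : ℤ) ^ 2 + (1 + E.card * ((n : ℤ) + 1) ^ 2) = w * (n + 1) := by
    exact_mod_cast hnorm
  have hx0Z := (hC j0 hj0).2
  refine ⟨E.card, u0, by rw [hfilt], hA, hB, hC, ?_⟩
  rcases hd0 with rfl | rfl
  · -- `d0 = 1`
    have hx0' : x0 + w = u0 * p := by
      have : ((x0 : ℤ)) + w = u0 * p := by rw [hx0Z]; ring
      exact_mod_cast this
    have hL7 := L7' hp (by omega) ht hn hx0' (hdegpos j0)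
      (hdv j0 (Cfsg.Agent.Helper10.BR996.NUM1.cop_sub hx0' hcopw))
    have hL7Z : (n : ℤ) + 1 = u0 * t := by exact_mod_cast hL7
    have h1 : ((p : ℤ) - 1) * ((p : ℤ) * ((E.card : ℤ) * (n + 1) + u0 - (w - 1))) = 0 := by
      rw [hx0Z, hEFZ] at hdegeq
      have hWT : (w : ℤ) * t = p - 1 := by linarith
      linear_combination hdegeq - (u0 * p - 1 * w) * hWT
    have h2 : (E.card : ℤ) * (n + 1) + u0 - (w - 1) = 0 := by
      rcases mul_eq_zero.1 h1 with h | h
      · linarith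
      · rcases mul_eq_zero.1 h with h' | h'
        · linarith
        · exact h'
    have hW : w = 1 + E.card * (n + 1) + u0 := by
      have : (w : ℤ) = 1 + E.card * (n + 1) + u0 := by linarith
      exact_mod_cast this
    have hKn : (K : ℤ) = n := by
      have hWZ : (w : ℤ) = 1 + E.card * (n + 1) + u0 := by exact_mod_cast hW
      have hTU : (t : ℤ) * (u0 : ℤ) ^ 2 = u0 * (n + 1) := by rw [hL7Z]; ring
      rw [hTU, hWZ] at hnormZ
      linear_combination hnormZ
    exact ⟨by exact_mod_cast hKn, Or.inl ⟨rfl, hL7, hW⟩⟩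
  · -- `d0 = -1`
    have h1 : ((p : ℤ) - 1) * ((p : ℤ) * ((E.card : ℤ) * (n + 1) - u0 - (w - 1))) = 0 := by
      rw [hx0Z, hEFZ] at hdegeq
      have hWT : (w : ℤ) * t = p - 1 := by linarith
      linear_combination hdegeq + (u0 * p - (-1) * w) * hWT
    have h2 : (E.card : ℤ) * (n + 1) - u0 - (w - 1) = 0 := by
      rcases mul_eq_zero.1 h1 with h | h
      · linarith
      · rcases mul_eq_zero.1 h with h' | h'
        · linarith
        · exact h'
    have hWZ : (w : ℤ) = 1 + E.card * (n + 1) - u0 := by linarith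
    have hKeq : (K : ℤ) + t * (u0 : ℤ) ^ 2 = n - u0 * (n + 1) := by
      rw [hWZ] at hnormZ
      linear_combination hnormZ
    have hu00 : u0 = 0 := by
      by_contra hne
      have hu1 : (1 : ℤ) ≤ u0 := by
        have : 1 ≤ u0 := Nat.one_le_iff_ne_zero.2 hne
        exact_mod_cast this
      have hK0 : (0 : ℤ) ≤ K := by positivity
      have ht0 : (0 : ℤ) ≤ t * (u0 : ℤ) ^ 2 := by positivity
      have hn0 : (0 : ℤ) ≤ n := by positivity
      nlinarith
    have hu0Z : (u0 : ℤ) = 0 := by exact_mod_cast hu00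
    rw [hu0Z] at hKeq hWZ
    have hKn : (K : ℤ) = n := by linarith
    have hW : w = 1 + E.card * (n + 1) := by
      have : (w : ℤ) = 1 + E.card * (n + 1) := by linarith
      exact_mod_cast this
    exact ⟨by exact_mod_cast hKn, Or.inr ⟨rfl, hu00, hW⟩⟩

/-- PIECE NUM (`t = 1`, all `p` characters of the principal block constant `±1` on `P ∖ 1`, no `Y`): -/
theorem num_t1' {ι : Type*} [Fintype ι] [DecidableEq ι] (deg a : ι → ℕ) (X : Finset ι)
    (sg : ι → ℤ) (one : ι) (p n : ℕ) (hp : 3 ≤ p) (hn1 : 1 ≤ n) (hn : NC p n)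
    (hX : X.card = p)
    (hsg : ∀ i ∈ X, sg i = 1 ∨ sg i = -1)
    (hone : one ∈ X) (hsg1 : sg one = 1) (hdeg1 : deg one = 1) (hperf : ∀ i, deg i = 1 → i = one)
    (hdegpos : ∀ i, 0 < deg i)
    (hwX : ∀ i ∈ X, (p : ℤ) * a i = deg i + sg i * ((p : ℤ) - 1))
    (hwD : ∀ i, i ∉ X → (p : ℤ) * a i = deg i)
    (hdvd : ∀ i, deg i ∣ p * (p - 1) * (1 + n * p))
    (hdegeq : ∑ i ∈ X, sg i * (deg i : ℤ) = 0)
    (hnorm : ∑ i, a i ^ 2 = (p - 1) * (n + 1)) :
    ∃ e : ℕ, e * (n + 1) + 2 = p ∧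
      (∀ i ∈ X, i ≠ one → sg i = 1 → deg i = 1 + n * p ∧ a i = n + 1) ∧
      (∀ i ∈ X, sg i = -1 → a i = 0) ∧
      (∑ i ∈ Finset.univ \ X, a i ^ 2 = n) := by
  have hp0 : (p : ℤ) ≠ 0 := by
    have : (3 : ℤ) ≤ p := by exact_mod_cast hp
    omega
  -- `E+`: degree `r`, weight `n + 1`
  have hEp : ∀ i ∈ X, i ≠ one → sg i = 1 → deg i = 1 + n * p ∧ a i = n + 1 := by
    intro i hi hi1 hsi
    have h1 := hwX i hi
    rw [hsi, one_mul] at h1
    have hpos := hdegpos i
    -- natural number form: p * a i + 1 = deg i + p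
    have h2 : p * a i + 1 = deg i + p := by
      have : ((p * a i + 1 : ℕ) : ℤ) = ((deg i + p : ℕ) : ℤ) := by push_cast; linarith
      exact_mod_cast this
    have ha1 : 1 ≤ a i := by
      by_contra hlt
      have : a i = 0 := by omega
      rw [this] at h2
      omega
    obtain ⟨u, hu⟩ : ∃ u, a i = u + 1 := ⟨a i - 1, by omega⟩
    have hdu : deg i = u * p + 1 := by
      rw [hu] at h2
      have : p * (u + 1) = u * p + p := by ring
      omega
    have hu1 : 1 ≤ u := by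
      by_contra hlt
      have hu0 : u = 0 := by omega
      rw [hu0] at hdu
      exact hi1 (hperf i (by omega))
    have hcop : Nat.Coprime (deg i) p := by
      rw [hdu, add_comm]
      exact (Nat.coprime_add_mul_right_left 1 p u).mpr (Nat.coprime_one_left p)
    have hd := hdvd i
    have hd' : deg i ∣ p * ((p - 1) * (1 + n * p)) := by rwa [mul_assoc] at hd
    have hd'' : deg i ∣ (p - 1) * (1 + n * p) := hcop.dvd_of_dvd_mul_left hd'
    have hun : u = n := L5' (p := p) (w := p - 1) (t := 1) (n := n) (u := u)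
      (x := deg i) (by omega) (by omega) (le_refl 1) hn hu1 hdu hd''
    rw [hun] at hdu hu
    exact ⟨by rw [hdu]; ring, hu⟩
  have ha_one : a one = 1 := by
    have h1 := hwX one hone
    rw [hsg1, hdeg1, one_mul] at h1
    have h2 : (p : ℤ) * a one = p * 1 := by push_cast at h1 ⊢; linarith
    exact_mod_cast mul_left_cancel₀ hp0 h2
  -- the key identity `∑_X sg a = p - 1`
  have hsq : ∀ i ∈ X, sg i * sg i = 1 := by
    intro i hi
    rcases hsg i hi with h | h <;> rw [h] <;> norm_num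
  have hstar : ∑ i ∈ X, sg i * (a i : ℤ) = (p : ℤ) - 1 := by
    have h1 : ∑ i ∈ X, sg i * (deg i : ℤ) = ∑ i ∈ X, ((p : ℤ) * (sg i * (a i : ℤ)) - ((p : ℤ) - 1)) := by
      apply Finset.sum_congr rfl
      intro i hi
      have h2 := hwX i hi
      have h3 : (deg i : ℤ) = (p : ℤ) * a i - sg i * ((p : ℤ) - 1) := by linarith
      rw [h3]
      have h4 := hsq i hi
      calc sg i * ((p : ℤ) * a i - sg i * ((p : ℤ) - 1))
          = (p : ℤ) * (sg i * a i) - (sg i * sg i) * ((p : ℤ) - 1) := by ring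
        _ = (p : ℤ) * (sg i * a i) - ((p : ℤ) - 1) := by rw [h4, one_mul]
    rw [hdegeq, Finset.sum_sub_distrib, ← Finset.mul_sum, Finset.sum_const, hX, nsmul_eq_mul] at h1
    have h5 : (p : ℤ) * (∑ i ∈ X, sg i * (a i : ℤ)) = (p : ℤ) * ((p : ℤ) - 1) := by linarith
    exact mul_left_cancel₀ hp0 h5
  -- norm identity split
  obtain ⟨K, hKdef⟩ : ∃ K : ℕ, K = ∑ i ∈ Finset.univ \ X, a i ^ 2 := ⟨_, rfl⟩
  have hnormZ : (∑ i ∈ X, (a i : ℤ) ^ 2) + (K : ℤ) = ((p : ℤ) - 1) * ((n : ℤ) + 1) := by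
    have h1 := Finset.sum_sdiff (Finset.subset_univ X) (f := fun i => a i ^ 2)
    rw [← hKdef, hnorm] at h1
    have h2 : ((K + ∑ i ∈ X, a i ^ 2 : ℕ) : ℤ) = (((p - 1) * (n + 1) : ℕ) : ℤ) := by rw [h1]
    have hp1 : ((p - 1 : ℕ) : ℤ) = (p : ℤ) - 1 := by omega
    push_cast at h2
    rw [hp1] at h2
    linarith
  -- `g i = a i ^ 2 - (n+1) sg i a i`
  have hg : ∑ i ∈ X, ((a i : ℤ) ^ 2 - ((n : ℤ) + 1) * (sg i * (a i : ℤ))) = -(K : ℤ) := by
    rw [Finset.sum_sub_distrib, ← Finset.mul_sum, hstar]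
    linarith
  have hg_one : ((a one : ℤ) ^ 2 - ((n : ℤ) + 1) * (sg one * (a one : ℤ))) = -(n : ℤ) := by
    rw [ha_one, hsg1]; push_cast; ring
  have hg_plus : ∀ i ∈ X, i ≠ one → sg i = 1 →
      ((a i : ℤ) ^ 2 - ((n : ℤ) + 1) * (sg i * (a i : ℤ))) = 0 := by
    intro i hi hi1 hsi
    rw [(hEp i hi hi1 hsi).2, hsi]; push_cast; ring
  have hg_minus : ∀ i ∈ X, sg i = -1 →
      ((a i : ℤ) ^ 2 - ((n : ℤ) + 1) * (sg i * (a i : ℤ))) = (a i : ℤ) ^ 2 + ((n : ℤ) + 1) * a i := by
    intro i hi hsi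
    rw [hsi]; ring
  have hg_nonneg : ∀ i ∈ X.erase one, 0 ≤ ((a i : ℤ) ^ 2 - ((n : ℤ) + 1) * (sg i * (a i : ℤ))) := by
    intro i hi
    obtain ⟨hi1, hiX⟩ := Finset.mem_erase.mp hi
    rcases hsg i hiX with h | h
    · rw [hg_plus i hiX hi1 h]
    · rw [hg_minus i hiX h]; positivity
  have hgsplit : ∑ i ∈ X, ((a i : ℤ) ^ 2 - ((n : ℤ) + 1) * (sg i * (a i : ℤ))) =
      -(n : ℤ) + ∑ i ∈ X.erase one, ((a i : ℤ) ^ 2 - ((n : ℤ) + 1) * (sg i * (a i : ℤ))) := by
    rw [← Finset.add_sum_erase X _ hone, hg_one]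
  -- `a = 0` on `E−`
  have hEm : ∀ i ∈ X, sg i = -1 → a i = 0 := by
    intro j hj hsj
    by_contra hne
    have haj : (1 : ℤ) ≤ a j := by
      have : 1 ≤ a j := Nat.one_le_iff_ne_zero.mpr hne
      exact_mod_cast this
    have hj1 : j ≠ one := by
      intro e; rw [e, hsg1] at hsj; norm_num at hsj
    have hjm : j ∈ X.erase one := Finset.mem_erase.mpr ⟨hj1, hj⟩
    have h1 := Finset.single_le_sum hg_nonneg hjm
    rw [hg_minus j hj hsj] at h1
    have h2 : (n : ℤ) + 2 ≤ (a j : ℤ) ^ 2 + ((n : ℤ) + 1) * a j := by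
      have hn0 : (0 : ℤ) ≤ n := Nat.cast_nonneg n
      nlinarith
    have hK0 : (0 : ℤ) ≤ K := Nat.cast_nonneg K
    rw [hgsplit] at hg
    linarith
  -- all terms of `g` off `one` vanish
  have hg0 : ∑ i ∈ X.erase one, ((a i : ℤ) ^ 2 - ((n : ℤ) + 1) * (sg i * (a i : ℤ))) = 0 := by
    apply Finset.sum_eq_zero
    intro i hi
    obtain ⟨hi1, hiX⟩ := Finset.mem_erase.mp hi
    rcases hsg i hiX with h | h
    · exact hg_plus i hiX hi1 h
    · rw [hg_minus i hiX h, hEm i hiX h]; push_cast; ring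
  have hKn : K = n := by
    rw [hgsplit, hg0, add_zero] at hg
    have : (K : ℤ) = n := by linarith
    exact_mod_cast this
  -- counting `E+`
  refine ⟨(X.filter (fun i => i ≠ one ∧ sg i = 1)).card, ?_, hEp, hEm, by rw [← hKdef, hKn]⟩
  have hcount : ∑ i ∈ X, sg i * (a i : ℤ) =
      1 + ((X.filter (fun i => i ≠ one ∧ sg i = 1)).card : ℤ) * ((n : ℤ) + 1) := by
    have h1 : ∑ i ∈ X, sg i * (a i : ℤ) =
        ∑ i ∈ X, ((if i = one then (1 : ℤ) else 0) +
          (if i ≠ one ∧ sg i = 1 then ((n : ℤ) + 1) else 0)) := by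
      apply Finset.sum_congr rfl
      intro i hi
      by_cases hi1 : i = one
      · rw [hi1, hsg1, ha_one]; simp
      · rcases hsg i hi with h | h
        · rw [(hEp i hi hi1 h).2, h]; simp [hi1]
        · rw [hEm i hi h, h]
          have : ¬ ((-1 : ℤ) = 1) := by norm_num
          simp [hi1, this]
    rw [h1, Finset.sum_add_distrib, Finset.sum_ite_eq' X one, if_pos hone, Finset.sum_ite,
      Finset.sum_const, Finset.sum_const_zero, add_zero, nsmul_eq_mul]
  rw [hstar] at hcount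
  have : ((X.filter (fun i => i ≠ one ∧ sg i = 1)).card * (n + 1) + 2 : ℕ) = p := by
    have h : (((X.filter (fun i => i ≠ one ∧ sg i = 1)).card * (n + 1) + 2 : ℕ) : ℤ) = (p : ℤ) := by
      push_cast; linarith
    exact_mod_cast h
  exact this

end Cfsg.Agent.Helper6.BR4700
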