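import Mathlib
import Cfsg.Prelude.Def_CaseTheorems
import Cfsg.Agent.Lib.Helper9.PPrimeCoreSub
import Cfsg.Agent.Lib.Helper17.BRRedGrp
import Cfsg.Agent.Lib.Helper6.BR4700A

/-!
# S4700: the reduction to `O_{p'}(G) = 1`   (helper6)

`G` perfect, `|P| = p`, `1 + n p` Sylow `p`-subgroups, `K = O_{p'}(G)`.  Then (c) holds, or `G ⧸ K` (perfect, Sylow
`p`-subgroup of order `p`, no nontrivial normal `p'`-subgroup) has `1 + n p` Sylow `p`-subgroups as well.
-/

set_option autoImplicit false
set_option linter.style.haveILetI false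

namespace Cfsg.Agent.Helper6.BR4700

open Subgroup Cfsg

/-- Sylow counting for a normal subgroup `K`: `|Syl_p(G)| = |Syl_p(G/K)| * s` with `s ≡ 1 (mod p)`
(`s` is the number of Sylow `p`-subgroups of the preimage of `N(PK/K)`). -/
theorem card_sylow_quotient {G : Type*} [Group G] [Finite G] (p : ℕ) [Fact p.Prime]
    (K : Subgroup G) [K.Normal] :
    ∃ s : ℕ, s % p = 1 ∧ Nat.card (Sylow p G) = Nat.card (Sylow p (G ⧸ K)) * s := by
  classical
  have hp : p.Prime := Fact.out
  obtain ⟨P⟩ : Nonempty (Sylow p G) := inferInstance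
  have hπ : Function.Surjective (QuotientGroup.mk' K) := QuotientGroup.mk'_surjective K
  set Pb : Sylow p (G ⧸ K) := P.mapSurjective hπ with hPb
  set L : Subgroup G :=
    (normalizer ((Pb : Subgroup (G ⧸ K)) : Set (G ⧸ K))).comap (QuotientGroup.mk' K) with hL
  have hNL : normalizer ((P : Subgroup G) : Set G) ≤ L := by
    intro g hg
    rw [hL, Subgroup.mem_comap]
    have h1 : (Pb : Subgroup (G ⧸ K)) = (P : Subgroup G).map (QuotientGroup.mk' K) := rfl
    rw [h1]
    exact Subgroup.le_normalizer_map (QuotientGroup.mk' K) (Subgroup.mem_map_of_mem _ hg)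
  have hPL : (P : Subgroup G) ≤ L := Subgroup.le_normalizer.trans hNL
  have h1 : Nat.card (Sylow p G) = (normalizer ((P : Subgroup G) : Set G)).index :=
    Sylow.card_eq_index_normalizer P
  have h2 : Nat.card (Sylow p (G ⧸ K)) = L.index := by
    rw [Sylow.card_eq_index_normalizer Pb, hL]
    exact (Subgroup.index_comap_of_surjective _ hπ).symm
  have h3 := Subgroup.relIndex_mul_index hNL
  refine ⟨(normalizer ((P : Subgroup G) : Set G)).relIndex L, ?_, by rw [h1, h2, ← h3, mul_comm]⟩
  have h4 : Nat.card (Sylow p L) =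
      (normalizer (((P.subtype hPL : Sylow p L) : Subgroup L) : Set L)).index :=
    Sylow.card_eq_index_normalizer (P.subtype hPL)
  have h5 : normalizer (((P.subtype hPL : Sylow p L) : Subgroup L) : Set L) =
      (normalizer ((P : Subgroup G) : Set G)).subgroupOf L := by
    rw [Sylow.coe_subtype]
    exact (Subgroup.subgroupOf_normalizer_eq hPL).symm
  have hmod := card_sylow_modEq_one p L
  rw [h4, h5] at hmod
  have h6 : ((normalizer ((P : Subgroup G) : Set G)).subgroupOf L).index =
      (normalizer ((P : Subgroup G) : Set G)).relIndex L := rfl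
  rw [h6] at hmod
  have := hmod
  unfold Nat.ModEq at this
  rw [this, Nat.mod_eq_of_lt hp.one_lt]

/-- **Reduction R1.** -/
theorem reduction_R1 {G : Type*} [Group G] [Finite G] (hperf : commutator G = ⊤) (p : ℕ)
    [Fact p.Prime] (P : Sylow p G) (hP : Nat.card P = p) (n : ℕ)
    (hn : Nat.card (Sylow p G) = 1 + n * p) :
    CondC p n ∨
      (commutator (G ⧸ pPrimeCore p G) = ⊤ ∧
        (∃ Q : Sylow p (G ⧸ pPrimeCore p G), Nat.card Q = p) ∧
        Nat.card (Sylow p (G ⧸ pPrimeCore p G)) = 1 + n * p ∧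
        ∀ N : Subgroup (G ⧸ pPrimeCore p G), N.Normal → (Nat.card N).Coprime p → N = ⊥) := by
  classical
  have hp : p.Prime := Fact.out
  set K : Subgroup G := pPrimeCore p G with hK
  have hKcop : (Nat.card K).Coprime p := Cfsg.Agent.Helper22.card_pPrimeCore_coprime p
  -- the quotient is perfect
  have hperf' : commutator (G ⧸ K) = ⊤ := by
    have h1 : (⊤ : Subgroup (G ⧸ K)) = (⊤ : Subgroup G).map (QuotientGroup.mk' K) :=
      (Subgroup.map_top_of_surjective _ (QuotientGroup.mk'_surjective K)).symm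
    rw [commutator_def, h1, ← Subgroup.map_commutator, ← commutator_def, hperf]
  -- a Sylow subgroup of the quotient has order `p`
  have hmul : Nat.card G = Nat.card (G ⧸ K) * Nat.card K :=
    Subgroup.card_eq_card_quotient_mul_card_subgroup K
  have hKpos : 0 < Nat.card K := Nat.card_pos
  have hQpos : 0 < Nat.card (G ⧸ K) := Nat.card_pos
  have hfac : (Nat.card (G ⧸ K)).factorization p = 1 := by
    have h1 : (Nat.card G).factorization p = 1 := by
      have := Sylow.card_eq_multiplicity P
      rw [hP] at this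
      have h2 : p ^ 1 = p ^ (Nat.card G).factorization p := by rw [pow_one]; exact this
      exact (Nat.pow_right_injective hp.two_le h2).symm
    rw [hmul, Nat.factorization_mul hQpos.ne' hKpos.ne', Finsupp.add_apply] at h1
    have h3 : (Nat.card K).factorization p = 0 := by
      apply Nat.factorization_eq_zero_of_not_dvd
      exact (Nat.Prime.coprime_iff_not_dvd hp).mp hKcop.symm
    omega
  obtain ⟨Q⟩ : Nonempty (Sylow p (G ⧸ K)) := inferInstance
  have hQ : Nat.card Q = p := by
    have := Sylow.card_eq_multiplicity Q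
    rw [hfac, pow_one] at this
    exact this
  -- no normal `p'`-subgroups in the quotient
  have hcore : ∀ N : Subgroup (G ⧸ K), N.Normal → (Nat.card N).Coprime p → N = ⊥ := by
    intro N hN hc
    have h1 := Cfsg.Agent.Helper22.le_pPrimeCore p N hN hc
    rw [Cfsg.Agent.Helper9.pPrimeCore_quotient_eq_bot] at h1
    exact le_bot_iff.mp h1
  -- Sylow numbers
  obtain ⟨q, v, nb, -, -, -, hnb1, -, -, hrb, -, -, -⟩ :=
    Cfsg.Agent.Helper17.BRRed.numerics hperf' Q hQ
  obtain ⟨s, hs1, hs⟩ := card_sylow_quotient (G := G) p K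
  obtain ⟨m, hm⟩ : ∃ m, s = 1 + m * p := ⟨s / p, by
    have := Nat.div_add_mod s p
    rw [hs1] at this
    linarith [mul_comm p (s / p)]⟩
  rw [hn, hrb, hm] at hs
  rcases Nat.eq_zero_or_pos m with h0 | hpos
  · right
    refine ⟨hperf', ⟨Q, hQ⟩, ?_, hcore⟩
    rw [hrb]
    rw [h0] at hs
    simp only [zero_mul, add_zero, mul_one] at hs
    exact hs.symm
  · left
    exact condC_of_mul hp.pos hnb1 hpos hs

end Cfsg.Agent.Helper6.BR4700
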