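import Mathlib
import Cfsg.Agent.Lib.Lead.ChevWeyl
import Cfsg.Prelude.Def_ChevAutomorphisms

/-!
Table facts used in the proof of Steinberg's theorem on the automorphisms of the Chevalley groups.
-/

set_option autoImplicit false

namespace Cfsg.Agent.Helper6.AutRoot

open Cfsg Cfsg.Lie Cfsg.Agent.Lead.Chev

/-- a word for the longest element of the Weyl group, with `-w₀` permuting the fundamental roots -/
structure W0 (D : ChevalleyDatum) (w : List ℕ) : Prop where
  lt : ∀ i ∈ w, i < D.rank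
  pos_neg : ∀ s, D.IsPosRoot s → D.IsNegRoot (reflWord D w s)
  neg_ex : ∀ s, D.IsNegRoot s → ∃ r, D.IsPosRoot r ∧ reflWord D w r = s
  simple : ∀ i < D.rank, ∃ j < D.rank, reflWord D w (D.neg (D.simple i)) = D.simple j
  surj : ∀ j < D.rank, ∃ i < D.rank, reflWord D w (D.neg (D.simple i)) = D.simple j

/-- facts on the fundamental roots read off the tables -/
structure AutFacts (D : ChevalleyDatum) : Prop where
  simple_inj : ∀ i < D.rank, ∀ j < D.rank, D.simple i = D.simple j → i = j
  comm_pn : ∀ k < D.rank, ∀ l < D.rank, k ≠ l →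
    D.commTerms (D.simple k) (D.neg (D.simple l)) = [] ∧ D.neg (D.simple l) ≠ D.simple k ∧
      D.neg (D.simple l) ≠ D.neg (D.simple k)
  comm_pp : ∀ k < D.rank, ∀ l < D.rank, k ≠ l → D.bonds k l = 0 →
    D.commTerms (D.simple k) (D.simple l) = [] ∧ D.simple l ≠ D.simple k ∧
      D.simple l ≠ D.neg (D.simple k)
  refl_ne : ∀ k < D.rank, ∀ l < D.rank, k ≠ l → D.bonds k l ≠ 0 →
    D.reflectRoot k (D.simple l) ≠ D.simple l
  diagram : ∀ π : Equiv.Perm (Fin D.rank),
    (∀ i j : Fin D.rank, i ≠ j → (D.bonds (π i) (π j) = 0 ↔ D.bonds i j = 0)) → D.IsDiagramSymmetry π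

end Cfsg.Agent.Helper6.AutRoot
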