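import Mathlib
import Cfsg.Agent.Lib.Helper2.BNPair

/-!
Abstract group theory for Steinberg's theorem on automorphisms: the normalization of an automorphism with respect to
two opposite Sylow subgroups, and the permutation of the minimal parabolic subgroups of a `(B, N)`-pair.
-/

set_option autoImplicit false
set_option linter.unusedSectionVars false
set_option linter.unusedVariables false

namespace Cfsg.Agent.Helper6.AutAbs

open scoped Pointwise

section Normalize

variable {Γ : Type*} [Group Γ]

theorem map_conj_map (θ : Γ ≃* Γ) (K : Subgroup Γ) (g : Γ) :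
    (K.map (MulAut.conj g).toMonoidHom).map θ.toMonoidHom =
      (K.map θ.toMonoidHom).map (MulAut.conj (θ g)).toMonoidHom := by
  rw [Subgroup.map_map, Subgroup.map_map]
  congr 1
  ext x
  simp [MulAut.conj_apply]

theorem map_conj_mul (K : Subgroup Γ) (g h : Γ) :
    (K.map (MulAut.conj h).toMonoidHom).map (MulAut.conj g).toMonoidHom =
      K.map (MulAut.conj (g * h)).toMonoidHom := by
  rw [Subgroup.map_map]
  congr 1
  ext x
  simp [MulAut.conj_apply, mul_assoc]

theorem map_conj_of_mem (K : Subgroup Γ) (g : Γ) (hg : g ∈ K) :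
    K.map (MulAut.conj g).toMonoidHom = K := by
  ext x
  simp only [Subgroup.mem_map, MulEquiv.coe_toMonoidHom, MulAut.conj_apply]
  constructor
  · rintro ⟨y, hy, rfl⟩
    exact mul_mem (mul_mem hg hy) (inv_mem hg)
  · intro hx
    exact ⟨g⁻¹ * x * g, mul_mem (mul_mem (inv_mem hg) hx) hg, by group⟩

/-- an automorphism can be modified by an inner automorphism so as to fix a Sylow subgroup `U` and an opposite one `V` -/
theorem exists_conj_normalize [Finite Γ] (p : ℕ) [Fact p.Prime]
    (U V : Subgroup Γ) (hU : ∃ P : Sylow p Γ, (P : Subgroup Γ) = U)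
    (hVU : ∃ n : Γ, U.map (MulAut.conj n).toMonoidHom = V)
    (hUV : U ⊓ V = ⊥)
    (hkey : ∀ g : Γ, U.map (MulAut.conj g).toMonoidHom ⊓ U = ⊥ →
      ∃ u ∈ U, U.map (MulAut.conj g).toMonoidHom = V.map (MulAut.conj u).toMonoidHom)
    (θ : Γ ≃* Γ) :
    ∃ c : Γ, (U.map θ.toMonoidHom).map (MulAut.conj c).toMonoidHom = U ∧
      (V.map θ.toMonoidHom).map (MulAut.conj c).toMonoidHom = V := by
  obtain ⟨P, hP⟩ := hU
  obtain ⟨n, hn⟩ := hVU
  -- the image of `P`
  let Q : Sylow p Γ := (θ : MulAut Γ) • P
  have hQ : (Q : Subgroup Γ) = U.map θ.toMonoidHom := by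
    rw [← hP]
    rfl
  obtain ⟨g, hg⟩ := MulAction.exists_smul_eq Γ Q P
  have hg' : (U.map θ.toMonoidHom).map (MulAut.conj g).toMonoidHom = U := by
    have := congrArg (fun R : Sylow p Γ => (R : Subgroup Γ)) hg
    simp only [Sylow.coe_subgroup_smul] at this
    rw [hQ, hP] at this
    exact this
  -- the image of `V`
  set m := g * θ n * g⁻¹ with hm
  have hV1 : (V.map θ.toMonoidHom).map (MulAut.conj g).toMonoidHom =
      U.map (MulAut.conj m).toMonoidHom := by
    have e1 : U.map (MulAut.conj m).toMonoidHom =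
        (U.map θ.toMonoidHom).map (MulAut.conj (m * g)).toMonoidHom := by
      conv_lhs => rw [← hg']
      rw [map_conj_mul]
    rw [e1, ← hn, map_conj_map, map_conj_mul]
    congr 2
    rw [hm]
    group
  have hV2 : U.map (MulAut.conj m).toMonoidHom ⊓ U = ⊥ := by
    rw [← hV1]
    conv_lhs => rw [← hg']
    rw [← Subgroup.map_inf_eq _ _ _ (MulAut.conj g).injective,
      ← Subgroup.map_inf_eq _ _ _ θ.injective, inf_comm, hUV, Subgroup.map_bot, Subgroup.map_bot]
  obtain ⟨u, hu, hum⟩ := hkey m hV2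
  refine ⟨u⁻¹ * g, ?_, ?_⟩
  · rw [← map_conj_mul, hg', map_conj_of_mem U _ (inv_mem hu)]
  · rw [← map_conj_mul, hV1, hum, map_conj_mul, inv_mul_cancel]
    ext x
    simp
end Normalize

section BN

open Cfsg.Agent.Helper2.BN

variable {G : Type*} [Group G] (P : BNPair G)

theorem gen_not_mem_B (s : P.S) : (s : G) ∉ P.B := by
  intro h
  have h1 : π P ⟨s, P.subset s.2⟩ = 1 := (π_eq_one_iff P _).2 h
  exact σ_ne_one P s h1

theorem parabolic_empty : P.parabolic ∅ = P.B := by
  unfold BNPair.parabolic
  rw [Subgroup.closure_empty, sup_bot_eq]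

theorem gen_mem_parabolic (J : Set G) (s : G) (hs : s ∈ J) : s ∈ P.parabolic J := by
  unfold BNPair.parabolic
  exact Subgroup.mem_sup_right (Subgroup.subset_closure hs)

theorem parabolic_mono {J J' : Set G} (h : J ⊆ J') : P.parabolic J ≤ P.parabolic J' := by
  unfold BNPair.parabolic
  exact sup_le_sup_left (Subgroup.closure_mono h) _

/-- a subgroup strictly between `B` and a minimal parabolic subgroup does not exist -/
theorem eq_of_le_parabolic_singleton (s : P.S) (M : Subgroup G) (hBM : P.B ≤ M) (hM : M ≤ P.parabolic {(s : G)})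
    (hne : M ≠ P.B) : M = P.parabolic {(s : G)} := by
  have hJ : ({(s : G)} : Set G) ⊆ P.S := by
    rintro x rfl
    exact s.2
  have heq := eq_parabolic P M hBM
  have hsub : {t | t ∈ P.S ∧ t ∈ M} ⊆ ({(s : G)} : Set G) := by
    rintro t ⟨htS, htM⟩
    exact mem_of_mem_parabolic P hJ ⟨t, htS⟩ (hM htM)
  by_cases hs : (s : G) ∈ M
  · apply le_antisymm hM
    rw [heq]
    apply parabolic_mono
    rintro x rfl
    exact ⟨s.2, hs⟩
  · exfalso
    apply hne
    have : {t | t ∈ P.S ∧ t ∈ M} = (∅ : Set G) := by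
      ext t
      simp only [Set.mem_ofPred_eq, Set.mem_empty_iff_false, iff_false]
      rintro ⟨htS, htM⟩
      have := hsub ⟨htS, htM⟩
      rw [Set.mem_singleton_iff] at this
      rw [this] at htM
      exact hs htM
    rw [heq, this, parabolic_empty]

/-- an automorphism fixing `B` permutes the minimal parabolic subgroups -/
theorem exists_map_parabolic (θ : G ≃* G) (hB : P.B.map θ.toMonoidHom = P.B) (s : P.S) :
    ∃ t : P.S, (P.parabolic {(s : G)}).map θ.toMonoidHom = P.parabolic {(t : G)} := by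
  set M := (P.parabolic {(s : G)}).map θ.toMonoidHom with hM
  have hBM : P.B ≤ M := by
    rw [← hB]
    exact Subgroup.map_mono (B_le_parabolic P _)
  have heq := eq_parabolic P M hBM
  have hne : ∃ t, t ∈ P.S ∧ t ∈ M := by
    by_contra hcon
    have : {t | t ∈ P.S ∧ t ∈ M} = (∅ : Set G) := by
      ext t
      simp only [Set.mem_ofPred_eq, Set.mem_empty_iff_false, iff_false]
      exact fun h => hcon ⟨t, h⟩
    rw [this, parabolic_empty] at heq
    have h1 : P.parabolic {(s : G)} = P.B := by
      apply Subgroup.map_injective (f := θ.toMonoidHom) θ.injective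
      rw [hB]
      exact heq
    apply gen_not_mem_B P s
    rw [← h1]
    exact gen_mem_parabolic P _ _ rfl
  obtain ⟨t, htS, htM⟩ := hne
  refine ⟨⟨t, htS⟩, ?_⟩
  -- the preimage of `P_t`
  have hPt : P.parabolic {t} ≤ M := by
    rw [heq]
    apply parabolic_mono
    rintro x rfl
    exact ⟨htS, htM⟩
  set M' := (P.parabolic {t}).comap θ.toMonoidHom with hM'
  have hM'le : M' ≤ P.parabolic {(s : G)} := by
    intro x hx
    have h1 : θ x ∈ M := hPt hx
    obtain ⟨y, hy, e⟩ := h1
    have : y = x := θ.injective e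
    rwa [this] at hy
  have hBM' : P.B ≤ M' := by
    intro b hb
    show θ b ∈ P.parabolic {t}
    apply B_le_parabolic P
    rw [← hB]
    exact ⟨b, hb, rfl⟩
  have hM'ne : M' ≠ P.B := by
    intro h
    apply gen_not_mem_B P ⟨t, htS⟩
    have h1 : θ.symm t ∈ M' := by
      show θ (θ.symm t) ∈ P.parabolic {t}
      rw [MulEquiv.apply_symm_apply]
      exact gen_mem_parabolic P _ _ rfl
    rw [h] at h1
    have h2 : θ (θ.symm t) ∈ P.B.map θ.toMonoidHom := ⟨_, h1, rfl⟩
    rwa [MulEquiv.apply_symm_apply, hB] at h2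
  have h3 := eq_of_le_parabolic_singleton P s M' hBM' hM'le hM'ne
  rw [hM, ← h3, hM']
  exact Subgroup.map_comap_eq_self_of_surjective θ.surjective _

end BN

end Cfsg.Agent.Helper6.AutAbs
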