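import Mathlib
import Cfsg.Agent.Lib.Helper2.BNPair

/-!
An abstract lemma on BN-pairs: an element `g` outside `B` comes with a distinguished generator `s` such that
every `b ∈ B` with `g⁻¹ b g ∈ B` has a `B`-conjugate which `s` conjugates into `B`.
-/

set_option autoImplicit false
set_option linter.unusedSectionVars false
set_option linter.unusedVariables false

namespace Cfsg.Agent.Helper6.BNCent

open Cfsg Cfsg.Agent.Helper2.BN Cfsg.Agent.Helper2.WordLen

variable {G : Type*} [Group G] (P : Cfsg.BNPair G)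

theorem exists_gen_of_not_mem (g : G) (hg : g ∉ P.B) :
    ∃ s : P.S, ∃ b₁ ∈ P.B, ∀ b ∈ P.B, g⁻¹ * b * g ∈ P.B →
      (s : G)⁻¹ * (b₁⁻¹ * b * b₁) * (s : G) ∈ P.B := by
  obtain ⟨w, hw⟩ := exists_C P g
  have hw1 : w ≠ 1 := by
    rintro rfl
    exact hg ((C_one P g).1 hw)
  obtain ⟨l, hl, hred⟩ := exists_reduced' (σ P) (wp_surj P) w
  cases l with
  | nil =>
    rw [wp_nil] at hl
    exact absurd hl.symm hw1
  | cons s l =>
    have hnu := not_Up_of_isReduced_cons P hred
    rw [hl] at hnu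
    have hup : Up P s (σ P s * w) := by
      by_contra h
      rw [not_Up_iff_lt] at h hnu
      rw [σ_mul_cancel] at h
      omega
    obtain ⟨n'', hn''⟩ := π_surj P (σ P s * w)
    have hπ : π P (⟨s, P.subset s.2⟩ * n'') = w := by
      rw [map_mul, hn'']
      show σ P s * (σ P s * w) = w
      exact σ_mul_cancel P s w
    rw [← hπ, mem_C_iff] at hw
    obtain ⟨b₁, hb₁, b₂, hb₂, hgeq⟩ := hw
    set g'' : G := (n'' : G) * b₂ with hg''
    have hg''C : g'' ∈ C P (σ P s * w) := by
      rw [← hn'']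
      exact C_mul_B P (mem_C_self P n'') hb₂
    have hgeq' : g = b₁ * (s : G) * g'' := by
      rw [hgeq, hg'']
      simp [mul_assoc]
    refine ⟨s, b₁, hb₁, ?_⟩
    intro b hb hconj
    set b' : G := b₁⁻¹ * b * b₁ with hb'
    have hb'B : b' ∈ P.B := P.B.mul_mem (P.B.mul_mem (P.B.inv_mem hb₁) hb) hb₁
    by_contra hy
    have h1 : b' * (s : G) ∈ C P (σ P s) := B_mul_C P hb'B (gen_mem_C P s)
    have h2 : (s : G)⁻¹ * b' * (s : G) ∈ C P (σ P s) := by
      rcases L1_inv P s h1 with h | h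
      · rw [σ_mul_self, C_one] at h
        exact absurd (by simpa [mul_assoc] using h) hy
      · simpa [mul_assoc] using h
    have h2' : (s : G)⁻¹ * b' * (s : G) ∈ C P (π P ⟨s, P.subset s.2⟩) := h2
    rw [mem_C_iff] at h2'
    obtain ⟨x₁, hx₁, x₂, hx₂, hy2⟩ := h2'
    -- `y g'' = g'' β`
    have e1 : (s : G)⁻¹ * b' * (s : G) * g'' = g'' * (g⁻¹ * b * g) := by
      rw [hgeq', hb']
      group
    have h3 : (s : G)⁻¹ * b' * (s : G) * g'' ∈ C P (σ P s * w) := by
      rw [e1]
      exact C_mul_B P hg''C hconj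
    have h4 : (s : G)⁻¹ * b' * (s : G) * g'' ∈ C P w := by
      rw [hy2]
      have h5 : x₂ * g'' ∈ C P (σ P s * w) := B_mul_C P hx₂ hg''C
      have h6 := hup _ h5
      rw [σ_mul_cancel] at h6
      have h7 := B_mul_C P hx₁ h6
      have e2 : x₁ * ((s : G) * (x₂ * g'')) = x₁ * ((⟨s, P.subset s.2⟩ : P.N) : G) * x₂ * g'' := by
        simp [mul_assoc]
      rw [e2] at h7
      exact h7
    have h8 := C_inj P h3 h4
    have h9 : σ P s = 1 := by
      have : σ P s * w = 1 * w := by rw [one_mul]; exact h8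
      exact mul_right_cancel this
    exact σ_ne_one P s h9

end Cfsg.Agent.Helper6.BNCent
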