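import Mathlib
import Cfsg.Agent.Lib.Helper6.BNCent
import Cfsg.Agent.Lib.Lead.ChevFactsAll
import Cfsg.Agent.Lib.Lead.ChevBruhat2
import Cfsg.Agent.Lib.Lead.ChevBV
import Cfsg.Agent.Lib.Lead.TwClass
import Cfsg.Agent.Lib.Lead.ChevCore
import Cfsg.Agent.S1024

/-!
An element of a Chevalley group commuting with all the root elements `x_r(1)` is trivial.
-/

set_option autoImplicit false
set_option linter.unusedSectionVars false
set_option linter.unusedVariables false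

namespace Cfsg.Agent.Helper6.FrobCent

open Cfsg Cfsg.Lie Cfsg.Agent.Lead.Chev Cfsg.Agent.Lead.Tw

variable {F : Type*} [Field F] {D : ChevalleyDatum} (hF : ChevFacts D F)
include hF

/-- a `B`-conjugate of `x_p(1)`, `p` fundamental, is not conjugated into `B` by `n_p⁻¹` -/
theorem not_conj_mem_borel (i : ℕ) (hi : i < D.rank) (b₁ : GL D.Idx F) (hb₁ : b₁ ∈ D.borelSubgroup F)
    (h : (nGL D hF.xadd (D.simple i))⁻¹ * (b₁⁻¹ * xGL D hF.xadd (D.simple i) 1 * b₁) *
      nGL D hF.xadd (D.simple i) ∈ D.borelSubgroup F) : False := by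
  set n := nGL D hF.xadd (D.simple i) with hn
  have hplt := hF.simple_lt i hi
  obtain ⟨u, hu, h₁, hh₁, e1⟩ := (hF.mem_borel_iff b₁⁻¹).1 (inv_mem hb₁)
  obtain ⟨u', hu', t, rfl⟩ := (hF.mem_posUnipotent_iff i hi u).1 hu
  obtain ⟨c, hc, hconj⟩ := hF.diagonal_conj_xGL h₁ hh₁ (D.simple i) hplt
  have e2 : b₁ = (u' * xGL D hF.xadd (D.simple i) t * h₁)⁻¹ := by rw [← e1, inv_inv]
  -- `b₁⁻¹ x b₁ = u' x_p(c) u'⁻¹`
  have e3 : b₁⁻¹ * xGL D hF.xadd (D.simple i) 1 * b₁ = u' * xGL D hF.xadd (D.simple i) c * u'⁻¹ := by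
    have e4 : h₁ * xGL D hF.xadd (D.simple i) 1 * h₁⁻¹ = xGL D hF.xadd (D.simple i) c := by rw [hconj 1, mul_one]
    have e5 : xGL D hF.xadd (D.simple i) t * xGL D hF.xadd (D.simple i) c * (xGL D hF.xadd (D.simple i) t)⁻¹ = xGL D hF.xadd (D.simple i) c := by
      rw [xGL_inv, xGL_mul, xGL_mul]
      congr 1
      ring
    rw [e1, e2]
    calc u' * xGL D hF.xadd (D.simple i) t * h₁ * xGL D hF.xadd (D.simple i) 1 * (u' * xGL D hF.xadd (D.simple i) t * h₁)⁻¹
        = u' * (xGL D hF.xadd (D.simple i) t * (h₁ * xGL D hF.xadd (D.simple i) 1 * h₁⁻¹) * (xGL D hF.xadd (D.simple i) t)⁻¹) * u'⁻¹ := by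
          group
      _ = u' * xGL D hF.xadd (D.simple i) c * u'⁻¹ := by rw [e4, e5]
  -- `= x_p(c) z`, `z ∈ U_p`
  have hnorm := hF.rootSubgroup_le_normalizer i hi (D.simple i) (Or.inl rfl)
  have hxn : (xGL D hF.xadd (D.simple i) c)⁻¹ ∈ Subgroup.normalizer (posExcept D F (D.simple i) : Set (GL D.Idx F)) :=
    inv_mem (hnorm ((mem_rootSubgroup_iff D hF.xadd _ _).2 ⟨c, rfl⟩))
  have hz1 : (xGL D hF.xadd (D.simple i) c)⁻¹ * u' * (xGL D hF.xadd (D.simple i) c)⁻¹⁻¹ ∈ posExcept D F (D.simple i) :=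
    (Subgroup.mem_normalizer_iff.1 hxn u').1 hu'
  set z := (xGL D hF.xadd (D.simple i) c)⁻¹ * u' * (xGL D hF.xadd (D.simple i) c)⁻¹⁻¹ * u'⁻¹ with hz
  have hzU : z ∈ posExcept D F (D.simple i) := mul_mem hz1 (inv_mem hu')
  have e6 : u' * xGL D hF.xadd (D.simple i) c * u'⁻¹ = xGL D hF.xadd (D.simple i) c * z := by
    rw [hz]
    group
  rw [e3, e6] at h
  have e7 : n⁻¹ * (xGL D hF.xadd (D.simple i) c * z) * n = (n⁻¹ * xGL D hF.xadd (D.simple i) c * n) * (n⁻¹ * z * n) := by group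
  rw [e7] at h
  have hz2 : n⁻¹ * z * n ∈ D.borelSubgroup F :=
    posUnipotent_le_borel D (hF.posExcept_le_posUnipotent i hi (hF.nGL_inv_conj_posExcept i hi z hzU))
  have h3 : n⁻¹ * xGL D hF.xadd (D.simple i) c * n ∈ D.borelSubgroup F := by
    have := mul_mem h (inv_mem hz2)
    rwa [mul_inv_cancel_right] at this
  have hsq : n * n ∈ D.diagonalSubgroup F := nGL_sq_mem_diagonal D hF.xadd _ hplt
  have e8 : xGL D hF.xadd (D.neg (D.simple i)) (-c) = (n * n) * (n⁻¹ * xGL D hF.xadd (D.simple i) c * n) * (n * n)⁻¹ := by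
    rw [← hF.nGL_conj_simple i hi c, ← hn]
    group
  have h4 : xGL D hF.xadd (D.neg (D.simple i)) (-c) ∈ D.borelSubgroup F := by
    rw [e8]
    exact mul_mem (mul_mem (diagonal_le_borel D hsq) h3) (inv_mem (diagonal_le_borel D hsq))
  have := hF.eq_zero_of_xGL_neg_mem_borel _ (hF.simple_pos i hi) _ h4
  exact hc (neg_eq_zero.1 this)

/-- an element commuting with the `x_p(1)`, `p` fundamental, lies in `B` -/
theorem mem_borel_of_commute (g : GL D.Idx F) (hg : g ∈ D.group F)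
    (hc : ∀ i < D.rank, Commute g (xGL D hF.xadd (D.simple i) 1)) : g ∈ D.borelSubgroup F := by
  by_contra hgB
  set P := hF.bnPair with hP
  have hg' : (⟨g, hg⟩ : ↥(D.group F)) ∉ P.B := hgB
  obtain ⟨s, b₁, hb₁, hall⟩ := Cfsg.Agent.Helper6.BNCent.exists_gen_of_not_mem P ⟨g, hg⟩ hg'
  obtain ⟨i, hi, hs⟩ := s.2
  have es : ((s : ↥(D.group F)) : GL D.Idx F) = nGL D hF.xadd (D.simple i) :=
    Units.ext (by rw [hs, nGL_val])
  have hxG := xGL_mem_group D hF.xadd (D.simple i) (1 : F)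
  have hxB : (⟨xGL D hF.xadd (D.simple i) 1, hxG⟩ : ↥(D.group F)) ∈ P.B :=
    posUnipotent_le_borel D (xGL_mem_posUnipotent D hF.xadd _ (hF.simple_pos i hi) 1)
  have h1 : (⟨g, hg⟩ : ↥(D.group F))⁻¹ * ⟨xGL D hF.xadd (D.simple i) 1, hxG⟩ * ⟨g, hg⟩ ∈ P.B := by
    have e : (⟨g, hg⟩ : ↥(D.group F))⁻¹ * ⟨xGL D hF.xadd (D.simple i) 1, hxG⟩ * ⟨g, hg⟩ =
        ⟨xGL D hF.xadd (D.simple i) 1, hxG⟩ := by
      apply Subtype.ext
      show g⁻¹ * xGL D hF.xadd (D.simple i) 1 * g = xGL D hF.xadd (D.simple i) 1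
      rw [mul_assoc, ← (hc i hi).eq, ← mul_assoc, inv_mul_cancel, one_mul]
    rw [e]
    exact hxB
  have h2 := hall _ hxB h1
  have h3 : (nGL D hF.xadd (D.simple i))⁻¹ * ((b₁ : GL D.Idx F)⁻¹ * xGL D hF.xadd (D.simple i) 1 * b₁) *
      nGL D hF.xadd (D.simple i) ∈ D.borelSubgroup F := by
    have h2' : (((s : ↥(D.group F))⁻¹ * (b₁⁻¹ * ⟨xGL D hF.xadd (D.simple i) 1, hxG⟩ * b₁) *
      (s : ↥(D.group F)) : ↥(D.group F)) : GL D.Idx F) ∈ D.borelSubgroup F := h2
    simp only [Subgroup.coe_mul, Subgroup.coe_inv, es] at h2'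
    exact h2'
  exact not_conj_mem_borel hF i hi b₁ hb₁ h3

/-- an element of `B` commuting with `n_{w₀}` lies in `H` -/
theorem mem_diagonal_of_commute (g : GL D.Idx F) (hgB : g ∈ D.borelSubgroup F)
    (w : List ℕ) (hw : ∀ i ∈ w, i < D.rank) (hneg : ∀ s, D.IsPosRoot s → D.IsNegRoot (reflWord D w s))
    (hc : Commute g (nWordGL D hF.xadd w)) : g ∈ D.diagonalSubgroup F := by
  obtain ⟨u, hu, h, hh, rfl⟩ := (hF.mem_borel_iff g).1 hgB
  set n := nWordGL D hF.xadd w with hn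
  have huN : u ∈ negPartN D F n := by
    apply hF.negPart_le_negPartN w hw
    have : Cfsg.Agent.Lead.Chev.negPart D hF.xadd w = D.posUnipotent F := by
      apply le_antisymm (hF.negPart_le_posUnipotent w)
      unfold ChevalleyDatum.posUnipotent Cfsg.Agent.Lead.Chev.negPart
      apply Subgroup.closure_mono
      rintro g ⟨r, t, hr, hg⟩
      exact ⟨r, t, hr, hneg r hr, Units.ext (by rw [hg, xGL_val])⟩
    rw [this]
    exact hu
  have h1 : n * u * n⁻¹ ∈ D.negUnipotent F := hF.conj_negPartN_mem n u huN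
  have h2 : n * h * n⁻¹ ∈ D.diagonalSubgroup F :=
    nWordGL_conj_mem_diagonal D hF.xadd (etaOf D) hF.nsimple w hw h hh
  have e1 : u * h = (n * u * n⁻¹) * (n * h * n⁻¹) := by
    have : n * (u * h) * n⁻¹ = u * h := by
      rw [← hc.eq, mul_assoc, mul_inv_cancel, mul_one]
    rw [← this]
    group
  have h3 : n * u * n⁻¹ ∈ D.borelSubgroup F ⊓ D.negUnipotent F := by
    refine ⟨?_, h1⟩
    have : n * u * n⁻¹ = (u * h) * (n * h * n⁻¹)⁻¹ := by
      rw [e1]
      group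
    rw [this]
    exact (D.borelSubgroup F).mul_mem hgB ((D.borelSubgroup F).inv_mem (diagonal_le_borel D h2))
  rw [hF.borel_inf_negUnipotent, Subgroup.mem_bot] at h3
  rw [e1, h3, one_mul]
  exact h2

/-- an element of `H` commuting with all the `x_r(1)` is trivial -/
theorem eq_one_of_mem_diagonal (h : GL D.Idx F) (hh : h ∈ D.diagonalSubgroup F)
    (hinj : ∀ r < D.nroots, ∀ t : F, D.x F r t = 1 → t = 0)
    (hc : ∀ r < D.nroots, Commute h (xGL D hF.xadd r 1)) : h = 1 := by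
  obtain ⟨c, hc0, hhc⟩ := exists_Tmat_of_mem D hF.hall h hh
  have hchi : ∀ r < D.nroots, chi D c r = 1 := by
    intro r hr
    have h1 := hF.Tmat_conj_xGL h c hc0 hhc r hr 1
    have h2 : h * xGL D hF.xadd r 1 * h⁻¹ = xGL D hF.xadd r 1 := by
      rw [(hc r hr).eq, mul_assoc, mul_inv_cancel, mul_one]
    rw [h2, mul_one] at h1
    have h3 : xGL D hF.xadd r (1 - chi D c r) = 1 := by
      rw [sub_eq_add_neg, ← xGL_mul, ← xGL_inv, ← h1, mul_inv_cancel]
    have h4 := congrArg (fun g : GL D.Idx F => (g : Matrix D.Idx D.Idx F)) h3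
    simp only [xGL_val, Units.val_one] at h4
    have := hinj r hr _ h4
    exact (sub_eq_zero.1 this).symm
  apply Units.ext
  rw [hhc, Units.val_one]
  unfold Tmat
  rw [← Matrix.diagonal_one]
  congr 1
  funext idx
  rcases idx with j | v
  · rfl
  · exact hchi v.val v.isLt

/-- **an element commuting with all the `x_r(1)` is trivial** -/
theorem eq_one_of_commute (g : GL D.Idx F) (hg : g ∈ D.group F)
    (hinj : ∀ r < D.nroots, ∀ t : F, D.x F r t = 1 → t = 0)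
    (hc : ∀ r < D.nroots, Commute g (xGL D hF.xadd r 1)) : g = 1 := by
  have hgB := mem_borel_of_commute hF g hg (fun i hi => hc _ (hF.simple_lt i hi))
  obtain ⟨w, hw, hneg, -⟩ := hF.w0
  have hcn : ∀ r < D.nroots, Commute g (nGL D hF.xadd r) := by
    intro r hr
    rw [nGL_eq_nGLt, nGLt_eq]
    have hnr := hF.sign.neg_lt r hr
    have h1 := hc r hr
    have h2 : Commute g (xGL D hF.xadd (D.neg r) (-(1 : F)⁻¹)) := by
      have : xGL D hF.xadd (D.neg r) (-(1 : F)⁻¹) = (xGL D hF.xadd (D.neg r) 1)⁻¹ := by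
        rw [xGL_inv, inv_one]
      rw [this]
      exact (hc _ hnr).inv_right
    exact (h1.mul_right h2).mul_right h1
  have hcw : ∀ v : List ℕ, (∀ i ∈ v, i < D.rank) → Commute g (nWordGL D hF.xadd v) := by
    intro v
    induction v with
    | nil => intro _; rw [nWordGL_nil]; exact Commute.one_right g
    | cons i v ih =>
      intro hv
      rw [nWordGL_cons]
      exact (hcn _ (hF.simple_lt i (hv i List.mem_cons_self))).mul_right
        (ih fun j hj => hv j (List.mem_cons_of_mem _ hj))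
  have hgH := mem_diagonal_of_commute hF g hgB w hw hneg (hcw w hw)
  exact eq_one_of_mem_diagonal hF g hgH hinj hc

end Cfsg.Agent.Helper6.FrobCent
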