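import Mathlib
import Cfsg.Agent.Lib.Helper6.FrobCent
import Cfsg.Agent.Lib.Helper6.RootCent
import Cfsg.Agent.S1053

/-!
Preparations for Steinberg's theorem on the automorphisms of the finite Chevalley groups: the normalizer of `U`, and
the Sylow subgroups meeting `U` trivially.
-/

set_option autoImplicit false
set_option linter.unusedSectionVars false
set_option linter.unusedVariables false

namespace Cfsg.Agent.Helper6.AutBase

open Cfsg Cfsg.Lie Cfsg.Agent.Lead.Chev Cfsg.Agent.Lead.Tw Cfsg.Agent.Helper6.FrobCent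

variable {F : Type*} [Field F] {D : ChevalleyDatum} (hF : ChevFacts D F)
include hF

/-- an element conjugating the `x_p(1)`, `p` fundamental, into `B` lies in `B` -/
theorem mem_borel_of_conj_mem (g : GL D.Idx F) (hg : g ∈ D.group F)
    (hc : ∀ i < D.rank, g⁻¹ * xGL D hF.xadd (D.simple i) 1 * g ∈ D.borelSubgroup F) :
    g ∈ D.borelSubgroup F := by
  by_contra hgB
  set P := hF.bnPair with hP
  have hg' : (⟨g, hg⟩ : ↥(D.group F)) ∉ P.B := hgB
  obtain ⟨s, b₁, hb₁, hall⟩ := Cfsg.Agent.Helper6.BNCent.exists_gen_of_not_mem P ⟨g, hg⟩ hg'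
  obtain ⟨i, hi, hs⟩ := s.2
  have es : ((s : ↥(D.group F)) : GL D.Idx F) = nGL D hF.xadd (D.simple i) :=
    Units.ext (by rw [hs, nGL_val])
  have hxG := xGL_mem_group D hF.xadd (D.simple i) (1 : F)
  have hxB : (⟨xGL D hF.xadd (D.simple i) 1, hxG⟩ : ↥(D.group F)) ∈ P.B :=
    posUnipotent_le_borel D (xGL_mem_posUnipotent D hF.xadd _ (hF.simple_pos i hi) 1)
  have h1 : (⟨g, hg⟩ : ↥(D.group F))⁻¹ * ⟨xGL D hF.xadd (D.simple i) 1, hxG⟩ * ⟨g, hg⟩ ∈ P.B :=
    hc i hi
  have h2 := hall _ hxB h1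
  have h3 : (nGL D hF.xadd (D.simple i))⁻¹ * ((b₁ : GL D.Idx F)⁻¹ * xGL D hF.xadd (D.simple i) 1 * b₁) *
      nGL D hF.xadd (D.simple i) ∈ D.borelSubgroup F := by
    have h2' : (((s : ↥(D.group F))⁻¹ * (b₁⁻¹ * ⟨xGL D hF.xadd (D.simple i) 1, hxG⟩ * b₁) *
      (s : ↥(D.group F)) : ↥(D.group F)) : GL D.Idx F) ∈ D.borelSubgroup F := h2
    simp only [Subgroup.coe_mul, Subgroup.coe_inv, es] at h2'
    exact h2'
  exact not_conj_mem_borel hF i hi b₁ hb₁ h3

theorem borel_le_normalizer_posUnipotent :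
    D.borelSubgroup F ≤ Subgroup.normalizer (D.posUnipotent F : Set (GL D.Idx F)) := by
  unfold ChevalleyDatum.borelSubgroup
  apply sup_le
  · exact Subgroup.le_normalizer
  · exact diagonalSubgroup_le_normalizer D hF.hall hF.hconj

/-- `N_G(U) = B` -/
theorem normalizer_posUnipotent :
    Subgroup.normalizer (D.posUnipotent F : Set (GL D.Idx F)) ⊓ D.group F = D.borelSubgroup F := by
  apply le_antisymm
  · rintro g ⟨hgN, hgG⟩
    apply mem_borel_of_conj_mem hF g hgG
    intro i hi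
    have hx := xGL_mem_posUnipotent D hF.xadd _ (hF.simple_pos i hi) (1 : F)
    have h1 := (Subgroup.mem_normalizer_iff.1 (inv_mem hgN) _).1 hx
    rw [inv_inv] at h1
    exact posUnipotent_le_borel D h1
  · intro b hb
    exact ⟨borel_le_normalizer_posUnipotent hF hb, hF.borel_le_group hb⟩

/-- a conjugate of `U` meeting `U` trivially is conjugate to `V` under `U` -/
theorem exists_conj_negUnipotent [Finite F] (hS : CorSize D)
    (hcard : Nat.card ↥(D.negUnipotent F) = Nat.card ↥(D.posUnipotent F))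
    (g : GL D.Idx F) (hg : g ∈ D.group F)
    (hQ : (D.posUnipotent F).map (MulAut.conj g).toMonoidHom ⊓ D.posUnipotent F = ⊥) :
    ∃ u ∈ D.posUnipotent F, (D.posUnipotent F).map (MulAut.conj g).toMonoidHom =
      (D.negUnipotent F).map (MulAut.conj u).toMonoidHom := by
  classical
  obtain ⟨b, hb, w, hw, u₁, hu₁, rfl⟩ := hF.exists_bruhat hS g hg
  have hu₁U := hF.negPart_le_posUnipotent w hu₁
  set n := nWordGL D hF.xadd w with hn
  have hbN := borel_le_normalizer_posUnipotent hF hb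
  -- conjugation of `U` by `b n u₁` is conjugation by `b n`
  have hmap1 : (D.posUnipotent F).map (MulAut.conj (b * n * u₁)).toMonoidHom =
      (D.posUnipotent F).map (MulAut.conj (b * n)).toMonoidHom := by
    ext y
    simp only [Subgroup.mem_map, MulEquiv.coe_toMonoidHom, MulAut.conj_apply]
    constructor
    · rintro ⟨x, hx, rfl⟩
      refine ⟨u₁ * x * u₁⁻¹, mul_mem (mul_mem hu₁U hx) (inv_mem hu₁U), ?_⟩
      group
    · rintro ⟨x, hx, rfl⟩
      refine ⟨u₁⁻¹ * x * u₁, mul_mem (mul_mem (inv_mem hu₁U) hx) hu₁U, ?_⟩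
      group
  rw [hmap1] at hQ ⊢
  -- `w` makes every positive root negative
  have hneg : ∀ r, D.IsPosRoot r → D.IsNegRoot (reflWord D w r) := by
    intro r hr
    have hlt := reflWord_lt D (etaOf D) hF.facts w hw r hr.1
    rcases hF.sign.pos_or_neg _ hlt with hpos | hneg
    · exfalso
      have hconj := nWordGL_conj D hF.xadd (etaOf D) hF.nsimple w hw r hr.1 (1 : F)
      set y := xGL D hF.xadd (reflWord D w r) (((signWord D (etaOf D) w r : ℤ) : F) * 1) with hy
      have hyU : y ∈ D.posUnipotent F := xGL_mem_posUnipotent D hF.xadd _ hpos _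
      have h1 : b * y * b⁻¹ ∈ D.posUnipotent F := (Subgroup.mem_normalizer_iff.1 hbN y).1 hyU
      have h2 : b * y * b⁻¹ ∈ (D.posUnipotent F).map (MulAut.conj (b * n)).toMonoidHom := by
        refine ⟨xGL D hF.xadd r 1, xGL_mem_posUnipotent D hF.xadd r hr 1, ?_⟩
        rw [MulEquiv.coe_toMonoidHom, MulAut.conj_apply]
        calc b * n * xGL D hF.xadd r 1 * (b * n)⁻¹ = b * (n * xGL D hF.xadd r 1 * n⁻¹) * b⁻¹ := by group
          _ = b * y * b⁻¹ := by rw [hconj]
      have h3 : b * y * b⁻¹ ∈ (D.posUnipotent F).map (MulAut.conj (b * n)).toMonoidHom ⊓ D.posUnipotent F :=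
        ⟨h2, h1⟩
      rw [hQ, Subgroup.mem_bot] at h3
      have h4 : y = 1 := by
        have : y = b⁻¹ * (b * y * b⁻¹) * b := by group
        rw [this, h3]
        group
      have h5 := congrArg (fun g : GL D.Idx F => (g : Matrix D.Idx D.Idx F)) h4
      simp only [hy, xGL_val, Units.val_one] at h5
      have hx1 : D.x F (reflWord D w r) (((signWord D (etaOf D) w r : ℤ) : F) * 1) =
          D.x F (reflWord D w r) 0 := by rw [h5, hF.xadd.zero']
      have h6 : xGL D hF.xadd (reflWord D w r) (((signWord D (etaOf D) w r : ℤ) : F) * 1) =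
          xGL D hF.xadd (reflWord D w r) 0 := Units.ext (by rw [xGL_val, xGL_val, hx1])
      have h7 := Cfsg.Agent.Helper6.RootCent.xGL_pos_inj hF _ hpos _ _ h6
      rw [mul_one] at h7
      rcases signWord_sq D (etaOf D) w (fun j hj s => (hF.nsimple j (hw j hj)).sign s) r with h8 | h8 <;>
        rw [h8] at h7 <;> simp at h7
    · exact hneg
  -- `n U n⁻¹ = V`
  have hnU : (D.posUnipotent F).map (MulAut.conj n).toMonoidHom = D.negUnipotent F := by
    have hle : (D.posUnipotent F).map (MulAut.conj n).toMonoidHom ≤ D.negUnipotent F := by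
      rw [Subgroup.map_le_iff_le_comap]
      unfold ChevalleyDatum.posUnipotent
      rw [Subgroup.closure_le]
      rintro x ⟨r, t, hr, hx⟩
      have ex : x = xGL D hF.xadd r t := Units.ext (by rw [hx, xGL_val])
      show (MulAut.conj n).toMonoidHom x ∈ D.negUnipotent F
      rw [MulEquiv.coe_toMonoidHom, MulAut.conj_apply, ex,
        nWordGL_conj D hF.xadd (etaOf D) hF.nsimple w hw r hr.1 t]
      exact Subgroup.subset_closure ⟨_, _, hneg r hr, xGL_val D hF.xadd _ _⟩
    haveI : Finite ↥(D.negUnipotent F) := inferInstance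
    apply Subgroup.eq_of_le_of_card_ge hle
    rw [hcard]
    exact le_of_eq (Nat.card_congr ((D.posUnipotent F).equivMapOfInjective _
      (MulAut.conj n).injective).toEquiv)
  obtain ⟨u', hu', h, hh, rfl⟩ := (hF.mem_borel_iff b).1 hb
  refine ⟨u', hu', ?_⟩
  rw [← hnU]
  ext y
  simp only [Subgroup.mem_map, MulEquiv.coe_toMonoidHom, MulAut.conj_apply]
  constructor
  · rintro ⟨x, hx, rfl⟩
    have h1 : n * x * n⁻¹ ∈ D.negUnipotent F := by
      rw [← hnU]
      exact ⟨x, hx, by rw [MulEquiv.coe_toMonoidHom, MulAut.conj_apply]⟩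
    have h2 := hF.diagonal_conj_mem_negUnipotent h hh _ h1
    rw [← hnU] at h2
    obtain ⟨x', hx', e⟩ := h2
    rw [MulEquiv.coe_toMonoidHom, MulAut.conj_apply] at e
    refine ⟨n * x' * n⁻¹, ⟨x', hx', rfl⟩, ?_⟩
    rw [e]
    group
  · rintro ⟨z, ⟨x, hx, rfl⟩, rfl⟩
    have h1 : n * x * n⁻¹ ∈ D.negUnipotent F := by
      rw [← hnU]
      exact ⟨x, hx, by rw [MulEquiv.coe_toMonoidHom, MulAut.conj_apply]⟩
    have h2 := hF.diagonal_conj_mem_negUnipotent h⁻¹ (inv_mem hh) _ h1
    rw [← hnU] at h2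
    obtain ⟨x', hx', e⟩ := h2
    rw [MulEquiv.coe_toMonoidHom, MulAut.conj_apply, inv_inv] at e
    refine ⟨x', hx', ?_⟩
    have : n * x' * n⁻¹ = h⁻¹ * (n * x * n⁻¹) * h := e
    calc u' * h * n * x' * (u' * h * n)⁻¹ = u' * h * (n * x' * n⁻¹) * h⁻¹ * u'⁻¹ := by group
      _ = u' * (n * x * n⁻¹) * u'⁻¹ := by rw [this]; group

end Cfsg.Agent.Helper6.AutBase
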