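import Mathlib
import Cfsg.Agent.Lib.Lead.ChevFactsAll
import Cfsg.Agent.Lib.Lead.ChevBN4
import Cfsg.Agent.Lib.Helper6.SL2Hom

/-!
The homomorphism `SL₂(F) → ⟨X_r, X_{-r}⟩` for every root `r`: the rank-one relations hold for a fundamental root
(from the formulas for `n_p` and `h_p(c)`), and are carried to every root by conjugation with `n_w`.
-/

set_option autoImplicit false
set_option linter.unusedSectionVars false
set_option linter.unusedVariables false

namespace Cfsg.Agent.Helper6.ChevL

open Cfsg Cfsg.Lie Cfsg.Agent.Lead.Chev Cfsg.Agent.Helper6.SL2Hom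

theorem diag2_G2 : ∀ j < chevG2.rank, chevG2.cartan j (chevG2.simple j) = 2 := by decide +kernel
theorem diag2_B2 : ∀ j < chevB2.rank, chevB2.cartan j (chevB2.simple j) = 2 := by decide +kernel
theorem diag2_D4 : ∀ j < chevD4.rank, chevD4.cartan j (chevD4.simple j) = 2 := by decide +kernel
theorem diag2_F4 : ∀ j < chevF4.rank, chevF4.cartan j (chevF4.simple j) = 2 := by decide +kernel
theorem diag2_E6 : ∀ j < chevE6.rank, chevE6.cartan j (chevE6.simple j) = 2 := by decide +kernel
theorem diag2_E7 : ∀ j < chevE7.rank, chevE7.cartan j (chevE7.simple j) = 2 := by decide +kernel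
theorem diag2_E8 : ∀ j < chevE8.rank, chevE8.cartan j (chevE8.simple j) = 2 := by decide +kernel

theorem diag2_of_mem (D : ChevalleyDatum)
    (hD : D ∈ [chevG2, chevB2, chevD4, chevF4, chevE6, chevE7, chevE8]) :
    ∀ j < D.rank, D.cartan j (D.simple j) = 2 := by
  simp only [List.mem_cons, List.mem_nil_iff, or_false] at hD
  rcases hD with rfl | rfl | rfl | rfl | rfl | rfl | rfl
  · exact diag2_G2
  · exact diag2_B2
  · exact diag2_D4
  · exact diag2_F4
  · exact diag2_E6
  · exact diag2_E7
  · exact diag2_E8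

variable {F : Type*} [Field F] {D : ChevalleyDatum} (hF : ChevFacts D F)
include hF

theorem nn_eq (r : ℕ) : nn (xGL D hF.xadd r) (xGL D hF.xadd (D.neg r)) = nGL D hF.xadd r := by
  rw [nGL_eq_nGLt, nGLt_eq, inv_one]
  rfl

theorem hh_eq (r : ℕ) (s : F) :
    hh (xGL D hF.xadd r) (xGL D hF.xadd (D.neg r)) s = hGLt D hF.xadd r s := by
  unfold hh
  rw [nn_eq hF, hGLt_eq, nGLt_eq D hF.xadd r s, nGL_eq_nGLt, nGLt_inv]

/-- the value of `h_p(c)` for a fundamental root -/
theorem hGLt_simple_val (i : ℕ) (hi : i < D.rank) (c : F) (hc : c ≠ 0) :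
    ((hGLt D hF.xadd (D.simple i) c : GL D.Idx F) : Matrix D.Idx D.Idx F) =
      Matrix.diagonal (Sum.elim (fun _ => (1 : F)) (fun s : Fin D.nroots => c ^ (D.cartan i s))) := by
  rw [hGLt_val]
  exact hF.hsimple i hi c hc

/-- the rank-one relations for a fundamental root -/
theorem rankOne_simple (hd : ∀ j < D.rank, D.cartan j (D.simple j) = 2) (i : ℕ) (hi : i < D.rank) :
    RankOne (xGL D hF.xadd (D.simple i)) (xGL D hF.xadd (D.neg (D.simple i))) := by
  refine ⟨fun t u => xGL_mul D hF.xadd _ t u, fun t u => xGL_mul D hF.xadd _ t u, ?_, ?_, ?_⟩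
  · intro u
    rw [nn_eq hF]
    exact hF.nGL_conj_simple i hi u
  · intro s hs v
    rw [hh_eq hF, mul_inv_eq_iff_eq_mul]
    apply Units.ext
    rw [Units.val_mul, Units.val_mul, hGLt_simple_val hF i hi s hs, xGL_val, xGL_val]
    have := hF.hconj i hi (D.simple i) (hF.simple_lt i hi) s hs v
    rw [hd i hi] at this
    rw [this]
    norm_cast
  · intro s s' hs hs'
    rw [hh_eq hF, hh_eq hF, hh_eq hF]
    apply Units.ext
    rw [Units.val_mul, hGLt_simple_val hF i hi _ (mul_ne_zero hs hs'), hGLt_simple_val hF i hi s hs,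
      hGLt_simple_val hF i hi s' hs', Matrix.diagonal_mul_diagonal]
    congr 1
    funext k
    rcases k with k | k
    · simp
    · simp [mul_zpow]

/-- the sign of `n_w` on a root and on its negative agree -/
theorem signWord_neg (w : List ℕ) (hw : ∀ j ∈ w, j < D.rank) (s : ℕ) (hs : s < D.nroots) :
    signWord D (etaOf D) w (D.neg s) = signWord D (etaOf D) w s := by
  induction w with
  | nil => rfl
  | cons i w ih =>
    have hw' : ∀ j ∈ w, j < D.rank := fun j hj => hw j (List.mem_cons_of_mem _ hj)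
    have hi : i < D.rank := hw i List.mem_cons_self
    simp only [signWord]
    rw [ih hw', reflWord_neg D (etaOf D) hF.facts w hw' s hs]
    have hq := reflWord_lt D (etaOf D) hF.facts w hw' s hs
    have h1 := (hF.nsimple i hi).sign_neg _ hq
    have h2 : etaOf D i (D.neg (reflWord D w s)) = etaOf D i (reflWord D w s) := by
      rcases (hF.nsimple i hi).sign (reflWord D w s) with h3 | h3 <;>
      rcases (hF.nsimple i hi).sign (D.neg (reflWord D w s)) with h4 | h4 <;>
      rw [h3, h4] at h1 <;> simp_all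
    rw [h2]

/-- the rank-one relations for every root -/
theorem rankOne_root (hd : ∀ j < D.rank, D.cartan j (D.simple j) = 2) (r : ℕ) (hr : r < D.nroots) :
    RankOne (xGL D hF.xadd r) (xGL D hF.xadd (D.neg r)) := by
  obtain ⟨i, hi, w, hw, hwr⟩ := hF.orbit r hr
  have hp := hF.simple_lt i hi
  have hnp := hF.neg_simple_lt i hi
  have hb := rankOne_simple hF hd i hi
  have hnr : reflWord D w (D.neg (D.simple i)) = D.neg r := by
    rw [reflWord_neg D (etaOf D) hF.facts w hw _ hp, hwr]
  have hsn := signWord_neg hF w hw _ hp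
  have c1 := nWordGL_conj D hF.xadd (etaOf D) hF.nsimple w hw (D.simple i) hp
  have c2 := nWordGL_conj D hF.xadd (etaOf D) hF.nsimple w hw (D.neg (D.simple i)) hnp
  rw [hwr] at c1
  rw [hnr, hsn] at c2
  rcases signWord_sq D (etaOf D) w (fun j hj s => (hF.nsimple j (hw j hj)).sign s) (D.simple i) with h | h
  · rw [h] at c1 c2
    have e1 : xGL D hF.xadd r = fun t => nWordGL D hF.xadd w * xGL D hF.xadd (D.simple i) t *
        (nWordGL D hF.xadd w)⁻¹ := by
      funext t
      rw [c1]
      simp
    have e2 : xGL D hF.xadd (D.neg r) = fun t => nWordGL D hF.xadd w *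
        xGL D hF.xadd (D.neg (D.simple i)) t * (nWordGL D hF.xadd w)⁻¹ := by
      funext t
      rw [c2]
      simp
    rw [e1, e2]
    exact hb.conj _
  · rw [h] at c1 c2
    have e1 : xGL D hF.xadd r = fun t => nWordGL D hF.xadd w *
        (fun t => xGL D hF.xadd (D.simple i) (-t)) t * (nWordGL D hF.xadd w)⁻¹ := by
      funext t
      show _ = nWordGL D hF.xadd w * xGL D hF.xadd (D.simple i) (-t) * (nWordGL D hF.xadd w)⁻¹
      rw [c1]
      simp
    have e2 : xGL D hF.xadd (D.neg r) = fun t => nWordGL D hF.xadd w *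
        (fun t => xGL D hF.xadd (D.neg (D.simple i)) (-t)) t * (nWordGL D hF.xadd w)⁻¹ := by
      funext t
      show _ = nWordGL D hF.xadd w * xGL D hF.xadd (D.neg (D.simple i)) (-t) * (nWordGL D hF.xadd w)⁻¹
      rw [c2]
      simp
    rw [e1, e2]
    exact hb.neg.conj _

/-- the root subgroup as a closure of a range -/
theorem rootSubgroup_eq_closure (r : ℕ) :
    D.rootSubgroup F r = Subgroup.closure (Set.range (xGL D hF.xadd r)) := by
  unfold ChevalleyDatum.rootSubgroup
  congr 1
  ext g
  constructor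
  · rintro ⟨t, ht⟩
    exact ⟨t, Units.ext (by rw [ht, xGL_val])⟩
  · rintro ⟨t, rfl⟩
    exact ⟨t, xGL_val D hF.xadd r t⟩

end Cfsg.Agent.Helper6.ChevL
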