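import Mathlib
import Cfsg.Agent.Lib.Helper6.AutBase
import Cfsg.Agent.Lib.Helper6.AutAbs
import Cfsg.Agent.Lib.Helper6.AutDefs
import Cfsg.Agent.Lib.Helper6.ChevLTriv
import Cfsg.Agent.Lib.Helper6.ChevLSL2
import Cfsg.Agent.Lib.Lead.ChevBN3
import Cfsg.Agent.Lib.Lead.ChevBruhat2

/-!
For Steinberg's theorem on automorphisms: the longest element, and `V ∩ P_i = X_{-p_i}` for the minimal
parabolic subgroups.
-/

set_option autoImplicit false
set_option linter.unusedSectionVars false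
set_option linter.unusedVariables false

namespace Cfsg.Agent.Helper6.AutRoot

open Cfsg Cfsg.Lie Cfsg.Agent.Lead.Chev Cfsg.Agent.Helper6.SL2Hom Cfsg.Agent.Helper6.ChevL

variable {F : Type*} [Field F] {D : ChevalleyDatum} (hF : ChevFacts D F)
include hF

section W0

variable {w : List ℕ} (hw : W0 D w)
include hw

theorem n0_mem_group : nWordGL D hF.xadd w ∈ D.group F := nWordGL_mem_group D hF.xadd w

theorem n0_mem_monomial : nWordGL D hF.xadd w ∈ D.monomialSubgroup F :=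
  nWordGL_mem_monomial D hF.xadd hF.simple_lt w hw.lt

theorem n0_conj_pos : (D.posUnipotent F).map (MulAut.conj (nWordGL D hF.xadd w)).toMonoidHom =
    D.negUnipotent F :=
  map_conj_posUnipotent D hF.xadd (etaOf D) hF.nsimple w hw.lt hw.pos_neg hw.neg_ex

theorem n0_neg_pos (s : ℕ) (hs : D.IsNegRoot s) : D.IsPosRoot (reflWord D w s) := by
  have h1 := hF.sign.pos_of_neg s hs
  have h2 := hw.pos_neg _ h1
  rw [reflWord_neg D (etaOf D) hF.facts w hw.lt s hs.1] at h2
  have h3 := hF.sign.pos_of_neg _ h2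
  rwa [hF.sign.neg_neg _ (reflWord_lt D (etaOf D) hF.facts w hw.lt s hs.1)] at h3

theorem n0_sq_mem_diagonal :
    nWordGL D hF.xadd w * nWordGL D hF.xadd w ∈ D.diagonalSubgroup F := by
  rw [← nWordGL_append]
  apply nWordGL_mem_diagonal_of_pos hF (w ++ w)
  · intro i hi
    rcases List.mem_append.1 hi with h | h <;> exact hw.lt i h
  · intro s hs
    rw [reflWord_append]
    exact n0_neg_pos hF hw _ (hw.pos_neg s hs)

theorem diagonal_le_normalizer_neg :
    D.diagonalSubgroup F ≤ Subgroup.normalizer (D.negUnipotent F : Set (GL D.Idx F)) := by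
  intro h hh
  rw [Subgroup.mem_normalizer_iff]
  intro v
  constructor
  · intro hv
    exact hF.diagonal_conj_mem_negUnipotent h hh v hv
  · intro hv
    have := hF.diagonal_conj_mem_negUnipotent h⁻¹ (inv_mem hh) _ hv
    rw [inv_inv] at this
    have e : h⁻¹ * (h * v * h⁻¹) * h = v := by group
    rwa [e] at this

/-- `n₀ V n₀⁻¹ = U` -/
theorem n0_conj_neg : (D.negUnipotent F).map (MulAut.conj (nWordGL D hF.xadd w)).toMonoidHom =
    D.posUnipotent F := by
  set n := nWordGL D hF.xadd w with hn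
  rw [← n0_conj_pos hF hw, ← hn, Cfsg.Agent.Helper6.AutAbs.map_conj_mul]
  have h1 : n * n ∈ Subgroup.normalizer (D.posUnipotent F : Set (GL D.Idx F)) :=
    diagonalSubgroup_le_normalizer D hF.hall hF.hconj (n0_sq_mem_diagonal hF hw)
  ext x
  simp only [Subgroup.mem_map, MulEquiv.coe_toMonoidHom, MulAut.conj_apply]
  constructor
  · rintro ⟨y, hy, rfl⟩
    exact (Subgroup.mem_normalizer_iff.1 h1 y).1 hy
  · intro hx
    refine ⟨(n * n)⁻¹ * x * (n * n), ?_, by group⟩
    have := (Subgroup.mem_normalizer_iff.1 (inv_mem h1) x).1 hx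
    rwa [inv_inv] at this

theorem n0_inv_conj_neg (v : GL D.Idx F) (hv : v ∈ D.negUnipotent F) :
    (nWordGL D hF.xadd w)⁻¹ * v * nWordGL D hF.xadd w ∈ D.posUnipotent F := by
  rw [← n0_conj_pos hF hw] at hv
  obtain ⟨u, hu, rfl⟩ := hv
  rw [MulEquiv.coe_toMonoidHom, MulAut.conj_apply]
  have e : (nWordGL D hF.xadd w)⁻¹ * (nWordGL D hF.xadd w * u * (nWordGL D hF.xadd w)⁻¹) *
      nWordGL D hF.xadd w = u := by group
  rwa [e]

theorem n0_inv_conj_pos (u : GL D.Idx F) (hu : u ∈ D.posUnipotent F) :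
    (nWordGL D hF.xadd w)⁻¹ * u * nWordGL D hF.xadd w ∈ D.negUnipotent F := by
  rw [← n0_conj_neg hF hw] at hu
  obtain ⟨v, hv, rfl⟩ := hu
  rw [MulEquiv.coe_toMonoidHom, MulAut.conj_apply]
  have e : (nWordGL D hF.xadd w)⁻¹ * (nWordGL D hF.xadd w * v * (nWordGL D hF.xadd w)⁻¹) *
      nWordGL D hF.xadd w = v := by group
  rwa [e]

/-- an element of `N` lying in `B V` lies in `H` -/
theorem mem_diagonal_of_mem_monomial (n : GL D.Idx F) (hn : n ∈ D.monomialSubgroup F)
    (b v : GL D.Idx F) (hb : b ∈ D.borelSubgroup F) (hv : v ∈ D.negUnipotent F) (e : n = b * v) :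
    n ∈ D.diagonalSubgroup F := by
  set n₀ := nWordGL D hF.xadd w with hn₀
  have hn₀N := n0_mem_monomial hF hw
  have hu := n0_inv_conj_neg hF hw v hv
  set u := n₀⁻¹ * v * n₀ with hu'
  have e1 : b * n₀ * u = 1 * (n * n₀) * 1 := by
    rw [hu', e]
    group
  have hU : u ∈ negPartN D F n₀ := by
    have hle : D.posUnipotent F ≤ negPartN D F n₀ := by
      unfold ChevalleyDatum.posUnipotent negPartN
      apply Subgroup.closure_mono
      rintro x ⟨r, t, hr, hx⟩
      refine ⟨r, t, hr, ?_, hx⟩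
      rw [← n0_conj_pos hF hw]
      apply Subgroup.map_mono
      intro y hy
      obtain ⟨c, rfl⟩ := (mem_rootSubgroup_iff D hF.xadd r y).1 hy
      exact xGL_mem_posUnipotent D hF.xadd r hr c
    exact hle hu
  have h1 := (hF.canonical_unique b 1 n₀ (n * n₀) u 1 hb (one_mem _) hn₀N (mul_mem hn hn₀N) hU
    (one_mem _) e1).1
  -- `n₀⁻¹ n n₀ ∈ H`
  have h2 := hF.monomial_conj_mem_diagonal n₀ hn₀N _ h1
  have e2 : n₀ * (n₀⁻¹ * (n * n₀)) * n₀⁻¹ = n := by group
  rwa [e2] at h2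

end W0

section MinPar

variable {w : List ℕ} (hw : W0 D w) (hd : ∀ j < D.rank, D.cartan j (D.simple j) = 2)

theorem nGL_not_mem_borel (i : ℕ) (hi : i < D.rank) :
    nGL D hF.xadd (D.simple i) ∉ D.borelSubgroup F := by
  intro h
  have hs : (⟨nGL D hF.xadd (D.simple i), nGL_mem_group D hF.xadd _⟩ : ↥(D.group F)) ∈ hF.bnPair.S :=
    ⟨i, hi, nGL_val D hF.xadd _⟩
  exact Cfsg.Agent.Helper6.AutAbs.gen_not_mem_B hF.bnPair ⟨_, hs⟩ h

theorem posExcept_le_posUnipotent (i : ℕ) (hi : i < D.rank) :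
    posExcept D F (D.simple i) ≤ D.posUnipotent F := by
  rw [← posExcept_sup_rootSubgroup D _ (hF.simple_pos i hi)]
  exact le_sup_left

theorem nGL_mem_normalizer_posExcept (i : ℕ) (hi : i < D.rank) :
    nGL D hF.xadd (D.simple i) ∈
      Subgroup.normalizer (posExcept D F (D.simple i) : Set (GL D.Idx F)) := by
  have h1 := hF.rootSubgroup_le_normalizer i hi _ (Or.inl rfl)
  have h2 := hF.rootSubgroup_le_normalizer i hi _ (Or.inr rfl)
  rw [nGL_eq_nGLt, nGLt_eq]
  exact mul_mem (mul_mem (h1 ((mem_rootSubgroup_iff D hF.xadd _ _).2 ⟨_, rfl⟩))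
    (h2 ((mem_rootSubgroup_iff D hF.xadd _ _).2 ⟨_, rfl⟩)))
    (h1 ((mem_rootSubgroup_iff D hF.xadd _ _).2 ⟨_, rfl⟩))

include hd in
/-- `n_p x_p(t) = x_p(-t⁻¹) h_p(-t⁻¹) x_{-p}(t⁻¹)` -/
theorem nGL_mul_xGL (i : ℕ) (hi : i < D.rank) (t : F) (ht : t ≠ 0) :
    nGL D hF.xadd (D.simple i) * xGL D hF.xadd (D.simple i) t =
      xGL D hF.xadd (D.simple i) (-t⁻¹) * hGLt D hF.xadd (D.simple i) (-t⁻¹) *
        xGL D hF.xadd (D.neg (D.simple i)) t⁻¹ := by
  have hR := rankOne_simple hF hd i hi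
  have h1 := hR.key t ht
  have h2 := hR.nconj (-t⁻¹)
  rw [nn_eq hF, hh_eq hF] at h1
  rw [nn_eq hF, neg_neg] at h2
  rw [← h2]
  set n := nGL D hF.xadd (D.simple i) with hn
  have e : n * xGL D hF.xadd (D.simple i) t = (n * xGL D hF.xadd (D.simple i) t * n) * n⁻¹ := by group
  rw [e, h1]
  group

include hw hd in
/-- an element of `V ∩ B n_p B` lies in `X_{-p}` -/
theorem mem_rootSubgroup_of_mem_doubleCoset (i : ℕ) (hi : i < D.rank) (v : GL D.Idx F)
    (hv : v ∈ D.negUnipotent F) (b b' : GL D.Idx F) (hb : b ∈ D.borelSubgroup F)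
    (hb' : b' ∈ D.borelSubgroup F) (e : v = b * nGL D hF.xadd (D.simple i) * b') :
    v ∈ D.rootSubgroup F (D.neg (D.simple i)) := by
  obtain ⟨u, hu, h, hh, rfl⟩ := (hF.mem_borel_iff b').1 hb'
  obtain ⟨u', hu', t, rfl⟩ := (hF.mem_posUnipotent_iff i hi u).1 hu
  set n := nGL D hF.xadd (D.simple i) with hn
  have hnN := nGL_mem_normalizer_posExcept hF i hi
  have h1 : n * u' * n⁻¹ ∈ D.borelSubgroup F :=
    posUnipotent_le_borel D (posExcept_le_posUnipotent hF i hi
      ((Subgroup.mem_normalizer_iff.1 hnN u').1 hu'))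
  set b₁ := b * (n * u' * n⁻¹) with hb₁
  have hb₁B : b₁ ∈ D.borelSubgroup F := mul_mem hb h1
  have e1 : v = b₁ * (n * xGL D hF.xadd (D.simple i) t) * h := by
    rw [e, hb₁]
    group
  by_cases ht : t = 0
  · exfalso
    rw [ht, xGL_zero, mul_one] at e1
    have hnh : n * h ∈ D.monomialSubgroup F :=
      mul_mem (hF.nGL_simple_mem_monomial i hi) (hF.diagonal_le_monomial hh)
    have e2 : n * h = b₁⁻¹ * v := by
      rw [e1]
      group
    have h2 := mem_diagonal_of_mem_monomial hF hw (n * h) hnh b₁⁻¹ v (inv_mem hb₁B) hv e2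
    have h3 : n ∈ D.diagonalSubgroup F := by
      have := mul_mem h2 (inv_mem hh)
      rwa [mul_inv_cancel_right] at this
    exact nGL_not_mem_borel hF i hi (diagonal_le_borel D h3)
  · rw [nGL_mul_xGL hF hd i hi t ht] at e1
    have hne : -t⁻¹ ≠ 0 := neg_ne_zero.2 (inv_ne_zero ht)
    have hH := hGLt_mem_diagonal D hF.xadd (D.simple i) (hF.simple_lt i hi) (-t⁻¹) hne
    obtain ⟨c, hc, hconj⟩ := hF.diagonal_conj_xGL h⁻¹ (inv_mem hh) (D.neg (D.simple i))
      (hF.neg_simple_lt i hi)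
    have h4 := hconj t⁻¹
    rw [inv_inv] at h4
    set b₂ := b₁ * xGL D hF.xadd (D.simple i) (-t⁻¹) * hGLt D hF.xadd (D.simple i) (-t⁻¹) * h with hb₂
    have hb₂B : b₂ ∈ D.borelSubgroup F :=
      mul_mem (mul_mem (mul_mem hb₁B (posUnipotent_le_borel D
        (xGL_mem_posUnipotent D hF.xadd _ (hF.simple_pos i hi) _))) (diagonal_le_borel D hH))
        (diagonal_le_borel D hh)
    have e3 : v = b₂ * xGL D hF.xadd (D.neg (D.simple i)) (c * t⁻¹) := by
      rw [← h4, e1, hb₂]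
      group
    have hnegroot : D.IsNegRoot (D.neg (D.simple i)) := hF.sign.neg_of_pos _ (hF.simple_pos i hi)
    have hy : xGL D hF.xadd (D.neg (D.simple i)) (c * t⁻¹) ∈ D.negUnipotent F :=
      Subgroup.subset_closure ⟨_, _, hnegroot, rfl⟩
    have h5 : b₂ ∈ D.borelSubgroup F ⊓ D.negUnipotent F := by
      refine Subgroup.mem_inf.2 ⟨hb₂B, ?_⟩
      have : b₂ = v * (xGL D hF.xadd (D.neg (D.simple i)) (c * t⁻¹))⁻¹ := by
        rw [e3]
        group
      rw [this]
      exact mul_mem hv (inv_mem hy)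
    rw [hF.borel_inf_negUnipotent, Subgroup.mem_bot] at h5
    rw [e3, h5, one_mul]
    exact (mem_rootSubgroup_iff D hF.xadd _ _).2 ⟨_, rfl⟩

include hw hd in
/-- `V ∩ P_i = X_{-p_i}` -/
theorem neg_inf_minParabolic (i : ℕ) (hi : i < D.rank) :
    D.negUnipotent F ⊓ hF.minParabolic i hi = D.rootSubgroup F (D.neg (D.simple i)) := by
  have hnegroot : D.IsNegRoot (D.neg (D.simple i)) := hF.sign.neg_of_pos _ (hF.simple_pos i hi)
  apply le_antisymm
  · rintro v ⟨hv, hvP⟩
    rcases hvP with hvB | hvD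
    · have : v ∈ D.borelSubgroup F ⊓ D.negUnipotent F := Subgroup.mem_inf.2 ⟨hvB, hv⟩
      rw [hF.borel_inf_negUnipotent, Subgroup.mem_bot] at this
      rw [this]
      exact one_mem _
    · obtain ⟨b, hb, b', hb', e⟩ := DoubleCoset.mem_doubleCoset.1 hvD
      exact mem_rootSubgroup_of_mem_doubleCoset hF hw hd i hi v hv b b' hb hb' e
  · intro y hy
    obtain ⟨t, rfl⟩ := (mem_rootSubgroup_iff D hF.xadd _ y).1 hy
    refine Subgroup.mem_inf.2 ⟨Subgroup.subset_closure ⟨_, _, hnegroot, rfl⟩, ?_⟩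
    by_cases ht : t = 0
    · rw [ht, xGL_zero]
      exact one_mem _
    · right
      have h1 := nGL_mul_xGL hF hd i hi t⁻¹ (inv_ne_zero ht)
      rw [inv_inv] at h1
      have hH := hGLt_mem_diagonal D hF.xadd (D.simple i) (hF.simple_lt i hi) (-t)
        (neg_ne_zero.2 ht)
      refine DoubleCoset.mem_doubleCoset.2 ⟨(xGL D hF.xadd (D.simple i) (-t) *
        hGLt D hF.xadd (D.simple i) (-t))⁻¹, ?_, xGL D hF.xadd (D.simple i) t⁻¹, ?_, ?_⟩
      · exact inv_mem (mul_mem (posUnipotent_le_borel D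
          (xGL_mem_posUnipotent D hF.xadd _ (hF.simple_pos i hi) _)) (diagonal_le_borel D hH))
      · exact posUnipotent_le_borel D (xGL_mem_posUnipotent D hF.xadd _ (hF.simple_pos i hi) _)
      · rw [mul_assoc, h1]
        group

end MinPar

end Cfsg.Agent.Helper6.AutRoot
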