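import Mathlib
import Cfsg.Agent.Lib.Helper6.AutRoot
import Cfsg.Agent.Lib.Helper6.RootCent

/-!
For Steinberg's theorem on automorphisms: an automorphism fixing `U` and `V` permutes the root subgroups of the
fundamental roots and those of their negatives.
-/

set_option autoImplicit false
set_option linter.unusedSectionVars false
set_option linter.unusedVariables false

namespace Cfsg.Agent.Helper6.AutPerm

open Cfsg Cfsg.Lie Cfsg.Agent.Lead.Chev Cfsg.Agent.Helper6.SL2Hom Cfsg.Agent.Helper6.ChevL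
  Cfsg.Agent.Helper6.AutRoot Cfsg.Agent.Helper6.AutAbs

section General

variable {G : Type*} [Group G] (K : Subgroup G)

theorem subgroupOf_map_conj (A : Subgroup G) (g : G) (hg : g ∈ K) :
    (A.subgroupOf K).map (MulAut.conj (⟨g, hg⟩ : ↥K)).toMonoidHom =
      (A.map (MulAut.conj g).toMonoidHom).subgroupOf K := by
  ext x
  simp only [Subgroup.mem_map, Subgroup.mem_subgroupOf, MulEquiv.coe_toMonoidHom, MulAut.conj_apply]
  constructor
  · rintro ⟨y, hy, rfl⟩
    exact ⟨y, hy, rfl⟩
  · rintro ⟨y, hy, e⟩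
    have hyK : y ∈ K := by
      have : y = g⁻¹ * (x : G) * g := by rw [← e]; group
      rw [this]
      exact mul_mem (mul_mem (inv_mem hg) x.2) hg
    refine ⟨⟨y, hyK⟩, hy, ?_⟩
    apply Subtype.ext
    simpa using e

theorem subgroupOf_inf' (A B : Subgroup G) :
    A.subgroupOf K ⊓ B.subgroupOf K = (A ⊓ B).subgroupOf K := by
  ext x
  simp [Subgroup.mem_subgroupOf]

end General

variable {F : Type*} [Field F] {D : ChevalleyDatum} (hF : ChevFacts D F)
include hF

/-- the fundamental reflection as an element of the group -/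
def nG (i : ℕ) : ↥(D.group F) := ⟨nGL D hF.xadd (D.simple i), nGL_mem_group D hF.xadd _⟩

theorem nG_mem_S (i : ℕ) (hi : i < D.rank) : nG hF i ∈ hF.bnPair.S := ⟨i, hi, nGL_val D hF.xadd _⟩

theorem eq_nG_of_mem_S (s : ↥(D.group F)) (hs : s ∈ hF.bnPair.S) : ∃ j < D.rank, s = nG hF j := by
  obtain ⟨j, hj, e⟩ := hs
  refine ⟨j, hj, ?_⟩
  apply Subtype.ext
  apply Units.ext
  rw [e]
  exact (nGL_val D hF.xadd _).symm

/-- `B = N_G(U)` inside the group -/
theorem borel_subgroupOf_eq :
    (D.borelSubgroup F).subgroupOf (D.group F) =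
      Subgroup.normalizer ((D.posUnipotent F).subgroupOf (D.group F) : Set ↥(D.group F)) := by
  rw [← Subgroup.subgroupOf_normalizer_eq hF.posUnipotent_le_group, ← Cfsg.Agent.Helper6.AutBase.normalizer_posUnipotent hF,
    Subgroup.inf_subgroupOf_right]

theorem map_borel (θ : ↥(D.group F) ≃* ↥(D.group F))
    (hU : ((D.posUnipotent F).subgroupOf (D.group F)).map θ.toMonoidHom =
      (D.posUnipotent F).subgroupOf (D.group F)) :
    ((D.borelSubgroup F).subgroupOf (D.group F)).map θ.toMonoidHom =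
      (D.borelSubgroup F).subgroupOf (D.group F) := by
  rw [borel_subgroupOf_eq hF, Subgroup.map_equiv_normalizer_eq, hU]

/-- the minimal parabolic subgroup of the `(B, N)`-pair -/
theorem parabolic_singleton_eq (i : ℕ) (hi : i < D.rank) :
    hF.bnPair.parabolic {nG hF i} = (hF.minParabolic i hi).subgroupOf (D.group F) := by
  apply le_antisymm
  · unfold BNPair.parabolic
    apply sup_le
    · intro b hb
      exact Or.inl hb
    · rw [Subgroup.closure_le]
      rintro x rfl
      right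
      exact DoubleCoset.mem_doubleCoset.2 ⟨1, one_mem _, 1, one_mem _, by simp [nG]⟩
  · intro g hg
    rcases hg with hg | hg
    · exact Cfsg.Agent.Helper2.BN.B_le_parabolic hF.bnPair _ hg
    · obtain ⟨b, hb, b', hb', e⟩ := DoubleCoset.mem_doubleCoset.1 hg
      have e' : g = (⟨b, hF.borel_le_group hb⟩ : ↥(D.group F)) * nG hF i *
          ⟨b', hF.borel_le_group hb'⟩ := Subtype.ext e
      rw [e']
      refine mul_mem (mul_mem ?_ ?_) ?_
      · exact Cfsg.Agent.Helper2.BN.B_le_parabolic hF.bnPair _ hb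
      · exact gen_mem_parabolic hF.bnPair _ _ rfl
      · exact Cfsg.Agent.Helper2.BN.B_le_parabolic hF.bnPair _ hb'

variable {w : List ℕ} (hw : W0 D w) (hd : ∀ j < D.rank, D.cartan j (D.simple j) = 2)

include hw hd in
/-- an automorphism fixing `U` and `V` permutes the `X_{-p_i}` -/
theorem exists_neg_perm (θ : ↥(D.group F) ≃* ↥(D.group F))
    (hU : ((D.posUnipotent F).subgroupOf (D.group F)).map θ.toMonoidHom =
      (D.posUnipotent F).subgroupOf (D.group F))
    (hV : ((D.negUnipotent F).subgroupOf (D.group F)).map θ.toMonoidHom =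
      (D.negUnipotent F).subgroupOf (D.group F)) (i : ℕ) (hi : i < D.rank) :
    ∃ j < D.rank, ((D.rootSubgroup F (D.neg (D.simple i))).subgroupOf (D.group F)).map θ.toMonoidHom =
      (D.rootSubgroup F (D.neg (D.simple j))).subgroupOf (D.group F) := by
  have hB : hF.bnPair.B.map θ.toMonoidHom = hF.bnPair.B := map_borel hF θ hU
  obtain ⟨t, ht⟩ := exists_map_parabolic hF.bnPair θ hB ⟨nG hF i, nG_mem_S hF i hi⟩
  obtain ⟨j, hj, e⟩ := eq_nG_of_mem_S hF t t.2
  refine ⟨j, hj, ?_⟩
  rw [e] at ht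
  simp only at ht
  rw [parabolic_singleton_eq hF i hi, parabolic_singleton_eq hF j hj] at ht
  rw [← neg_inf_minParabolic hF hw hd i hi, ← neg_inf_minParabolic hF hw hd j hj,
    ← subgroupOf_inf', ← subgroupOf_inf', Subgroup.map_inf_eq _ _ _ θ.injective, hV, ht]

/-- conjugation of a root subgroup by `n_w` -/
theorem map_conj_rootSubgroup (v : List ℕ) (hv : ∀ i ∈ v, i < D.rank) (s : ℕ) (hs : s < D.nroots) :
    (D.rootSubgroup F s).map (MulAut.conj (nWordGL D hF.xadd v)).toMonoidHom =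
      D.rootSubgroup F (reflWord D v s) := by
  have hconj := nWordGL_conj D hF.xadd (etaOf D) hF.nsimple v hv s hs
  have hsq : ((signWord D (etaOf D) v s : ℤ) : F) * ((signWord D (etaOf D) v s : ℤ) : F) = 1 := by
    rcases signWord_sq D (etaOf D) v (fun j hj s => (hF.nsimple j (hv j hj)).sign s) s with h | h <;>
      rw [h] <;> simp
  ext x
  simp only [Subgroup.mem_map, MulEquiv.coe_toMonoidHom, MulAut.conj_apply]
  constructor
  · rintro ⟨y, hy, rfl⟩
    obtain ⟨t, rfl⟩ := (mem_rootSubgroup_iff D hF.xadd _ y).1 hy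
    rw [hconj]
    exact (mem_rootSubgroup_iff D hF.xadd _ _).2 ⟨_, rfl⟩
  · intro hx
    obtain ⟨t, rfl⟩ := (mem_rootSubgroup_iff D hF.xadd _ x).1 hx
    refine ⟨xGL D hF.xadd s (((signWord D (etaOf D) v s : ℤ) : F) * t),
      (mem_rootSubgroup_iff D hF.xadd _ _).2 ⟨_, rfl⟩, ?_⟩
    rw [hconj, ← mul_assoc, hsq, one_mul]

omit hF in
theorem map_symm_of_map {Γ : Type*} [Group Γ] (e : Γ ≃* Γ) (K K' : Subgroup Γ)
    (h : K.map e.toMonoidHom = K') : K'.map e.symm.toMonoidHom = K := by
  rw [← h, Subgroup.map_map]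
  ext x
  simp

include hw hd in
/-- an automorphism fixing `U` and `V` permutes the `X_{p_i}` -/
theorem exists_pos_perm (θ : ↥(D.group F) ≃* ↥(D.group F))
    (hU : ((D.posUnipotent F).subgroupOf (D.group F)).map θ.toMonoidHom =
      (D.posUnipotent F).subgroupOf (D.group F))
    (hV : ((D.negUnipotent F).subgroupOf (D.group F)).map θ.toMonoidHom =
      (D.negUnipotent F).subgroupOf (D.group F)) (k : ℕ) (hk : k < D.rank) :
    ∃ l < D.rank, ((D.rootSubgroup F (D.simple k)).subgroupOf (D.group F)).map θ.toMonoidHom =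
      (D.rootSubgroup F (D.simple l)).subgroupOf (D.group F) := by
  set n₀ : ↥(D.group F) := ⟨nWordGL D hF.xadd w, n0_mem_group hF hw⟩ with hn₀
  set c : ↥(D.group F) ≃* ↥(D.group F) := MulAut.conj n₀ with hc
  have hUc : ((D.posUnipotent F).subgroupOf (D.group F)).map c.toMonoidHom =
      (D.negUnipotent F).subgroupOf (D.group F) := by
    rw [hc, hn₀, subgroupOf_map_conj, n0_conj_pos hF hw]
  have hVc : ((D.negUnipotent F).subgroupOf (D.group F)).map c.toMonoidHom =
      (D.posUnipotent F).subgroupOf (D.group F) := by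
    rw [hc, hn₀, subgroupOf_map_conj, n0_conj_neg hF hw]
  have hUc' := map_symm_of_map c _ _ hVc
  have hVc' := map_symm_of_map c _ _ hUc
  set θ' : ↥(D.group F) ≃* ↥(D.group F) := c.trans (θ.trans c.symm) with hθ'
  have hmap : ∀ K : Subgroup ↥(D.group F), K.map θ'.toMonoidHom =
      ((K.map c.toMonoidHom).map θ.toMonoidHom).map c.symm.toMonoidHom := by
    intro K
    rw [Subgroup.map_map, Subgroup.map_map]
    rfl
  have hU' : ((D.posUnipotent F).subgroupOf (D.group F)).map θ'.toMonoidHom =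
      (D.posUnipotent F).subgroupOf (D.group F) := by
    rw [hmap, hUc, hV, hVc']
  have hV' : ((D.negUnipotent F).subgroupOf (D.group F)).map θ'.toMonoidHom =
      (D.negUnipotent F).subgroupOf (D.group F) := by
    rw [hmap, hVc, hU, hUc']
  obtain ⟨i, hi, hik⟩ := hw.surj k hk
  obtain ⟨j, hj, hij⟩ := exists_neg_perm hF hw hd θ' hU' hV' i hi
  obtain ⟨l, hl, hjl⟩ := hw.simple j hj
  refine ⟨l, hl, ?_⟩
  have hXi : ((D.rootSubgroup F (D.neg (D.simple i))).subgroupOf (D.group F)).map c.toMonoidHom =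
      (D.rootSubgroup F (D.simple k)).subgroupOf (D.group F) := by
    rw [hc, hn₀, subgroupOf_map_conj, map_conj_rootSubgroup hF w hw.lt _ (hF.neg_simple_lt i hi), hik]
  have hXj : ((D.rootSubgroup F (D.neg (D.simple j))).subgroupOf (D.group F)).map c.toMonoidHom =
      (D.rootSubgroup F (D.simple l)).subgroupOf (D.group F) := by
    rw [hc, hn₀, subgroupOf_map_conj, map_conj_rootSubgroup hF w hw.lt _ (hF.neg_simple_lt j hj), hjl]
  rw [hmap, hXi] at hij
  have h1 := map_symm_of_map c.symm _ _ hij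
  rw [MulEquiv.symm_symm, hXj] at h1
  exact h1.symm

/-! ### commuting root subgroups -/

omit hF in
/-- elementwise commuting subgroups -/
def Comm2 {Γ : Type*} [Group Γ] (A B : Subgroup Γ) : Prop := ∀ a ∈ A, ∀ b ∈ B, a * b = b * a

omit hF in
theorem comm2_map_iff {Γ : Type*} [Group Γ] (θ : Γ ≃* Γ) (A B : Subgroup Γ) :
    Comm2 (A.map θ.toMonoidHom) (B.map θ.toMonoidHom) ↔ Comm2 A B := by
  constructor
  · intro h a ha b hb
    have := h (θ a) ⟨a, ha, rfl⟩ (θ b) ⟨b, hb, rfl⟩
    apply θ.injective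
    rw [map_mul, map_mul]
    exact this
  · rintro h _ ⟨a, ha, rfl⟩ _ ⟨b, hb, rfl⟩
    show θ a * θ b = θ b * θ a
    rw [← map_mul, ← map_mul, h a ha b hb]

/-- root elements inside the group -/
def xG (r : ℕ) (t : F) : ↥(D.group F) := ⟨xGL D hF.xadd r t, xGL_mem_group D hF.xadd r t⟩

theorem mem_rootSubgroupOf_iff (r : ℕ) (g : ↥(D.group F)) :
    g ∈ (D.rootSubgroup F r).subgroupOf (D.group F) ↔ ∃ t : F, g = xG hF r t := by
  rw [Subgroup.mem_subgroupOf, mem_rootSubgroup_iff D hF.xadd]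
  constructor
  · rintro ⟨t, e⟩
    exact ⟨t, Subtype.ext e⟩
  · rintro ⟨t, rfl⟩
    exact ⟨t, rfl⟩

theorem comm2_iff (r s : ℕ) :
    Comm2 ((D.rootSubgroup F r).subgroupOf (D.group F)) ((D.rootSubgroup F s).subgroupOf (D.group F)) ↔
      ∀ t u : F, xGL D hF.xadd r t * xGL D hF.xadd s u = xGL D hF.xadd s u * xGL D hF.xadd r t := by
  constructor
  · intro h t u
    have := h (xG hF r t) ((mem_rootSubgroupOf_iff hF r _).2 ⟨t, rfl⟩) (xG hF s u)
      ((mem_rootSubgroupOf_iff hF s _).2 ⟨u, rfl⟩)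
    exact congrArg Subtype.val this
  · intro h a ha b hb
    obtain ⟨t, rfl⟩ := (mem_rootSubgroupOf_iff hF r a).1 ha
    obtain ⟨u, rfl⟩ := (mem_rootSubgroupOf_iff hF s b).1 hb
    exact Subtype.ext (h t u)

theorem comm_of_commTerms_nil (r s : ℕ) (hr : r < D.nroots) (hs : s < D.nroots) (hsr : s ≠ r)
    (hsn : s ≠ D.neg r) (h : D.commTerms r s = []) (t u : F) :
    xGL D hF.xadd r t * xGL D hF.xadd s u = xGL D hF.xadd s u * xGL D hF.xadd r t := by
  have h1 := hF.comm r hr s hs hsr hsn t u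
  have h2 : D.commWord F r s t u = [] := by
    unfold ChevalleyDatum.commWord
    rw [h, List.map_nil]
  rw [h2, wordMat_nil, mul_one] at h1
  apply Units.ext
  rw [Units.val_mul, Units.val_mul, xGL_val, xGL_val]
  exact h1.symm

include hd in
/-- `x_p(1)` and `x_{-p}(1)` do not commute -/
theorem not_comm_simple_neg (i : ℕ) (hi : i < D.rank) :
    ¬ (xGL D hF.xadd (D.simple i) 1 * xGL D hF.xadd (D.neg (D.simple i)) 1 =
      xGL D hF.xadd (D.neg (D.simple i)) 1 * xGL D hF.xadd (D.simple i) 1) := by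
  intro hcomm
  have hR := rankOne_simple hF hd i hi
  set X := xGL D hF.xadd (D.simple i) with hX
  set Y := xGL D hF.xadd (D.neg (D.simple i)) with hY
  have h1 : Commute (X 1) (Y 1) := hcomm
  have h2 : Commute (X 1) (Y (-1)) := by
    rw [← hR.y_inv]
    exact h1.inv_right
  have h3 : Commute (X 1) (nn X Y) := by
    unfold nn
    exact ((Commute.refl (X 1)).mul_right h2).mul_right (Commute.refl (X 1))
  have h4 := hR.nconj 1
  have h5 : nn X Y * X 1 * (nn X Y)⁻¹ = X 1 := by
    rw [← h3.eq, mul_inv_cancel_right]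
  rw [h5] at h4
  -- `x_p(1) ∈ U ∩ V`
  have hU : X 1 ∈ D.borelSubgroup F :=
    posUnipotent_le_borel D (xGL_mem_posUnipotent D hF.xadd _ (hF.simple_pos i hi) _)
  have hV : X 1 ∈ D.negUnipotent F := by
    rw [h4]
    exact Subgroup.subset_closure ⟨_, _, hF.sign.neg_of_pos _ (hF.simple_pos i hi), rfl⟩
  have h6 : X 1 ∈ D.borelSubgroup F ⊓ D.negUnipotent F := Subgroup.mem_inf.2 ⟨hU, hV⟩
  rw [hF.borel_inf_negUnipotent, Subgroup.mem_bot] at h6
  have h7 : X 1 = X 0 := by rw [h6, hX, xGL_zero]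
  have := Cfsg.Agent.Helper6.RootCent.xGL_pos_inj hF _ (hF.simple_pos i hi) _ _ h7
  exact one_ne_zero this

/-- commuting fundamental root subgroups are not joined in the diagram -/
theorem bonds_eq_zero_of_comm (AF : AutFacts D) (k l : ℕ) (hk : k < D.rank) (hl : l < D.rank)
    (hkl : k ≠ l)
    (h : ∀ t u : F, xGL D hF.xadd (D.simple k) t * xGL D hF.xadd (D.simple l) u =
      xGL D hF.xadd (D.simple l) u * xGL D hF.xadd (D.simple k) t) : D.bonds k l = 0 := by
  by_contra hb
  have hne := AF.refl_ne k hk l hl hkl hb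
  obtain ⟨hct, h1, h2⟩ := AF.comm_pn l hl k hk (Ne.symm hkl)
  have hc2 := comm_of_commTerms_nil hF (D.simple l) (D.neg (D.simple k)) (hF.simple_lt l hl)
    (hF.neg_simple_lt k hk) h1 h2 hct
  set n := nGL D hF.xadd (D.simple k) with hn
  set y := xGL D hF.xadd (D.simple l) 1 with hy
  have hcn : Commute n y := by
    rw [hn, nGL_eq_nGLt, nGLt_eq]
    have c1 : ∀ t, Commute (xGL D hF.xadd (D.simple k) t) y := fun t => h t 1
    have c2 : ∀ t, Commute (xGL D hF.xadd (D.neg (D.simple k)) t) y := fun t => (hc2 1 t).symm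
    exact ((c1 _).mul_left (c2 _)).mul_left (c1 _)
  have h3 := nGL_conj D hF.xadd k _ (hF.nsimple k hk) (D.simple l) (hF.simple_lt l hl) (1 : F)
  rw [← hn, ← hy, hcn.eq, mul_inv_cancel_right] at h3
  have hη : ((etaOf D k (D.simple l) : ℤ) : F) * 1 ≠ 0 := by
    rcases (hF.nsimple k hk).sign (D.simple l) with h4 | h4 <;> rw [h4] <;> simp
  have := Cfsg.Agent.Helper6.RootCent.root_eq_of_xGL_eq hF (D.reflectRoot k (D.simple l)) (D.simple l)
    ((hF.facts k hk).wlt _ (hF.simple_lt l hl)) (hF.simple_pos l hl) _ 1 hη h3.symm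
  exact hne this

include hw hd in
/-- an automorphism fixing `U` and `V` permutes the fundamental root subgroups and their opposites, through a
symmetry of the diagram -/
theorem exists_perm (AF : AutFacts D) (θ : ↥(D.group F) ≃* ↥(D.group F))
    (hU : ((D.posUnipotent F).subgroupOf (D.group F)).map θ.toMonoidHom =
      (D.posUnipotent F).subgroupOf (D.group F))
    (hV : ((D.negUnipotent F).subgroupOf (D.group F)).map θ.toMonoidHom =
      (D.negUnipotent F).subgroupOf (D.group F)) :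
    ∃ ρ : Equiv.Perm (Fin D.rank), D.IsDiagramSymmetry ρ ∧ ∀ i : Fin D.rank,
      ((D.rootSubgroup F (D.simple i)).subgroupOf (D.group F)).map θ.toMonoidHom =
        (D.rootSubgroup F (D.simple (ρ i))).subgroupOf (D.group F) ∧
      ((D.rootSubgroup F (D.neg (D.simple i))).subgroupOf (D.group F)).map θ.toMonoidHom =
        (D.rootSubgroup F (D.neg (D.simple (ρ i)))).subgroupOf (D.group F) := by
  have hp : ∀ i : Fin D.rank, ∃ l : Fin D.rank,
      ((D.rootSubgroup F (D.simple i)).subgroupOf (D.group F)).map θ.toMonoidHom =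
        (D.rootSubgroup F (D.simple l)).subgroupOf (D.group F) := by
    intro i
    obtain ⟨l, hl, h⟩ := exists_pos_perm hF hw hd θ hU hV i.val i.2
    exact ⟨⟨l, hl⟩, h⟩
  have hn : ∀ i : Fin D.rank, ∃ l : Fin D.rank,
      ((D.rootSubgroup F (D.neg (D.simple i))).subgroupOf (D.group F)).map θ.toMonoidHom =
        (D.rootSubgroup F (D.neg (D.simple l))).subgroupOf (D.group F) := by
    intro i
    obtain ⟨l, hl, h⟩ := exists_neg_perm hF hw hd θ hU hV i.val i.2
    exact ⟨⟨l, hl⟩, h⟩
  choose jp hjp using hp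
  choose jn hjn using hn
  have hpn : ∀ i, jn i = jp i := by
    intro i
    by_contra hne
    have hne' : (jp i).val ≠ (jn i).val := fun h => hne (Fin.ext h.symm)
    obtain ⟨hct, h1, h2⟩ := AF.comm_pn (jp i).val (jp i).2 (jn i).val (jn i).2 hne'
    have hc := comm_of_commTerms_nil hF (D.simple (jp i)) (D.neg (D.simple (jn i)))
      (hF.simple_lt _ (jp i).2) (hF.neg_simple_lt _ (jn i).2) h1 h2 hct
    have hc2 := (comm2_iff hF _ _).2 hc
    rw [← hjp i, ← hjn i, comm2_map_iff] at hc2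
    exact not_comm_simple_neg hF hd i.val i.2 ((comm2_iff hF _ _).1 hc2 1 1)
  have hinj : Function.Injective jp := by
    intro i i' hii
    have h1 := hjp i
    rw [hii, ← hjp i'] at h1
    have h2 := Subgroup.map_injective (f := θ.toMonoidHom) θ.injective h1
    have h3 : xG hF (D.simple i) 1 ∈ (D.rootSubgroup F (D.simple i')).subgroupOf (D.group F) := by
      rw [← h2]
      exact (mem_rootSubgroupOf_iff hF _ _).2 ⟨1, rfl⟩
    obtain ⟨c, hc⟩ := (mem_rootSubgroupOf_iff hF _ _).1 h3
    have h4 : xGL D hF.xadd (D.simple i) 1 = xGL D hF.xadd (D.simple i') c := congrArg Subtype.val hc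
    have h5 := Cfsg.Agent.Helper6.RootCent.root_eq_of_xGL_eq hF _ _ (hF.simple_lt _ i.2)
      (hF.simple_pos _ i'.2) 1 c one_ne_zero h4
    exact Fin.ext (AF.simple_inj _ i.2 _ i'.2 h5)
  refine ⟨Equiv.ofBijective jp (Finite.injective_iff_bijective.1 hinj), ?_, ?_⟩
  · apply AF.diagram
    intro i j hij
    simp only [Equiv.ofBijective_apply]
    have hij' : i.val ≠ j.val := fun h => hij (Fin.ext h)
    have hjij : (jp i).val ≠ (jp j).val := fun h => hij (hinj (Fin.ext h))
    constructor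
    · intro hb
      obtain ⟨hct, h1, h2⟩ := AF.comm_pp _ (jp i).2 _ (jp j).2 hjij hb
      have hc := comm_of_commTerms_nil hF (D.simple (jp i)) (D.simple (jp j))
        (hF.simple_lt _ (jp i).2) (hF.simple_lt _ (jp j).2) h1 h2 hct
      have hc2 := (comm2_iff hF _ _).2 hc
      rw [← hjp i, ← hjp j, comm2_map_iff] at hc2
      exact bonds_eq_zero_of_comm hF AF _ _ i.2 j.2 hij' ((comm2_iff hF _ _).1 hc2)
    · intro hb
      obtain ⟨hct, h1, h2⟩ := AF.comm_pp _ i.2 _ j.2 hij' hb
      have hc := comm_of_commTerms_nil hF (D.simple i) (D.simple j)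
        (hF.simple_lt _ i.2) (hF.simple_lt _ j.2) h1 h2 hct
      have hc2 := (comm2_iff hF _ _).2 hc
      rw [← comm2_map_iff θ, hjp i, hjp j] at hc2
      exact bonds_eq_zero_of_comm hF AF _ _ (jp i).2 (jp j).2 hjij ((comm2_iff hF _ _).1 hc2)
  · intro i
    simp only [Equiv.ofBijective_apply]
    refine ⟨hjp i, ?_⟩
    rw [← hpn i]
    exact hjn i

end Cfsg.Agent.Helper6.AutPerm


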