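import Mathlib
import Cfsg.Agent.Lib.Lead.ChevCharDiag
import Cfsg.Agent.Lib.Helper6.AutPerm

/-!
For Steinberg's theorem on automorphisms: characters of the root lattice with given values on the fundamental roots,
and the diagonal automorphisms they define.
-/

set_option autoImplicit false
set_option linter.unusedSectionVars false
set_option linter.unusedVariables false

namespace Cfsg.Agent.Helper6.AutDiag

open Cfsg Cfsg.Lie Cfsg.Agent.Lead.Chev Cfsg.Agent.Helper6.AutPerm

/-- facts on a table of coefficients of the roots on the fundamental roots -/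
structure CoefFacts (D : ChevalleyDatum) (m : ℕ → Fin D.rank → ℤ) : Prop where
  neg : ∀ r < D.nroots, ∀ j, m (D.neg r) j = - m r j
  add : ∀ r < D.nroots, ∀ s < D.nroots, ∀ k, D.chainRoot r s 1 = some k → ∀ j, m k j = m r j + m s j
  simple : ∀ i j : Fin D.rank, m (D.simple i) j = if i = j then 1 else 0

variable {F : Type*} [Field F] {D : ChevalleyDatum}

/-- the character with given values on the fundamental roots -/
def chiOf (m : ℕ → Fin D.rank → ℤ) (c : Fin D.rank → Fˣ) (r : ℕ) : Fˣ := ∏ j, c j ^ m r j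

theorem isRootCharacter_chiOf (m : ℕ → Fin D.rank → ℤ) (hm : CoefFacts D m) (c : Fin D.rank → Fˣ) :
    D.IsRootCharacter (chiOf m c) := by
  refine ⟨fun r hr => ?_, fun r s k hr hs hk => ?_⟩
  · unfold chiOf
    rw [← Finset.prod_inv_distrib]
    apply Finset.prod_congr rfl
    intro j _
    rw [hm.neg r hr j, zpow_neg]
  · unfold chiOf
    rw [← Finset.prod_mul_distrib]
    apply Finset.prod_congr rfl
    intro j _
    rw [hm.add r hr s hs k hk j, zpow_add]

theorem chiOf_simple (m : ℕ → Fin D.rank → ℤ) (hm : CoefFacts D m) (c : Fin D.rank → Fˣ)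
    (i : Fin D.rank) : chiOf m c (D.simple i) = c i := by
  unfold chiOf
  rw [Finset.prod_eq_single i]
  · rw [hm.simple i i, if_pos rfl, zpow_one]
  · intro j _ hj
    rw [hm.simple i j, if_neg (Ne.symm hj), zpow_zero]
  · intro h
    exact absurd (Finset.mem_univ i) h

/-- the matrix `ĥ(χ)` as an element of the general linear group -/
def dGL (D : ChevalleyDatum) (χ : ℕ → Fˣ) : GL D.Idx F :=
  ⟨D.charDiag F χ, D.charDiag F (fun s => (χ s)⁻¹), charDiag_mul_inv D χ, by
    have := charDiag_mul_inv D (fun s => (χ s)⁻¹)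
    simp only [inv_inv] at this
    exact this⟩

theorem dGL_val (χ : ℕ → Fˣ) : ((dGL D χ : GL D.Idx F) : Matrix D.Idx D.Idx F) = D.charDiag F χ := rfl

theorem dGL_inv_val (χ : ℕ → Fˣ) :
    (((dGL D χ)⁻¹ : GL D.Idx F) : Matrix D.Idx D.Idx F) = D.charDiag F (fun s => (χ s)⁻¹) := rfl

variable (hD : D ∈ [chevG2, chevB2, chevD4, chevF4, chevE6, chevE7, chevE8]) (hF : ChevFacts D F)
include hD hF

theorem dGL_conj_xGL (χ : ℕ → Fˣ) (hχ : D.IsRootCharacter χ) (r : ℕ) (hr : r < D.nroots) (t : F) :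
    dGL D χ * xGL D hF.xadd r t * (dGL D χ)⁻¹ = xGL D hF.xadd r ((χ r : F) * t) := by
  apply Units.ext
  rw [Units.val_mul, Units.val_mul, dGL_val, dGL_inv_val, xGL_val, xGL_val]
  exact Cfsg.Agent.S2157.result D hD χ hχ r hr t

theorem conj_mem_group (χ : ℕ → Fˣ) (hχ : D.IsRootCharacter χ) (g : GL D.Idx F) (hg : g ∈ D.group F) :
    dGL D χ * g * (dGL D χ)⁻¹ ∈ D.group F := by
  have hle : D.group F ≤ (D.group F).comap (MulAut.conj (dGL D χ)).toMonoidHom := by
    apply group_le_of D hF.xadd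
    intro r hr t
    rw [Subgroup.mem_comap]
    show dGL D χ * xGL D hF.xadd r t * (dGL D χ)⁻¹ ∈ D.group F
    rw [dGL_conj_xGL hD hF χ hχ r hr t]
    exact xGL_mem_group D hF.xadd r _
  exact hle hg

omit hD hF in
theorem dGL_inv (χ : ℕ → Fˣ) : (dGL D χ)⁻¹ = dGL D (F := F) (fun s => (χ s)⁻¹) := by
  apply Units.ext
  rfl

theorem map_conj_group (χ : ℕ → Fˣ) (hχ : D.IsRootCharacter χ) :
    (D.group F).map (MulAut.conj (dGL D χ)).toMonoidHom = D.group F := by
  apply le_antisymm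
  · rintro x ⟨g, hg, rfl⟩
    exact conj_mem_group hD hF χ hχ g hg
  · intro g hg
    refine ⟨(dGL D χ)⁻¹ * g * dGL D χ, ?_, ?_⟩
    · have := conj_mem_group hD hF (fun s => (χ s)⁻¹) (isRootCharacter_inv D χ hχ) g hg
      rwa [← dGL_inv, inv_inv] at this
    · show dGL D χ * ((dGL D χ)⁻¹ * g * dGL D χ) * (dGL D χ)⁻¹ = g
      group

/-- the diagonal automorphism of a character -/
noncomputable def diagAut (χ : ℕ → Fˣ) (hχ : D.IsRootCharacter χ) : ↥(D.group F) ≃* ↥(D.group F) :=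
  ((MulAut.conj (dGL D χ)).subgroupMap (D.group F)).trans
    (MulEquiv.subgroupCongr (map_conj_group hD hF χ hχ))

theorem diagAut_coe (χ : ℕ → Fˣ) (hχ : D.IsRootCharacter χ) (g : ↥(D.group F)) :
    ((diagAut hD hF χ hχ g : ↥(D.group F)) : GL D.Idx F) = dGL D χ * g * (dGL D χ)⁻¹ := rfl

theorem isDiagonalAut_diagAut (χ : ℕ → Fˣ) (hχ : D.IsRootCharacter χ) :
    D.IsDiagonalAut (diagAut hD hF χ hχ) := by
  refine ⟨χ, hχ, fun g => ?_⟩
  rw [diagAut_coe, Units.val_mul, Units.val_mul, dGL_val, dGL_inv_val]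

theorem diagAut_xG (χ : ℕ → Fˣ) (hχ : D.IsRootCharacter χ) (r : ℕ) (hr : r < D.nroots) (t : F) :
    diagAut hD hF χ hχ (xG hF r t) = xG hF r ((χ r : F) * t) := by
  apply Subtype.ext
  rw [diagAut_coe]
  exact dGL_conj_xGL hD hF χ hχ r hr t

end Cfsg.Agent.Helper6.AutDiag
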