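import Mathlib

/-!
For Steinberg's theorem on automorphisms: the field automorphisms attached to the nodes of the diagram are the powers
`σ^{e_i}` of a single one, `e_i` being `1` or the characteristic.
-/

set_option autoImplicit false
set_option linter.unusedSectionVars false
set_option linter.unusedVariables false

namespace Cfsg.Agent.Helper6.AutSigma

variable {F : Type*} [Field F]

/-- if `x ↦ x ^ m` is additive, `m = 2` or `3`, then it is the Frobenius map -/
theorem pow_eq_pow_ringChar [Finite F] (m : ℕ) (hm : m = 2 ∨ m = 3)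
    (hadd : ∀ x y : F, (x + y) ^ m = x ^ m + y ^ m) (x : F) : x ^ m = x ^ ringChar F := by
  have := ringChar.charP F
  have hp : (ringChar F).Prime := CharP.char_is_prime F _
  rcases hm with rfl | rfl
  · -- `2 = 0`
    have h1 := hadd 1 1
    have h2 : (2 : F) = 0 := by
      have : ((1 : F) + 1) ^ 2 = (1 + 1) + ((1 : F) + 1) := by ring
      rw [this] at h1
      simp only [one_pow] at h1
      have h3 : ((1 : F) + 1) = 0 := by linear_combination h1
      rw [← h3]
      norm_num
    have h3 : ringChar F ∣ 2 := by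
      have : ((2 : ℕ) : F) = 0 := by exact_mod_cast h2
      exact (ringChar.spec F 2).1 this
    have h4 : ringChar F = 2 := (Nat.prime_dvd_prime_iff_eq hp Nat.prime_two).1 h3
    rw [h4]
  · by_cases h3 : ringChar F = 3
    · rw [h3]
    · have h3' : (3 : F) ≠ 0 := by
        intro h0
        have : ((3 : ℕ) : F) = 0 := by exact_mod_cast h0
        have hd := (ringChar.spec F 3).1 this
        exact h3 ((Nat.prime_dvd_prime_iff_eq hp Nat.prime_three).1 hd)
      have hall : ∀ s : F, s * (s + 1) = 0 := by
        intro s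
        have h1 := hadd s 1
        have : (3 : F) * (s * (s + 1)) = 0 := by
          have e : (s + 1) ^ 3 = s ^ 3 + 1 ^ 3 + 3 * (s * (s + 1)) := by ring
          rw [e] at h1
          linear_combination h1
        exact (mul_eq_zero.1 this).resolve_left h3'
      have h2 : (2 : F) = 0 := by
        have := hall 1
        rw [one_mul] at this
        rw [← this]
        norm_num
      have h4 : ringChar F = 2 := by
        have : ((2 : ℕ) : F) = 0 := by exact_mod_cast h2
        exact (Nat.prime_dvd_prime_iff_eq hp Nat.prime_two).1 ((ringChar.spec F 2).1 this)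
      rw [h4]
      rcases mul_eq_zero.1 (hall x) with h | h
      · rw [h]
        norm_num
      · have : x = 1 := by linear_combination h - h2
        rw [this]
        norm_num

theorem pow_ringChar_injective [Finite F] (x y : F) (h : x ^ ringChar F = y ^ ringChar F) : x = y := by
  haveI := ringChar.charP F
  haveI : Fact (ringChar F).Prime := ⟨CharP.char_is_prime F _⟩
  exact frobenius_inj F (ringChar F) h

variable {n : ℕ} (A : Fin n → Fin n → ℤ) (L : Fin n → Bool) (π : Equiv.Perm (Fin n))

/-- the exponent of the node `i` -/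
def ex (p : ℕ) (L : Fin n → Bool) (π : Equiv.Perm (Fin n)) (i : Fin n) : ℕ :=
  if L (π i) && !L i then p else 1

/-- the table facts on the Cartan integers and the lengths of the fundamental roots -/
def CartanOK (A : Fin n → Fin n → ℤ) (L : Fin n → Bool) : Prop :=
  ∀ i j, i ≠ j → A i j * A j i ≠ 0 →
    (A i j = -1 ∧ A j i = -1 ∧ L i = L j) ∨
    (A i j = -1 ∧ (A j i = -2 ∨ A j i = -3) ∧ L i = true ∧ L j = false) ∨
    ((A i j = -2 ∨ A i j = -3) ∧ A j i = -1 ∧ L i = false ∧ L j = true)

variable [Finite F] (σ : Fin n → F ≃+* F)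

/-- the relation between the automorphisms of two joined nodes, when `A i j = -1` -/
theorem edge_aux (hA : CartanOK A L)
    (hrel : ∀ i j t, t ≠ 0 → (σ i t) ^ (A (π i) (π j)) = (σ j t) ^ (A i j))
    (hbond : ∀ i j, i ≠ j → A (π i) (π j) * A (π j) (π i) = A i j * A j i)
    (i j : Fin n) (hij : i ≠ j) (hne : A i j * A j i ≠ 0) (h1 : A i j = -1) (t : F) :
    (σ j t) ^ (ex (ringChar F) L π i) = (σ i t) ^ (ex (ringChar F) L π j) := by
  have hπij : π i ≠ π j := fun h => hij (π.injective h)
  have hne' : A (π i) (π j) * A (π j) (π i) ≠ 0 := by rw [hbond i j hij]; exact hne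
  have hprod := hbond i j hij
  have hrel1 := hrel i j
  rw [h1] at hrel1
  have inv_eq : ∀ x y : F, x ^ (-1 : ℤ) = y ^ (-1 : ℤ) → x = y := by
    intro x y h
    rw [zpow_neg_one, zpow_neg_one] at h
    exact inv_injective h
  unfold ex
  rcases hA i j hij hne with ⟨a1, a2, a3⟩ | ⟨a1, a2, a3, a4⟩ | ⟨a1, a2, a3, a4⟩
  · -- single bond
    rw [a1, a2] at hprod
    rcases hA (π i) (π j) hπij hne' with ⟨b1, b2, b3⟩ | ⟨b1, b2, b3, b4⟩ | ⟨b1, b2, b3, b4⟩
    · rw [a3, b3]
      by_cases ht : t = 0
      · rw [ht, map_zero, map_zero]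
      · have := hrel1 t ht
        rw [b1] at this
        rw [inv_eq _ _ this]
    · exfalso
      rw [b1] at hprod
      rcases b2 with b2 | b2 <;> rw [b2] at hprod <;> norm_num at hprod
    · exfalso
      rw [b2] at hprod
      rcases b1 with b1 | b1 <;> rw [b1] at hprod <;> norm_num at hprod
  · -- `p_i` long, `p_j` short
    rw [a1] at hprod
    rcases hA (π i) (π j) hπij hne' with ⟨b1, b2, b3⟩ | ⟨b1, b2, b3, b4⟩ | ⟨b1, b2, b3, b4⟩
    · exfalso
      rw [b1, b2] at hprod
      rcases a2 with a2 | a2 <;> rw [a2] at hprod <;> norm_num at hprod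
    · rw [a3, a4, b3, b4]
      simp only [Bool.not_true, Bool.and_false, Bool.false_and, Bool.false_eq_true, if_false, pow_one]
      by_cases ht : t = 0
      · rw [ht, map_zero, map_zero]
      · have := hrel1 t ht
        rw [b1] at this
        rw [inv_eq _ _ this]
    · rw [a3, a4, b3, b4]
      simp only [Bool.not_true, Bool.and_false, Bool.false_and, Bool.false_eq_true, if_false, pow_one,
        Bool.not_false, Bool.and_true, if_true]
      -- `σ_j t = (σ_i t) ^ m`
      obtain ⟨m, hm, hAm⟩ : ∃ m : ℕ, (m = 2 ∨ m = 3) ∧ A (π i) (π j) = -(m : ℤ) := by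
        rcases b1 with b1 | b1
        · exact ⟨2, Or.inl rfl, by rw [b1]; rfl⟩
        · exact ⟨3, Or.inr rfl, by rw [b1]; rfl⟩
      have hm0 : m ≠ 0 := by rcases hm with rfl | rfl <;> norm_num
      have hpow : ∀ s : F, σ j s = (σ i s) ^ m := by
        intro s
        by_cases hs : s = 0
        · rw [hs, map_zero, map_zero, zero_pow hm0]
        · have := hrel1 s hs
          rw [hAm, zpow_neg, zpow_neg_one, zpow_natCast] at this
          exact (inv_injective this).symm
      have hadd : ∀ x y : F, (x + y) ^ m = x ^ m + y ^ m := by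
        intro x y
        obtain ⟨s, rfl⟩ := (σ i).surjective x
        obtain ⟨s', rfl⟩ := (σ i).surjective y
        rw [← map_add, ← hpow, ← hpow, ← hpow, map_add]
      rw [hpow t, pow_eq_pow_ringChar m hm hadd]
  · exfalso
    rcases a1 with a1 | a1 <;> rw [h1] at a1 <;> norm_num at a1

/-- the relation between the automorphisms of two joined nodes -/
theorem edge (hA : CartanOK A L)
    (hrel : ∀ i j t, t ≠ 0 → (σ i t) ^ (A (π i) (π j)) = (σ j t) ^ (A i j))
    (hbond : ∀ i j, i ≠ j → A (π i) (π j) * A (π j) (π i) = A i j * A j i)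
    (i j : Fin n) (hij : i ≠ j) (hne : A i j * A j i ≠ 0) (t : F) :
    (σ j t) ^ (ex (ringChar F) L π i) = (σ i t) ^ (ex (ringChar F) L π j) := by
  rcases hA i j hij hne with ⟨a1, a2, a3⟩ | ⟨a1, a2, a3, a4⟩ | ⟨a1, a2, a3, a4⟩
  · exact edge_aux A L π σ hA hrel hbond i j hij hne a1 t
  · exact edge_aux A L π σ hA hrel hbond i j hij hne a1 t
  · have hne' : A j i * A i j ≠ 0 := by rwa [mul_comm]
    exact (edge_aux A L π σ hA hrel hbond j i (Ne.symm hij) hne' a2 t).symm

/-- all the automorphisms are powers of one of them -/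
theorem exists_sigma (hA : CartanOK A L)
    (hrel : ∀ i j t, t ≠ 0 → (σ i t) ^ (A (π i) (π j)) = (σ j t) ^ (A i j))
    (hbond : ∀ i j, i ≠ j → A (π i) (π j) * A (π j) (π i) = A i j * A j i)
    (i₀ : Fin n) (hi₀ : (∀ i, L i = false) ∨ L i₀ = true)
    (par : Fin n → Fin n) (dep : Fin n → ℕ)
    (htree : ∀ i, i ≠ i₀ → par i ≠ i ∧ A (par i) i * A i (par i) ≠ 0 ∧ dep (par i) < dep i) :
    ∃ σ₀ : F ≃+* F, ∀ i t, σ i t = (σ₀ t) ^ (ex (ringChar F) L π i) := by
  refine ⟨σ i₀, ?_⟩
  have hex : ∀ i, ex (ringChar F) L π i = 1 ∨ ex (ringChar F) L π i = ringChar F := by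
    intro i
    unfold ex
    split_ifs
    · exact Or.inr rfl
    · exact Or.inl rfl
  have hinj : ∀ i (x y : F), x ^ (ex (ringChar F) L π i) = y ^ (ex (ringChar F) L π i) → x = y := by
    intro i x y h
    rcases hex i with h1 | h1
    · rw [h1, pow_one, pow_one] at h
      exact h
    · rw [h1] at h
      exact pow_ringChar_injective x y h
  have h0 : ex (ringChar F) L π i₀ = 1 := by
    unfold ex
    rcases hi₀ with h | h
    · rw [h (π i₀)]
      simp
    · rw [h]
      simp
  intro i
  induction hd : dep i using Nat.strong_induction_on generalizing i with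
  | _ d ih =>
    intro t
    by_cases hi : i = i₀
    · rw [hi, h0, pow_one]
    · obtain ⟨hp1, hp2, hp3⟩ := htree i hi
      have ihp := ih (dep (par i)) (by rw [← hd]; exact hp3) (par i) rfl t
      have he := edge A L π σ hA hrel hbond (par i) i hp1 hp2 t
      rw [ihp, ← pow_mul, mul_comm, pow_mul] at he
      exact hinj (par i) _ _ he

end Cfsg.Agent.Helper6.AutSigma
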