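import Mathlib
import Cfsg.Agent.Lib.Helper6.AutDefs
import Cfsg.Agent.Lib.Helper6.AutDiag
import Cfsg.Agent.Lib.Helper6.AutSigma
import Cfsg.Agent.Lib.Lead.ChevHCardData
import Cfsg.Agent.S1053

/-!
The table facts for Steinberg's theorem on automorphisms, for the seven data.
-/

set_option autoImplicit false
set_option synthInstance.maxSize 4000
set_option linter.unusedSectionVars false
set_option linter.unusedVariables false

namespace Cfsg.Agent.Helper6.AutData

open Cfsg Cfsg.Lie Cfsg.Agent.Lead.Chev Cfsg.Agent.Helper6.AutRoot Cfsg.Agent.Helper6.AutDiag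
  Cfsg.Agent.Helper6.AutSigma

/-! ### the longest element -/

/-- `-w₀` permutes the fundamental roots -/
def w0sChk (D : ChevalleyDatum) (Ws : List ℕ) (w : List ℕ) : Bool :=
  ((List.range D.rank).all fun i => (List.range D.rank).any fun j =>
    reflWordP Ws w (D.neg (D.simple i)) == D.simple j) &&
  ((List.range D.rank).all fun j => (List.range D.rank).any fun i =>
    reflWordP Ws w (D.neg (D.simple i)) == D.simple j)

theorem w0sOK_G2 : w0sChk chevG2 commWs_G2 w0Word_G2 = true := by decide +kernel
theorem w0sOK_B2 : w0sChk chevB2 commWs_B2 w0Word_B2 = true := by decide +kernel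
theorem w0sOK_D4 : w0sChk chevD4 commWs_D4 w0Word_D4 = true := by decide +kernel
theorem w0sOK_F4 : w0sChk chevF4 commWs_F4 w0Word_F4 = true := by decide +kernel
theorem w0sOK_E6 : w0sChk chevE6 commWs_E6 w0Word_E6 = true := by decide +kernel
theorem w0sOK_E7 : w0sChk chevE7 commWs_E7 w0Word_E7 = true := by decide +kernel
theorem w0sOK_E8 : w0sChk chevE8 commWs_E8 w0Word_E8 = true := by decide +kernel

theorem w0sChk_of_mem (D : ChevalleyDatum)
    (hD : D ∈ [chevG2, chevB2, chevD4, chevF4, chevE6, chevE7, chevE8]) :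
    w0sChk D (wsOf D) (Cfsg.Agent.S1053.w0Of D) = true := by
  simp only [List.mem_cons, List.mem_nil_iff, or_false] at hD
  rcases hD with rfl | rfl | rfl | rfl | rfl | rfl | rfl
  · exact w0sOK_G2
  · exact w0sOK_B2
  · exact w0sOK_D4
  · exact w0sOK_F4
  · exact w0sOK_E6
  · exact w0sOK_E7
  · exact w0sOK_E8

theorem w0_of_mem (D : ChevalleyDatum)
    (hD : D ∈ [chevG2, chevB2, chevD4, chevF4, chevE6, chevE7, chevE8]) :
    W0 D (Cfsg.Agent.S1053.w0Of D) := by
  obtain ⟨h1, h2, h3⟩ := Cfsg.Agent.S1053.w0_facts (F := ℚ) D hD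
  have hfa : ∀ i < D.rank, NXFacts D (etaOf D i) i :=
    fun i hi => (nSimple_of_mem (F := ℚ) D hD i hi).facts
  have hsl := Cfsg.Agent.S1053.simple_lt_of_mem D hD
  have hneg : ∀ i < D.rank, D.neg (D.simple i) < D.nroots := fun i hi =>
    (chevFacts_of_mem (F := ℚ) D hD).neg_simple_lt i hi
  have hchk := w0sChk_of_mem D hD
  unfold w0sChk at hchk
  rw [Bool.and_eq_true, List.all_eq_true, List.all_eq_true] at hchk
  refine ⟨h1, h2, h3, ?_, ?_⟩
  · intro i hi
    have := hchk.1 i (List.mem_range.2 hi)
    rw [List.any_eq_true] at this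
    obtain ⟨j, hj, e⟩ := this
    refine ⟨j, List.mem_range.1 hj, ?_⟩
    rw [← reflWordP_eq D (etaOf D) hfa (wsOf D) (wsTab_of_mem D hD) _ h1 _ (hneg i hi)]
    simpa using e
  · intro j hj
    have := hchk.2 j (List.mem_range.2 hj)
    rw [List.any_eq_true] at this
    obtain ⟨i, hi, e⟩ := this
    refine ⟨i, List.mem_range.1 hi, ?_⟩
    rw [← reflWordP_eq D (etaOf D) hfa (wsOf D) (wsTab_of_mem D hD) _ h1 _ (hneg i (List.mem_range.1 hi))]
    simpa using e

/-! ### the fundamental roots -/

theorem diagram_of_simply (D : ChevalleyDatum)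
    (h : ∀ i j : Fin D.rank, i ≠ j → D.bonds i j = 0 ∨ D.bonds i j = 1) :
    ∀ π : Equiv.Perm (Fin D.rank),
      (∀ i j : Fin D.rank, i ≠ j → (D.bonds (π i) (π j) = 0 ↔ D.bonds i j = 0)) →
        D.IsDiagramSymmetry π := by
  intro π hπ i j hij
  have hπij : π i ≠ π j := fun e => hij (π.injective e)
  rcases h i j hij with h0 | h1
  · rw [h0]
    exact (hπ i j hij).2 h0
  · rw [h1]
    rcases h (π i) (π j) hπij with h2 | h2
    · have := (hπ i j hij).1 h2
      rw [h1] at this
      exact absurd this one_ne_zero
    · exact h2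

theorem autFacts_G2 : AutFacts chevG2 := by
  refine ⟨by decide +kernel, by decide +kernel, by decide +kernel, by decide +kernel, ?_⟩
  unfold ChevalleyDatum.IsDiagramSymmetry
  decide +kernel

theorem autFacts_B2 : AutFacts chevB2 := by
  refine ⟨by decide +kernel, by decide +kernel, by decide +kernel, by decide +kernel, ?_⟩
  unfold ChevalleyDatum.IsDiagramSymmetry
  decide +kernel

theorem autFacts_D4 : AutFacts chevD4 := by
  refine ⟨by decide +kernel, by decide +kernel, by decide +kernel, by decide +kernel, ?_⟩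
  exact diagram_of_simply _ (by decide +kernel)

theorem autFacts_F4 : AutFacts chevF4 := by
  refine ⟨by decide +kernel, by decide +kernel, by decide +kernel, by decide +kernel, ?_⟩
  unfold ChevalleyDatum.IsDiagramSymmetry
  decide +kernel

theorem autFacts_E6 : AutFacts chevE6 := by
  refine ⟨by decide +kernel, by decide +kernel, by decide +kernel, by decide +kernel, ?_⟩
  exact diagram_of_simply _ (by decide +kernel)

theorem autFacts_E7 : AutFacts chevE7 := by
  refine ⟨by decide +kernel, by decide +kernel, by decide +kernel, by decide +kernel, ?_⟩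
  exact diagram_of_simply _ (by decide +kernel)

theorem autFacts_E8 : AutFacts chevE8 := by
  refine ⟨by decide +kernel, by decide +kernel, by decide +kernel, by decide +kernel, ?_⟩
  exact diagram_of_simply _ (by decide +kernel)

theorem autFacts_of_mem (D : ChevalleyDatum)
    (hD : D ∈ [chevG2, chevB2, chevD4, chevF4, chevE6, chevE7, chevE8]) : AutFacts D := by
  simp only [List.mem_cons, List.mem_nil_iff, or_false] at hD
  rcases hD with rfl | rfl | rfl | rfl | rfl | rfl | rfl
  · exact autFacts_G2
  · exact autFacts_B2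
  · exact autFacts_D4
  · exact autFacts_F4
  · exact autFacts_E6
  · exact autFacts_E7
  · exact autFacts_E8

/-! ### Cartan integers and root lengths -/

/-- the Cartan integers of the fundamental roots -/
def cartanF (D : ChevalleyDatum) (i j : Fin D.rank) : ℤ := D.cartan i (D.simple j)

/-- the lengths of the fundamental roots -/
def longF (D : ChevalleyDatum) (i : Fin D.rank) : Bool := D.isLong (D.simple i)

theorem cartanOK_G2 : CartanOK (cartanF chevG2) (longF chevG2) := by
  unfold CartanOK cartanF longF; decide +kernel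
theorem cartanOK_B2 : CartanOK (cartanF chevB2) (longF chevB2) := by
  unfold CartanOK cartanF longF; decide +kernel
theorem cartanOK_D4 : CartanOK (cartanF chevD4) (longF chevD4) := by
  unfold CartanOK cartanF longF; decide +kernel
theorem cartanOK_F4 : CartanOK (cartanF chevF4) (longF chevF4) := by
  unfold CartanOK cartanF longF; decide +kernel
theorem cartanOK_E6 : CartanOK (cartanF chevE6) (longF chevE6) := by
  unfold CartanOK cartanF longF; decide +kernel
theorem cartanOK_E7 : CartanOK (cartanF chevE7) (longF chevE7) := by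
  unfold CartanOK cartanF longF; decide +kernel
theorem cartanOK_E8 : CartanOK (cartanF chevE8) (longF chevE8) := by
  unfold CartanOK cartanF longF; decide +kernel

theorem cartanOK_of_mem (D : ChevalleyDatum)
    (hD : D ∈ [chevG2, chevB2, chevD4, chevF4, chevE6, chevE7, chevE8]) :
    CartanOK (cartanF D) (longF D) := by
  simp only [List.mem_cons, List.mem_nil_iff, or_false] at hD
  rcases hD with rfl | rfl | rfl | rfl | rfl | rfl | rfl
  · exact cartanOK_G2
  · exact cartanOK_B2
  · exact cartanOK_D4
  · exact cartanOK_F4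
  · exact cartanOK_E6
  · exact cartanOK_E7
  · exact cartanOK_E8

/-- a spanning tree of a diagram, rooted at a long node if there is one -/
def TreeFactsN (n : ℕ) (A : Fin n → Fin n → ℤ) (L : Fin n → Bool) : Prop :=
  ∃ (i₀ : Fin n) (par : Fin n → Fin n) (dep : Fin n → ℕ),
    ((∀ i : Fin n, L i = false) ∨ L i₀ = true) ∧
    ∀ i, i ≠ i₀ → par i ≠ i ∧ A (par i) i * A i (par i) ≠ 0 ∧ dep (par i) < dep i

/-- a spanning tree of the diagram, rooted at a long fundamental root if there is one -/
def TreeFacts (D : ChevalleyDatum) : Prop := TreeFactsN D.rank (cartanF D) (longF D)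

theorem treeFacts_G2 : TreeFacts chevG2 := by
  show TreeFactsN 2 (cartanF chevG2) (longF chevG2)
  exact ⟨1, ![1, 1], ![1, 0], by unfold cartanF longF; decide +kernel⟩
theorem treeFacts_B2 : TreeFacts chevB2 := by
  show TreeFactsN 2 (cartanF chevB2) (longF chevB2)
  exact ⟨1, ![1, 1], ![1, 0], by unfold cartanF longF; decide +kernel⟩
theorem treeFacts_D4 : TreeFacts chevD4 := by
  show TreeFactsN 4 (cartanF chevD4) (longF chevD4)
  exact ⟨1, ![1, 1, 1, 1], ![1, 0, 1, 1], by unfold cartanF longF; decide +kernel⟩
theorem treeFacts_F4 : TreeFacts chevF4 := by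
  show TreeFactsN 4 (cartanF chevF4) (longF chevF4)
  exact ⟨2, ![1, 2, 2, 2], ![2, 1, 0, 1], by unfold cartanF longF; decide +kernel⟩
theorem treeFacts_E6 : TreeFacts chevE6 := by
  show TreeFactsN 6 (cartanF chevE6) (longF chevE6)
  exact ⟨3, ![2, 3, 3, 3, 3, 4], ![2, 1, 1, 0, 1, 2], by unfold cartanF longF; decide +kernel⟩
theorem treeFacts_E7 : TreeFacts chevE7 := by
  show TreeFactsN 7 (cartanF chevE7) (longF chevE7)
  exact ⟨3, ![2, 3, 3, 3, 3, 4, 5], ![2, 1, 1, 0, 1, 2, 3], by unfold cartanF longF; decide +kernel⟩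
theorem treeFacts_E8 : TreeFacts chevE8 := by
  show TreeFactsN 8 (cartanF chevE8) (longF chevE8)
  exact ⟨3, ![2, 3, 3, 3, 3, 4, 5, 6], ![2, 1, 1, 0, 1, 2, 3, 4],
    by unfold cartanF longF; decide +kernel⟩

theorem treeFacts_of_mem (D : ChevalleyDatum)
    (hD : D ∈ [chevG2, chevB2, chevD4, chevF4, chevE6, chevE7, chevE8]) : TreeFacts D := by
  simp only [List.mem_cons, List.mem_nil_iff, or_false] at hD
  rcases hD with rfl | rfl | rfl | rfl | rfl | rfl | rfl
  · exact treeFacts_G2
  · exact treeFacts_B2
  · exact treeFacts_D4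
  · exact treeFacts_F4
  · exact treeFacts_E6
  · exact treeFacts_E7
  · exact treeFacts_E8

/-! ### coefficients of the roots -/

/-- the table of the coefficients of the roots on the fundamental roots -/
def coefL (D : ChevalleyDatum) : List (List ℤ) :=
  if D.nroots = 12 then rootCoefL_G2 else if D.nroots = 8 then rootCoefL_B2
  else if D.nroots = 24 then rootCoefL_D4 else if D.nroots = 48 then rootCoefL_F4
  else if D.nroots = 72 then rootCoefL_E6 else if D.nroots = 126 then rootCoefL_E7 else rootCoefL_E8

/-- the coefficients are additive on sums of two roots -/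
def addChk (D : ChevalleyDatum) (L : List (List ℤ)) : Bool :=
  (List.range D.nroots).all fun r => (D.chain.getD r #[]).toList.all fun e =>
    match e.2.toList with
    | [] => true
    | q :: _ => (List.range D.rank).all fun j =>
        (L.getD q.1 []).getD j 0 == (L.getD r []).getD j 0 + (L.getD e.1 []).getD j 0

theorem chainRoot_one (D : ChevalleyDatum) (r s k : ℕ) (h : D.chainRoot r s 1 = some k) :
    ∃ e ∈ (D.chain.getD r #[]).toList, e.1 = s ∧ ∃ M rest, e.2.toList = (k, M) :: rest := by
  unfold ChevalleyDatum.chainRoot ChevalleyDatum.chainEntry at h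
  split at h
  · simp at h
  · rename_i e heq
    have h1 := List.find?_some heq
    have h2 := List.mem_of_find?_eq_some heq
    refine ⟨e, h2, by simpa using h1, ?_⟩
    cases hl : e.2.toList with
    | nil => rw [hl] at h; simp at h
    | cons q rest =>
      rw [hl] at h
      simp at h
      exact ⟨q.2, rest, by rw [← h]⟩

/-- the coefficients of `-r` are the opposites of those of `r` -/
def negChk (D : ChevalleyDatum) (L : List (List ℤ)) : Bool :=
  (List.range D.nroots).all fun r => (List.range D.rank).all fun j =>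
    (L.getD (D.neg r) []).getD j 0 == - (L.getD r []).getD j 0

/-- the coefficients of the fundamental roots -/
def simpleChk (D : ChevalleyDatum) (L : List (List ℤ)) : Bool :=
  (List.range D.rank).all fun i => (List.range D.rank).all fun j =>
    (L.getD (D.simple i) []).getD j 0 == if i = j then 1 else 0

theorem coefFacts_of_chk (D : ChevalleyDatum) (L : List (List ℤ))
    (h1 : negChk D L = true) (h2 : addChk D L = true) (h3 : simpleChk D L = true) :
    CoefFacts D (coefOfL D.rank L) := by
  refine ⟨?_, ?_, ?_⟩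
  · intro r hr j
    unfold negChk at h1
    simp only [List.all_eq_true, List.mem_range, beq_iff_eq] at h1
    exact h1 r hr j.val j.2
  · intro r hr s hs k hk j
    obtain ⟨e, he, hes, M, rest, hl⟩ := chainRoot_one D r s k hk
    unfold addChk at h2
    rw [List.all_eq_true] at h2
    have h4 := h2 r (List.mem_range.2 hr)
    rw [List.all_eq_true] at h4
    have h5 := h4 e he
    rw [hl] at h5
    simp only [List.all_eq_true, List.mem_range, beq_iff_eq] at h5
    have h6 := h5 j.val j.2
    rw [hes] at h6
    exact h6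
  · intro i j
    unfold simpleChk at h3
    simp only [List.all_eq_true, List.mem_range, beq_iff_eq] at h3
    have := h3 i.val i.2 j.val j.2
    unfold coefOfL
    rw [this]
    by_cases hij : i = j
    · rw [if_pos hij, if_pos (congrArg Fin.val hij)]
    · rw [if_neg hij, if_neg (fun h => hij (Fin.ext h))]

theorem negOK_G2 : negChk chevG2 rootCoefL_G2 = true := by decide +kernel
theorem addOK_G2 : addChk chevG2 rootCoefL_G2 = true := by decide +kernel
theorem simpleOK_G2 : simpleChk chevG2 rootCoefL_G2 = true := by decide +kernel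
theorem coefFacts_G2 : CoefFacts chevG2 (coefOfL chevG2.rank rootCoefL_G2) :=
  coefFacts_of_chk chevG2 rootCoefL_G2 negOK_G2 addOK_G2 simpleOK_G2
theorem negOK_B2 : negChk chevB2 rootCoefL_B2 = true := by decide +kernel
theorem addOK_B2 : addChk chevB2 rootCoefL_B2 = true := by decide +kernel
theorem simpleOK_B2 : simpleChk chevB2 rootCoefL_B2 = true := by decide +kernel
theorem coefFacts_B2 : CoefFacts chevB2 (coefOfL chevB2.rank rootCoefL_B2) :=
  coefFacts_of_chk chevB2 rootCoefL_B2 negOK_B2 addOK_B2 simpleOK_B2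
theorem negOK_D4 : negChk chevD4 rootCoefL_D4 = true := by decide +kernel
theorem addOK_D4 : addChk chevD4 rootCoefL_D4 = true := by decide +kernel
theorem simpleOK_D4 : simpleChk chevD4 rootCoefL_D4 = true := by decide +kernel
theorem coefFacts_D4 : CoefFacts chevD4 (coefOfL chevD4.rank rootCoefL_D4) :=
  coefFacts_of_chk chevD4 rootCoefL_D4 negOK_D4 addOK_D4 simpleOK_D4
theorem negOK_F4 : negChk chevF4 rootCoefL_F4 = true := by decide +kernel
theorem addOK_F4 : addChk chevF4 rootCoefL_F4 = true := by decide +kernel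
theorem simpleOK_F4 : simpleChk chevF4 rootCoefL_F4 = true := by decide +kernel
theorem coefFacts_F4 : CoefFacts chevF4 (coefOfL chevF4.rank rootCoefL_F4) :=
  coefFacts_of_chk chevF4 rootCoefL_F4 negOK_F4 addOK_F4 simpleOK_F4
theorem negOK_E6 : negChk chevE6 rootCoefL_E6 = true := by decide +kernel
theorem addOK_E6 : addChk chevE6 rootCoefL_E6 = true := by decide +kernel
theorem simpleOK_E6 : simpleChk chevE6 rootCoefL_E6 = true := by decide +kernel
theorem coefFacts_E6 : CoefFacts chevE6 (coefOfL chevE6.rank rootCoefL_E6) :=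
  coefFacts_of_chk chevE6 rootCoefL_E6 negOK_E6 addOK_E6 simpleOK_E6
theorem negOK_E7 : negChk chevE7 rootCoefL_E7 = true := by decide +kernel
theorem addOK_E7 : addChk chevE7 rootCoefL_E7 = true := by decide +kernel
theorem simpleOK_E7 : simpleChk chevE7 rootCoefL_E7 = true := by decide +kernel
theorem coefFacts_E7 : CoefFacts chevE7 (coefOfL chevE7.rank rootCoefL_E7) :=
  coefFacts_of_chk chevE7 rootCoefL_E7 negOK_E7 addOK_E7 simpleOK_E7
theorem negOK_E8 : negChk chevE8 rootCoefL_E8 = true := by decide +kernel
theorem addOK_E8 : addChk chevE8 rootCoefL_E8 = true := by decide +kernel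
theorem simpleOK_E8 : simpleChk chevE8 rootCoefL_E8 = true := by decide +kernel
theorem coefFacts_E8 : CoefFacts chevE8 (coefOfL chevE8.rank rootCoefL_E8) :=
  coefFacts_of_chk chevE8 rootCoefL_E8 negOK_E8 addOK_E8 simpleOK_E8

theorem coefFacts_of_mem (D : ChevalleyDatum)
    (hD : D ∈ [chevG2, chevB2, chevD4, chevF4, chevE6, chevE7, chevE8]) :
    CoefFacts D (coefOfL D.rank (coefL D)) := by
  simp only [List.mem_cons, List.mem_nil_iff, or_false] at hD
  rcases hD with rfl | rfl | rfl | rfl | rfl | rfl | rfl
  · exact coefFacts_G2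
  · exact coefFacts_B2
  · exact coefFacts_D4
  · exact coefFacts_F4
  · exact coefFacts_E6
  · exact coefFacts_E7
  · exact coefFacts_E8

end Cfsg.Agent.Helper6.AutData

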