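import Mathlib
import Cfsg.Agent.Lib.Helper6.SL2Hom

/-!
The rank-one analysis in Steinberg's theorem on automorphisms: a homomorphism between two groups with rank-one
relations which maps `X t` to `X' (a t)` and `Y t` to `Y' (b t)` has `a = c σ`, `b = c⁻¹ σ` for a field
automorphism `σ`.
-/

set_option autoImplicit false
set_option linter.unusedSectionVars false
set_option linter.unusedVariables false

namespace Cfsg.Agent.Helper6.AutRank1

open Matrix Cfsg.Agent.Helper6.SL2Hom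

variable {F : Type*} [Field F]

/-- the diagonal element of `SL₂` -/
def hS (d : F) (hd : d ≠ 0) : SpecialLinearGroup (Fin 2) F :=
  ⟨!![d, 0; 0, d⁻¹], by simp [Matrix.det_fin_two, hd]⟩

theorem hS_val (d : F) (hd : d ≠ 0) : (hS d hd).1 = !![d, 0; 0, d⁻¹] := rfl

theorem hS_coe (d : F) (hd : d ≠ 0) :
    ((hS d hd : SpecialLinearGroup (Fin 2) F) : Matrix (Fin 2) (Fin 2) F) = !![d, 0; 0, d⁻¹] := rfl

theorem xS_val (t : F) : (xS t).1 = !![1, t; 0, 1] := rfl

theorem yS_val (t : F) : (yS t).1 = !![1, 0; t, 1] := rfl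

theorem val_mul (g g' : SpecialLinearGroup (Fin 2) F) : (g * g').1 = g.1 * g'.1 := rfl

theorem mat2_ext (a b c d a' b' c' d' : F) (h1 : a = a') (h2 : b = b') (h3 : c = c') (h4 : d = d') :
    !![a, b; c, d] = !![a', b'; c', d'] := by subst h1 h2 h3 h4; rfl

/-- `x(α) y(β) x(α) = y(β/d) h(d) x(α(1+d)/d)` for `d = 1 + αβ ≠ 0` -/
theorem xyx_eq (α β d : F) (hd : d ≠ 0) (h2 : d = 1 + α * β) :
    xS α * yS β * xS α = yS (β * d⁻¹) * hS d hd * xS (α * (1 + d) * d⁻¹) := by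
  apply Subtype.ext
  simp only [val_mul, xS_val, yS_val, hS_val, Matrix.mul_fin_two]
  have h1 : d * d⁻¹ = 1 := mul_inv_cancel₀ hd
  generalize d⁻¹ = e at *
  apply mat2_ext
  · linear_combination (-1 : F) * h2
  · linear_combination (-α) * h2 + (-(α*(1+d))) * h1
  · linear_combination (-β) * h1
  · linear_combination (-d - d^2*e + e) * h1 + (-1 + (1+d)*d*e^2) * h2

/-- `n(s) x(v) n(s)⁻¹ = y(-s⁻² v)` -/
theorem nconj_eq (s v : F) (hs : s ≠ 0) :
    (xS s * yS (-s⁻¹) * xS s) * xS v = yS (-(s⁻¹) ^ 2 * v) * (xS s * yS (-s⁻¹) * xS s) := by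
  apply Subtype.ext
  simp only [val_mul, xS_val, yS_val, Matrix.mul_fin_two]
  have h1 : s * s⁻¹ = 1 := mul_inv_cancel₀ hs
  generalize s⁻¹ = e at *
  apply mat2_ext
  · ring
  · linear_combination (-v) * h1
  · linear_combination (-(e^2*v)) * h1
  · linear_combination (-(e*v*(s*e-1))) * h1

/-- every element of a finite field is a difference of two squares -/
theorem exists_sq_sub_sq [Finite F] (x : F) : ∃ s r : F, x = s ^ 2 - r ^ 2 := by
  by_cases h2 : ringChar F = 2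
  · obtain ⟨s, hs⟩ := FiniteField.isSquare_of_char_two h2 x
    exact ⟨s, 0, by rw [hs]; ring⟩
  · have h2' : (2 : F) ≠ 0 := Ring.two_ne_zero h2
    exact ⟨(x + 1) / 2, (x - 1) / 2, by field_simp; ring⟩

/-- the field-theoretic core of the rank-one analysis -/
theorem exists_ringEquiv [Finite F] (a b : F → F) (hadd : ∀ t u, a (t + u) = a t + a u)
    (ha : ∀ t, a t = 0 → t = 0)
    (hrel : ∀ t, t ≠ 0 → 1 + a t * b (-t⁻¹) = 0 ∧
      ∀ u, b (-(t⁻¹) ^ 2 * u) = -((a t)⁻¹) ^ 2 * a u) :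
    ∃ (c : F) (σ : F ≃+* F), c ≠ 0 ∧ (∀ t, a t = c * σ t) ∧ ∀ t, b t = c⁻¹ * σ t := by
  have a0 : a 0 = 0 := by
    have := hadd 0 0
    rw [add_zero] at this
    exact left_eq_add.1 this
  have aneg : ∀ t, a (-t) = -a t := by
    intro t
    have := hadd t (-t)
    rw [add_neg_cancel, a0] at this
    exact (neg_eq_of_add_eq_zero_right this.symm).symm
  have asub : ∀ t u, a (t - u) = a t - a u := by
    intro t u
    rw [sub_eq_add_neg, hadd, aneg, sub_eq_add_neg]
  set c := a 1 with hc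
  have hc0 : c ≠ 0 := fun h0 => one_ne_zero (ha 1 h0)
  set e := c⁻¹ with he
  have hce : c * e = 1 := mul_inv_cancel₀ hc0
  have hb : ∀ u, b u = e ^ 2 * a u := by
    intro u
    have := (hrel 1 one_ne_zero).2 (-u)
    rw [inv_one, one_pow, neg_one_mul, neg_neg, aneg, ← hc, ← he] at this
    rw [this]
    ring
  have hne : ∀ t, t ≠ 0 → a t ≠ 0 := fun t ht h0 => ht (ha t h0)
  have R1 : ∀ t, t ≠ 0 → a t * a t⁻¹ = c ^ 2 := by
    intro t ht
    have := (hrel t ht).1
    rw [hb, aneg] at this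
    linear_combination (-c ^ 2) * this + (-(a t * a t⁻¹ * (1 + c * e))) * hce
  have R2 : ∀ t, t ≠ 0 → ∀ u, a ((t⁻¹) ^ 2 * u) = c ^ 2 * ((a t)⁻¹) ^ 2 * a u := by
    intro t ht u
    have := (hrel t ht).2 u
    rw [hb, neg_mul, aneg] at this
    linear_combination (-(a ((t⁻¹) ^ 2 * u) * (1 + c * e))) * hce + (-c ^ 2) * this
  -- the candidate automorphism
  set σ₀ : F → F := fun t => e * a t with hσ₀
  have σadd : ∀ t u, σ₀ (t + u) = σ₀ t + σ₀ u := by
    intro t u
    simp only [hσ₀, hadd]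
    ring
  have σsub : ∀ t u, σ₀ (t - u) = σ₀ t - σ₀ u := by
    intro t u
    simp only [hσ₀, asub]
    ring
  have σ0 : σ₀ 0 = 0 := by simp only [hσ₀, a0, mul_zero]
  have σ1 : σ₀ 1 = 1 := by
    simp only [hσ₀]
    rw [← hc, mul_comm, hce]
  have S1 : ∀ t, t ≠ 0 → σ₀ t * σ₀ t⁻¹ = 1 := by
    intro t ht
    simp only [hσ₀]
    have := R1 t ht
    linear_combination e ^ 2 * this + (c * e + 1) * hce
  have S2 : ∀ t, t ≠ 0 → ∀ u, σ₀ ((t⁻¹) ^ 2 * u) = ((σ₀ t)⁻¹) ^ 2 * σ₀ u := by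
    intro t ht u
    simp only [hσ₀]
    rw [R2 t ht u, mul_inv, he, inv_inv]
    ring
  have S3 : ∀ t u, σ₀ (t ^ 2 * u) = (σ₀ t) ^ 2 * σ₀ u := by
    intro t u
    by_cases ht : t = 0
    · rw [ht, σ0]
      simp [σ0]
    · have h1 := S2 t⁻¹ (inv_ne_zero ht) u
      rw [inv_inv] at h1
      rw [h1]
      have h2 := S1 t ht
      have : (σ₀ t⁻¹)⁻¹ = σ₀ t := by
        rw [inv_eq_iff_eq_inv]
        exact (eq_inv_of_mul_eq_one_right h2)
      rw [this]
  have S4 : ∀ t, σ₀ (t ^ 2) = (σ₀ t) ^ 2 := by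
    intro t
    have := S3 t 1
    rwa [mul_one, σ1, mul_one] at this
  have S5 : ∀ x u, σ₀ (x * u) = σ₀ x * σ₀ u := by
    intro x u
    obtain ⟨s, r, rfl⟩ := exists_sq_sub_sq x
    rw [sub_mul, σsub, S3, S3, σsub, S4, S4]
    ring
  let σr : F →+* F :=
    { toFun := σ₀, map_one' := σ1, map_mul' := S5, map_zero' := σ0, map_add' := σadd }
  have hinj : Function.Injective σr := σr.injective
  have hbij : Function.Bijective σr := Finite.injective_iff_bijective.1 hinj
  refine ⟨c, RingEquiv.ofBijective σr hbij, hc0, ?_, ?_⟩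
  · intro t
    show a t = c * (e * a t)
    rw [← mul_assoc, hce, one_mul]
  · intro t
    show b t = e * (e * a t)
    rw [hb]
    ring

variable {G : Type*} [Group G] {X Y : F → G} (h : RankOne X Y)
include h

theorem hom_hS (d : F) (hd : d ≠ 0) : h.hom (hS d hd) = hh X Y d := by
  show phi X Y (hS d hd) = hh X Y d
  unfold phi
  have e1 : (hS d hd) 1 0 = 0 := by simp [hS_coe]
  have e2 : (hS d hd) 0 0 = d := by simp [hS_coe]
  have e3 : (hS d hd) 0 1 = 0 := by simp [hS_coe]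
  rw [if_pos e1, e2, e3, mul_zero, h.x_zero, one_mul]

/-- the conjugation formula for `n(s)` in the group -/
theorem n_conj (s v : F) (hs : s ≠ 0) :
    (X s * Y (-s⁻¹) * X s) * X v * (X s * Y (-s⁻¹) * X s)⁻¹ = Y (-(s⁻¹) ^ 2 * v) := by
  have := congrArg h.hom (nconj_eq s v hs)
  simp only [map_mul, h.hom_xS, h.hom_yS] at this
  rw [this, mul_inv_cancel_right]

/-- if `w = x(α) y(β) x(α)` conjugates `x(v)`, `v ≠ 0`, into `Y`, and no non-trivial `x(·)` lies in `Y`, then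
`1 + αβ = 0` -/
theorem one_add_mul_eq_zero (hND : ∀ s c : F, X s = Y c → s = 0) (α β v c : F) (hv : v ≠ 0)
    (hconj : (X α * Y β * X α) * X v * (X α * Y β * X α)⁻¹ = Y c) : 1 + α * β = 0 := by
  by_contra hd
  have h1 := congrArg h.hom (xyx_eq α β (1 + α * β) hd rfl)
  simp only [map_mul, h.hom_xS, h.hom_yS, hom_hS h] at h1
  rw [h1] at hconj
  set d := 1 + α * β with hdd
  set γ := α * (1 + d) * d⁻¹ with hγ
  set β' := β * d⁻¹ with hβ'
  have h2 : hh X Y d * X v * (hh X Y d)⁻¹ = X (d ^ 2 * v) := h.hconj d hd v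
  have h3 : Y β' * hh X Y d * X γ * X v * (Y β' * hh X Y d * X γ)⁻¹ =
      Y β' * (hh X Y d * X v * (hh X Y d)⁻¹) * (Y β')⁻¹ := by
    have e : X γ * X v * (X γ)⁻¹ = X v := by
      rw [h.xadd, h.x_inv, h.xadd]
      congr 1
      ring
    calc Y β' * hh X Y d * X γ * X v * (Y β' * hh X Y d * X γ)⁻¹
        = Y β' * (hh X Y d * (X γ * X v * (X γ)⁻¹) * (hh X Y d)⁻¹) * (Y β')⁻¹ := by group
      _ = _ := by rw [e]
  rw [h3, h2] at hconj
  have h4 : X (d ^ 2 * v) = Y c := by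
    have : X (d ^ 2 * v) = (Y β')⁻¹ * (Y β' * X (d ^ 2 * v) * (Y β')⁻¹) * Y β' := by
      group
    rw [this, hconj, h.y_inv, h.yadd, h.yadd]
    congr 1
    ring
  have h5 := hND _ _ h4
  have : d ^ 2 ≠ 0 := pow_ne_zero 2 hd
  exact hv ((mul_eq_zero.1 h5).resolve_left this)

omit h in
/-- the relations satisfied by a homomorphism compatible with two rank-one structures -/
theorem relations {G' : Type*} [Group G'] {X' Y' : F → G'} (h' : RankOne X' Y') (h : RankOne X Y)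
    (θ : G →* G') (a b : F → F)
    (hX : ∀ t, θ (X t) = X' (a t)) (hY : ∀ t, θ (Y t) = Y' (b t))
    (hND : ∀ s c : F, X' s = Y' c → s = 0) (hYinj : Function.Injective Y')
    (ha : ∀ t, a t = 0 → t = 0) (t : F) (ht : t ≠ 0) :
    1 + a t * b (-t⁻¹) = 0 ∧ ∀ u, b (-(t⁻¹) ^ 2 * u) = -((a t)⁻¹) ^ 2 * a u := by
  have key : ∀ u, (X' (a t) * Y' (b (-t⁻¹)) * X' (a t)) * X' (a u) *
      (X' (a t) * Y' (b (-t⁻¹)) * X' (a t))⁻¹ = Y' (b (-(t⁻¹) ^ 2 * u)) := by
    intro u
    have := congrArg θ (n_conj h t u ht)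
    simpa only [map_mul, map_inv, hX, hY] using this
  have h1 : 1 + a t * b (-t⁻¹) = 0 :=
    one_add_mul_eq_zero h' hND _ _ (a 1) _ (fun h0 => one_ne_zero (ha 1 h0)) (key 1)
  refine ⟨h1, fun u => ?_⟩
  have hat : a t ≠ 0 := fun h0 => ht (ha t h0)
  have hb : b (-t⁻¹) = -(a t)⁻¹ := by
    have : a t * b (-t⁻¹) = -1 := by linear_combination h1
    rw [eq_neg_iff_add_eq_zero, ← mul_right_inj' hat, mul_add, mul_inv_cancel₀ hat, this, mul_zero]
    ring
  have h2 := key u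
  rw [hb, n_conj h' (a t) (a u) hat] at h2
  exact (hYinj h2).symm

omit h in
/-- the rank-one relations can be checked after an injective homomorphism -/
theorem rankOne_of_injective {G G' : Type*} [Group G] [Group G'] (f : G →* G')
    (hf : Function.Injective f) {X Y : F → G}
    (h : RankOne (fun t => f (X t)) (fun t => f (Y t))) : RankOne X Y := by
  have hnn : nn (fun t => f (X t)) (fun t => f (Y t)) = f (nn X Y) := by
    unfold nn
    rw [map_mul, map_mul]
  have hhh : ∀ s, hh (fun t => f (X t)) (fun t => f (Y t)) s = f (hh X Y s) := by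
    intro s
    unfold hh
    rw [hnn, map_mul, map_mul, map_mul, map_inv]
  refine ⟨fun t u => hf ?_, fun t u => hf ?_, fun u => hf ?_, fun s hs v => hf ?_, fun s s' hs hs' => hf ?_⟩
  · rw [map_mul]
    exact h.xadd t u
  · rw [map_mul]
    exact h.yadd t u
  · rw [map_mul, map_mul, map_inv, ← hnn]
    exact h.nconj u
  · rw [map_mul, map_mul, map_inv, ← hhh]
    exact h.hconj s hs v
  · rw [map_mul, ← hhh, ← hhh, ← hhh]
    exact h.hmul s s' hs hs'

end Cfsg.Agent.Helper6.AutRank1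


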