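import Mathlib
import Cfsg.Agent.Lib.Helper6.AutPerm
import Cfsg.Agent.Lib.Helper6.AutRank1

/-!
For Steinberg's theorem on automorphisms: an automorphism fixing `U` and `V` acts on the fundamental root elements by
`x_{±p_i}(t) ↦ x_{±p_{ρ i}}(c_i^{±1} σ_i(t))`, and the field automorphisms `σ_i` are related through the torus.
-/

set_option autoImplicit false
set_option linter.unusedSectionVars false
set_option linter.unusedVariables false

namespace Cfsg.Agent.Helper6.AutTorus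

open Cfsg Cfsg.Lie Cfsg.Agent.Lead.Chev Cfsg.Agent.Helper6.SL2Hom Cfsg.Agent.Helper6.ChevL
  Cfsg.Agent.Helper6.AutRoot Cfsg.Agent.Helper6.AutAbs Cfsg.Agent.Helper6.AutPerm

variable {F : Type*} [Field F] {D : ChevalleyDatum} (hF : ChevFacts D F)
include hF

theorem xGL_neg_simple_inj (i : ℕ) (hi : i < D.rank) (a b : F)
    (h : xGL D hF.xadd (D.neg (D.simple i)) a = xGL D hF.xadd (D.neg (D.simple i)) b) : a = b := by
  have h1 := hF.nGL_conj_simple i hi (-a)
  have h2 := hF.nGL_conj_simple i hi (-b)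
  rw [neg_neg] at h1 h2
  rw [← h1, ← h2] at h
  set n := nGL D hF.xadd (D.simple i) with hn
  have e : ∀ y : GL D.Idx F, n⁻¹ * (n * y * n⁻¹) * n = y := fun y => by group
  have h3 : xGL D hF.xadd (D.simple i) (-a) = xGL D hF.xadd (D.simple i) (-b) := by
    rw [← e (xGL D hF.xadd (D.simple i) (-a)), h, e]
  exact neg_injective (Cfsg.Agent.Helper6.RootCent.xGL_pos_inj hF _ (hF.simple_pos i hi) _ _ h3)

theorem eq_zero_of_xGL_simple_eq_neg (i : ℕ) (hi : i < D.rank) (s c : F)
    (h : xGL D hF.xadd (D.simple i) s = xGL D hF.xadd (D.neg (D.simple i)) c) : s = 0 := by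
  have hU : xGL D hF.xadd (D.simple i) s ∈ D.borelSubgroup F :=
    posUnipotent_le_borel D (xGL_mem_posUnipotent D hF.xadd _ (hF.simple_pos i hi) _)
  have hV : xGL D hF.xadd (D.simple i) s ∈ D.negUnipotent F := by
    rw [h]
    exact Subgroup.subset_closure ⟨_, _, hF.sign.neg_of_pos _ (hF.simple_pos i hi), rfl⟩
  have h6 : xGL D hF.xadd (D.simple i) s ∈ D.borelSubgroup F ⊓ D.negUnipotent F :=
    Subgroup.mem_inf.2 ⟨hU, hV⟩
  rw [hF.borel_inf_negUnipotent, Subgroup.mem_bot] at h6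
  have h7 : xGL D hF.xadd (D.simple i) s = xGL D hF.xadd (D.simple i) 0 := by rw [h6, xGL_zero]
  exact Cfsg.Agent.Helper6.RootCent.xGL_pos_inj hF _ (hF.simple_pos i hi) _ _ h7

theorem xG_simple_inj (i : ℕ) (hi : i < D.rank) : Function.Injective (xG hF (D.simple i)) := by
  intro a b h
  exact Cfsg.Agent.Helper6.RootCent.xGL_pos_inj hF _ (hF.simple_pos i hi) _ _ (congrArg Subtype.val h)

theorem xG_neg_simple_inj (i : ℕ) (hi : i < D.rank) :
    Function.Injective (xG hF (D.neg (D.simple i))) := by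
  intro a b h
  exact xGL_neg_simple_inj hF i hi _ _ (congrArg Subtype.val h)

variable (hd : ∀ j < D.rank, D.cartan j (D.simple j) = 2)

include hd in
theorem rankOne_xG (i : ℕ) (hi : i < D.rank) :
    RankOne (xG hF (D.simple i)) (xG hF (D.neg (D.simple i))) :=
  Cfsg.Agent.Helper6.AutRank1.rankOne_of_injective (D.group F).subtype Subtype.val_injective
    (rankOne_simple hF hd i hi)

/-- conjugation by `h_{p_i}(t)` -/
theorem hGLt_conj (i : ℕ) (hi : i < D.rank) (s : ℕ) (hs : s < D.nroots) (t : F) (ht : t ≠ 0) (u : F) :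
    hGLt D hF.xadd (D.simple i) t * xGL D hF.xadd s u * (hGLt D hF.xadd (D.simple i) t)⁻¹ =
      xGL D hF.xadd s (t ^ (D.cartan i s) * u) := by
  rw [mul_inv_eq_iff_eq_mul]
  apply Units.ext
  rw [Units.val_mul, Units.val_mul, hGLt_simple_val hF i hi t ht, xGL_val, xGL_val]
  exact hF.hconj i hi s hs t ht u

theorem hh_val (i : ℕ) (t : F) :
    ((hh (xG hF (D.simple i)) (xG hF (D.neg (D.simple i))) t : ↥(D.group F)) : GL D.Idx F) =
      hGLt D hF.xadd (D.simple i) t := by
  rw [← hh_eq hF]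
  rfl

/-- conjugation by `h_{p_i}(t)` inside the group -/
theorem hh_conj (i : ℕ) (hi : i < D.rank) (s : ℕ) (hs : s < D.nroots) (t : F) (ht : t ≠ 0) (u : F) :
    hh (xG hF (D.simple i)) (xG hF (D.neg (D.simple i))) t * xG hF s u *
      (hh (xG hF (D.simple i)) (xG hF (D.neg (D.simple i))) t)⁻¹ = xG hF s (t ^ (D.cartan i s) * u) := by
  apply Subtype.ext
  rw [Subgroup.coe_mul, Subgroup.coe_mul, Subgroup.coe_inv, hh_val]
  exact hGLt_conj hF i hi s hs t ht u

variable {w : List ℕ} (hw : W0 D w) [Finite F]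

include hw hd in
/-- the shape of an automorphism fixing `U` and `V` on the fundamental root elements -/
theorem exists_data (AF : AutFacts D) (θ : ↥(D.group F) ≃* ↥(D.group F))
    (hU : ((D.posUnipotent F).subgroupOf (D.group F)).map θ.toMonoidHom =
      (D.posUnipotent F).subgroupOf (D.group F))
    (hV : ((D.negUnipotent F).subgroupOf (D.group F)).map θ.toMonoidHom =
      (D.negUnipotent F).subgroupOf (D.group F)) :
    ∃ (ρ : Equiv.Perm (Fin D.rank)) (c : Fin D.rank → F) (σ : Fin D.rank → F ≃+* F),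
      D.IsDiagramSymmetry ρ ∧ (∀ i, c i ≠ 0) ∧
      (∀ (i : Fin D.rank) (t : F), θ (xG hF (D.simple i) t) = xG hF (D.simple (ρ i)) (c i * σ i t)) ∧
      (∀ (i : Fin D.rank) (t : F), θ (xG hF (D.neg (D.simple i)) t) =
        xG hF (D.neg (D.simple (ρ i))) ((c i)⁻¹ * σ i t)) ∧
      (∀ (i j : Fin D.rank) (t : F), t ≠ 0 → (σ i t) ^ (D.cartan (ρ i) (D.simple (ρ j))) =
        (σ j t) ^ (D.cartan i (D.simple j))) := by
  obtain ⟨ρ, hρ, hX⟩ := exists_perm hF hw hd AF θ hU hV
  have hex : ∀ i : Fin D.rank, ∀ t : F, ∃ s : F,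
      θ (xG hF (D.simple i) t) = xG hF (D.simple (ρ i)) s := by
    intro i t
    have h1 : θ (xG hF (D.simple i) t) ∈
        (D.rootSubgroup F (D.simple (ρ i))).subgroupOf (D.group F) := by
      rw [← (hX i).1]
      exact ⟨_, (mem_rootSubgroupOf_iff hF _ _).2 ⟨t, rfl⟩, rfl⟩
    exact (mem_rootSubgroupOf_iff hF _ _).1 h1
  have hexn : ∀ i : Fin D.rank, ∀ t : F, ∃ s : F,
      θ (xG hF (D.neg (D.simple i)) t) = xG hF (D.neg (D.simple (ρ i))) s := by
    intro i t
    have h1 : θ (xG hF (D.neg (D.simple i)) t) ∈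
        (D.rootSubgroup F (D.neg (D.simple (ρ i)))).subgroupOf (D.group F) := by
      rw [← (hX i).2]
      exact ⟨_, (mem_rootSubgroupOf_iff hF _ _).2 ⟨t, rfl⟩, rfl⟩
    exact (mem_rootSubgroupOf_iff hF _ _).1 h1
  choose a ha using hex
  choose b hb using hexn
  have hone : ∀ r : ℕ, xG hF r (0 : F) = 1 := fun r => Subtype.ext (xGL_zero D hF.xadd r)
  have hkey : ∀ i : Fin D.rank, ∃ (c : F) (σ : F ≃+* F), c ≠ 0 ∧ (∀ t, a i t = c * σ t) ∧
      ∀ t, b i t = c⁻¹ * σ t := by
    intro i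
    have hR := rankOne_xG hF hd i i.2
    have hR' := rankOne_xG hF hd (ρ i) (ρ i).2
    have hazero : ∀ t, a i t = 0 → t = 0 := by
      intro t h0
      have h1 := ha i t
      rw [h0, hone] at h1
      have h3 : xG hF (D.simple i) t = 1 := by
        apply θ.injective
        rw [h1, map_one]
      have h4 : xG hF (D.simple i) t = xG hF (D.simple i) 0 := by rw [h3, hone]
      exact xG_simple_inj hF i i.2 h4
    have hadd : ∀ t u, a i (t + u) = a i t + a i u := by
      intro t u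
      apply xG_simple_inj hF (ρ i) (ρ i).2
      rw [← ha, ← hR.xadd, map_mul, ha, ha, hR'.xadd]
    have hND : ∀ s c : F, xG hF (D.simple (ρ i)) s = xG hF (D.neg (D.simple (ρ i))) c → s = 0 :=
      fun s c h => eq_zero_of_xGL_simple_eq_neg hF _ (ρ i).2 s c (congrArg Subtype.val h)
    have hrel := fun t ht => Cfsg.Agent.Helper6.AutRank1.relations hR' hR θ.toMonoidHom (a i) (b i)
      (ha i) (hb i) hND (xG_neg_simple_inj hF _ (ρ i).2) hazero t ht
    exact Cfsg.Agent.Helper6.AutRank1.exists_ringEquiv (a i) (b i) hadd hazero hrel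
  choose c σ hc hcσ hbσ using hkey
  have hθX : ∀ (i : Fin D.rank) (t : F), θ (xG hF (D.simple i) t) = xG hF (D.simple (ρ i)) (c i * σ i t) :=
    fun i t => by rw [ha, hcσ]
  have hθY : ∀ (i : Fin D.rank) (t : F), θ (xG hF (D.neg (D.simple i)) t) =
      xG hF (D.neg (D.simple (ρ i))) ((c i)⁻¹ * σ i t) := fun i t => by rw [hb, hbσ]
  refine ⟨ρ, c, σ, hρ, hc, hθX, hθY, ?_⟩
  intro i j t ht
  have hRi := rankOne_xG hF hd i i.2
  have hRi' := rankOne_xG hF hd (ρ i) (ρ i).2
  have hσt : σ i t ≠ 0 := (map_ne_zero (σ i)).2 ht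
  -- the image of the torus element
  have hxyx : ∀ z : F, xG hF (D.simple (ρ i)) z * xG hF (D.neg (D.simple (ρ i))) (-z⁻¹) *
      xG hF (D.simple (ρ i)) z = hh (xG hF (D.simple (ρ i))) (xG hF (D.neg (D.simple (ρ i)))) z *
        nn (xG hF (D.simple (ρ i))) (xG hF (D.neg (D.simple (ρ i)))) := by
    intro z
    unfold hh
    rw [inv_mul_cancel_right]
  have e1 : ∀ z : F, z ≠ 0 → θ (xG hF (D.simple i) z * xG hF (D.neg (D.simple i)) (-z⁻¹) *
      xG hF (D.simple i) z) = hh (xG hF (D.simple (ρ i))) (xG hF (D.neg (D.simple (ρ i)))) (c i * σ i z) *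
        nn (xG hF (D.simple (ρ i))) (xG hF (D.neg (D.simple (ρ i)))) := by
    intro z hz
    rw [map_mul, map_mul, hθX, hθY, ← hxyx]
    have : (c i)⁻¹ * σ i (-z⁻¹) = -(c i * σ i z)⁻¹ := by
      rw [map_neg, map_inv₀, mul_inv]
      ring
    rw [this]
  have e2 : θ (nn (xG hF (D.simple i)) (xG hF (D.neg (D.simple i)))) =
      hh (xG hF (D.simple (ρ i))) (xG hF (D.neg (D.simple (ρ i)))) (c i) *
        nn (xG hF (D.simple (ρ i))) (xG hF (D.neg (D.simple (ρ i)))) := by
    have := e1 1 one_ne_zero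
    rw [inv_one, map_one, mul_one] at this
    exact this
  have hθh : θ (hh (xG hF (D.simple i)) (xG hF (D.neg (D.simple i))) t) =
      hh (xG hF (D.simple (ρ i))) (xG hF (D.neg (D.simple (ρ i)))) (σ i t) := by
    have h1 : hh (xG hF (D.simple i)) (xG hF (D.neg (D.simple i))) t =
        (xG hF (D.simple i) t * xG hF (D.neg (D.simple i)) (-t⁻¹) * xG hF (D.simple i) t) *
          (nn (xG hF (D.simple i)) (xG hF (D.neg (D.simple i))))⁻¹ := rfl
    rw [h1, map_mul, map_inv, e1 t ht, e2, mul_comm (c i) (σ i t), hRi'.hmul _ _ hσt (hc i)]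
    group
  have h1 := hh_conj hF i i.2 (D.simple j) (hF.simple_lt j j.2) t ht 1
  have h2 := congrArg θ h1
  rw [map_mul, map_mul, map_inv, hθh, hθX j, hθX j,
    hh_conj hF (ρ i) (ρ i).2 (D.simple (ρ j)) (hF.simple_lt _ (ρ j).2) (σ i t) hσt] at h2
  have h3 := xG_simple_inj hF (ρ j) (ρ j).2 h2
  rw [map_one, mul_one, mul_one, map_zpow₀] at h3
  exact mul_right_cancel₀ (hc j) (h3.trans (mul_comm _ _))

end Cfsg.Agent.Helper6.AutTorus

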