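import Mathlib
import Cfsg.Agent.Lib.Helper6.AutTorus
import Cfsg.Agent.Lib.Helper6.AutData
import Cfsg.Agent.S2326
import Cfsg.Agent.S1080

/-!
Steinberg's theorem: every automorphism of a finite Chevalley group is a product of an inner, a diagonal, a graph and
a field automorphism.
-/

set_option autoImplicit false
set_option linter.unusedSectionVars false
set_option linter.unusedVariables false

namespace Cfsg.Agent.Helper6.AutMain

open Cfsg Cfsg.Lie Cfsg.Agent.Lead.Chev Cfsg.Agent.Helper6.SL2Hom Cfsg.Agent.Helper6.ChevL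
  Cfsg.Agent.Helper6.AutRoot Cfsg.Agent.Helper6.AutAbs Cfsg.Agent.Helper6.AutPerm
  Cfsg.Agent.Helper6.AutTorus Cfsg.Agent.Helper6.AutData Cfsg.Agent.Helper6.AutDiag
  Cfsg.Agent.Helper6.AutSigma

variable {F : Type*} [Field F] [Finite F] {D : ChevalleyDatum}

/-- every automorphism can be normalized so as to fix `U` and `V` -/
theorem exists_normalize (hD : D ∈ [chevG2, chevB2, chevD4, chevF4, chevE6, chevE7, chevE8])
    (θ : ↥(D.group F) ≃* ↥(D.group F)) :
    ∃ c : ↥(D.group F),
      (((D.posUnipotent F).subgroupOf (D.group F)).map θ.toMonoidHom).map (MulAut.conj c).toMonoidHom =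
        (D.posUnipotent F).subgroupOf (D.group F) ∧
      (((D.negUnipotent F).subgroupOf (D.group F)).map θ.toMonoidHom).map (MulAut.conj c).toMonoidHom =
        (D.negUnipotent F).subgroupOf (D.group F) := by
  classical
  have hF : ChevFacts D F := chevFacts_of_mem D hD
  have hS := corSize_of_mem D hD
  have hw := w0_of_mem D hD
  haveI : Fintype F := Fintype.ofFinite F
  haveI : CharP F (ringChar F) := ringChar.charP F
  haveI : Fact (ringChar F).Prime := ⟨CharP.char_is_prime F _⟩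
  haveI : Finite ↥(D.group F) := inferInstance
  obtain ⟨P, hP⟩ := Cfsg.Agent.S2326.result (F := F) (ringChar F) D hD
  set n₀ := nWordGL D hF.xadd (Cfsg.Agent.S1053.w0Of D) with hn₀
  have hn₀G : n₀ ∈ D.group F := n0_mem_group hF hw
  have hUle := hF.posUnipotent_le_group
  apply exists_conj_normalize (ringChar F) _ _ ⟨P, hP⟩
  · refine ⟨⟨n₀, hn₀G⟩, ?_⟩
    rw [subgroupOf_map_conj, n0_conj_pos hF hw]
  · rw [subgroupOf_inf', Subgroup.subgroupOf_eq_bot]
    have h1 : D.posUnipotent F ⊓ D.negUnipotent F = ⊥ := by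
      rw [eq_bot_iff, ← hF.borel_inf_negUnipotent]
      exact inf_le_inf_right _ (posUnipotent_le_borel D)
    rw [h1]
    exact disjoint_bot_left
  · intro g hg
    rw [subgroupOf_map_conj, subgroupOf_inf', Subgroup.subgroupOf_eq_bot, disjoint_iff] at hg
    have hQ : (D.posUnipotent F).map (MulAut.conj (g : GL D.Idx F)).toMonoidHom ⊓ D.posUnipotent F = ⊥ := by
      rw [← hg]
      symm
      apply inf_of_le_left
      exact le_trans inf_le_right hUle
    have hcard : Nat.card ↥(D.negUnipotent F) = Nat.card ↥(D.posUnipotent F) := by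
      rw [← n0_conj_pos hF hw]
      exact (Nat.card_congr ((D.posUnipotent F).equivMapOfInjective _
        (MulAut.conj n₀).injective).toEquiv).symm
    obtain ⟨u, hu, hu'⟩ := Cfsg.Agent.Helper6.AutBase.exists_conj_negUnipotent hF hS hcard g.1 g.2 hQ
    refine ⟨⟨u, hUle hu⟩, hu, ?_⟩
    rw [subgroupOf_map_conj, subgroupOf_map_conj, hu']

/-- Steinberg's theorem -/
theorem main (hD : D ∈ [chevG2, chevB2, chevD4, chevF4, chevE6, chevE7, chevE8])
    (θ : ↥(D.group F) ≃* ↥(D.group F)) :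
    ∃ (x : ↥(D.group F)) (d g f : ↥(D.group F) ≃* ↥(D.group F)),
      D.IsDiagonalAut d ∧ D.IsGraphAut g ∧ D.IsFieldAut f ∧
        ∀ y : ↥(D.group F), θ y = x * d (g (f y)) * x⁻¹ := by
  classical
  have hF : ChevFacts D F := chevFacts_of_mem D hD
  have hw := w0_of_mem D hD
  have hd := diag2_of_mem D hD
  have AF := autFacts_of_mem D hD
  obtain ⟨c₀, hU, hV⟩ := exists_normalize hD θ
  -- the normalized automorphism
  set θ' : ↥(D.group F) ≃* ↥(D.group F) := θ.trans (MulAut.conj c₀) with hθ'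
  have hmap : ∀ K : Subgroup ↥(D.group F), K.map θ'.toMonoidHom =
      (K.map θ.toMonoidHom).map (MulAut.conj c₀).toMonoidHom := by
    intro K
    rw [Subgroup.map_map]
    rfl
  have hU' := (hmap _).trans hU
  have hV' := (hmap _).trans hV
  obtain ⟨ρ, c, σ, hρ, hc, hθX, hθY, hrel⟩ := exists_data hF hd hw AF θ' hU' hV'
  -- a single field automorphism
  obtain ⟨i₀, par, dep, hi₀, htree⟩ := treeFacts_of_mem D hD
  have hbond : ∀ i j : Fin D.rank, i ≠ j →
      cartanF D (ρ i) (ρ j) * cartanF D (ρ j) (ρ i) = cartanF D i j * cartanF D j i :=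
    fun i j hij => hρ i j hij
  obtain ⟨σ₀, hσ⟩ := exists_sigma (cartanF D) (longF D) ρ σ (cartanOK_of_mem D hD) hrel hbond i₀ hi₀
    par dep htree
  have hex : ∀ i : Fin D.rank, ex (ringChar F) (longF D) ρ i = D.graphExp (ringChar F) i (ρ i) :=
    fun i => rfl
  -- the field automorphism
  obtain ⟨f, hf⟩ := Cfsg.Agent.S1080.result D hD σ₀
  -- the diagonal automorphism
  set cU : Fin D.rank → Fˣ := fun j => Units.mk0 (c (ρ.symm j)) (hc _) with hcU
  set m := coefOfL D.rank (coefL D) with hm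
  have hmF := coefFacts_of_mem D hD
  set χ := chiOf m cU with hχdef
  have hχ : D.IsRootCharacter χ := isRootCharacter_chiOf m hmF cU
  have hχs : ∀ i : Fin D.rank, ((χ (D.simple (ρ i)) : Fˣ) : F) = c i := by
    intro i
    rw [hχdef, chiOf_simple m hmF cU (ρ i), hcU]
    simp
  have hχn : ∀ i : Fin D.rank, ((χ (D.neg (D.simple (ρ i))) : Fˣ) : F) = (c i)⁻¹ := by
    intro i
    rw [hχ.1 _ (hF.simple_lt _ (ρ i).2), Units.val_inv_eq_inv_val, hχs]
  set d := diagAut hD hF χ hχ with hd'
  -- the graph automorphism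
  set g : ↥(D.group F) ≃* ↥(D.group F) := f.symm.trans (θ'.trans d.symm) with hg
  refine ⟨c₀⁻¹, d, g, f, isDiagonalAut_diagAut hD hF χ hχ, ?_, ⟨σ₀, hf⟩, ?_⟩
  · -- `g` is a graph automorphism
    have hfx : ∀ (r : ℕ) (hr : r < D.nroots) (t : F), f (xG hF r t) = xG hF r (σ₀ t) := by
      intro r hr t
      apply Subtype.ext
      apply Units.ext
      exact hf (xG hF r t) r t hr rfl
    have hfs : ∀ (r : ℕ) (hr : r < D.nroots) (t : F), f.symm (xG hF r t) = xG hF r (σ₀.symm t) := by
      intro r hr t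
      rw [MulEquiv.symm_apply_eq, hfx r hr, RingEquiv.apply_symm_apply]
    have hds : ∀ (r : ℕ) (hr : r < D.nroots) (t : F),
        d.symm (xG hF r (((χ r : Fˣ) : F) * t)) = xG hF r t := by
      intro r hr t
      rw [MulEquiv.symm_apply_eq, hd', diagAut_xG hD hF χ hχ r hr t]
    refine ⟨ρ, hρ, fun g₀ i t => ⟨fun h0 => ?_, fun h0 => ?_⟩⟩
    · have e0 : g₀ = xG hF (D.simple i) t := Subtype.ext (Units.ext h0)
      have e1 : g g₀ = xG hF (D.simple (ρ i)) (t ^ D.graphExp (ringChar F) i (ρ i)) := by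
        rw [e0, hg]
        show d.symm (θ' (f.symm (xG hF (D.simple i) t))) = _
        rw [hfs _ (hF.simple_lt _ i.2), hθX, hσ, RingEquiv.apply_symm_apply, hex, ← hχs i,
          hds _ (hF.simple_lt _ (ρ i).2)]
      rw [e1]
      rfl
    · have e0 : g₀ = xG hF (D.neg (D.simple i)) t := Subtype.ext (Units.ext h0)
      have e1 : g g₀ = xG hF (D.neg (D.simple (ρ i))) (t ^ D.graphExp (ringChar F) i (ρ i)) := by
        rw [e0, hg]
        show d.symm (θ' (f.symm (xG hF (D.neg (D.simple i)) t))) = _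
        rw [hfs _ (hF.neg_simple_lt _ i.2), hθY, hσ, RingEquiv.apply_symm_apply, hex, ← hχn i,
          hds _ (hF.neg_simple_lt _ (ρ i).2)]
      rw [e1]
      rfl
  · intro y
    have h1 : d (g (f y)) = θ' y := by
      rw [hg]
      show d (d.symm (θ' (f.symm (f y)))) = θ' y
      rw [MulEquiv.symm_apply_apply, MulEquiv.apply_symm_apply]
    rw [h1, hθ']
    show θ y = c₀⁻¹ * (c₀ * θ y * c₀⁻¹) * c₀⁻¹⁻¹
    group

end Cfsg.Agent.Helper6.AutMain

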