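import Mathlib
import Cfsg.Agent.Lib.Helper10.TMDefs

/-!
# S2930 piece IMP3MAIN, core (helper6): `RStab (Rz ζ)` is a coatom of `Alt n`, with the statements of the pieces
NOTIN, IMP3MEM, IMP3TRANS, IMP3BLK as hypotheses.
-/

set_option autoImplicit false
set_option linter.unusedSectionVars false
set_option linter.unusedVariables false

namespace Cfsg.Agent.Helper10.TM

open Equiv Equiv.Perm Cfsg.Agent.Helper11.AutAlt
open scoped Pointwise

variable {n : ℕ}

/-- IMP3MAIN, core -/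
theorem imp3main_core (hn : 12 ≤ n) (ζ : Perm (Fin n)) (hζ : ζ ^ 3 = 1) (hfp : ∀ x, ζ x ≠ x)
    (hnot : ∀ x u v : Fin n, x ≠ u → x ≠ v → u ≠ v → ζ x ≠ x → ¬ Rz ζ x u → v ≠ ζ x →
      c3 x u v ∉ RStabP (Rz ζ))
    (htz : ∀ x, c3 x (ζ x) (ζ (ζ x)) ∈ RStabP (Rz ζ) ⊓ alternatingGroup (Fin n))
    (hbb : ∀ x y w, ¬ Rz ζ x y → ¬ Rz ζ x w → ¬ Rz ζ y w →
      bb ζ x y w ∈ RStabP (Rz ζ) ⊓ alternatingGroup (Fin n))
    (htr : ∀ K : Subgroup (Perm (Fin n)), (∀ x, c3 x (ζ x) (ζ (ζ x)) ∈ K) →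
      (∀ x y w, ¬ Rz ζ x y → ¬ Rz ζ x w → ¬ Rz ζ y w → bb ζ x y w ∈ K) →
      MulAction.IsPretransitive ↥K (Fin n))
    (hblk : ∀ K : Subgroup (Perm (Fin n)), (∀ x, c3 x (ζ x) (ζ (ζ x)) ∈ K) →
      (∀ x y w, ¬ Rz ζ x y → ¬ Rz ζ x w → ¬ Rz ζ y w → bb ζ x y w ∈ K) →
      ∀ B : Set (Fin n), MulAction.IsBlock ↥K B → ¬ B.Subsingleton → B ≠ Set.univ →
        K ≤ RStabP (Rz ζ)) :
    IsCoatom (RStab (Rz ζ)) := by
  -- facts on `ζ`
  have hz3 : ∀ x, ζ (ζ (ζ x)) = x := by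
    intro x
    have h : (ζ ^ 3) x = x := by rw [hζ]; rfl
    have e : (ζ ^ 3) x = ζ (ζ (ζ x)) := rfl
    rw [← e, h]
  have hzz : ∀ x, ζ (ζ x) ≠ x := by
    intro x h
    apply hfp x
    have h3 := hz3 x
    rw [h] at h3
    exact h3
  have hn0 : 0 < n := by omega
  let x : Fin n := ⟨0, hn0⟩
  constructor
  · -- `≠ ⊤`
    intro htop
    have hex : ∃ u : Fin n, ¬ Rz ζ x u := by
      by_contra hcon
      push Not at hcon
      have hsub : (Finset.univ : Finset (Fin n)) ⊆ {x, ζ x, ζ (ζ x)} := by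
        intro u _
        rcases hcon u with h | h | h <;> simp [h]
      have h1 := Finset.card_le_card hsub
      have h3 : ({x, ζ x, ζ (ζ x)} : Finset (Fin n)).card ≤ 3 := Finset.card_le_three
      rw [Finset.card_univ, Fintype.card_fin] at h1
      omega
    obtain ⟨u, hu⟩ := hex
    have hxu : x ≠ u := fun h => hu (Or.inl h.symm)
    have hxv : x ≠ ζ (ζ x) := fun h => hzz x h.symm
    have huv : u ≠ ζ (ζ x) := fun h => hu (Or.inr (Or.inr h))
    have hv : ζ (ζ x) ≠ ζ x := hfp (ζ x)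
    have hnm := hnot x u (ζ (ζ x)) hxu hxv huv (hfp x) hu hv
    have h3 : (c3 x u (ζ (ζ x))).IsThreeCycle := c3_isThreeCycle hxu hxv huv
    have hmem : (⟨c3 x u (ζ (ζ x)), h3.mem_alternatingGroup⟩ : Alt n) ∈ RStab (Rz ζ) := by
      rw [htop]
      exact Subgroup.mem_top _
    exact hnm hmem
  · intro K' hlt
    set K : Subgroup (Perm (Fin n)) := K'.map (alternatingGroup (Fin n)).subtype with hK
    have hmemK : ∀ g : Perm (Fin n), g ∈ RStabP (Rz ζ) ⊓ alternatingGroup (Fin n) → g ∈ K := by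
      rintro g ⟨hg1, hg2⟩
      refine ⟨⟨g, hg2⟩, hlt.le ?_, rfl⟩
      exact hg1
    have hT : ∀ x, c3 x (ζ x) (ζ (ζ x)) ∈ K := fun x => hmemK _ (htz x)
    have hB : ∀ x y w, ¬ Rz ζ x y → ¬ Rz ζ x w → ¬ Rz ζ y w → bb ζ x y w ∈ K :=
      fun x y w h1 h2 h3 => hmemK _ (hbb x y w h1 h2 h3)
    have htrans : MulAction.IsPretransitive ↥K (Fin n) := htr K hT hB
    have hprim : MulAction.IsPreprimitive ↥K (Fin n) :=
      { toIsPretransitive := htrans
        isTrivialBlock_of_isBlock := by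
          intro B hBl
          by_contra hnt
          unfold MulAction.IsTrivialBlock at hnt
          push Not at hnt
          have hle := hblk K hT hB B hBl (Set.not_subsingleton_iff.2 hnt.1) hnt.2
          have hK'le : K' ≤ RStab (Rz ζ) := by
            intro k hk
            have hkK : (k : Perm (Fin n)) ∈ K := ⟨k, hk, rfl⟩
            exact hle hkK
          exact lt_irrefl _ (lt_of_lt_of_le hlt hK'le) }
    have h3 : (c3 x (ζ x) (ζ (ζ x))).IsThreeCycle :=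
      c3_isThreeCycle (hfp x).symm (hzz x).symm (hfp (ζ x)).symm
    have hJ := Equiv.Perm.alternatingGroup_le_of_isPreprimitive_of_isThreeCycle_mem hprim h3 (hT x)
    rw [eq_top_iff]
    intro k _
    have hk : (k : Perm (Fin n)) ∈ K := hJ k.2
    obtain ⟨k', hk', hkk⟩ := hk
    have : k' = k := Subtype.ext hkk
    rwa [← this]

end Cfsg.Agent.Helper10.TM
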