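import Mathlib
import Cfsg.Agent.Lib.Helper6.TMIMP3MAINCore
import Cfsg.Agent.Lib.Helper21.TMRZ
import Cfsg.Agent.Lib.Helper12.TMIMP3MEM
import Cfsg.Agent.Lib.Helper12.TMIMP3TRANS
import Cfsg.Agent.Lib.Helper10.TMIMP3BLK

/-!
# S2930 piece IMP3MAIN (helper6): `isCoatom_RStab_Rz`.
-/

set_option autoImplicit false

namespace Cfsg.Agent.Helper10.TM

open Equiv Equiv.Perm Cfsg.Agent.Helper11.AutAlt
open scoped Pointwise

variable {n : ℕ}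

/-- IMP3MAIN -/
theorem isCoatom_RStab_Rz (hn : 12 ≤ n) (ζ : Perm (Fin n)) (hζ : ζ ^ 3 = 1)
    (hfp : ∀ x, ζ x ≠ x) : IsCoatom (RStab (Rz ζ)) :=
  imp3main_core hn ζ hζ hfp
    (fun x u v hxu hxv huv hzx hu hv => c3_not_mem_RStabP ζ hζ x u v hxu hxv huv hzx hu hv)
    (fun x => tz_mem ζ hζ hfp x)
    (fun x y w h1 h2 h3 => bb_mem ζ hζ hfp x y w h1 h2 h3)
    (fun K hT hB => imp3_trans ζ hζ hfp (by omega) K hT hB)
    (fun K hT hB B hBl h1 h2 => imp3_blk ζ hζ hfp hn K hT hB B hBl h1 h2)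

end Cfsg.Agent.Helper10.TM
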