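import Mathlib
import Cfsg.Agent.Lib.Helper10.EODefs

/-!
# S2264 piece EO-DEGSUM (helper6)
-/

set_option autoImplicit false

open Polynomial

namespace Cfsg.Agent.Helper10.EO

section poly
variable {F : Type*} [Field F]

theorem natDegree_prod_eq_sum [DecidableEq F[X]] (s : Multiset F[X]) (hs : ∀ f ∈ s, f.Monic) :
    s.prod.natDegree = ∑ f ∈ s.toFinset, s.count f * f.natDegree := by
  rw [Polynomial.natDegree_multiset_prod_of_monic s hs]
  rw [Finset.sum_multiset_map_count]
  simp [smul_eq_mul]

end poly

end Cfsg.Agent.Helper10.EO
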