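import Mathlib
import Cfsg.Agent.Lib.Helper10.EODefs

/-!
# S2264 piece EO-DVDA (helper6)
-/

set_option autoImplicit false

open Polynomial

namespace Cfsg.Agent.Helper10.EO

section poly
variable {F : Type*} [Field F]

theorem irreducible_dvd_X_pow_sub_one [Fintype F] (f : F[X]) (hf : f.Monic) (hirr : Irreducible f)
    (hf0 : f.coeff 0 ≠ 0) :
    f ∣ X ^ (Fintype.card F ^ f.natDegree - 1) - 1 := by
  have _ : Fact (Irreducible f) := ⟨hirr⟩
  have hne : f ≠ 0 := hirr.ne_zero
  let K := AdjoinRoot f
  let pb := AdjoinRoot.powerBasis hne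
  have hfin : Module.Finite F K := pb.finite
  have _ : Finite K := Module.finite_of_finite F
  let _ : Fintype K := Fintype.ofFinite K
  have hrank : Module.finrank F K = f.natDegree := by
    rw [pb.finrank]; exact AdjoinRoot.powerBasis_dim hne
  have hcard : Fintype.card K = Fintype.card F ^ f.natDegree := by
    rw [← hrank]; exact Module.card_eq_pow_finrank
  have hroot_ne : (AdjoinRoot.root f) ≠ 0 := by
    intro h0
    -- root = mk X = 0 → f ∣ X
    have : AdjoinRoot.mk f X = 0 := by simpa using h0
    rw [AdjoinRoot.mk_eq_zero] at this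
    obtain ⟨g, hg⟩ := this
    have := congrArg (fun p => p.coeff 0) hg
    simp only [coeff_X_zero, mul_coeff_zero] at this
    -- 0 = f.coeff 0 * g.coeff 0; but need f.coeff 0 ≠ 0 contradiction: use degrees
    -- X = f * g, X irreducible, f not unit → g unit → f associated X → f.coeff 0 = 0
    have hX : Irreducible (X : F[X]) := Polynomial.irreducible_X
    rcases hX.isUnit_or_isUnit hg with h | h
    · exact hirr.not_isUnit h
    · obtain ⟨c, hc, rfl⟩ := Polynomial.isUnit_iff.mp h
      have h2 := congrArg (fun p => p.coeff 0) hg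
      simp only [coeff_X_zero, coeff_mul_C] at h2
      have hc0 : c ≠ 0 := hc.ne_zero
      exact hf0 (by
        rcases mul_eq_zero.mp h2.symm with h3 | h3
        · exact h3
        · exact absurd h3 hc0)
  have hpow : (AdjoinRoot.root f) ^ (Fintype.card K - 1) = 1 :=
    FiniteField.pow_card_sub_one_eq_one _ hroot_ne
  rw [hcard] at hpow
  rw [← AdjoinRoot.mk_eq_zero]
  simp only [map_sub, map_pow, AdjoinRoot.mk_X, map_one]
  rw [hpow, sub_self]

end poly

end Cfsg.Agent.Helper10.EO
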