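import Mathlib
import Cfsg.Agent.Lib.Helper10.PUDefs

/-!
# S2263 PIECE PU-DVDB (helper6, for helper10): a `dagger σ`-fixed monic irreducible polynomial over
`F_{q^2}` (`σ x = x^q`) has odd degree `e` and divides `X^(q^e+1) - 1`.
-/

set_option autoImplicit false
set_option linter.unusedVariables false

namespace Cfsg.Agent.Helper10.PU

open Polynomial Matrix
open Cfsg.Agent.Helper10.EO (star)

section poly
variable {F : Type*} [Field F]

/-- `star g = f` and `g` vanishes at `b ≠ 0`: `f` vanishes at `b⁻¹`. -/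
theorem pu_dvdb_inv_root {K : Type*} [Field K] [Algebra F K] (g f : F[X])
    (hstar : star g = f) (b : K) (hb0 : b ≠ 0) (hb : aeval b g = 0) : aeval b⁻¹ f = 0 := by
  let _inst : Invertible b := invertibleOfNonzero hb0
  have h1 : eval₂ (algebraMap F K) (⅟b) (reverse g) = 0 :=
    (eval₂_reverse_eq_zero_iff (algebraMap F K) b g).mpr (by rwa [aeval_def] at hb)
  rw [invOf_eq_inv] at h1
  rw [← hstar]
  unfold Cfsg.Agent.Helper10.EO.star
  rw [aeval_def, eval₂_mul, h1, mul_zero]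

/-- in characteristic `p`, `x ^ p ^ k = 1` forces `x = 1`. -/
theorem pu_dvdb_pow_eq_one {K : Type*} [Field K] (p : ℕ) [Fact p.Prime] [CharP K p] (k : ℕ)
    (x : K) (hx : x ^ p ^ k = 1) : x = 1 := by
  have h := sub_pow_char_pow (R := K) x 1 k (p := p)
  rw [hx, one_pow, sub_self] at h
  have hpk : p ^ k ≠ 0 := (pow_pos (Fact.out : p.Prime).pos k).ne'
  exact sub_eq_zero.mp ((pow_eq_zero_iff hpk).mp h)

/-- PIECE PU-DVDB. -/
theorem dagger_fixed_irreducible [Fintype F] (q : ℕ) (hF : Fintype.card F = q ^ 2) (σ : F →+* F)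
    (hσ : ∀ x, σ x = x ^ q) (f : F[X]) (hf : f.Monic) (hirr : Irreducible f)
    (hf0 : f.coeff 0 ≠ 0) (hdag : dagger σ f = f) :
    Odd f.natDegree ∧ f ∣ X ^ (q ^ f.natDegree + 1) - 1 := by
  classical
  -- the characteristic and `q = p ^ k`
  obtain ⟨p, hchar⟩ := CharP.exists F
  obtain ⟨n, hp, hcard⟩ := FiniteField.card F p
  have hpf : Fact p.Prime := ⟨hp⟩
  obtain ⟨k, -, hqk⟩ : ∃ k ≤ (n : ℕ), q = p ^ k := by
    apply (Nat.dvd_prime_pow hp).1
    rw [← hcard, hF]
    exact Dvd.intro_left (q ^ 1) (by ring)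
  -- the field `L = F[X]/(f)`
  have hfact : Fact (Irreducible f) := ⟨hirr⟩
  have hfinmod := hf.finite_adjoinRoot
  have hfinK : Finite (AdjoinRoot f) := Module.finite_of_finite F
  have hcharL : CharP (AdjoinRoot f) p :=
    charP_of_injective_algebraMap (algebraMap F (AdjoinRoot f)).injective p
  let pB := AdjoinRoot.powerBasis hirr.ne_zero
  have hfr : Module.finrank F (AdjoinRoot f) = f.natDegree := by
    rw [pB.finrank, AdjoinRoot.powerBasis_dim]
  have hmin : minpoly F (AdjoinRoot.root f) = f := by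
    rw [AdjoinRoot.minpoly_root hirr.ne_zero, hf.leadingCoeff, inv_one, C_1, mul_one]
  have hroot0 : aeval (AdjoinRoot.root f) f = 0 := by
    rw [AdjoinRoot.aeval_eq, AdjoinRoot.mk_self]
  have hα0 : AdjoinRoot.root f ≠ 0 := by
    intro h0
    rw [h0] at hroot0
    rw [← coeff_zero_eq_aeval_zero'] at hroot0
    exact hf0 ((map_eq_zero (algebraMap F (AdjoinRoot f))).mp hroot0)
  set α : AdjoinRoot f := AdjoinRoot.root f with hα
  -- `f.map σ` vanishes at `α ^ q`
  have hcomp : (algebraMap F (AdjoinRoot f)).comp σ =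
      (iterateFrobenius (AdjoinRoot f) p k).comp (algebraMap F (AdjoinRoot f)) := by
    ext x
    simp only [RingHom.comp_apply, iterateFrobenius_def, hσ, map_pow, hqk]
  have hrootq : aeval (α ^ q) (f.map σ) = 0 := by
    rw [aeval_def, eval₂_map, hcomp]
    have h1 : α ^ q = iterateFrobenius (AdjoinRoot f) p k α := by
      rw [iterateFrobenius_def, hqk]
    rw [h1, ← hom_eval₂, ← aeval_def, hroot0, map_zero]
  have hαq0 : α ^ q ≠ 0 := pow_ne_zero _ hα0
  have hroot : aeval (α ^ q)⁻¹ f = 0 :=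
    pu_dvdb_inv_root (f.map σ) f hdag _ hαq0 hrootq
  obtain ⟨τ, hτ⟩ := minpoly.exists_algEquiv_of_root' (K := F) (L := AdjoinRoot f)
    (x := (α ^ q)⁻¹) (y := α)
    (Algebra.IsAlgebraic.isAlgebraic _) (by rw [hmin]; exact hroot)
  obtain ⟨⟨j, hj⟩, hjτ⟩ :=
    (FiniteField.bijective_frobeniusAlgEquivOfAlgebraic_pow F (AdjoinRoot f)).2 τ
  simp only at hjτ
  rw [hfr] at hj
  -- `α ^ (q ^ (2 j)) = (α ^ q)⁻¹`
  have h1 : α ^ ((q ^ 2) ^ j) = (α ^ q)⁻¹ := by
    rw [← hτ, ← hjτ, AlgEquiv.coe_pow, FiniteField.coe_frobeniusAlgEquivOfAlgebraic, pow_iterate,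
      hF]
  have h1' : α ^ ((q ^ 2) ^ j) * α ^ q = 1 := by
    rw [h1]; exact inv_mul_cancel₀ hαq0
  -- an odd `m` with `α ^ (q ^ m) * α = 1`
  obtain ⟨m, hmodd, hm⟩ : ∃ m, Odd m ∧ α ^ (q ^ m) * α = 1 := by
    rcases Nat.eq_zero_or_pos j with hj0 | hjpos
    · refine ⟨1, odd_one, ?_⟩
      rw [hj0, pow_zero, pow_one] at h1'
      rw [pow_one, mul_comm]; exact h1'
    · refine ⟨2 * j - 1, ⟨j - 1, by omega⟩, ?_⟩
      apply pu_dvdb_pow_eq_one p k
      rw [← hqk, mul_pow, ← pow_mul, ← pow_succ, ← h1', ← pow_mul]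
      congr 3
      omega
  have hminv : α ^ (q ^ m) = α⁻¹ := eq_inv_of_mul_eq_one_left hm
  -- `Frob_F ^ m` fixes `α`
  have h2 : α ^ (Fintype.card F ^ m) = α := by
    rw [hF, ← pow_mul, two_mul, pow_add, pow_mul, hminv, inv_pow, hminv, inv_inv]
  have hpowgen : ∀ N : ℕ, α ^ (Fintype.card F ^ N) = α →
      (FiniteField.frobeniusAlgEquivOfAlgebraic F (AdjoinRoot f)) ^ N = 1 := by
    intro N hN
    apply AlgEquiv.coe_toAlgHom_injective
    apply pB.algHom_ext
    simp only [AlgEquiv.coe_toAlgHom, AlgEquiv.coe_pow, AlgEquiv.one_apply,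
      FiniteField.coe_frobeniusAlgEquivOfAlgebraic, pow_iterate]
    rw [AdjoinRoot.powerBasis_gen hirr.ne_zero]
    exact hN
  have hord : orderOf (FiniteField.frobeniusAlgEquivOfAlgebraic F (AdjoinRoot f)) =
      f.natDegree := by
    rw [FiniteField.orderOf_frobeniusAlgEquivOfAlgebraic, hfr]
  have hdvd : f.natDegree ∣ m := by
    rw [← hord]
    exact orderOf_dvd_of_pow_eq_one (hpowgen m h2)
  obtain ⟨s, hs⟩ := hdvd
  have heodd : Odd f.natDegree := by
    rw [hs] at hmodd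
    exact (Nat.odd_mul.mp hmodd).1
  have hsodd : Odd s := by
    rw [hs] at hmodd
    exact (Nat.odd_mul.mp hmodd).2
  refine ⟨heodd, ?_⟩
  obtain ⟨t, ht⟩ := hsodd
  -- `α ^ (card F ^ (e * t)) = α`
  have hfix : α ^ (Fintype.card F ^ (f.natDegree * t)) = α := by
    have h3 : (FiniteField.frobeniusAlgEquivOfAlgebraic F (AdjoinRoot f)) ^ (f.natDegree * t)
        = 1 := by
      rw [pow_mul, ← hord, pow_orderOf_eq_one, one_pow]
    have h4 := congrArg (fun φ : AdjoinRoot f ≃ₐ[F] AdjoinRoot f => φ α) h3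
    simp only [AlgEquiv.coe_pow, AlgEquiv.one_apply,
      FiniteField.coe_frobeniusAlgEquivOfAlgebraic, pow_iterate] at h4
    exact h4
  have hqe : α ^ (q ^ m) = α ^ (q ^ f.natDegree) := by
    have hexp : q ^ m = (q ^ 2) ^ (f.natDegree * t) * q ^ f.natDegree := by
      rw [← pow_mul, ← pow_add]
      congr 1
      rw [hs, ht]; ring
    rw [hexp, pow_mul, ← hF, hfix]
  have hdvd2 : minpoly F α ∣ X ^ (q ^ f.natDegree + 1) - 1 := by
    apply minpoly.dvd
    rw [map_sub, map_pow, aeval_X, map_one, pow_succ, ← hqe, hm, sub_self]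
  rwa [hmin] at hdvd2

end poly

end Cfsg.Agent.Helper10.PU
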