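import Mathlib

/-!
Two homomorphic images of a group `A` whose kernels are central: if `θ : A → B` is onto a simple group with
kernel the centre of `A`, and `φ : A → G` has non-commutative image, then `φ(A)/Z(φ(A)) ≅ B`.
-/

set_option autoImplicit false

namespace Cfsg.Agent.Helper6.CQ

variable {A B G : Type*} [Group A] [Group B] [Group G]

/-- the kernel of a homomorphism with non-commutative image lies in the kernel of `θ` -/
theorem ker_le_ker [IsSimpleGroup B] (θ : A →* B) (hθ : Function.Surjective θ)
    (hker : θ.ker ≤ Subgroup.center A) (φ : A →* G) (x y : A) (hxy : φ x * φ y ≠ φ y * φ x) :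
    φ.ker ≤ θ.ker := by
  have hN : (φ.ker.map θ).Normal := Subgroup.Normal.map inferInstance θ hθ
  rcases hN.eq_bot_or_eq_top with h | h
  · intro a ha
    rw [MonoidHom.mem_ker]
    have : θ a ∈ φ.ker.map θ := Subgroup.mem_map_of_mem θ ha
    rw [h, Subgroup.mem_bot] at this
    exact this
  · exfalso
    -- every element is congruent to a central one modulo `ker φ`
    have key : ∀ a : A, ∃ z ∈ Subgroup.center A, φ a = φ z := by
      intro a
      have : θ a ∈ φ.ker.map θ := by
        rw [h]
        trivial
      obtain ⟨k, hk, hka⟩ := this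
      refine ⟨a * k⁻¹, hker ?_, ?_⟩
      · rw [MonoidHom.mem_ker, map_mul, map_inv, hka, mul_inv_cancel]
      · rw [map_mul, map_inv, MonoidHom.mem_ker.1 hk, inv_one, mul_one]
    obtain ⟨z, hz, hxz⟩ := key x
    apply hxy
    rw [hxz, ← map_mul, ← map_mul, (Subgroup.mem_center_iff.1 hz y).symm]

/-- the quotient of the image of `φ` by its centre -/
theorem nonempty_equiv (θ : A →* B) (hθ : Function.Surjective θ)
    (hker : θ.ker = Subgroup.center A) (hB : Subgroup.center B = ⊥) (φ : A →* G) (hφ : φ.ker ≤ θ.ker) :
    Nonempty (B ≃* ↥φ.range ⧸ Subgroup.center ↥φ.range) := by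
  -- the induced homomorphism `ψ : φ(A) → B`
  have hsurj : Function.Surjective φ.rangeRestrict := φ.rangeRestrict_surjective
  have hker' : φ.rangeRestrict.ker ≤ θ.ker := by
    rw [MonoidHom.ker_rangeRestrict]
    exact hφ
  let ψ : ↥φ.range →* B := (φ.rangeRestrict.liftOfSurjective hsurj) ⟨θ, hker'⟩
  have hψ : ∀ a : A, ψ (φ.rangeRestrict a) = θ a := by
    intro a
    exact MonoidHom.liftOfRightInverse_comp_apply _ _ _ ⟨θ, hker'⟩ a
  have hψsurj : Function.Surjective ψ := by
    intro b
    obtain ⟨a, rfl⟩ := hθ b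
    exact ⟨φ.rangeRestrict a, hψ a⟩
  have hψker : ψ.ker = Subgroup.center ↥φ.range := by
    ext y
    obtain ⟨a, rfl⟩ := hsurj y
    rw [MonoidHom.mem_ker, hψ, Subgroup.mem_center_iff]
    constructor
    · intro ha
      have hz : a ∈ Subgroup.center A := by
        rw [← hker, MonoidHom.mem_ker]
        exact ha
      intro y'
      obtain ⟨a', rfl⟩ := hsurj y'
      rw [← map_mul, ← map_mul, Subgroup.mem_center_iff.1 hz a']
    · intro hc
      have hcen : θ a ∈ Subgroup.center B := by
        rw [Subgroup.mem_center_iff]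
        intro b
        obtain ⟨a', rfl⟩ := hθ b
        have h1 := hc (φ.rangeRestrict a')
        rw [← map_mul, ← map_mul] at h1
        have h2 : (a' * a) * (a * a')⁻¹ ∈ θ.ker := by
          apply hker'
          rw [MonoidHom.mem_ker, map_mul, map_inv, h1, mul_inv_cancel]
        rw [MonoidHom.mem_ker, map_mul, map_inv, mul_inv_eq_one] at h2
        rw [← map_mul, ← map_mul, h2]
      rw [hB, Subgroup.mem_bot] at hcen
      exact hcen
  exact ⟨((QuotientGroup.quotientMulEquivOfEq hψker.symm).trans
    (QuotientGroup.quotientKerEquivOfSurjective ψ hψsurj)).symm⟩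

end Cfsg.Agent.Helper6.CQ
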