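import Mathlib
import Cfsg.Prelude.Def_Classical

/-!
The orthogonal group of the hyperbolic form `Σ xᵢ yᵢ` on `F^(n+n)`: the long root elements
`E a b c = 1 + c (e_{ab} - e_{b̄ā})`, the diagonal elements `d_j(s)` and the reflection `σ_j`, with their action
on vectors.
-/

set_option autoImplicit false

namespace Cfsg.Agent.Helper6.OrthE

open Matrix

variable {n : ℕ} {F : Type*} [Field F]

/-- the opposite index -/
def bar (a : Fin n ⊕ Fin n) : Fin n ⊕ Fin n := Sum.swap a

/-- the pair index -/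
def idx (a : Fin n ⊕ Fin n) : Fin n := Sum.elim id id a

@[simp] theorem bar_bar (a : Fin n ⊕ Fin n) : bar (bar a) = a := Sum.swap_swap a

@[simp] theorem bar_inl (i : Fin n) : bar (Sum.inl i : Fin n ⊕ Fin n) = Sum.inr i := rfl

@[simp] theorem bar_inr (i : Fin n) : bar (Sum.inr i : Fin n ⊕ Fin n) = Sum.inl i := rfl

@[simp] theorem idx_inl (i : Fin n) : idx (Sum.inl i : Fin n ⊕ Fin n) = i := rfl

@[simp] theorem idx_inr (i : Fin n) : idx (Sum.inr i : Fin n ⊕ Fin n) = i := rfl

@[simp] theorem idx_bar (a : Fin n ⊕ Fin n) : idx (bar a) = idx a := by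
  rcases a with i | i <;> rfl

theorem bar_ne (a : Fin n ⊕ Fin n) : bar a ≠ a := by
  rcases a with i | i <;> simp

theorem ne_bar (a : Fin n ⊕ Fin n) : a ≠ bar a := fun h => bar_ne a h.symm

theorem bar_injective : Function.Injective (bar : Fin n ⊕ Fin n → Fin n ⊕ Fin n) :=
  Sum.swap_leftInverse.injective

@[simp] theorem bar_inj {a b : Fin n ⊕ Fin n} : bar a = bar b ↔ a = b := bar_injective.eq_iff

theorem bar_eq_iff {a b : Fin n ⊕ Fin n} : bar a = b ↔ a = bar b := by
  constructor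
  · rintro rfl
    simp
  · rintro rfl
    simp

theorem eq_or_eq_bar_of_idx {a b : Fin n ⊕ Fin n} (h : idx a = idx b) : a = b ∨ a = bar b := by
  rcases a with i | i <;> rcases b with j | j <;> simp_all

/-- the hyperbolic quadratic form -/
theorem quadFormPlus_apply (v : Fin n ⊕ Fin n → F) :
    Cfsg.quadFormPlus n F v = ∑ i : Fin n, v (Sum.inl i) * v (Sum.inr i) := rfl

/-- the polar form -/
def pol (u v : Fin n ⊕ Fin n → F) : F := ∑ c : Fin n ⊕ Fin n, u c * v (bar c)

theorem Q_add (u v : Fin n ⊕ Fin n → F) :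
    Cfsg.quadFormPlus n F (u + v) = Cfsg.quadFormPlus n F u + Cfsg.quadFormPlus n F v + pol u v := by
  unfold pol
  rw [Fintype.sum_sum_type]
  simp only [quadFormPlus_apply, Pi.add_apply, bar_inl, bar_inr]
  rw [← Finset.sum_add_distrib, ← Finset.sum_add_distrib, ← Finset.sum_add_distrib]
  apply Finset.sum_congr rfl
  intro i _
  ring

theorem Q_smul (c : F) (v : Fin n ⊕ Fin n → F) :
    Cfsg.quadFormPlus n F (c • v) = c ^ 2 * Cfsg.quadFormPlus n F v := by
  simp only [quadFormPlus_apply, Pi.smul_apply, smul_eq_mul]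
  rw [Finset.mul_sum]
  apply Finset.sum_congr rfl
  intro i _
  ring

theorem pol_single_right (u : Fin n ⊕ Fin n → F) (d : Fin n ⊕ Fin n) :
    pol u (Pi.single d 1) = u (bar d) := by
  unfold pol
  rw [Finset.sum_eq_single (bar d)]
  · simp
  · intro c _ hc
    rw [Pi.single_apply, if_neg, mul_zero]
    intro h
    exact hc (bar_eq_iff.1 h)
  · intro h
    exact absurd (Finset.mem_univ _) h

theorem pol_add_left (u u' v : Fin n ⊕ Fin n → F) : pol (u + u') v = pol u v + pol u' v := by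
  unfold pol
  rw [← Finset.sum_add_distrib]
  apply Finset.sum_congr rfl
  intro c _
  simp only [Pi.add_apply]
  ring

theorem pol_smul_left (c : F) (u v : Fin n ⊕ Fin n → F) : pol (c • u) v = c * pol u v := by
  unfold pol
  rw [Finset.mul_sum]
  apply Finset.sum_congr rfl
  intro d _
  simp only [Pi.smul_apply, smul_eq_mul]
  ring

theorem pol_comm (u v : Fin n ⊕ Fin n → F) : pol u v = pol v u := by
  unfold pol
  rw [← Equiv.sum_comp (Equiv.sumComm (Fin n) (Fin n))]
  apply Finset.sum_congr rfl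
  intro c _
  rw [Equiv.sumComm_apply]
  show u (bar c) * v (bar (bar c)) = v c * u (bar c)
  rw [bar_bar]
  ring

theorem Q_single (d : Fin n ⊕ Fin n) : Cfsg.quadFormPlus n F (Pi.single d (1 : F)) = 0 := by
  rw [quadFormPlus_apply]
  apply Finset.sum_eq_zero
  intro i _
  rcases d with j | j
  · rw [Pi.single_eq_of_ne (i' := (Sum.inr i : Fin n ⊕ Fin n)) (i := Sum.inl j) (by simp), mul_zero]
  · rw [Pi.single_eq_of_ne (i' := (Sum.inl i : Fin n ⊕ Fin n)) (i := Sum.inr j) (by simp), zero_mul]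

theorem pol_add_right (u v v' : Fin n ⊕ Fin n → F) : pol u (v + v') = pol u v + pol u v' := by
  rw [pol_comm, pol_add_left, pol_comm v, pol_comm v']

theorem pol_smul_right (c : F) (u v : Fin n ⊕ Fin n → F) : pol u (c • v) = c * pol u v := by
  rw [pol_comm, pol_smul_left, pol_comm]

theorem pol_single_single (a d : Fin n ⊕ Fin n) :
    pol (Pi.single a (1 : F)) (Pi.single d 1) = if bar d = a then 1 else 0 := by
  rw [pol_single_right, Pi.single_apply]

/-- the long root element -/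
def eM (a b : Fin n ⊕ Fin n) (c : F) : Matrix (Fin n ⊕ Fin n) (Fin n ⊕ Fin n) F :=
  1 + c • (single a b 1 - single (bar b) (bar a) 1)

theorem eM_mulVec (a b : Fin n ⊕ Fin n) (c : F) (v : Fin n ⊕ Fin n → F) :
    eM a b c *ᵥ v = v + c • (v b • Pi.single a 1 - v (bar a) • Pi.single (bar b) 1) := by
  unfold eM
  rw [add_mulVec, one_mulVec, smul_mulVec, sub_mulVec, single_mulVec_eq, single_mulVec_eq, one_mul, one_mul]

theorem eM_mulVec_apply (a b : Fin n ⊕ Fin n) (c : F) (v : Fin n ⊕ Fin n → F) (x : Fin n ⊕ Fin n) :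
    (eM a b c *ᵥ v) x = v x + c * ((if x = a then v b else 0) - (if x = bar b then v (bar a) else 0)) := by
  rw [eM_mulVec]
  simp only [Pi.add_apply, Pi.smul_apply, Pi.sub_apply, smul_eq_mul, Pi.single_apply, mul_ite, mul_one,
    mul_zero]

theorem eM_zero (a b : Fin n ⊕ Fin n) : eM a b (0 : F) = 1 := by
  unfold eM
  rw [zero_smul, add_zero]

theorem eM_mul (a b : Fin n ⊕ Fin n) (hab : a ≠ b) (c d : F) : eM a b c * eM a b d = eM a b (c + d) := by
  have hsq : (single a b (1 : F) - single (bar b) (bar a) 1) * (single a b 1 - single (bar b) (bar a) 1) = 0 := by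
    rw [sub_mul, mul_sub, mul_sub, single_mul_single_of_ne (h := hab.symm),
      single_mul_single_of_ne (h := ne_bar b), single_mul_single_of_ne (h := bar_ne a),
      single_mul_single_of_ne (h := fun h => hab (bar_injective h))]
    simp
  unfold eM
  rw [mul_add, add_mul, add_mul, one_mul, one_mul, mul_one, smul_mul_smul_comm, hsq, smul_zero, add_zero,
    add_assoc, ← add_smul]

theorem eM_symm (a b : Fin n ⊕ Fin n) (c : F) : eM a b c = eM (bar b) (bar a) (-c) := by
  unfold eM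
  rw [bar_bar, bar_bar, neg_smul, ← smul_neg, neg_sub]

/-- the root elements as invertible matrices -/
def eGL (a b : Fin n ⊕ Fin n) (hab : a ≠ b) (c : F) : GL (Fin n ⊕ Fin n) F :=
  ⟨eM a b c, eM a b (-c), by rw [eM_mul a b hab, add_neg_cancel, eM_zero],
    by rw [eM_mul a b hab, neg_add_cancel, eM_zero]⟩

@[simp] theorem eGL_val (a b : Fin n ⊕ Fin n) (hab : a ≠ b) (c : F) :
    ((eGL a b hab c : GL (Fin n ⊕ Fin n) F) : Matrix (Fin n ⊕ Fin n) (Fin n ⊕ Fin n) F) = eM a b c := rfl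

/-- the root elements are isometries -/
theorem Q_eM (a b : Fin n ⊕ Fin n) (hab : a ≠ b) (c : F) (v : Fin n ⊕ Fin n → F) :
    Cfsg.quadFormPlus n F (eM a b c *ᵥ v) = Cfsg.quadFormPlus n F v := by
  have hz : Cfsg.quadFormPlus n F (v b • Pi.single a (1 : F) + (-v (bar a)) • Pi.single (bar b) 1) = 0 := by
    rw [Q_add, Q_smul, Q_smul, Q_single, Q_single, pol_smul_left, pol_smul_right, pol_single_single, bar_bar,
      if_neg hab.symm]
    ring
  have hp : pol v (v b • Pi.single a (1 : F) + (-v (bar a)) • Pi.single (bar b) 1) = 0 := by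
    rw [pol_add_right, pol_smul_right, pol_smul_right, pol_single_right, pol_single_right, bar_bar]
    ring
  rw [eM_mulVec, sub_eq_add_neg, ← neg_smul, Q_add, Q_smul, hz, pol_smul_right, hp]
  ring

theorem eGL_mem (a b : Fin n ⊕ Fin n) (hab : a ≠ b) (c : F) :
    eGL a b hab c ∈ Cfsg.isometryGroup F (Cfsg.quadFormPlus n F) := by
  intro u _
  exact Q_eM a b hab c u

/-- a matrix is determined by its action on the basis vectors -/
theorem ext_of_single {M N : Matrix (Fin n ⊕ Fin n) (Fin n ⊕ Fin n) F}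
    (h : ∀ x, M *ᵥ Pi.single x 1 = N *ᵥ Pi.single x 1) : M = N := by
  ext i j
  have := congrFun (h j) i
  rwa [mulVec_single_one, mulVec_single_one] at this

theorem eM_single_of_ne (a b : Fin n ⊕ Fin n) (c : F) (x : Fin n ⊕ Fin n) (h1 : x ≠ b) (h2 : x ≠ bar a) :
    eM a b c *ᵥ Pi.single x 1 = Pi.single x 1 := by
  rw [eM_mulVec, Pi.single_eq_of_ne h1.symm, Pi.single_eq_of_ne h2.symm, zero_smul, zero_smul, sub_zero,
    smul_zero, add_zero]

/-- the action on the plane spanned by `δ_a`, `δ_b` -/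
theorem eM_plane (a b : Fin n ⊕ Fin n) (hab : a ≠ b) (hab' : a ≠ bar b) (c x y : F) :
    eM a b c *ᵥ (x • Pi.single a 1 + y • Pi.single b 1) =
      (x + c * y) • Pi.single a 1 + y • Pi.single b 1 := by
  rw [eM_mulVec]
  have h1 : (x • (Pi.single a (1 : F) : Fin n ⊕ Fin n → F) + y • (Pi.single b (1 : F) : Fin n ⊕ Fin n → F)) b
      = y := by
    simp [Pi.single_apply, hab.symm]
  have h2 : (x • (Pi.single a (1 : F) : Fin n ⊕ Fin n → F) + y • (Pi.single b (1 : F) : Fin n ⊕ Fin n → F))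
      (bar a) = 0 := by
    have hb : bar a ≠ b := fun h => hab' (by rw [← h, bar_bar])
    simp [Pi.single_apply, bar_ne a, hb]
  rw [h1, h2, zero_smul, sub_zero, smul_smul, add_smul]
  abel

/-- the action on the plane spanned by `δ_b`, `δ_a` (second coordinate moves) -/
theorem eM_plane' (a b : Fin n ⊕ Fin n) (hab : a ≠ b) (hab' : a ≠ bar b) (c x y : F) :
    eM b a c *ᵥ (x • Pi.single a 1 + y • Pi.single b 1) =
      x • Pi.single a 1 + (y + c * x) • Pi.single b 1 := by
  have hba' : b ≠ bar a := fun h => hab' (by rw [h, bar_bar])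
  rw [add_comm, eM_plane b a hab.symm hba' c y x, add_comm]

/-- the action on the plane spanned by `δ_b̄`, `δ_ā` -/
theorem eM_plane_bar (a b : Fin n ⊕ Fin n) (hab : a ≠ b) (hab' : a ≠ bar b) (c x y : F) :
    eM a b c *ᵥ (x • Pi.single (bar b) 1 + y • Pi.single (bar a) 1) =
      (x - c * y) • Pi.single (bar b) 1 + y • Pi.single (bar a) 1 := by
  have hba' : bar b ≠ bar (bar a) := by
    rw [bar_bar]
    exact fun h => hab' h.symm
  have := eM_plane (bar b) (bar a) (fun h => hab (bar_injective h).symm) hba' (-c) x y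
  rw [← eM_symm] at this
  rw [this]
  congr 2
  ring

theorem eM_plane_bar' (a b : Fin n ⊕ Fin n) (hab : a ≠ b) (hab' : a ≠ bar b) (c x y : F) :
    eM b a c *ᵥ (x • Pi.single (bar b) 1 + y • Pi.single (bar a) 1) =
      x • Pi.single (bar b) 1 + (y - c * x) • Pi.single (bar a) 1 := by
  have hba' : b ≠ bar a := fun h => hab' (by rw [h, bar_bar])
  rw [add_comm, eM_plane_bar b a hab.symm hba' c y x, add_comm]

/-- the diagonal entries of `d_j(s)` -/
def dEnt (j : Fin n) (s : F) (c : Fin n ⊕ Fin n) : F :=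
  if c = Sum.inl j then s else if c = Sum.inr j then s⁻¹ else 1

/-- the diagonal element `d_j(s)` -/
def dM (j : Fin n) (s : F) : Matrix (Fin n ⊕ Fin n) (Fin n ⊕ Fin n) F := diagonal (dEnt j s)

theorem dEnt_ne_zero (j : Fin n) (s : F) (hs : s ≠ 0) (c : Fin n ⊕ Fin n) : dEnt j s c ≠ 0 := by
  unfold dEnt
  split_ifs
  · exact hs
  · exact inv_ne_zero hs
  · exact one_ne_zero

theorem dEnt_bar (j : Fin n) (s : F) (c : Fin n ⊕ Fin n) : dEnt j s (bar c) = (dEnt j s c)⁻¹ := by
  unfold dEnt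
  rcases c with i | i
  · by_cases h : i = j
    · subst h
      simp
    · simp [h]
  · by_cases h : i = j
    · subst h
      simp
    · simp [h]

theorem dEnt_of_idx_ne (j : Fin n) (s : F) (c : Fin n ⊕ Fin n) (h : idx c ≠ j) : dEnt j s c = 1 := by
  unfold dEnt
  rcases c with i | i
  · have : i ≠ j := h
    simp [this]
  · have : i ≠ j := h
    simp [this]

theorem dM_mulVec (j : Fin n) (s : F) (v : Fin n ⊕ Fin n → F) (c : Fin n ⊕ Fin n) :
    (dM j s *ᵥ v) c = dEnt j s c * v c := mulVec_diagonal _ _ _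

theorem dM_mul_inv (j : Fin n) (s : F) (hs : s ≠ 0) : dM j s * dM j s⁻¹ = 1 := by
  unfold dM
  rw [diagonal_mul_diagonal, ← diagonal_one]
  congr 1
  funext c
  unfold dEnt
  split_ifs
  · exact mul_inv_cancel₀ hs
  · rw [inv_inv]
    exact inv_mul_cancel₀ hs
  · simp

/-- the diagonal elements as invertible matrices -/
def dGL (j : Fin n) (s : F) (hs : s ≠ 0) : GL (Fin n ⊕ Fin n) F :=
  ⟨dM j s, dM j s⁻¹, dM_mul_inv j s hs, by
    have := dM_mul_inv j s⁻¹ (inv_ne_zero hs)
    rwa [inv_inv] at this⟩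

@[simp] theorem dGL_val (j : Fin n) (s : F) (hs : s ≠ 0) :
    ((dGL j s hs : GL (Fin n ⊕ Fin n) F) : Matrix (Fin n ⊕ Fin n) (Fin n ⊕ Fin n) F) = dM j s := rfl

theorem Q_dM (j : Fin n) (s : F) (hs : s ≠ 0) (v : Fin n ⊕ Fin n → F) :
    Cfsg.quadFormPlus n F (dM j s *ᵥ v) = Cfsg.quadFormPlus n F v := by
  rw [quadFormPlus_apply, quadFormPlus_apply]
  apply Finset.sum_congr rfl
  intro i _
  rw [dM_mulVec, dM_mulVec]
  have := dEnt_bar j s (Sum.inl i)
  rw [bar_inl] at this
  rw [this]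
  have h0 := dEnt_ne_zero j s hs (Sum.inl i)
  field_simp

theorem dGL_mem (j : Fin n) (s : F) (hs : s ≠ 0) :
    dGL j s hs ∈ Cfsg.isometryGroup F (Cfsg.quadFormPlus n F) := by
  intro u _
  exact Q_dM j s hs u

/-- the reflection swapping `e_j` and `f_j` -/
def sGL (j : Fin n) : GL (Fin n ⊕ Fin n) F := Matrix.GeneralLinearGroup.swap F (Sum.inl j) (Sum.inr j)

theorem sGL_mulVec (j : Fin n) (v : Fin n ⊕ Fin n → F) :
    ((sGL j : GL (Fin n ⊕ Fin n) F) : Matrix (Fin n ⊕ Fin n) (Fin n ⊕ Fin n) F) *ᵥ v =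
      v ∘ Equiv.swap (Sum.inl j) (Sum.inr j) := by
  unfold sGL
  exact swap_mulVec _ _ _

theorem swap_bar (j : Fin n) (c : Fin n ⊕ Fin n) :
    Equiv.swap (Sum.inl j) (Sum.inr j) (bar c) = bar (Equiv.swap (Sum.inl j) (Sum.inr j) c) := by
  rcases c with i | i
  · by_cases h : i = j
    · subst h
      simp
    · rw [bar_inl, Equiv.swap_apply_of_ne_of_ne (by simp [h]) (by simp [h]),
        Equiv.swap_apply_of_ne_of_ne (by simp [h]) (by simp [h]), bar_inl]
  · by_cases h : i = j
    · subst h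
      simp
    · rw [bar_inr, Equiv.swap_apply_of_ne_of_ne (by simp [h]) (by simp [h]),
        Equiv.swap_apply_of_ne_of_ne (by simp [h]) (by simp [h]), bar_inr]

theorem Q_sGL (j : Fin n) (v : Fin n ⊕ Fin n → F) :
    Cfsg.quadFormPlus n F (((sGL j : GL (Fin n ⊕ Fin n) F) : Matrix (Fin n ⊕ Fin n) (Fin n ⊕ Fin n) F) *ᵥ v) =
      Cfsg.quadFormPlus n F v := by
  rw [sGL_mulVec, quadFormPlus_apply, quadFormPlus_apply]
  apply Finset.sum_congr rfl
  intro i _
  simp only [Function.comp_apply]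
  by_cases h : i = j
  · subst h
    rw [Equiv.swap_apply_left, Equiv.swap_apply_right, mul_comm]
  · rw [Equiv.swap_apply_of_ne_of_ne (by simp [h]) (by simp [h]),
      Equiv.swap_apply_of_ne_of_ne (by simp [h]) (by simp [h])]

theorem sGL_mem (j : Fin n) :
    (sGL j : GL (Fin n ⊕ Fin n) F) ∈ Cfsg.isometryGroup F (Cfsg.quadFormPlus n F) := by
  intro u _
  exact Q_sGL j u

end Cfsg.Agent.Helper6.OrthE
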