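import Mathlib
import Cfsg.Prelude.Def_LieTypes
import Cfsg.Prelude.Def_ChevStructure
import Cfsg.Agent.Lib.Helper6.OrthE

/-!
The long root elements of the orthogonal group `O₈⁺` indexed by the roots of `D₄`, with signs matched to the
structure constants of the Chevalley datum: sparse integer matrices and the (kernel-checked) relations.
-/

set_option autoImplicit false
set_option Elab.async false

namespace Cfsg.Agent.Helper6.OrthD4

open Matrix Cfsg Cfsg.Lie Cfsg.Agent.Helper6.OrthE

abbrev I8 := Fin 4 ⊕ Fin 4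

/-- sparse integer matrices -/
abbrev Sp := List (I8 × I8 × ℤ)

section sparse

variable (R : Type*) [CommRing R]

def toMat (L : Sp) : Matrix I8 I8 R := (L.map fun e => single e.1 e.2.1 ((e.2.2 : ℤ) : R)).sum

theorem toMat_nil : toMat R [] = 0 := rfl

theorem toMat_cons (e : I8 × I8 × ℤ) (L : Sp) :
    toMat R (e :: L) = single e.1 e.2.1 ((e.2.2 : ℤ) : R) + toMat R L := by
  unfold toMat
  rw [List.map_cons, List.sum_cons]

theorem toMat_append (L M : Sp) : toMat R (L ++ M) = toMat R L + toMat R M := by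
  unfold toMat
  rw [List.map_append, List.sum_append]

/-- one row of the product -/
def mulRow (e : I8 × I8 × ℤ) (M : Sp) : Sp :=
  M.filterMap fun f => if e.2.1 = f.1 then some (e.1, f.2.1, e.2.2 * f.2.2) else none

def spMul (L M : Sp) : Sp := L.flatMap fun e => mulRow e M

theorem toMat_mulRow (e : I8 × I8 × ℤ) (M : Sp) :
    toMat R (mulRow e M) = single e.1 e.2.1 ((e.2.2 : ℤ) : R) * toMat R M := by
  induction M with
  | nil => simp [mulRow, toMat_nil]
  | cons f M ih =>
    unfold mulRow at ih ⊢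
    rw [List.filterMap_cons, toMat_cons, mul_add, ← ih]
    by_cases h : e.2.1 = f.1
    · rw [if_pos h]
      simp only
      rw [toMat_cons, ← h, single_mul_single_same, Int.cast_mul]
    · rw [if_neg h]
      simp only
      rw [single_mul_single_of_ne (h := h), zero_add]

theorem toMat_spMul (L M : Sp) : toMat R (spMul L M) = toMat R L * toMat R M := by
  induction L with
  | nil => simp [spMul, toMat_nil]
  | cons e L ih =>
    unfold spMul at ih ⊢
    rw [List.flatMap_cons, toMat_append, toMat_mulRow, ih, toMat_cons, add_mul]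

def spSmul (z : ℤ) (L : Sp) : Sp := L.map fun e => (e.1, e.2.1, z * e.2.2)

theorem toMat_spSmul (z : ℤ) (L : Sp) : toMat R (spSmul z L) = ((z : ℤ) : R) • toMat R L := by
  induction L with
  | nil => simp [spSmul, toMat_nil]
  | cons e L ih =>
    unfold spSmul at ih ⊢
    rw [List.map_cons, toMat_cons, toMat_cons, ih, smul_add, smul_single, Int.cast_mul, smul_eq_mul]

def entry (L : Sp) (i j : I8) : ℤ := (L.map fun e => if e.1 = i ∧ e.2.1 = j then e.2.2 else 0).sum

theorem toMat_apply (L : Sp) (i j : I8) : toMat R L i j = ((entry L i j : ℤ) : R) := by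
  induction L with
  | nil => simp [toMat_nil, entry]
  | cons e L ih =>
    unfold entry at ih ⊢
    rw [toMat_cons, Matrix.add_apply, ih, List.map_cons, List.sum_cons, Int.cast_add, single_apply]
    congr 1
    by_cases h : e.1 = i ∧ e.2.1 = j
    · rw [if_pos h, if_pos h]
    · rw [if_neg h, if_neg h, Int.cast_zero]

/-- two sparse matrices with the same entries -/
def eqv (L M : Sp) : Prop := ∀ i j, entry L i j = entry M i j

instance (L M : Sp) : Decidable (eqv L M) := inferInstanceAs (Decidable (∀ _, _))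

theorem toMat_eq_of_eqv {L M : Sp} (h : eqv L M) : toMat R L = toMat R M := by
  ext i j
  rw [toMat_apply, toMat_apply, h i j]

end sparse

/-- the table: for each root `r` the pair `(a, b)` and the sign `ε` with `x_r(t) = 1 + ε t (e_{ab} - e_{b̄ā})` -/
def tab : List (I8 × I8 × ℤ) := [(Sum.inr 1, Sum.inl 0, 1), (Sum.inr 2, Sum.inl 0, 1), (Sum.inl 3, Sum.inl 0, 1), (Sum.inr 3, Sum.inl 0, 1), (Sum.inl 2, Sum.inl 0, -1), (Sum.inl 1, Sum.inl 0, 1), (Sum.inr 2, Sum.inl 1, -1), (Sum.inl 3, Sum.inl 1, -1), (Sum.inr 3, Sum.inl 1, -1), (Sum.inl 2, Sum.inl 1, 1), (Sum.inl 3, Sum.inl 2, 1), (Sum.inr 3, Sum.inl 2, 1), (Sum.inl 2, Sum.inr 3, 1), (Sum.inl 2, Sum.inl 3, 1), (Sum.inl 1, Sum.inl 2, 1), (Sum.inl 1, Sum.inr 3, -1), (Sum.inl 1, Sum.inl 3, -1), (Sum.inl 1, Sum.inr 2, -1), (Sum.inl 0, Sum.inl 1, 1), (Sum.inl 0, Sum.inl 2, -1), (Sum.inl 0, Sum.inr 3, 1), (Sum.inl 0, Sum.inl 3, 1), (Sum.inl 0, Sum.inr 2, 1), (Sum.inl 0, Sum.inr 1, 1)]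

def ent (r : ℕ) : I8 × I8 × ℤ := tab.getD r (Sum.inl 0, Sum.inl 1, 1)

def ra (r : ℕ) : I8 := (ent r).1
def rb (r : ℕ) : I8 := (ent r).2.1
def reps (r : ℕ) : ℤ := (ent r).2.2

/-- the sparse matrix `ε (e_{ab} - e_{b̄ā})` of the root `r` -/
def spA (r : ℕ) : Sp := [(ra r, rb r, reps r), (bar (rb r), bar (ra r), -reps r)]

/-- the check for a pair of roots -/
def chkPair (r s : ℕ) : Bool :=
  decide (eqv (spMul (spMul (spA r) (spA s)) (spA r)) []) &&
  decide (eqv (spMul (spMul (spA s) (spA r)) (spA s)) []) &&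
  ((decide (chevD4.commTerms r s = []) &&
      decide (eqv (spMul (spA r) (spA s)) (spMul (spA s) (spA r)))) ||
    (decide (chevD4.commTerms r s =
        [(((chevD4.commTerms r s).headD (0, 0, 0, 0)).1, ((chevD4.commTerms r s).headD (0, 0, 0, 0)).2.1, 1, 1)]) &&
      decide (((chevD4.commTerms r s).headD (0, 0, 0, 0)).1 < 24) &&
      decide (eqv (spMul (spA r) (spA s)) (spMul (spA s) (spA r) ++
        spSmul ((chevD4.commTerms r s).headD (0, 0, 0, 0)).2.1
          (spA ((chevD4.commTerms r s).headD (0, 0, 0, 0)).1)))))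

def chkAll : Bool :=
  (List.range 24).all fun r =>
    decide (ra r ≠ rb r) && decide (ra r ≠ bar (rb r)) && decide (reps r = 1 ∨ reps r = -1) &&
    decide (eqv (spMul (spA r) (spA r)) []) &&
    (List.range 24).all fun s => decide (s = r) || decide (s = chevD4.neg r) || chkPair r s

theorem chkAll_ok : chkAll = true := by decide +kernel

/-- every admissible pair `(a, b)` belongs to a root -/
def chkCover : Bool :=
  decide (∀ a b : I8, a ≠ b → a ≠ bar b →
    ((List.range 24).any fun r => decide ((ra r = a ∧ rb r = b) ∨ (ra r = bar b ∧ rb r = bar a))) = true)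

theorem chkCover_ok : chkCover = true := by decide +kernel

theorem chk_facts (r : ℕ) (hr : r < 24) :
    ra r ≠ rb r ∧ ra r ≠ bar (rb r) ∧ (reps r = 1 ∨ reps r = -1) ∧ eqv (spMul (spA r) (spA r)) [] ∧
      ∀ s < 24, s ≠ r → s ≠ chevD4.neg r → chkPair r s = true := by
  have h := chkAll_ok
  unfold chkAll at h
  simp only [List.all_eq_true, List.mem_range, Bool.and_eq_true, Bool.or_eq_true, decide_eq_true_eq] at h
  obtain ⟨⟨⟨⟨h1, h2⟩, h3⟩, h4⟩, h5⟩ := h r hr
  refine ⟨h1, h2, h3, h4, fun s hs hsr hsn => ?_⟩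
  rcases h5 s hs with (h6 | h6) | h6
  · exact absurd h6 hsr
  · exact absurd h6 hsn
  · exact h6

theorem cover_facts (a b : I8) (hab : a ≠ b) (hab' : a ≠ bar b) :
    ∃ r < 24, (ra r = a ∧ rb r = b) ∨ (ra r = bar b ∧ rb r = bar a) := by
  have h := chkCover_ok
  unfold chkCover at h
  rw [decide_eq_true_eq] at h
  have h2 := h a b hab hab'
  rw [List.any_eq_true] at h2
  obtain ⟨r, hr, h1⟩ := h2
  rw [decide_eq_true_eq] at h1
  exact ⟨r, List.mem_range.1 hr, h1⟩

end Cfsg.Agent.Helper6.OrthD4
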