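import Mathlib
import Cfsg.Agent.Lib.Helper6.OrthE

/-!
Gaussian elimination in the orthogonal group of the hyperbolic form `Σ xᵢ yᵢ`: the isometry group is generated
by the long root elements, the diagonal elements `d_j(s)`, `j ≠ j₀`, and the reflection `σ_{j₀}`.
-/

set_option autoImplicit false

namespace Cfsg.Agent.Helper6.OrthE

open Matrix

variable {n : ℕ} {F : Type*} [Field F]

/-- the generators -/
def genE (n : ℕ) (F : Type*) [Field F] : Set (GL (Fin n ⊕ Fin n) F) :=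
  {g | ∃ (a b : Fin n ⊕ Fin n) (hab : a ≠ b) (_ : a ≠ bar b) (c : F), g = eGL a b hab c}

def genD (j₀ : Fin n) (F : Type*) [Field F] : Set (GL (Fin n ⊕ Fin n) F) :=
  {g | ∃ (j : Fin n) (_ : j ≠ j₀) (s : F) (hs : s ≠ 0), g = dGL j s hs}

/-- the subgroup generated by the root elements -/
def subE (n : ℕ) (F : Type*) [Field F] : Subgroup (GL (Fin n ⊕ Fin n) F) := Subgroup.closure (genE n F)

/-- the subgroup generated by all the generators -/
def subM (j₀ : Fin n) (F : Type*) [Field F] : Subgroup (GL (Fin n ⊕ Fin n) F) :=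
  Subgroup.closure (genE n F ∪ genD j₀ F ∪ {sGL j₀})

theorem eGL_mem_subM (j₀ : Fin n) (a b : Fin n ⊕ Fin n) (hab : a ≠ b) (hab' : a ≠ bar b) (c : F) :
    eGL a b hab c ∈ subM j₀ F :=
  Subgroup.subset_closure (Or.inl (Or.inl ⟨a, b, hab, hab', c, rfl⟩))

theorem dGL_mem_subM (j₀ j : Fin n) (hj : j ≠ j₀) (s : F) (hs : s ≠ 0) : dGL j s hs ∈ subM j₀ F :=
  Subgroup.subset_closure (Or.inl (Or.inr ⟨j, hj, s, hs, rfl⟩))

theorem sGL_mem_subM (j₀ : Fin n) : (sGL j₀ : GL (Fin n ⊕ Fin n) F) ∈ subM j₀ F :=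
  Subgroup.subset_closure (Or.inr rfl)

theorem subM_le (j₀ : Fin n) : subM j₀ F ≤ Cfsg.isometryGroup F (Cfsg.quadFormPlus n F) := by
  unfold subM
  rw [Subgroup.closure_le]
  rintro g ((⟨a, b, hab, _, c, rfl⟩ | ⟨j, _, s, hs, rfl⟩) | rfl)
  · exact eGL_mem a b hab c
  · exact dGL_mem j s hs
  · exact sGL_mem j₀

/-- `g` fixes the basis vectors with index in `S` -/
def Fix (S : Finset (Fin n)) (g : Matrix (Fin n ⊕ Fin n) (Fin n ⊕ Fin n) F) : Prop :=
  ∀ c, idx c ∈ S → g *ᵥ Pi.single c 1 = Pi.single c 1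

/-- `v` vanishes at the coordinates with index in `S` -/
def Off (S : Finset (Fin n)) (v : Fin n ⊕ Fin n → F) : Prop := ∀ c, idx c ∈ S → v c = 0

theorem Fix.mul {S : Finset (Fin n)} {g h : Matrix (Fin n ⊕ Fin n) (Fin n ⊕ Fin n) F} (hg : Fix S g)
    (hh : Fix S h) : Fix S (g * h) := by
  intro c hc
  rw [← mulVec_mulVec, hh c hc, hg c hc]

theorem Fix.one (S : Finset (Fin n)) : Fix S (1 : Matrix (Fin n ⊕ Fin n) (Fin n ⊕ Fin n) F) := by
  intro c _
  rw [one_mulVec]

theorem fix_eM (S : Finset (Fin n)) (a b : Fin n ⊕ Fin n) (ha : idx a ∉ S) (hb : idx b ∉ S) (c : F) :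
    Fix S (eM a b c) := by
  intro x hx
  apply eM_single_of_ne
  · rintro rfl
    exact hb hx
  · rintro rfl
    rw [idx_bar] at hx
    exact ha hx

theorem dM_single (j : Fin n) (s : F) (x : Fin n ⊕ Fin n) :
    dM j s *ᵥ Pi.single x 1 = dEnt j s x • Pi.single x 1 := by
  funext y
  rw [dM_mulVec, Pi.smul_apply, smul_eq_mul]
  by_cases h : y = x
  · rw [h]
  · rw [Pi.single_eq_of_ne h, mul_zero, mul_zero]

theorem fix_dM (S : Finset (Fin n)) (j : Fin n) (hj : j ∉ S) (s : F) : Fix S (dM j s) := by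
  intro x hx
  rw [dM_single, dEnt_of_idx_ne, one_smul]
  rintro rfl
  exact hj hx

/-- invariance of the polar form -/
theorem pol_isom {g : Matrix (Fin n ⊕ Fin n) (Fin n ⊕ Fin n) F}
    (hg : ∀ v, Cfsg.quadFormPlus n F (g *ᵥ v) = Cfsg.quadFormPlus n F v) (u v : Fin n ⊕ Fin n → F) :
    pol (g *ᵥ u) (g *ᵥ v) = pol u v := by
  have h1 := Q_add (g *ᵥ u) (g *ᵥ v)
  have h2 := Q_add u v
  rw [← mulVec_add, hg, hg, hg, h2] at h1
  exact (add_left_cancel h1).symm

theorem off_of_fix {S : Finset (Fin n)} {g : Matrix (Fin n ⊕ Fin n) (Fin n ⊕ Fin n) F}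
    (hg : ∀ v, Cfsg.quadFormPlus n F (g *ᵥ v) = Cfsg.quadFormPlus n F v) (hf : Fix S g)
    (c : Fin n ⊕ Fin n) (hc : idx c ∉ S) : Off S (g *ᵥ Pi.single c 1) := by
  intro x hx
  have h1 := pol_isom hg (Pi.single c 1) (Pi.single (bar x) 1)
  rw [hf (bar x) (by rwa [idx_bar]), pol_single_right, bar_bar, pol_single_single, bar_bar] at h1
  rw [h1, if_neg]
  rintro rfl
  exact hc hx

/-- clearing coordinates with the root elements `E(c, p, ·)` -/
theorem clear (j₀ : Fin n) (S : Finset (Fin n)) (p : Fin n ⊕ Fin n) (hp : idx p ∉ S)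
    (T : Finset (Fin n ⊕ Fin n)) (hT : ∀ c ∈ T, idx c ∉ S ∧ idx c ≠ idx p)
    (v : Fin n ⊕ Fin n → F) (hv : v p ≠ 0) (hoff : Off S v) :
    ∃ γ : GL (Fin n ⊕ Fin n) F, γ ∈ subM j₀ F ∧ Fix S γ.1 ∧
      γ.1 *ᵥ Pi.single (bar p) 1 = Pi.single (bar p) 1 ∧ (γ.1 *ᵥ v) p = v p ∧ Off S (γ.1 *ᵥ v) ∧
      (∀ c ∈ T, (γ.1 *ᵥ v) c = 0) ∧ (∀ c, c ∉ T → c ≠ bar p → (γ.1 *ᵥ v) c = v c) := by
  induction T using Finset.induction_on with
  | empty =>
    refine ⟨1, one_mem _, Fix.one S, ?_, ?_, ?_, ?_, ?_⟩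
    · rw [Units.val_one, one_mulVec]
    · rw [Units.val_one, one_mulVec]
    · rw [Units.val_one, one_mulVec]
      exact hoff
    · intro c hc
      exact absurd hc (Finset.notMem_empty c)
    · intro c _ _
      rw [Units.val_one, one_mulVec]
  | insert c T hcT ih =>
    obtain ⟨γ', hγ', hfix, hbp, hp', hoff', hT', hrest⟩ :=
      ih (fun x hx => hT x (Finset.mem_insert_of_mem hx))
    obtain ⟨hcS, hcp⟩ := hT c (Finset.mem_insert_self c T)
    have hcp1 : c ≠ p := fun h => hcp (by rw [h])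
    have hcp2 : c ≠ bar p := fun h => hcp (by rw [h, idx_bar])
    set v' := γ'.1 *ᵥ v with hv'
    set μ : F := -(v' c) / v p with hμ
    have hact : ∀ x, ((eGL c p hcp1 μ * γ').1 *ᵥ v) x =
        v' x + μ * ((if x = c then v' p else 0) - (if x = bar p then v' (bar c) else 0)) := by
      intro x
      rw [Units.val_mul, ← mulVec_mulVec, eGL_val, eM_mulVec_apply]
    refine ⟨eGL c p hcp1 μ * γ', mul_mem (eGL_mem_subM j₀ c p hcp1 hcp2 μ) hγ', ?_, ?_, ?_, ?_, ?_, ?_⟩
    · rw [Units.val_mul]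
      exact Fix.mul (fix_eM S c p hcS hp μ) hfix
    · rw [Units.val_mul, ← mulVec_mulVec, hbp, eGL_val]
      apply eM_single_of_ne
      · exact bar_ne p
      · exact fun h => hcp1 (bar_injective h).symm
    · rw [hact, if_neg hcp1.symm, if_neg (ne_bar p), sub_zero, mul_zero, add_zero, hp']
    · intro x hx
      have hxc : x ≠ c := by
        rintro rfl
        exact hcS hx
      have hxp : x ≠ bar p := by
        rintro rfl
        rw [idx_bar] at hx
        exact hp hx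
      rw [hact, if_neg hxc, if_neg hxp, sub_zero, mul_zero, add_zero]
      exact hoff' x hx
    · intro x hx
      rcases Finset.mem_insert.1 hx with rfl | hx
      · rw [hact, if_pos rfl, if_neg hcp2, sub_zero, hp', hμ]
        field_simp
        ring
      · have hxc : x ≠ c := fun h => hcT (h ▸ hx)
        have hxp : x ≠ bar p := fun h => (hT x (Finset.mem_insert_of_mem hx)).2 (by rw [h, idx_bar])
        rw [hact, if_neg hxc, if_neg hxp, sub_zero, mul_zero, add_zero]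
        exact hT' x hx
    · intro x hx hxp
      have hxc : x ≠ c := fun h => hx (h ▸ Finset.mem_insert_self c T)
      rw [hact, if_neg hxc, if_neg hxp, sub_zero, mul_zero, add_zero]
      exact hrest x (fun h => hx (Finset.mem_insert_of_mem h)) hxp

theorem Q_of_mem_subM (j₀ : Fin n) {γ : GL (Fin n ⊕ Fin n) F} (hγ : γ ∈ subM j₀ F) (v : Fin n ⊕ Fin n → F) :
    Cfsg.quadFormPlus n F (γ.1 *ᵥ v) = Cfsg.quadFormPlus n F v :=
  subM_le j₀ hγ v v

/-- a vector vanishing outside the pair `j` and singular has a vanishing coordinate -/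
theorem Q_eq_of_supp (j : Fin n) (v : Fin n ⊕ Fin n → F) (h : ∀ c, idx c ≠ j → v c = 0) :
    Cfsg.quadFormPlus n F v = v (Sum.inl j) * v (Sum.inr j) := by
  rw [quadFormPlus_apply, Finset.sum_eq_single j]
  · intro i _ hi
    rw [h (Sum.inl i) hi, zero_mul]
  · intro hj
    exact absurd (Finset.mem_univ j) hj

theorem eq_single_of_supp (p : Fin n ⊕ Fin n) (v : Fin n ⊕ Fin n → F) (h : ∀ c, c ≠ p → v c = 0)
    (hp : v p = 1) : v = Pi.single p 1 := by
  funext c
  by_cases hc : c = p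
  · rw [hc, hp, Pi.single_eq_same]
  · rw [h c hc, Pi.single_eq_of_ne hc]

/-- making the coordinate `e_j` non-zero -/
theorem exists_nonzero (j₀ : Fin n) (S : Finset (Fin n)) (j : Fin n) (hjS : j ∉ S)
    (v : Fin n ⊕ Fin n → F) (hoff : Off S v)
    (hc : ∃ c, c ≠ Sum.inr j ∧ v c ≠ 0) :
    ∃ γ : GL (Fin n ⊕ Fin n) F, γ ∈ subM j₀ F ∧ Fix S γ.1 ∧ Off S (γ.1 *ᵥ v) ∧ (γ.1 *ᵥ v) (Sum.inl j) ≠ 0 := by
  by_cases h0 : v (Sum.inl j) = 0
  · obtain ⟨c, hc2, hvc⟩ := hc
    have hc1 : c ≠ Sum.inl j := fun h => hvc (h ▸ h0)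
    have hcS : idx c ∉ S := fun h => hvc (hoff c h)
    have hne : (Sum.inl j : Fin n ⊕ Fin n) ≠ c := hc1.symm
    have hne' : (Sum.inl j : Fin n ⊕ Fin n) ≠ bar c := by
      intro h
      apply hc2
      rw [← bar_bar c, ← h, bar_inl]
    refine ⟨eGL (Sum.inl j) c hne 1, eGL_mem_subM j₀ _ _ hne hne' 1,
      fix_eM S (Sum.inl j) c hjS hcS 1, ?_, ?_⟩
    · intro x hx
      rw [eGL_val, eM_mulVec_apply, hoff x hx, if_neg, if_neg]
      · simp
      · rintro rfl
        rw [idx_bar] at hx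
        exact hcS hx
      · rintro rfl
        exact hjS hx
    · rw [eGL_val, eM_mulVec_apply, if_pos rfl, if_neg hne', h0]
      simpa using hvc
  · refine ⟨1, one_mem _, Fix.one S, ?_, ?_⟩
    · rw [Units.val_one, one_mulVec]
      exact hoff
    · rw [Units.val_one, one_mulVec]
      exact h0

/-- moving a singular vector to `e_j` -/
theorem exists_move (j₀ : Fin n) (S : Finset (Fin n)) (j : Fin n) (hjS : j ∉ S) (hj₀S : j₀ ∉ S) (hj : j ≠ j₀)
    (v : Fin n ⊕ Fin n → F) (hoff : Off S v) (hv0 : v ≠ 0) (hQ : Cfsg.quadFormPlus n F v = 0) :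
    ∃ γ : GL (Fin n ⊕ Fin n) F, γ ∈ subM j₀ F ∧ Fix S γ.1 ∧ γ.1 *ᵥ v = Pi.single (Sum.inl j) 1 := by
  -- step 1: the coordinate `e_j` becomes non-zero
  have h1 : ∃ γ : GL (Fin n ⊕ Fin n) F, γ ∈ subM j₀ F ∧ Fix S γ.1 ∧ Off S (γ.1 *ᵥ v) ∧
      (γ.1 *ᵥ v) (Sum.inl j) ≠ 0 := by
    by_cases hc : ∃ c, c ≠ Sum.inr j ∧ v c ≠ 0
    · exact exists_nonzero j₀ S j hjS v hoff hc
    · push Not at hc
      have hvj : v (Sum.inr j) ≠ 0 := by
        intro h
        apply hv0
        funext c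
        by_cases hcj : c = Sum.inr j
        · rw [hcj, h]
          rfl
        · exact hc c hcj
      have hne : (Sum.inl j₀ : Fin n ⊕ Fin n) ≠ Sum.inr j := by simp
      have hne' : (Sum.inl j₀ : Fin n ⊕ Fin n) ≠ bar (Sum.inr j) := by
        rw [bar_inr]
        intro h
        exact hj (Sum.inl_injective h).symm
      set γ₀ := eGL (Sum.inl j₀) (Sum.inr j) hne (1 : F) with hγ₀
      have hoff₀ : Off S (γ₀.1 *ᵥ v) := by
        intro x hx
        rw [eGL_val, eM_mulVec_apply, hoff x hx, if_neg, if_neg]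
        · simp
        · rintro rfl
          rw [idx_bar] at hx
          exact hjS hx
        · rintro rfl
          exact hj₀S hx
      have hc₀ : ∃ c, c ≠ Sum.inr j ∧ (γ₀.1 *ᵥ v) c ≠ 0 := by
        refine ⟨Sum.inl j₀, by simp, ?_⟩
        rw [eGL_val, eM_mulVec_apply, if_pos rfl, if_neg hne', hc (Sum.inl j₀) (by simp)]
        simpa using hvj
      obtain ⟨γ, hγ, hfix, hoff', hne0⟩ := exists_nonzero j₀ S j hjS (γ₀.1 *ᵥ v) hoff₀ hc₀
      refine ⟨γ * γ₀, mul_mem hγ (eGL_mem_subM j₀ _ _ hne hne' 1), ?_, ?_, ?_⟩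
      · rw [Units.val_mul]
        exact Fix.mul hfix (fix_eM S (Sum.inl j₀) (Sum.inr j) hj₀S hjS 1)
      · rw [Units.val_mul, ← mulVec_mulVec]
        exact hoff'
      · rw [Units.val_mul, ← mulVec_mulVec]
        exact hne0
  obtain ⟨γ₁, hγ₁, hfix₁, hoff₁, hne₁⟩ := h1
  -- step 2: clear the other coordinates
  classical
  set T : Finset (Fin n ⊕ Fin n) := Finset.univ.filter (fun c => idx c ∉ S ∧ idx c ≠ j) with hT
  obtain ⟨γ₂, hγ₂, hfix₂, -, hp₂, hoff₂, hT₂, -⟩ := clear j₀ S (Sum.inl j) hjS T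
    (fun c hc => by
      rw [hT, Finset.mem_filter] at hc
      exact hc.2) (γ₁.1 *ᵥ v) hne₁ hoff₁
  set v₂ := γ₂.1 *ᵥ (γ₁.1 *ᵥ v) with hv₂
  set lam := (γ₁.1 *ᵥ v) (Sum.inl j) with hlam
  have hsupp : ∀ c, idx c ≠ j → v₂ c = 0 := by
    intro c hc
    by_cases hcS : idx c ∈ S
    · exact hoff₂ c hcS
    · apply hT₂
      rw [hT, Finset.mem_filter]
      exact ⟨Finset.mem_univ _, hcS, hc⟩
  have hQ₂ : Cfsg.quadFormPlus n F v₂ = 0 := by
    rw [hv₂, Q_of_mem_subM j₀ hγ₂, Q_of_mem_subM j₀ hγ₁, hQ]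
  rw [Q_eq_of_supp j v₂ hsupp, hp₂] at hQ₂
  have hr : v₂ (Sum.inr j) = 0 := by
    rcases mul_eq_zero.1 hQ₂ with h | h
    · exact absurd h hne₁
    · exact h
  -- step 3: scale
  refine ⟨dGL j lam⁻¹ (inv_ne_zero hne₁) * (γ₂ * γ₁),
    mul_mem (dGL_mem_subM j₀ j hj _ _) (mul_mem hγ₂ hγ₁), ?_, ?_⟩
  · rw [Units.val_mul, Units.val_mul]
    exact Fix.mul (fix_dM S j hjS _) (Fix.mul hfix₂ hfix₁)
  · rw [Units.val_mul, Units.val_mul, ← mulVec_mulVec, ← mulVec_mulVec, dGL_val]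
    apply eq_single_of_supp
    · intro c hc
      rw [dM_mulVec]
      show _ * v₂ c = 0
      by_cases hcj : idx c = j
      · rcases eq_or_eq_bar_of_idx (a := c) (b := Sum.inl j) hcj with h | h
        · exact absurd h hc
        · rw [h, bar_inl, hr, mul_zero]
      · rw [hsupp c hcj, mul_zero]
    · rw [dM_mulVec]
      show _ * v₂ (Sum.inl j) = 1
      rw [hp₂]
      unfold dEnt
      rw [if_pos rfl]
      exact inv_mul_cancel₀ hne₁

/-- moving the partner vector to `f_j` -/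
theorem exists_move' (j₀ : Fin n) (S : Finset (Fin n)) (j : Fin n) (hjS : j ∉ S)
    (w : Fin n ⊕ Fin n → F) (hoff : Off S w) (hQ : Cfsg.quadFormPlus n F w = 0) (h1 : w (Sum.inr j) = 1) :
    ∃ γ : GL (Fin n ⊕ Fin n) F, γ ∈ subM j₀ F ∧ Fix S γ.1 ∧
      γ.1 *ᵥ Pi.single (Sum.inl j) 1 = Pi.single (Sum.inl j) 1 ∧ γ.1 *ᵥ w = Pi.single (Sum.inr j) 1 := by
  classical
  set T : Finset (Fin n ⊕ Fin n) := Finset.univ.filter (fun c => idx c ∉ S ∧ idx c ≠ j) with hT
  have hw1 : w (Sum.inr j) ≠ 0 := by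
    rw [h1]
    exact one_ne_zero
  obtain ⟨γ, hγ, hfix, hbp, hp, hoff', hT', -⟩ := clear j₀ S (Sum.inr j) hjS T
    (fun c hc => by
      rw [hT, Finset.mem_filter] at hc
      exact hc.2) w hw1 hoff
  rw [bar_inr] at hbp
  refine ⟨γ, hγ, hfix, hbp, ?_⟩
  set w' := γ.1 *ᵥ w with hw'
  have hsupp : ∀ c, idx c ≠ j → w' c = 0 := by
    intro c hc
    by_cases hcS : idx c ∈ S
    · exact hoff' c hcS
    · apply hT'
      rw [hT, Finset.mem_filter]
      exact ⟨Finset.mem_univ _, hcS, hc⟩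
  have hQ' : Cfsg.quadFormPlus n F w' = 0 := by
    rw [hw', Q_of_mem_subM j₀ hγ, hQ]
  rw [Q_eq_of_supp j w' hsupp, hp, h1, mul_one] at hQ'
  apply eq_single_of_supp
  · intro c hc
    by_cases hcj : idx c = j
    · rcases eq_or_eq_bar_of_idx (a := c) (b := Sum.inr j) hcj with h | h
      · exact absurd h hc
      · rw [h, bar_inr, hQ']
    · exact hsupp c hcj
  · rw [hp, h1]

theorem pol_zero_left (v : Fin n ⊕ Fin n → F) : pol (0 : Fin n ⊕ Fin n → F) v = 0 := by
  unfold pol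
  simp

/-- one step of the elimination -/
theorem step (j₀ : Fin n) (S : Finset (Fin n)) (j : Fin n) (hjS : j ∉ S) (hj₀S : j₀ ∉ S) (hj : j ≠ j₀)
    (g : GL (Fin n ⊕ Fin n) F) (hg : g ∈ Cfsg.isometryGroup F (Cfsg.quadFormPlus n F)) (hfix : Fix S g.1) :
    ∃ γ : GL (Fin n ⊕ Fin n) F, γ ∈ subM j₀ F ∧ Fix (insert j S) (γ * g).1 := by
  have hgQ : ∀ v, Cfsg.quadFormPlus n F (g.1 *ᵥ v) = Cfsg.quadFormPlus n F v := fun v => hg v v
  have hpol : pol (g.1 *ᵥ Pi.single (Sum.inr j) 1) (g.1 *ᵥ Pi.single (Sum.inl j) 1) = 1 := by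
    rw [pol_isom hgQ, pol_single_single, bar_inl, if_pos rfl]
  have hv0 : g.1 *ᵥ Pi.single (Sum.inl j) (1 : F) ≠ 0 := by
    intro h
    rw [h, pol_comm, pol_zero_left] at hpol
    exact zero_ne_one hpol
  obtain ⟨γ₁, hγ₁, hfix₁, hmove₁⟩ := exists_move j₀ S j hjS hj₀S hj _
    (off_of_fix hgQ hfix (Sum.inl j) hjS) hv0 (by rw [hgQ, Q_single])
  have hg₁ : γ₁ * g ∈ Cfsg.isometryGroup F (Cfsg.quadFormPlus n F) := mul_mem (subM_le j₀ hγ₁) hg
  have hg₁Q : ∀ v, Cfsg.quadFormPlus n F ((γ₁ * g).1 *ᵥ v) = Cfsg.quadFormPlus n F v := fun v => hg₁ v v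
  have hfix₁' : Fix S (γ₁ * g).1 := by
    rw [Units.val_mul]
    exact Fix.mul hfix₁ hfix
  have he : (γ₁ * g).1 *ᵥ Pi.single (Sum.inl j) 1 = Pi.single (Sum.inl j) 1 := by
    rw [Units.val_mul, ← mulVec_mulVec, hmove₁]
  have hw1 : ((γ₁ * g).1 *ᵥ Pi.single (Sum.inr j) 1) (Sum.inr j) = 1 := by
    have h1 := pol_isom hg₁Q (Pi.single (Sum.inr j) 1) (Pi.single (Sum.inl j) 1)
    rw [he, pol_single_right, bar_inl, pol_single_single, bar_inl, if_pos rfl] at h1
    exact h1
  obtain ⟨γ₂, hγ₂, hfix₂, hfe, hmove₂⟩ := exists_move' j₀ S j hjS _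
    (off_of_fix hg₁Q hfix₁' (Sum.inr j) hjS) (by rw [hg₁Q, Q_single]) hw1
  refine ⟨γ₂ * γ₁, mul_mem hγ₂ hγ₁, ?_⟩
  intro c hc
  rw [mul_assoc, Units.val_mul, ← mulVec_mulVec]
  rcases Finset.mem_insert.1 hc with hcj | hcS
  · rcases eq_or_eq_bar_of_idx (a := c) (b := Sum.inl j) hcj with h | h
    · rw [h, he, hfe]
    · rw [h, bar_inl, hmove₂]
  · rw [hfix₁' c hcS, hfix₂ c hcS]

/-- the element `h_{a,b}(s)` as a product of root elements -/
def hM (a b : Fin n ⊕ Fin n) (s : F) : Matrix (Fin n ⊕ Fin n) (Fin n ⊕ Fin n) F :=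
  eM a b s * (eM b a (-s⁻¹) * (eM a b s * (eM a b (-1) * (eM b a 1 * eM a b (-1)))))

theorem hM_plane (a b : Fin n ⊕ Fin n) (hab : a ≠ b) (hab' : a ≠ bar b) (s : F) (hs : s ≠ 0) (x y : F) :
    hM a b s *ᵥ (x • Pi.single a 1 + y • Pi.single b 1) =
      (s * x) • Pi.single a 1 + (s⁻¹ * y) • Pi.single b 1 := by
  unfold hM
  rw [← mulVec_mulVec, ← mulVec_mulVec, ← mulVec_mulVec, ← mulVec_mulVec, ← mulVec_mulVec,
    eM_plane a b hab hab', eM_plane' a b hab hab', eM_plane a b hab hab', eM_plane a b hab hab',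
    eM_plane' a b hab hab', eM_plane a b hab hab']
  congr 2
  · field_simp
    ring
  · field_simp
    ring

theorem hM_plane_bar (a b : Fin n ⊕ Fin n) (hab : a ≠ b) (hab' : a ≠ bar b) (s : F) (hs : s ≠ 0) (x y : F) :
    hM a b s *ᵥ (x • Pi.single (bar b) 1 + y • Pi.single (bar a) 1) =
      (s * x) • Pi.single (bar b) 1 + (s⁻¹ * y) • Pi.single (bar a) 1 := by
  unfold hM
  rw [← mulVec_mulVec, ← mulVec_mulVec, ← mulVec_mulVec, ← mulVec_mulVec, ← mulVec_mulVec,
    eM_plane_bar a b hab hab', eM_plane_bar' a b hab hab', eM_plane_bar a b hab hab',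
    eM_plane_bar a b hab hab', eM_plane_bar' a b hab hab', eM_plane_bar a b hab hab']
  congr 2
  · field_simp
    ring
  · field_simp
    ring

theorem hM_single_of_ne (a b : Fin n ⊕ Fin n) (s : F) (x : Fin n ⊕ Fin n) (h1 : x ≠ a) (h2 : x ≠ b)
    (h3 : x ≠ bar a) (h4 : x ≠ bar b) : hM a b s *ᵥ Pi.single x 1 = Pi.single x 1 := by
  unfold hM
  rw [← mulVec_mulVec, ← mulVec_mulVec, ← mulVec_mulVec, ← mulVec_mulVec, ← mulVec_mulVec,
    eM_single_of_ne a b _ x h2 h3, eM_single_of_ne b a _ x h1 h4, eM_single_of_ne a b _ x h2 h3,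
    eM_single_of_ne a b _ x h2 h3, eM_single_of_ne b a _ x h1 h4, eM_single_of_ne a b _ x h2 h3]

/-- `h_{e_i, f_j}(s) = d_i(s) d_j(s)` -/
theorem hM_eq (i j : Fin n) (hij : i ≠ j) (s : F) (hs : s ≠ 0) :
    hM (Sum.inl i) (Sum.inr j) s = dM i s * dM j s := by
  have hab : (Sum.inl i : Fin n ⊕ Fin n) ≠ Sum.inr j := by simp
  have hab' : (Sum.inl i : Fin n ⊕ Fin n) ≠ bar (Sum.inr j) := by
    rw [bar_inr]
    exact fun h => hij (Sum.inl_injective h)
  have hd : ∀ x : Fin n ⊕ Fin n, (dM i s * dM j s) *ᵥ Pi.single x 1 =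
      (dEnt i s x * dEnt j s x) • Pi.single x 1 := by
    intro x
    rw [← mulVec_mulVec, dM_single, mulVec_smul, dM_single, smul_smul, mul_comm]
  apply ext_of_single
  intro x
  rw [hd]
  by_cases h1 : x = Sum.inl i
  · have := hM_plane _ _ hab hab' s hs 1 0
    rw [zero_smul, add_zero, one_smul, mul_zero, zero_smul, add_zero, mul_one] at this
    rw [h1, this]
    congr 1
    unfold dEnt
    rw [if_pos rfl, if_neg (by simpa using hij), if_neg (by simp), mul_one]
  by_cases h2 : x = Sum.inr j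
  · have := hM_plane _ _ hab hab' s hs 0 1
    rw [zero_smul, zero_add, one_smul, mul_zero, zero_smul, zero_add, mul_one] at this
    rw [h2, this]
    congr 1
    unfold dEnt
    rw [if_neg (by simp), if_neg (by simpa using hij.symm), if_neg (by simp), if_pos rfl, one_mul]
  by_cases h3 : x = Sum.inl j
  · have := hM_plane_bar _ _ hab hab' s hs 1 0
    rw [zero_smul, add_zero, one_smul, mul_zero, zero_smul, add_zero, mul_one, bar_inr] at this
    rw [h3, this]
    congr 1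
    unfold dEnt
    rw [if_neg (by simpa using hij.symm), if_neg (by simp), if_pos rfl, one_mul]
  by_cases h4 : x = Sum.inr i
  · have := hM_plane_bar _ _ hab hab' s hs 0 1
    rw [zero_smul, zero_add, one_smul, mul_zero, zero_smul, zero_add, mul_one, bar_inl] at this
    rw [h4, this]
    congr 1
    unfold dEnt
    rw [if_neg (by simp), if_pos rfl, if_neg (by simp), if_neg (by simpa using hij), mul_one]
  · rw [hM_single_of_ne _ _ s x h1 h2 (by rwa [bar_inl]) (by rwa [bar_inr])]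
    have e1 : dEnt i s x = 1 := by
      unfold dEnt
      rw [if_neg h1, if_neg h4]
    have e2 : dEnt j s x = 1 := by
      unfold dEnt
      rw [if_neg h3, if_neg h2]
    rw [e1, e2, one_mul, one_smul]

/-- `h_{a,b}(s)` as an element of the group generated by the root elements -/
def hGL (a b : Fin n ⊕ Fin n) (hab : a ≠ b) (s : F) : GL (Fin n ⊕ Fin n) F :=
  eGL a b hab s * (eGL b a hab.symm (-s⁻¹) * (eGL a b hab s * (eGL a b hab (-1) *
    (eGL b a hab.symm 1 * eGL a b hab (-1)))))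

theorem hGL_val (a b : Fin n ⊕ Fin n) (hab : a ≠ b) (s : F) : (hGL a b hab s).1 = hM a b s := rfl

theorem hGL_mem_subE (a b : Fin n ⊕ Fin n) (hab : a ≠ b) (hab' : a ≠ bar b) (s : F) :
    hGL a b hab s ∈ subE n F := by
  have hba' : b ≠ bar a := fun h => hab' (by rw [h, bar_bar])
  have h1 : ∀ c, eGL a b hab c ∈ subE n F := fun c => Subgroup.subset_closure ⟨a, b, hab, hab', c, rfl⟩
  have h2 : ∀ c, eGL b a hab.symm c ∈ subE n F :=
    fun c => Subgroup.subset_closure ⟨b, a, hab.symm, hba', c, rfl⟩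
  unfold hGL
  exact mul_mem (h1 _) (mul_mem (h2 _) (mul_mem (h1 _) (mul_mem (h1 _) (mul_mem (h2 _) (h1 _)))))

theorem subE_le_subM (j₀ : Fin n) : subE n F ≤ subM j₀ F := by
  unfold subE subM
  apply Subgroup.closure_mono
  intro g hg
  exact Or.inl (Or.inl hg)

/-- all the diagonal elements lie in the group -/
theorem dGL_mem_subM' (j₀ i : Fin n) (hi : i ≠ j₀) (s : F) (hs : s ≠ 0) : dGL j₀ s hs ∈ subM j₀ F := by
  have hab : (Sum.inl i : Fin n ⊕ Fin n) ≠ Sum.inr j₀ := by simp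
  have hab' : (Sum.inl i : Fin n ⊕ Fin n) ≠ bar (Sum.inr j₀) := by
    rw [bar_inr]
    exact fun h => hi (Sum.inl_injective h)
  have h1 : hGL (Sum.inl i) (Sum.inr j₀) hab s = dGL i s hs * dGL j₀ s hs := by
    apply Units.ext
    rw [hGL_val, Units.val_mul, dGL_val, dGL_val, hM_eq i j₀ hi s hs]
  have h2 : dGL j₀ s hs = (dGL i s hs)⁻¹ * hGL (Sum.inl i) (Sum.inr j₀) hab s := by
    rw [h1, inv_mul_cancel_left]
  rw [h2]
  exact mul_mem (inv_mem (dGL_mem_subM j₀ i hi s hs)) (subE_le_subM j₀ (hGL_mem_subE _ _ hab hab' s))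

theorem sGL_single (j : Fin n) (x : Fin n ⊕ Fin n) :
    ((sGL j : GL (Fin n ⊕ Fin n) F) : Matrix (Fin n ⊕ Fin n) (Fin n ⊕ Fin n) F) *ᵥ Pi.single x 1 =
      Pi.single (Equiv.swap (Sum.inl j) (Sum.inr j) x) 1 := by
  rw [sGL_mulVec]
  funext y
  rw [Function.comp_apply, Pi.single_apply, Pi.single_apply]
  congr 1
  rw [eq_iff_iff]
  constructor
  · intro h
    rw [← h, Equiv.swap_apply_self]
  · intro h
    rw [h, Equiv.swap_apply_self]

/-- the last step: an isometry fixing all basis vectors outside the pair `j₀` -/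
theorem final (j₀ i : Fin n) (hi : i ≠ j₀) (g : GL (Fin n ⊕ Fin n) F)
    (hg : g ∈ Cfsg.isometryGroup F (Cfsg.quadFormPlus n F)) (hfix : Fix (Finset.univ.erase j₀) g.1) :
    g ∈ subM j₀ F := by
  have hgQ : ∀ v, Cfsg.quadFormPlus n F (g.1 *ᵥ v) = Cfsg.quadFormPlus n F v := fun v => hg v v
  have hnot : j₀ ∉ Finset.univ.erase j₀ := Finset.notMem_erase j₀ _
  have hmem : ∀ c : Fin n ⊕ Fin n, idx c ≠ j₀ → idx c ∈ Finset.univ.erase j₀ :=
    fun c hc => Finset.mem_erase.2 ⟨hc, Finset.mem_univ _⟩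
  set v := g.1 *ᵥ Pi.single (Sum.inl j₀) 1 with hv
  set w := g.1 *ᵥ Pi.single (Sum.inr j₀) 1 with hw
  have hvoff : ∀ c, idx c ≠ j₀ → v c = 0 :=
    fun c hc => off_of_fix hgQ hfix (Sum.inl j₀) hnot c (hmem c hc)
  have hwoff : ∀ c, idx c ≠ j₀ → w c = 0 :=
    fun c hc => off_of_fix hgQ hfix (Sum.inr j₀) hnot c (hmem c hc)
  have hQv : v (Sum.inl j₀) * v (Sum.inr j₀) = 0 := by
    rw [← Q_eq_of_supp j₀ v hvoff, hv, hgQ, Q_single]
  have hQw : w (Sum.inl j₀) * w (Sum.inr j₀) = 0 := by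
    rw [← Q_eq_of_supp j₀ w hwoff, hw, hgQ, Q_single]
  have hpol : v (Sum.inl j₀) * w (Sum.inr j₀) + v (Sum.inr j₀) * w (Sum.inl j₀) = 1 := by
    have h1 : pol v w = 1 := by
      have := pol_isom hgQ (Pi.single (Sum.inl j₀) 1) (Pi.single (Sum.inr j₀) 1)
      rw [pol_single_single, bar_inr, if_pos rfl] at this
      exact this
    rw [← h1]
    unfold pol
    rw [Fintype.sum_sum_type, Finset.sum_eq_single j₀, Finset.sum_eq_single j₀]
    · rfl
    · intro b _ hb
      rw [hvoff (Sum.inr b) hb, zero_mul]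
    · intro h
      exact absurd (Finset.mem_univ _) h
    · intro b _ hb
      rw [hvoff (Sum.inl b) hb, zero_mul]
    · intro h
      exact absurd (Finset.mem_univ _) h
  have hvec : ∀ (u : Fin n ⊕ Fin n → F), (∀ c, idx c ≠ j₀ → u c = 0) →
      u = u (Sum.inl j₀) • Pi.single (Sum.inl j₀) 1 + u (Sum.inr j₀) • Pi.single (Sum.inr j₀) 1 := by
    intro u hu
    funext c
    rw [Pi.add_apply, Pi.smul_apply, Pi.smul_apply, smul_eq_mul, smul_eq_mul]
    by_cases hc : idx c = j₀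
    · rcases eq_or_eq_bar_of_idx (a := c) (b := Sum.inl j₀) hc with h | h
      · rw [h]
        simp
      · rw [h, bar_inl]
        simp
    · have h1 : c ≠ Sum.inl j₀ := by
        rintro rfl
        exact hc rfl
      have h2 : c ≠ Sum.inr j₀ := by
        rintro rfl
        exact hc rfl
      rw [hu c hc, Pi.single_eq_of_ne h1, Pi.single_eq_of_ne h2, mul_zero, mul_zero, add_zero]
  have hv' := hvec v hvoff
  have hw' := hvec w hwoff
  by_cases hy : v (Sum.inr j₀) = 0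
  · -- `g = d_{j₀}(x)`
    rw [hy, zero_mul, add_zero] at hpol
    have hx : v (Sum.inl j₀) ≠ 0 := left_ne_zero_of_mul_eq_one hpol
    have hy' : w (Sum.inr j₀) = (v (Sum.inl j₀))⁻¹ := eq_inv_of_mul_eq_one_right hpol
    have hx' : w (Sum.inl j₀) = 0 := by
      rcases mul_eq_zero.1 hQw with h | h
      · exact h
      · rw [hy'] at h
        exact absurd h (inv_ne_zero hx)
    rw [hy, zero_smul, add_zero] at hv'
    rw [hx', zero_smul, zero_add, hy'] at hw'
    have hgd : g = dGL j₀ (v (Sum.inl j₀)) hx := by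
      apply Units.ext
      apply ext_of_single
      intro c
      rw [dGL_val, dM_single]
      by_cases hc : idx c = j₀
      · rcases eq_or_eq_bar_of_idx (a := c) (b := Sum.inl j₀) hc with h | h
        · rw [h]
          have e : dEnt j₀ (v (Sum.inl j₀)) (Sum.inl j₀) = v (Sum.inl j₀) := by
            unfold dEnt
            rw [if_pos rfl]
          rw [e]
          exact hv'
        · rw [h, bar_inl]
          have e : dEnt j₀ (v (Sum.inl j₀)) (Sum.inr j₀) = (v (Sum.inl j₀))⁻¹ := by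
            unfold dEnt
            rw [if_neg (by simp), if_pos rfl]
          rw [e]
          exact hw'
      · rw [hfix c (hmem c hc), dEnt_of_idx_ne _ _ _ hc, one_smul]
    rw [hgd]
    exact dGL_mem_subM' j₀ i hi _ hx
  · -- `g = d_{j₀}(y⁻¹) σ`
    have hx : v (Sum.inl j₀) = 0 := by
      rcases mul_eq_zero.1 hQv with h | h
      · exact h
      · exact absurd h hy
    rw [hx, zero_mul, zero_add] at hpol
    have hx' : w (Sum.inl j₀) = (v (Sum.inr j₀))⁻¹ := eq_inv_of_mul_eq_one_right hpol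
    have hy' : w (Sum.inr j₀) = 0 := by
      rcases mul_eq_zero.1 hQw with h | h
      · rw [hx'] at h
        exact absurd h (inv_ne_zero hy)
      · exact h
    rw [hx, zero_smul, zero_add] at hv'
    rw [hy', zero_smul, add_zero, hx'] at hw'
    have hgd : g = dGL j₀ (v (Sum.inr j₀))⁻¹ (inv_ne_zero hy) * sGL j₀ := by
      apply Units.ext
      apply ext_of_single
      intro c
      rw [Units.val_mul, ← mulVec_mulVec, sGL_single, dGL_val, dM_single]
      by_cases hc : idx c = j₀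
      · rcases eq_or_eq_bar_of_idx (a := c) (b := Sum.inl j₀) hc with h | h
        · rw [h, Equiv.swap_apply_left]
          have e : dEnt j₀ (v (Sum.inr j₀))⁻¹ (Sum.inr j₀) = v (Sum.inr j₀) := by
            unfold dEnt
            rw [if_neg (by simp), if_pos rfl, inv_inv]
          rw [e]
          exact hv'
        · rw [h, bar_inl, Equiv.swap_apply_right]
          have e : dEnt j₀ (v (Sum.inr j₀))⁻¹ (Sum.inl j₀) = (v (Sum.inr j₀))⁻¹ := by
            unfold dEnt
            rw [if_pos rfl]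
          rw [e]
          exact hw'
      · have h1 : c ≠ Sum.inl j₀ := by
          rintro rfl
          exact hc rfl
        have h2 : c ≠ Sum.inr j₀ := by
          rintro rfl
          exact hc rfl
        rw [hfix c (hmem c hc), Equiv.swap_apply_of_ne_of_ne h1 h2, dEnt_of_idx_ne _ _ _ hc, one_smul]
    rw [hgd]
    exact mul_mem (dGL_mem_subM' j₀ i hi _ _) (sGL_mem_subM j₀)

/-- **the isometry group is generated by root elements, diagonal elements and one reflection** -/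
theorem isometryGroup_le_subM (j₀ i : Fin n) (hi : i ≠ j₀) :
    Cfsg.isometryGroup F (Cfsg.quadFormPlus n F) ≤ subM j₀ F := by
  have key : ∀ (m : ℕ) (S : Finset (Fin n)), j₀ ∉ S → (Finset.univ \ insert j₀ S).card = m →
      ∀ g : GL (Fin n ⊕ Fin n) F, g ∈ Cfsg.isometryGroup F (Cfsg.quadFormPlus n F) → Fix S g.1 →
        g ∈ subM j₀ F := by
    intro m
    induction m with
    | zero =>
      intro S hS hcard g hg hfix
      have hS' : S = Finset.univ.erase j₀ := by
        rw [Finset.card_eq_zero, Finset.sdiff_eq_empty_iff_subset] at hcard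
        ext x
        rw [Finset.mem_erase]
        constructor
        · intro hx
          exact ⟨fun h => hS (h ▸ hx), Finset.mem_univ _⟩
        · rintro ⟨hx, -⟩
          rcases Finset.mem_insert.1 (hcard (Finset.mem_univ x)) with h | h
          · exact absurd h hx
          · exact h
      rw [hS'] at hfix
      exact final j₀ i hi g hg hfix
    | succ m ih =>
      intro S hS hcard g hg hfix
      have hne : (Finset.univ \ insert j₀ S).Nonempty := by
        rw [← Finset.card_pos, hcard]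
        exact Nat.succ_pos m
      obtain ⟨j, hj⟩ := hne
      rw [Finset.mem_sdiff, Finset.mem_insert, not_or] at hj
      obtain ⟨-, hjj₀, hjS⟩ := hj
      obtain ⟨γ, hγ, hfix'⟩ := step j₀ S j hjS hS hjj₀ g hg hfix
      have hS' : j₀ ∉ insert j S := by
        rw [Finset.mem_insert, not_or]
        exact ⟨fun h => hjj₀ h.symm, hS⟩
      have hcard' : (Finset.univ \ insert j₀ (insert j S)).card = m := by
        have e : Finset.univ \ insert j₀ (insert j S) = (Finset.univ \ insert j₀ S).erase j := by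
          ext x
          simp only [Finset.mem_sdiff, Finset.mem_univ, true_and, Finset.mem_insert, Finset.mem_erase,
            not_or]
          tauto
        rw [e, Finset.card_erase_of_mem, hcard, Nat.add_sub_cancel]
        rw [Finset.mem_sdiff, Finset.mem_insert, not_or]
        exact ⟨Finset.mem_univ _, hjj₀, hjS⟩
      have h1 := ih (insert j S) hS' hcard' (γ * g) (mul_mem (subM_le j₀ hγ) hg) hfix'
      have h2 : g = γ⁻¹ * (γ * g) := by rw [inv_mul_cancel_left]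
      rw [h2]
      exact mul_mem (inv_mem hγ) h1
  intro g hg
  exact key _ ∅ (Finset.notMem_empty _) rfl g hg (fun c hc => absurd hc (Finset.notMem_empty _))

end Cfsg.Agent.Helper6.OrthE
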