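import Mathlib
import Cfsg.Agent.Lib.Helper6.OrthElim

/-!
The commutator subgroup of the orthogonal group of the hyperbolic form `Σ xᵢ yᵢ` lies in the subgroup generated
by the long root elements.
-/

set_option autoImplicit false

namespace Cfsg.Agent.Helper6.OrthE

open Matrix

variable {n : ℕ} {F : Type*} [Field F]

theorem ext_of_mulVec {M N : Matrix (Fin n ⊕ Fin n) (Fin n ⊕ Fin n) F} (h : ∀ v, M *ᵥ v = N *ᵥ v) : M = N :=
  ext_of_single (fun x => h _)

/-- conjugation of a root element by a diagonal element -/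
theorem dM_mul_eM (j : Fin n) (s : F) (hs : s ≠ 0) (a b : Fin n ⊕ Fin n) (c : F) :
    dM j s * eM a b c = eM a b (dEnt j s a * (dEnt j s b)⁻¹ * c) * dM j s := by
  apply ext_of_mulVec
  intro v
  funext y
  rw [← mulVec_mulVec, ← mulVec_mulVec, dM_mulVec, eM_mulVec_apply, eM_mulVec_apply, dM_mulVec, dM_mulVec,
    dM_mulVec, dEnt_bar]
  have ha := dEnt_ne_zero j s hs a
  have hb := dEnt_ne_zero j s hs b
  by_cases h1 : y = a
  · subst h1
    by_cases h2 : y = bar b
    · have h3 : bar y = b := by rw [h2, bar_bar]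
      simp only [if_true, h3]
      rw [if_pos h2, if_pos h2]
      have h4 : dEnt j s y = (dEnt j s b)⁻¹ := by rw [← dEnt_bar, ← h2]
      rw [h4]
      field_simp
    · simp only [if_true]
      rw [if_neg h2, if_neg h2]
      field_simp
      ring
  · by_cases h2 : y = bar b
    · subst h2
      simp only [if_true]
      rw [if_neg h1, if_neg h1, dEnt_bar]
      field_simp
      ring
    · rw [if_neg h1, if_neg h2, if_neg h1, if_neg h2]
      ring

theorem dGL_conj_eGL (j : Fin n) (s : F) (hs : s ≠ 0) (a b : Fin n ⊕ Fin n) (hab : a ≠ b) (c : F) :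
    dGL j s hs * eGL a b hab c * (dGL j s hs)⁻¹ = eGL a b hab (dEnt j s a * (dEnt j s b)⁻¹ * c) := by
  rw [mul_inv_eq_iff_eq_mul]
  apply Units.ext
  rw [Units.val_mul, Units.val_mul, dGL_val, eGL_val, eGL_val]
  exact dM_mul_eM j s hs a b c

/-- conjugation of a root element by the reflection -/
theorem sGL_mul_eM (j : Fin n) (a b : Fin n ⊕ Fin n) (c : F) :
    ((sGL j : GL (Fin n ⊕ Fin n) F) : Matrix (Fin n ⊕ Fin n) (Fin n ⊕ Fin n) F) * eM a b c =
      eM (Equiv.swap (Sum.inl j) (Sum.inr j) a) (Equiv.swap (Sum.inl j) (Sum.inr j) b) c *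
        ((sGL j : GL (Fin n ⊕ Fin n) F) : Matrix (Fin n ⊕ Fin n) (Fin n ⊕ Fin n) F) := by
  apply ext_of_mulVec
  intro v
  funext y
  rw [← mulVec_mulVec, ← mulVec_mulVec, sGL_mulVec, Function.comp_apply, eM_mulVec_apply, eM_mulVec_apply,
    sGL_mulVec, Function.comp_apply, Function.comp_apply, Function.comp_apply, ← swap_bar, ← swap_bar,
    Equiv.swap_apply_self, Equiv.swap_apply_self]
  have e1 : (Equiv.swap (Sum.inl j) (Sum.inr j) y = a) ↔ (y = Equiv.swap (Sum.inl j) (Sum.inr j) a) := by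
    constructor
    · intro h
      rw [← h, Equiv.swap_apply_self]
    · intro h
      rw [h, Equiv.swap_apply_self]
  have e2 : (Equiv.swap (Sum.inl j) (Sum.inr j) y = bar b) ↔
      (y = Equiv.swap (Sum.inl j) (Sum.inr j) (bar b)) := by
    constructor
    · intro h
      rw [← h, Equiv.swap_apply_self]
    · intro h
      rw [h, Equiv.swap_apply_self]
  simp only [e1, e2]

theorem sGL_conj_eGL (j : Fin n) (a b : Fin n ⊕ Fin n) (hab : a ≠ b) (c : F) :
    (sGL j : GL (Fin n ⊕ Fin n) F) * eGL a b hab c * (sGL j)⁻¹ =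
      eGL (Equiv.swap (Sum.inl j) (Sum.inr j) a) (Equiv.swap (Sum.inl j) (Sum.inr j) b)
        (fun h => hab ((Equiv.swap (Sum.inl j) (Sum.inr j)).injective h)) c := by
  rw [mul_inv_eq_iff_eq_mul]
  apply Units.ext
  rw [Units.val_mul, Units.val_mul, eGL_val, eGL_val]
  exact sGL_mul_eM j a b c

theorem sGL_inv (j : Fin n) : (sGL j : GL (Fin n ⊕ Fin n) F)⁻¹ = sGL j := by
  rw [inv_eq_iff_mul_eq_one]
  apply Units.ext
  unfold sGL
  rw [Units.val_mul, Units.val_one]
  exact swap_mul_self _ _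

theorem dGL_inv (j : Fin n) (s : F) (hs : s ≠ 0) : (dGL j s hs)⁻¹ = dGL j s⁻¹ (inv_ne_zero hs) := by
  rw [inv_eq_iff_mul_eq_one]
  apply Units.ext
  rw [Units.val_mul, Units.val_one, dGL_val, dGL_val]
  exact dM_mul_inv j s hs

/-- the generators normalise the group generated by the root elements -/
theorem conj_mem_subE (j₀ : Fin n) (g : GL (Fin n ⊕ Fin n) F) (hg : g ∈ subM j₀ F)
    (x : GL (Fin n ⊕ Fin n) F) (hx : x ∈ subE n F) : g * x * g⁻¹ ∈ subE n F := by
  -- first for generators `g`, in the form `subE ≤ comap (conj g) subE`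
  have key : ∀ g : GL (Fin n ⊕ Fin n) F, (∀ a b (hab : a ≠ b) (_ : a ≠ bar b) (c : F),
      g * eGL a b hab c * g⁻¹ ∈ subE n F) → ∀ x ∈ subE n F, g * x * g⁻¹ ∈ subE n F := by
    intro g hgen x hx
    have hle : subE n F ≤ (subE n F).comap (MulAut.conj g).toMonoidHom := by
      unfold subE
      rw [Subgroup.closure_le]
      rintro y ⟨a, b, hab, hab', c, rfl⟩
      exact hgen a b hab hab' c
    exact hle hx
  have hswapbar : ∀ (a b : Fin n ⊕ Fin n), a ≠ bar b →
      Equiv.swap (Sum.inl j₀) (Sum.inr j₀) a ≠ bar (Equiv.swap (Sum.inl j₀) (Sum.inr j₀) b) := by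
    intro a b h h'
    rw [← swap_bar] at h'
    exact h ((Equiv.swap (Sum.inl j₀) (Sum.inr j₀)).injective h')
  -- the subgroup of the elements normalising `subE` in both directions
  let P : Subgroup (GL (Fin n ⊕ Fin n) F) :=
    { carrier := {g | (∀ x ∈ subE n F, g * x * g⁻¹ ∈ subE n F) ∧ (∀ x ∈ subE n F, g⁻¹ * x * g ∈ subE n F)}
      mul_mem' := by
        rintro g h ⟨hg1, hg2⟩ ⟨hh1, hh2⟩
        refine ⟨fun x hx => ?_, fun x hx => ?_⟩
        · have := hg1 _ (hh1 x hx)
          rw [_root_.mul_inv_rev]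
          simpa [mul_assoc] using this
        · have := hh2 _ (hg2 x hx)
          rw [_root_.mul_inv_rev]
          simpa [mul_assoc] using this
      one_mem' := by
        refine ⟨fun x hx => ?_, fun x hx => ?_⟩ <;> simpa using hx
      inv_mem' := by
        rintro g ⟨hg1, hg2⟩
        refine ⟨fun x hx => ?_, fun x hx => ?_⟩
        · rw [inv_inv]
          exact hg2 x hx
        · rw [inv_inv]
          exact hg1 x hx }
  have hP : subM j₀ F ≤ P := by
    unfold subM
    rw [Subgroup.closure_le]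
    rintro g ((⟨a, b, hab, hab', c, rfl⟩ | ⟨j, _, s, hs, rfl⟩) | rfl)
    · have h1 : eGL a b hab c ∈ subE n F := Subgroup.subset_closure ⟨a, b, hab, hab', c, rfl⟩
      exact ⟨fun x hx => mul_mem (mul_mem h1 hx) (inv_mem h1), fun x hx => mul_mem (mul_mem (inv_mem h1) hx) h1⟩
    · have h1 : ∀ (t : F) (ht : t ≠ 0), ∀ x ∈ subE n F, dGL j t ht * x * (dGL j t ht)⁻¹ ∈ subE n F := by
        intro t ht x hx
        apply key _ _ x hx
        intro a b hab hab' c
        rw [dGL_conj_eGL]
        exact Subgroup.subset_closure ⟨a, b, hab, hab', _, rfl⟩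
      refine ⟨h1 s hs, fun x hx => ?_⟩
      have := h1 s⁻¹ (inv_ne_zero hs) x hx
      rwa [← dGL_inv, inv_inv] at this
    · have h1 : ∀ x ∈ subE n F, (sGL j₀ : GL (Fin n ⊕ Fin n) F) * x * (sGL j₀)⁻¹ ∈ subE n F := by
        intro x hx
        apply key _ _ x hx
        intro a b hab hab' c
        rw [sGL_conj_eGL]
        exact Subgroup.subset_closure ⟨_, _, _, hswapbar a b hab', c, rfl⟩
      refine ⟨h1, fun x hx => ?_⟩
      have := h1 x hx
      rwa [sGL_inv] at this ⊢
  exact (hP hg).1 x hx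

/-- the group generated by the diagonal elements and the reflection -/
def subDS (j₀ : Fin n) (F : Type*) [Field F] : Subgroup (GL (Fin n ⊕ Fin n) F) :=
  Subgroup.closure (genD j₀ F ∪ {sGL j₀})

theorem dEnt_swap (j₀ j : Fin n) (hj : j ≠ j₀) (s : F) (y : Fin n ⊕ Fin n) :
    dEnt j s (Equiv.swap (Sum.inl j₀) (Sum.inr j₀) y) = dEnt j s y := by
  by_cases h1 : y = Sum.inl j₀
  · rw [h1, Equiv.swap_apply_left, dEnt_of_idx_ne j s _ (by simpa using hj.symm),
      dEnt_of_idx_ne j s _ (by simpa using hj.symm)]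
  by_cases h2 : y = Sum.inr j₀
  · rw [h2, Equiv.swap_apply_right, dEnt_of_idx_ne j s _ (by simpa using hj.symm),
      dEnt_of_idx_ne j s _ (by simpa using hj.symm)]
  rw [Equiv.swap_apply_of_ne_of_ne h1 h2]

theorem dGL_mul_sGL (j₀ j : Fin n) (hj : j ≠ j₀) (s : F) (hs : s ≠ 0) :
    dGL j s hs * sGL j₀ = sGL j₀ * dGL j s hs := by
  apply Units.ext
  rw [Units.val_mul, Units.val_mul, dGL_val]
  apply ext_of_mulVec
  intro v
  funext y
  rw [← mulVec_mulVec, ← mulVec_mulVec, dM_mulVec, sGL_mulVec, sGL_mulVec, Function.comp_apply,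
    Function.comp_apply, dM_mulVec, dEnt_swap j₀ j hj]

theorem dGL_mul_dGL (j j' : Fin n) (s s' : F) (hs : s ≠ 0) (hs' : s' ≠ 0) :
    dGL j s hs * dGL j' s' hs' = dGL j' s' hs' * dGL j s hs := by
  apply Units.ext
  rw [Units.val_mul, Units.val_mul, dGL_val, dGL_val]
  unfold dM
  rw [diagonal_mul_diagonal, diagonal_mul_diagonal]
  congr 1
  funext c
  exact mul_comm _ _

instance subDS_comm (j₀ : Fin n) : IsMulCommutative (subDS j₀ F) := by
  unfold subDS
  apply Subgroup.isMulCommutative_closure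
  rintro x (⟨j, hj, s, hs, rfl⟩ | rfl) y (⟨j', hj', s', hs', rfl⟩ | rfl)
  · exact dGL_mul_dGL j j' s s' hs hs'
  · exact dGL_mul_sGL j₀ j hj s hs
  · exact (dGL_mul_sGL j₀ j' hj' s' hs').symm
  · rfl

/-- **the commutator subgroup of the orthogonal group lies in the group generated by the root elements** -/
theorem commutator_le_subE (j₀ i : Fin n) (hi : i ≠ j₀) :
    commutator ↥(Cfsg.isometryGroup F (Cfsg.quadFormPlus n F)) ≤
      (subE n F).subgroupOf (Cfsg.isometryGroup F (Cfsg.quadFormPlus n F)) := by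
  set GO := Cfsg.isometryGroup F (Cfsg.quadFormPlus n F) with hGO
  have hle : GO ≤ subM j₀ F := isometryGroup_le_subM j₀ i hi
  haveI hN : ((subE n F).subgroupOf GO).Normal := by
    constructor
    intro x hx g
    rw [Subgroup.mem_subgroupOf] at hx ⊢
    rw [Subgroup.coe_mul, Subgroup.coe_mul, Subgroup.coe_inv]
    exact conj_mem_subE j₀ g.1 (hle g.2) x.1 hx
  have hsup : (subE n F).subgroupOf GO ⊔ (subDS j₀ F).subgroupOf GO = ⊤ := by
    rw [eq_top_iff]
    have key : ∀ x (hx : x ∈ subM j₀ F), (⟨x, subM_le j₀ hx⟩ : GO) ∈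
        (subE n F).subgroupOf GO ⊔ (subDS j₀ F).subgroupOf GO := by
      intro x hx
      induction hx using Subgroup.closure_induction with
      | mem x hx =>
        rcases hx with (hx | hx) | hx
        · apply Subgroup.mem_sup_left
          rw [Subgroup.mem_subgroupOf]
          exact Subgroup.subset_closure hx
        · apply Subgroup.mem_sup_right
          rw [Subgroup.mem_subgroupOf]
          exact Subgroup.subset_closure (Or.inl hx)
        · apply Subgroup.mem_sup_right
          rw [Subgroup.mem_subgroupOf]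
          exact Subgroup.subset_closure (Or.inr hx)
      | one => exact one_mem _
      | mul x y hx hy ihx ihy => exact mul_mem ihx ihy
      | inv x hx ih => exact inv_mem ih
    intro g _
    exact key g.1 (hle g.2)
  exact Subgroup.Normal.commutator_le_of_self_sup_commutative_eq_top hsup inferInstance

end Cfsg.Agent.Helper6.OrthE
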