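import Mathlib
import Cfsg.Agent.Lib.Lead.ChevCore
import Cfsg.Agent.Lib.Lead.ChevBruhat
import Cfsg.Agent.Lib.Lead.ChevBruhat2
import Cfsg.Agent.Lib.Lead.ChevCells
import Cfsg.Agent.Lib.Lead.ChevBN2

/-!
The centre of a Chevalley group is trivial.
-/

set_option autoImplicit false
set_option linter.unusedSectionVars false
set_option linter.unusedVariables false

namespace Cfsg.Agent.Helper6.StC

open Cfsg Cfsg.Lie Cfsg.Agent.Lead.Chev

variable {F : Type*} [Field F] {D : ChevalleyDatum}

/-- a central element of the Chevalley group is trivial -/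
theorem eq_one_of_central (hF : ChevFacts D F) (hS : CorSize D) (z : GL D.Idx F) (hz : z ∈ D.group F)
    (hc : ∀ g ∈ D.group F, g * z = z * g) : z = 1 := by
  obtain ⟨b, hb, w, hw, u, hu, e⟩ := hF.exists_bruhat hS z hz
  have huB : u ∈ D.borelSubgroup F := posUnipotent_le_borel D (hF.negPart_le_posUnipotent w hu)
  have huG : u ∈ D.group F := hF.borel_le_group huB
  -- `z = b' n_w`
  have e2 : z = (u * b) * nWordGL D hF.xadd w := by
    have h1 := hc u huG
    calc z = u * z * u⁻¹ := by rw [h1]; group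
      _ = _ := by rw [e]; group
  have hb' : u * b ∈ D.borelSubgroup F := mul_mem huB hb
  have hn : nWordGL D hF.xadd w = (u * b)⁻¹ * z := by rw [e2]; group
  have hxB : ∀ r, D.IsPosRoot r → ∀ t : F, xGL D hF.xadd r t ∈ D.borelSubgroup F := by
    intro r hr t
    exact posUnipotent_le_borel D (Subgroup.subset_closure ⟨r, t, hr, xGL_val D hF.xadd r t⟩)
  have hsg : ∀ w' : List ℕ, (∀ i ∈ w', i < D.rank) → ∀ s, ((signWord D (etaOf D) w' s : ℤ) : F) ≠ 0 := by
    intro w' hw' s
    rcases signWord_sq D (etaOf D) w' (fun j hj s => (hF.nsimple j (hw' j hj)).sign s) s with h1 | h1 <;>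
      rw [h1] <;> simp
  have h1 : ∀ r, D.IsPosRoot r → D.IsPosRoot (reflWord D w r) := by
    intro r hr
    have hlt := reflWord_lt D (etaOf D) hF.facts w hw r hr.1
    rcases hF.sign.pos_or_neg _ hlt with hp | hneg
    · exact hp
    · exfalso
      have h2 := nWordGL_conj D hF.xadd (etaOf D) hF.nsimple w hw r hr.1 1
      have h3 : nWordGL D hF.xadd w * xGL D hF.xadd r 1 * (nWordGL D hF.xadd w)⁻¹ ∈ D.borelSubgroup F := by
        have hzc := hc _ (xGL_mem_group D hF.xadd r 1)
        have e3 : nWordGL D hF.xadd w * xGL D hF.xadd r 1 * (nWordGL D hF.xadd w)⁻¹ =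
            (u * b)⁻¹ * xGL D hF.xadd r 1 * (u * b) := by
          rw [hn]
          calc (u * b)⁻¹ * z * xGL D hF.xadd r 1 * ((u * b)⁻¹ * z)⁻¹ =
              (u * b)⁻¹ * (z * xGL D hF.xadd r 1) * z⁻¹ * (u * b) := by group
            _ = (u * b)⁻¹ * (xGL D hF.xadd r 1 * z) * z⁻¹ * (u * b) := by rw [hzc]
            _ = _ := by group
        rw [e3]
        exact mul_mem (mul_mem (inv_mem hb') (hxB r hr 1)) hb'
      rw [h2, ← hF.sign.neg_neg _ hlt] at h3
      have h4 := hF.eq_zero_of_xGL_neg_mem_borel _ (hF.sign.pos_of_neg _ hneg) _ h3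
      rw [mul_one] at h4
      exact hsg w hw r h4
  have hwr : ∀ i ∈ w.reverse, i < D.rank := fun i hi => hw i (List.mem_reverse.1 hi)
  have h2 : ∀ r, D.IsPosRoot r → D.IsPosRoot (reflWord D w.reverse r) := by
    intro r hr
    have hlt := reflWord_lt D (etaOf D) hF.facts w.reverse hwr r hr.1
    rcases hF.sign.pos_or_neg _ hlt with hp | hneg
    · exact hp
    · exfalso
      have h2 := xGL_mul_nWordGL D hF.xadd (etaOf D) hF.nsimple w hw r hr.1 1
      have h3 : (nWordGL D hF.xadd w)⁻¹ * xGL D hF.xadd r 1 * nWordGL D hF.xadd w ∈ D.borelSubgroup F := by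
        have hzc := hc _ (xGL_mem_group D hF.xadd r 1)
        have e3 : (nWordGL D hF.xadd w)⁻¹ * xGL D hF.xadd r 1 * nWordGL D hF.xadd w =
            (u * b) * xGL D hF.xadd r 1 * (u * b)⁻¹ := by
          rw [hn]
          calc ((u * b)⁻¹ * z)⁻¹ * xGL D hF.xadd r 1 * ((u * b)⁻¹ * z) =
              z⁻¹ * (u * b) * xGL D hF.xadd r 1 * (u * b)⁻¹ * z := by group
            _ = z⁻¹ * ((u * b) * xGL D hF.xadd r 1 * (u * b)⁻¹ * z) := by group
            _ = z⁻¹ * (z * ((u * b) * xGL D hF.xadd r 1 * (u * b)⁻¹)) := by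
                rw [hc _ (hF.borel_le_group (mul_mem (mul_mem hb' (hxB r hr 1)) (inv_mem hb')))]
            _ = _ := by group
        rw [e3]
        exact mul_mem (mul_mem hb' (hxB r hr 1)) (inv_mem hb')
      have e4 : (nWordGL D hF.xadd w)⁻¹ * xGL D hF.xadd r 1 * nWordGL D hF.xadd w =
          xGL D hF.xadd (reflWord D w.reverse r)
            (((signWord D (etaOf D) w (reflWord D w.reverse r) : ℤ) : F) * 1) := by
        rw [mul_assoc, h2]
        group
      rw [e4, ← hF.sign.neg_neg _ hlt] at h3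
      have h4 := hF.eq_zero_of_xGL_neg_mem_borel _ (hF.sign.pos_of_neg _ hneg) _ h3
      rw [mul_one] at h4
      exact hsg w hw _ h4
  have hnH := hF.nWordGL_mem_diagonal_of_pos w hw h1 h2
  have hzB : z ∈ D.borelSubgroup F := by
    rw [e2]
    exact mul_mem hb' (diagonal_le_borel D hnH)
  apply hF.eq_one_of_conj_mem_borel
  intro g hg
  have : g * z * g⁻¹ = z := by
    rw [hc g hg]
    group
  rw [this]
  exact hzB

end Cfsg.Agent.Helper6.StC
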