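import Mathlib
import Cfsg.Prelude.Def_SteinbergCover
import Cfsg.Agent.Lib.Lead.ChevPerfect

/-!
Groups with Steinberg's relations (R1), (R2): the abstract setting, and perfectness from certificates.

For each root `s` the certificate gives either a pair `(a, b)` whose commutator formula has the single term
`x_s(± t u)`, or a pair whose formula starts with `x_{s₁}(± t u) x_{s₂}(± t² u)` (one of `s₁`, `s₂` being `s`), all
further terms being of the first kind; the second kind needs an element `t₀ ≠ 0, 1` of the field.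
-/

set_option autoImplicit false
set_option linter.unusedSectionVars false
set_option linter.unusedVariables false

namespace Cfsg.Agent.Helper6.StC

open Cfsg Cfsg.Lie Cfsg.Agent.Lead.Chev
open scoped commutatorElement

variable {K : Type*} [Field K] {Γ : Type*} [Group Γ]

/-- the product of the word `[(r₁, t₁), (r₂, t₂), …]` -/
def wordG (X : ℕ → K → Γ) (w : List (ℕ × K)) : Γ := (w.map fun p => X p.1 p.2).prod

theorem wordG_nil (X : ℕ → K → Γ) : wordG X [] = 1 := rfl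

theorem wordG_cons (X : ℕ → K → Γ) (q : ℕ × K) (w : List (ℕ × K)) :
    wordG X (q :: w) = X q.1 q.2 * wordG X w := by
  unfold wordG
  rw [List.map_cons, List.prod_cons]

/-- Steinberg's relations (R1) and (R2) -/
structure StRel (D : ChevalleyDatum) (X : ℕ → K → Γ) : Prop where
  add : ∀ r < D.nroots, ∀ t u : K, X r t * X r u = X r (t + u)
  comm : ∀ r < D.nroots, ∀ s < D.nroots, s ≠ r → s ≠ D.neg r → ∀ t u : K,
    (X s u)⁻¹ * (X r t)⁻¹ * X s u * X r t = wordG X (D.commWord K r s t u)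

namespace StRel

variable {D : ChevalleyDatum} {X : ℕ → K → Γ} (h : StRel D X)
include h

theorem zero (r : ℕ) (hr : r < D.nroots) : X r 0 = 1 := by
  have := h.add r hr 0 0
  rw [add_zero] at this
  exact mul_left_cancel (this.trans (mul_one _).symm)

theorem inv (r : ℕ) (hr : r < D.nroots) (t : K) : (X r t)⁻¹ = X r (-t) := by
  apply inv_eq_of_mul_eq_one_right
  rw [h.add r hr, add_neg_cancel, h.zero r hr]

/-- the right-hand side of the commutator formula is a commutator -/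
theorem word_mem (a b : ℕ) (ha : a < D.nroots) (hb : b < D.nroots) (hne : b ≠ a) (hne' : b ≠ D.neg a)
    (t u : K) : wordG X (D.commWord K a b t u) ∈ commutator Γ := by
  rw [← h.comm a ha b hb hne hne' t u]
  have e : (X b u)⁻¹ * (X a t)⁻¹ * X b u * X a t = ⁅(X b u)⁻¹, (X a t)⁻¹⁆ := by
    rw [commutatorElement_def, inv_inv, inv_inv]
  rw [e]
  exact Subgroup.commutator_mem_commutator (Subgroup.mem_top _) (Subgroup.mem_top _)

theorem mem_of_K1 (s a b : ℕ) (ha : a < D.nroots) (hb : b < D.nroots) (hne : b ≠ a)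
    (hne' : b ≠ D.neg a)
    (hct : D.commTerms a b = [(s, 1, 1, 1)] ∨ D.commTerms a b = [(s, -1, 1, 1)]) (v : K) :
    X s v ∈ commutator Γ := by
  rcases hct with hct | hct
  · have h1 := h.word_mem a b ha hb hne hne' (-v) 1
    have e : D.commWord K a b (-v) 1 = [(s, v)] := by
      unfold ChevalleyDatum.commWord
      rw [hct]
      simp
    rwa [e, wordG_cons, wordG_nil, mul_one] at h1
  · have h1 := h.word_mem a b ha hb hne hne' v 1
    have e : D.commWord K a b v 1 = [(s, v)] := by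
      unfold ChevalleyDatum.commWord
      rw [hct]
      simp
    rwa [e, wordG_cons, wordG_nil, mul_one] at h1

/-- a word all of whose letters lie in a subgroup lies in it -/
theorem wordG_mem (P : Subgroup Γ) (w : List (ℕ × K)) (hw : ∀ q ∈ w, X q.1 q.2 ∈ P) : wordG X w ∈ P := by
  induction w with
  | nil => rw [wordG_nil]; exact one_mem _
  | cons q w ih =>
    rw [wordG_cons]
    exact mul_mem (hw q List.mem_cons_self) (ih fun q' hq' => hw q' (List.mem_cons_of_mem _ hq'))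

/-- the second kind of certificate -/
theorem mem_of_K4 (a b : ℕ) (ha : a < D.nroots) (hb : b < D.nroots) (hne : b ≠ a) (hne' : b ≠ D.neg a)
    (s₁ s₂ : ℕ) (ε₁ ε₂ : ℤ) (rest : List (ℕ × ℤ × ℕ × ℕ)) (hs₁ : s₁ < D.nroots) (hs₂ : s₂ < D.nroots)
    (hct : D.commTerms a b = (s₁, ε₁, 1, 1) :: (s₂, ε₂, 2, 1) :: rest)
    (hε₁ : ε₁ = 1 ∨ ε₁ = -1) (hε₂ : ε₂ = 1 ∨ ε₂ = -1)
    (hrest : ∀ c ∈ rest, ∀ v : K, X c.1 v ∈ commutator Γ)
    (t₀ : K) (h0 : t₀ ≠ 0) (h1 : t₀ ≠ 1) (v : K) :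
    X s₁ v ∈ commutator Γ ∧ X s₂ v ∈ commutator Γ := by
  have hA : ∀ t u : K, X s₁ ((ε₁ : K) * (-t) * u) * X s₂ ((ε₂ : K) * (-t) ^ 2 * u) ∈ commutator Γ := by
    intro t u
    have h2 := h.word_mem a b ha hb hne hne' t u
    have e : D.commWord K a b t u = (s₁, (ε₁ : K) * (-t) * u) :: (s₂, (ε₂ : K) * (-t) ^ 2 * u) ::
        rest.map (fun c => (c.1, (c.2.1 : K) * (-t) ^ c.2.2.1 * u ^ c.2.2.2)) := by
      unfold ChevalleyDatum.commWord
      rw [hct]
      simp
    rw [e, wordG_cons, wordG_cons, ← mul_assoc] at h2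
    have h3 : wordG X (rest.map (fun c => (c.1, (c.2.1 : K) * (-t) ^ c.2.2.1 * u ^ c.2.2.2))) ∈
        commutator Γ := by
      apply h.wordG_mem
      intro q hq
      obtain ⟨c, hc, rfl⟩ := List.mem_map.1 hq
      exact hrest c hc _
    exact (Subgroup.mul_mem_cancel_right _ h3).1 h2
  have hε₂ne : (ε₂ : K) ≠ 0 := by
    rcases hε₂ with rfl | rfl <;> simp
  have hε₁ne : (ε₁ : K) ≠ 0 := by
    rcases hε₁ with rfl | rfl <;> simp
  have h2 : ∀ w : K, X s₂ w ∈ commutator Γ := by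
    intro w
    have hd : (ε₂ : K) * t₀ * (t₀ - 1) ≠ 0 :=
      mul_ne_zero (mul_ne_zero hε₂ne h0) (sub_ne_zero.2 h1)
    set u : K := w / ((ε₂ : K) * t₀ * (t₀ - 1)) with hu
    have hP := mul_mem (hA t₀ u) (inv_mem (hA 1 (t₀ * u)))
    -- conjugate by `X s₁`
    have hn : (commutator Γ).Normal := inferInstance
    have hc := hn.conj_mem _ hP (X s₁ ((ε₁ : K) * (-t₀) * u))⁻¹
    have e : (X s₁ ((ε₁ : K) * (-t₀) * u))⁻¹ *
        (X s₁ ((ε₁ : K) * (-t₀) * u) * X s₂ ((ε₂ : K) * (-t₀) ^ 2 * u) *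
          (X s₁ ((ε₁ : K) * (-1) * (t₀ * u)) * X s₂ ((ε₂ : K) * (-1) ^ 2 * (t₀ * u)))⁻¹) *
        (X s₁ ((ε₁ : K) * (-t₀) * u))⁻¹⁻¹ = X s₂ w := by
      have e1 : (ε₁ : K) * (-1) * (t₀ * u) = (ε₁ : K) * (-t₀) * u := by ring
      rw [e1, mul_inv_rev, inv_inv, h.inv s₂ hs₂]
      have e2 : X s₁ ((ε₁ : K) * -t₀ * u) * X s₂ ((ε₂ : K) * (-t₀) ^ 2 * u) *
          (X s₂ (-((ε₂ : K) * (-1) ^ 2 * (t₀ * u))) * (X s₁ ((ε₁ : K) * -t₀ * u))⁻¹) =
          X s₁ ((ε₁ : K) * -t₀ * u) * (X s₂ ((ε₂ : K) * (-t₀) ^ 2 * u) *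
          X s₂ (-((ε₂ : K) * (-1) ^ 2 * (t₀ * u)))) * (X s₁ ((ε₁ : K) * -t₀ * u))⁻¹ := by group
      rw [e2, h.add s₂ hs₂]
      have e3 : (ε₂ : K) * (-t₀) ^ 2 * u + -((ε₂ : K) * (-1) ^ 2 * (t₀ * u)) = w := by
        rw [hu]
        field_simp
        ring
      rw [e3]
      group
    rw [e] at hc
    exact hc
  refine ⟨?_, h2 v⟩
  have h3 := hA 1 (-(v / (ε₁ : K)))
  have h4 := (Subgroup.mul_mem_cancel_right _ (h2 _)).1 h3
  have e : (ε₁ : K) * (-1) * (-(v / (ε₁ : K))) = v := by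
    field_simp
  rwa [e] at h4

end StRel

/-! ### the certificate check -/

def chkK4 (D : ChevalleyDatum) (cert : List (ℕ × ℕ × ℕ)) (s a b : ℕ) : Bool :=
  decide (a < D.nroots) && decide (b < D.nroots) && decide (b ≠ a) && decide (b ≠ D.neg a) &&
    (match D.commTerms a b with
     | c1 :: c2 :: rest =>
        decide (c1.1 < D.nroots) && decide (c2.1 < D.nroots) &&
        (c1.2.1 == 1 || c1.2.1 == -1) && (c2.2.1 == 1 || c2.2.1 == -1) &&
        decide (c1.2.2 = (1, 1)) && decide (c2.2.2 = (2, 1)) && (c1.1 == s || c2.1 == s) &&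
        rest.all (fun c => decide (c.1 < D.nroots) && decide (certKind cert c.1 = 0))
     | _ => false)

def covChk (D : ChevalleyDatum) (cert : List (ℕ × ℕ × ℕ)) (s : ℕ) : Bool :=
  if certKind cert s = 0 then chkK1 D s (cert.getD s (9, 0, 0)).2.1 (cert.getD s (9, 0, 0)).2.2
  else chkK4 D cert s (cert.getD s (9, 0, 0)).2.1 (cert.getD s (9, 0, 0)).2.2

theorem StRel.mem_commutator_of_chk {D : ChevalleyDatum} {X : ℕ → K → Γ} (h : StRel D X)
    (cert : List (ℕ × ℕ × ℕ))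
    (hk : (∀ s < D.nroots, certKind cert s = 0) ∨ ∃ c : K, c ≠ 0 ∧ c ≠ 1)
    (hchk : ∀ s < D.nroots, covChk D cert s = true) :
    ∀ s < D.nroots, ∀ v : K, X s v ∈ commutator Γ := by
  have stage1 : ∀ s < D.nroots, certKind cert s = 0 → ∀ v : K, X s v ∈ commutator Γ := by
    intro s hs h0 v
    have h1 := hchk s hs
    unfold covChk at h1
    rw [if_pos h0] at h1
    simp only [chkK1, Bool.and_eq_true, Bool.or_eq_true, decide_eq_true_eq, beq_iff_eq] at h1
    obtain ⟨⟨⟨⟨ha, hb⟩, hba⟩, hbn⟩, hct⟩ := h1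
    exact h.mem_of_K1 s _ _ ha hb hba hbn hct v
  intro s hs v
  by_cases h0 : certKind cert s = 0
  · exact stage1 s hs h0 v
  · have h1 := hchk s hs
    unfold covChk at h1
    rw [if_neg h0] at h1
    obtain ⟨t₀, ht0, ht1⟩ : ∃ c : K, c ≠ 0 ∧ c ≠ 1 := by
      rcases hk with hk | hk
      · exact absurd (hk s hs) h0
      · exact hk
    unfold chkK4 at h1
    rw [Bool.and_eq_true, Bool.and_eq_true, Bool.and_eq_true, Bool.and_eq_true] at h1
    obtain ⟨⟨⟨⟨ha, hb⟩, hba⟩, hbn⟩, hm⟩ := h1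
    rw [decide_eq_true_eq] at ha hb hba hbn
    rcases hct : D.commTerms (cert.getD s (9, 0, 0)).2.1 (cert.getD s (9, 0, 0)).2.2 with
      _ | ⟨c1, _ | ⟨c2, rest⟩⟩
    · rw [hct] at hm
      exact absurd hm (by simp)
    · rw [hct] at hm
      exact absurd hm (by simp)
    · rw [hct] at hm
      simp only [Bool.and_eq_true, Bool.or_eq_true, decide_eq_true_eq, beq_iff_eq, List.all_eq_true] at hm
      obtain ⟨⟨⟨⟨⟨⟨⟨hc1, hc2⟩, hε1⟩, hε2⟩, hij1⟩, hij2⟩, hs12⟩, hrest⟩ := hm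
      obtain ⟨s₁, ε₁, ij1⟩ := c1
      obtain ⟨s₂, ε₂, ij2⟩ := c2
      simp only at hc1 hc2 hε1 hε2 hij1 hij2 hs12
      subst hij1 hij2
      have hboth := h.mem_of_K4 _ _ ha hb hba hbn s₁ s₂ ε₁ ε₂ rest hc1 hc2 hct hε1 hε2
        (fun c hc w => stage1 c.1 (hrest c hc).1 (hrest c hc).2 w) t₀ ht0 ht1 v
      rcases hs12 with rfl | rfl
      · exact hboth.1
      · exact hboth.2

/-- a group generated by the `X r t` all of which are commutators is perfect -/
theorem commutator_eq_top_of {D : ChevalleyDatum} {X : ℕ → K → Γ}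
    (hgen : ∀ H : Subgroup Γ, (∀ r < D.nroots, ∀ t : K, X r t ∈ H) → H = ⊤)
    (hall : ∀ s < D.nroots, ∀ v : K, X s v ∈ commutator Γ) : commutator Γ = ⊤ :=
  hgen _ hall

end Cfsg.Agent.Helper6.StC
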