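import Mathlib
import Cfsg.Agent.Lib.Helper6.StCover

/-!
The collection process in a group with Steinberg's relations (R1), (R2): for a list `L` of roots which is
"closed to the right" (the commutator formula of two of its members only involves later members), the subgroup
generated by the `X_r`, `r ∈ L`, consists of the ordered products `∏_{r ∈ L} X_r(t_r)`.
-/

set_option autoImplicit false
set_option linter.unusedSectionVars false
set_option linter.unusedVariables false

namespace Cfsg.Agent.Helper6.StC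

open Cfsg Cfsg.Lie

variable {K : Type*} [Field K] {Γ : Type*} [Group Γ]

theorem wordG_append (X : ℕ → K → Γ) (w₁ w₂ : List (ℕ × K)) :
    wordG X (w₁ ++ w₂) = wordG X w₁ * wordG X w₂ := by
  unfold wordG
  rw [List.map_append, List.prod_append]

/-- the ordered product `∏_{r ∈ L} X_r(t_r)` -/
def prodX (X : ℕ → K → Γ) (L : List ℕ) (t : ℕ → K) : Γ := wordG X (L.map fun r => (r, t r))

theorem prodX_nil (X : ℕ → K → Γ) (t : ℕ → K) : prodX X [] t = 1 := rfl

theorem prodX_cons (X : ℕ → K → Γ) (r : ℕ) (L : List ℕ) (t : ℕ → K) :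
    prodX X (r :: L) t = X r (t r) * prodX X L t := by
  unfold prodX
  rw [List.map_cons, wordG_cons]

theorem prodX_congr (X : ℕ → K → Γ) (L : List ℕ) (t t' : ℕ → K) (h : ∀ r ∈ L, t r = t' r) :
    prodX X L t = prodX X L t' := by
  unfold prodX
  congr 1
  apply List.map_congr_left
  intro r hr
  rw [h r hr]

theorem prodX_update (X : ℕ → K → Γ) (L : List ℕ) (t : ℕ → K) (r : ℕ) (c : K) (hr : r ∉ L) :
    prodX X L (Function.update t r c) = prodX X L t := by
  apply prodX_congr
  intro s hs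
  have : s ≠ r := fun h => hr (h ▸ hs)
  simp [Function.update, this]

/-- the set of ordered products over `L` is closed under right multiplication by the `X_s(a)`, `s ∈ L` -/
def ClosedL (X : ℕ → K → Γ) (L : List ℕ) : Prop :=
  ∀ t : ℕ → K, ∀ s ∈ L, ∀ a : K, ∃ t' : ℕ → K, prodX X L t * X s a = prodX X L t'

theorem closed_mulWord (X : ℕ → K → Γ) (L : List ℕ) (hc : ClosedL X L)
    (w : List (ℕ × K)) (hw : ∀ q ∈ w, q.1 ∈ L) (t : ℕ → K) :
    ∃ t' : ℕ → K, prodX X L t * wordG X w = prodX X L t' := by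
  induction w generalizing t with
  | nil => exact ⟨t, by rw [wordG_nil, mul_one]⟩
  | cons q w ih =>
    obtain ⟨t₁, h₁⟩ := hc t q.1 (hw q List.mem_cons_self) q.2
    obtain ⟨t₂, h₂⟩ := ih (fun q' hq' => hw q' (List.mem_cons_of_mem _ hq')) t₁
    exact ⟨t₂, by rw [wordG_cons, ← mul_assoc, h₁, h₂]⟩

/-- closed to the right -/
def RightClosed (D : ChevalleyDatum) : List ℕ → Prop
  | [] => True
  | r :: L => r < D.nroots ∧ r ∉ L ∧
      (∀ s ∈ L, s < D.nroots ∧ s ≠ r ∧ s ≠ D.neg r ∧ ∀ c ∈ D.commTerms r s, c.1 ∈ L) ∧ RightClosed D L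

theorem RightClosed.lt {D : ChevalleyDatum} {L : List ℕ} (h : RightClosed D L) : ∀ s ∈ L, s < D.nroots := by
  induction L with
  | nil => intro s hs; simp at hs
  | cons r L ih =>
    intro s hs
    rcases List.mem_cons.1 hs with rfl | hs
    · exact h.1
    · exact ih h.2.2.2 s hs

theorem RightClosed.nodup {D : ChevalleyDatum} {L : List ℕ} (h : RightClosed D L) : L.Nodup := by
  induction L with
  | nil => exact List.nodup_nil
  | cons r L ih => exact List.nodup_cons.2 ⟨h.2.1, ih h.2.2.2⟩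

namespace StRel

variable {D : ChevalleyDatum} {X : ℕ → K → Γ} (h : StRel D X)
include h

theorem prodX_zero (L : List ℕ) (hL : ∀ s ∈ L, s < D.nroots) : prodX X L (fun _ => (0 : K)) = 1 := by
  induction L with
  | nil => exact prodX_nil X _
  | cons r L ih =>
    rw [prodX_cons, h.zero r (hL r List.mem_cons_self),
      ih (fun s hs => hL s (List.mem_cons_of_mem _ hs)), one_mul]

/-- the commutator relation in the form used by the collection process -/
theorem comm' (r s : ℕ) (hr : r < D.nroots) (hs : s < D.nroots) (hne : s ≠ r) (hne' : s ≠ D.neg r)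
    (t u : K) : X s u * X r t = X r t * X s u * wordG X (D.commWord K r s t u) := by
  rw [← h.comm r hr s hs hne hne' t u]
  group

/-- moving `X_r(a)` to the left through a word over `L'` -/
theorem word_mul_x (r : ℕ) (L' : List ℕ) (hL' : ∀ s ∈ L', s < D.nroots) (hc : ClosedL X L')
    (hcomm : ∀ s ∈ L', ∀ a b : K, ∃ w : List (ℕ × K), (∀ q ∈ w, q.1 ∈ L') ∧
      X s b * X r a = X r a * X s b * wordG X w)
    (a : K) (w : List (ℕ × K)) (hw : ∀ q ∈ w, q.1 ∈ L') :
    ∃ t₂ : ℕ → K, wordG X w * X r a = X r a * prodX X L' t₂ := by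
  induction w using List.reverseRecOn with
  | nil => exact ⟨fun _ => 0, by rw [wordG_nil, one_mul, h.prodX_zero L' hL', mul_one]⟩
  | append_singleton w q ih =>
    have hq : q.1 ∈ L' := hw q (by simp)
    obtain ⟨t₁, h₁⟩ := ih (fun q' hq' => hw q' (by simp [hq']))
    obtain ⟨wq, hwq, hcq⟩ := hcomm q.1 hq a q.2
    obtain ⟨t₂, h₂⟩ := hc t₁ q.1 hq q.2
    obtain ⟨t₃, h₃⟩ := closed_mulWord X L' hc wq hwq t₂
    refine ⟨t₃, ?_⟩
    rw [wordG_append, wordG_cons, wordG_nil, mul_one, mul_assoc, hcq, ← mul_assoc, ← mul_assoc,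
      h₁, mul_assoc (X r a), h₂, mul_assoc, h₃]

theorem closed_cons (r : ℕ) (L' : List ℕ) (hr : r < D.nroots)
    (hL' : ∀ s ∈ L', s < D.nroots) (hrL : r ∉ L') (hc : ClosedL X L')
    (hcomm : ∀ s ∈ L', ∀ a b : K, ∃ w : List (ℕ × K), (∀ q ∈ w, q.1 ∈ L') ∧
      X s b * X r a = X r a * X s b * wordG X w) :
    ClosedL X (r :: L') := by
  intro t s hs a
  rcases List.mem_cons.1 hs with rfl | hs
  · obtain ⟨t₂, h₂⟩ := h.word_mul_x s L' hL' hc hcomm a (L'.map fun r => (r, t r)) (by
      intro q hq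
      obtain ⟨r', hr', rfl⟩ := List.mem_map.1 hq
      exact hr')
    refine ⟨Function.update t₂ s (t s + a), ?_⟩
    rw [prodX_cons, prodX_cons, prodX_update X L' t₂ s _ hrL, mul_assoc]
    change X s (t s) * (wordG X _ * X s a) = _
    rw [h₂, ← mul_assoc, h.add s hr]
    simp [Function.update]
  · obtain ⟨t₁, h₁⟩ := hc t s hs a
    refine ⟨Function.update t₁ r (t r), ?_⟩
    rw [prodX_cons, prodX_cons, prodX_update X L' t₁ r _ hrL, mul_assoc, h₁]
    simp [Function.update]

theorem closedL_of_rightClosed (L : List ℕ) (hL : RightClosed D L) : ClosedL X L := by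
  induction L with
  | nil =>
    intro t s hs
    simp at hs
  | cons r L' ih =>
    obtain ⟨hr, hrL, hall, hL'⟩ := hL
    apply h.closed_cons r L' hr hL'.lt hrL (ih hL')
    intro s hs a b
    obtain ⟨hs1, hs2, hs3, hs4⟩ := hall s hs
    refine ⟨D.commWord K r s a b, ?_, h.comm' r s hr hs1 hs2 hs3 a b⟩
    intro q hq
    unfold ChevalleyDatum.commWord at hq
    obtain ⟨c, hc, rfl⟩ := List.mem_map.1 hq
    exact hs4 c hc

/-- every element of the subgroup generated by the `X_s`, `s ∈ L`, is an ordered product -/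
theorem exists_prodX_of_mem (L : List ℕ) (hL : RightClosed D L) (g : Γ)
    (hg : g ∈ Subgroup.closure {y : Γ | ∃ s ∈ L, ∃ a : K, y = X s a}) :
    ∃ t : ℕ → K, g = prodX X L t := by
  have hcl := h.closedL_of_rightClosed L hL
  induction hg using Subgroup.closure_induction_right with
  | one => exact ⟨fun _ => 0, (h.prodX_zero L hL.lt).symm⟩
  | mul_right x hx y hy ih =>
    obtain ⟨t, ht⟩ := ih
    obtain ⟨s, hs, a, rfl⟩ := hy
    obtain ⟨t', ht'⟩ := hcl t s hs a
    exact ⟨t', by rw [ht, ht']⟩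
  | mul_inv_cancel x hx y hy ih =>
    obtain ⟨t, ht⟩ := ih
    obtain ⟨s, hs, a, rfl⟩ := hy
    obtain ⟨t', ht'⟩ := hcl t s hs (-a)
    exact ⟨t', by rw [ht, h.inv s (hL.lt s hs), ht']⟩

/-- ordered products lie in the subgroup generated by the `X_s`, `s ∈ L` -/
theorem prodX_mem (L : List ℕ) (t : ℕ → K) :
    prodX X L t ∈ Subgroup.closure {y : Γ | ∃ s ∈ L, ∃ a : K, y = X s a} := by
  unfold prodX
  apply h.wordG_mem
  intro q hq
  obtain ⟨r, hr, rfl⟩ := List.mem_map.1 hq
  exact Subgroup.subset_closure ⟨r, hr, _, rfl⟩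

end StRel

end Cfsg.Agent.Helper6.StC
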