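import Mathlib
import Cfsg.Agent.Lib.Helper6.StColl
import Cfsg.Agent.Lib.Lead.ChevFactsAll
import Cfsg.Agent.Lib.Lead.ChevU1
import Cfsg.Agent.Lib.Lead.ChevBN2

/-!
The roots occurring in the commutator formula are compatible with the fundamental reflections; hence every
image `w(Φ⁺)` of the list of positive roots under a Weyl word is closed to the right.
-/

set_option autoImplicit false
set_option linter.unusedSectionVars false
set_option linter.unusedVariables false

namespace Cfsg.Agent.Helper6.StC

open Cfsg Cfsg.Lie Cfsg.Agent.Lead.Chev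

/-- the supports of the commutator formula are compatible with the fundamental reflections -/
def SuppEquiv (D : ChevalleyDatum) : Prop :=
  ∀ i < D.rank, ∀ r < D.nroots, ∀ s < D.nroots, s ≠ r → s ≠ D.neg r →
    ∀ c ∈ D.commTerms (D.reflectRoot i r) (D.reflectRoot i s),
      ∃ c' ∈ D.commTerms r s, c.1 = D.reflectRoot i c'.1

/-- the direct table check of `SuppEquiv` -/
def suppChk (D : ChevalleyDatum) (i r : ℕ) : Bool :=
  (List.range D.nroots).all fun s => decide (s = r) || decide (s = D.neg r) ||
    (D.commTerms (D.reflectRoot i r) (D.reflectRoot i s)).all fun c =>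
      (D.commTerms r s).any fun c' => decide (c.1 = D.reflectRoot i c'.1)

theorem suppEquiv_of_chk (D : ChevalleyDatum)
    (h : ∀ i < D.rank, ∀ r < D.nroots, suppChk D i r = true) : SuppEquiv D := by
  intro i hi r hr s hs hne hne' c hc
  have h1 := h i hi r hr
  unfold suppChk at h1
  rw [List.all_eq_true] at h1
  have h2 := h1 s (List.mem_range.2 hs)
  simp only [Bool.or_eq_true, decide_eq_true_eq, List.all_eq_true, List.any_eq_true] at h2
  rcases h2 with (h2 | h2) | h2
  · exact absurd h2 hne
  · exact absurd h2 hne'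
  · exact h2 c hc

/-- simply-laced data -/
theorem suppEquiv_of_SL (D : ChevalleyDatum) (hSL : ∀ r < D.nroots, SLRoot D r)
    (hnd : ∀ r < D.nroots, ((rowOf D r).map Prod.fst).Nodup) (η : ℕ → ℕ → ℤ)
    (hfa : ∀ i < D.rank, NXFacts D (η i) i) : SuppEquiv D := by
  intro i hi r hr s hs hne hne' c hc
  have key := (commTerms_reflect_SL D hSL hnd i (η i) (hfa i hi) r s hr hs hne hne').2
  rw [key] at hc
  obtain ⟨c', hc', rfl⟩ := List.mem_map.1 hc
  exact ⟨c', hc', rfl⟩

variable {D : ChevalleyDatum}

theorem reflWord_injOn (η : ℕ → ℕ → ℤ) (hfa : ∀ i < D.rank, NXFacts D (η i) i)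
    (w : List ℕ) (hw : ∀ i ∈ w, i < D.rank) (r s : ℕ) (hr : r < D.nroots) (hs : s < D.nroots)
    (h : reflWord D w r = reflWord D w s) : r = s := by
  have h1 := reflWord_reverse_cancel' D η hfa w hw r hr
  have h2 := reflWord_reverse_cancel' D η hfa w hw s hs
  rw [← h1, h, h2]

theorem suppEquiv_word (hE : SuppEquiv D) (η : ℕ → ℕ → ℤ) (hfa : ∀ i < D.rank, NXFacts D (η i) i)
    (w : List ℕ) (hw : ∀ i ∈ w, i < D.rank) (r s : ℕ) (hr : r < D.nroots) (hs : s < D.nroots)
    (hne : s ≠ r) (hne' : s ≠ D.neg r) :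
    ∀ c ∈ D.commTerms (reflWord D w r) (reflWord D w s),
      ∃ c' ∈ D.commTerms r s, c.1 = reflWord D w c'.1 := by
  induction w with
  | nil =>
    intro c hc
    exact ⟨c, hc, rfl⟩
  | cons i w ih =>
    have hw' : ∀ j ∈ w, j < D.rank := fun j hj => hw j (List.mem_cons_of_mem _ hj)
    have hi : i < D.rank := hw i List.mem_cons_self
    intro c hc
    simp only [reflWord] at hc
    have hr' := reflWord_lt D η hfa w hw' r hr
    have hs' := reflWord_lt D η hfa w hw' s hs
    have hne1 : reflWord D w s ≠ reflWord D w r := fun h =>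
      hne (reflWord_injOn η hfa w hw' s r hs hr h)
    have hne2 : reflWord D w s ≠ D.neg (reflWord D w r) := by
      rw [← reflWord_neg D η hfa w hw' r hr]
      exact fun h => hne' (reflWord_injOn η hfa w hw' s _ hs ((hfa i hi).nlt r hr) h)
    obtain ⟨c₁, hc₁, e₁⟩ := hE i hi _ hr' _ hs' hne1 hne2 c hc
    obtain ⟨c₂, hc₂, e₂⟩ := ih hw' c₁ hc₁
    refine ⟨c₂, hc₂, ?_⟩
    rw [e₁, e₂]
    rfl

/-- the image of a right-closed list under a Weyl word is right-closed -/
theorem rightClosed_map (hE : SuppEquiv D) (η : ℕ → ℕ → ℤ) (hfa : ∀ i < D.rank, NXFacts D (η i) i)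
    (hrk : 0 < D.rank)
    (w : List ℕ) (hw : ∀ i ∈ w, i < D.rank) (L : List ℕ) (hL : RightClosed D L) :
    RightClosed D (L.map (reflWord D w)) := by
  induction L with
  | nil => trivial
  | cons r L ih =>
    obtain ⟨hr, hrL, hall, hL'⟩ := hL
    rw [List.map_cons]
    refine ⟨reflWord_lt D η hfa w hw r hr, ?_, ?_, ih hL'⟩
    · intro hmem
      obtain ⟨s, hs, e⟩ := List.mem_map.1 hmem
      have := reflWord_injOn η hfa w hw s r (hL'.lt s hs) hr e
      exact hrL (this ▸ hs)
    · intro s' hs'
      obtain ⟨s, hs, rfl⟩ := List.mem_map.1 hs'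
      obtain ⟨hs1, hs2, hs3, hs4⟩ := hall s hs
      refine ⟨reflWord_lt D η hfa w hw s hs1, ?_, ?_, ?_⟩
      · exact fun h => hs2 (reflWord_injOn η hfa w hw s r hs1 hr h)
      · rw [← reflWord_neg D η hfa w hw r hr]
        exact fun h => hs3 (reflWord_injOn η hfa w hw s _ hs1 ((hfa 0 hrk).nlt r hr) h)
      · intro c hc
        obtain ⟨c', hc', e⟩ := suppEquiv_word hE η hfa w hw r s hr hs1 hs2 hs3 c hc
        rw [e]
        exact List.mem_map.2 ⟨c'.1, hs4 c' hc', rfl⟩

/-- the list of positive roots (from a given index on) is right-closed -/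
theorem rightClosed_posFrom (hP : PosComm D) (k : ℕ) : RightClosed D (posFrom D (D.nroots - k)) := by
  induction k with
  | zero =>
    rw [Nat.sub_zero, posFrom_ge D _ le_rfl]
    trivial
  | succ k ih =>
    by_cases hk : D.nroots ≤ k
    · have : D.nroots - (k + 1) = D.nroots - k := by omega
      rw [this]
      exact ih
    · have hlo : D.nroots - (k + 1) < D.nroots := by omega
      have e : D.nroots - (k + 1) + 1 = D.nroots - k := by omega
      rw [posFrom_lt D _ hlo, e]
      by_cases hp : D.IsPosRoot (D.nroots - (k + 1))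
      · rw [if_pos hp]
        refine ⟨hlo, ?_, ?_, ih⟩
        · intro hmem
          have := ((mem_posFrom D _ _).1 hmem).1
          omega
        · intro s hs
          obtain ⟨hs1, hs2⟩ := (mem_posFrom D _ s).1 hs
          have hlt : D.nroots - (k + 1) < s := by omega
          obtain ⟨hne, hroots⟩ := hP _ s hp hs2 hlt
          refine ⟨hs2.1, by omega, hne, ?_⟩
          intro c hc
          obtain ⟨h1, h2⟩ := hroots c hc
          exact (mem_posFrom D _ _).2 ⟨by omega, h1⟩
      · rw [if_neg hp]
        exact ih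

theorem rightClosed_posRoots (hP : PosComm D) : RightClosed D D.posRoots := by
  have := rightClosed_posFrom hP D.nroots
  rwa [Nat.sub_self, posFrom_zero] at this

end Cfsg.Agent.Helper6.StC
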