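import Mathlib
import Cfsg.Agent.Lib.Helper6.StEquiv
import Cfsg.Agent.Lib.Lead.ChevU3
import Cfsg.Agent.Lib.Lead.ChevWeyl

/-!
A group `Γ` with elements `X r t` satisfying Steinberg's relations (R1), (R2), mapped to the Chevalley group
by `X r t ↦ x_r(t)`: the map is injective on each subgroup generated by the `X s`, `s ∈ w(Φ⁺)`.
-/

set_option autoImplicit false
set_option linter.unusedSectionVars false
set_option linter.unusedVariables false

namespace Cfsg.Agent.Helper6.StC

open Cfsg Cfsg.Lie Cfsg.Agent.Lead.Chev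

variable {K : Type*} [Field K] {Γ : Type*} [Group Γ]

/-- the standing hypotheses -/
structure Setup (D : ChevalleyDatum) (X : ℕ → K → Γ) (θ : Γ →* GL D.Idx K) : Prop where
  rel : StRel D X
  facts : ChevFacts D K
  map : ∀ r < D.nroots, ∀ t : K, θ (X r t) = xGL D facts.xadd r t
  equiv : SuppEquiv D
  rank_pos : 0 < D.rank
  xinj : ∀ r < D.nroots, ∀ t : K, D.x K r t = 1 → t = 0

/-- the image of the list of positive roots under a Weyl word -/
def listW (D : ChevalleyDatum) (w : List ℕ) : List ℕ := D.posRoots.map (reflWord D w)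

/-- the subgroup generated by the `X s`, `s` in a list -/
def subL (X : ℕ → K → Γ) (L : List ℕ) : Subgroup Γ :=
  Subgroup.closure {y : Γ | ∃ s ∈ L, ∃ a : K, y = X s a}

theorem mem_subL (X : ℕ → K → Γ) (L : List ℕ) (s : ℕ) (hs : s ∈ L) (a : K) : X s a ∈ subL X L :=
  Subgroup.subset_closure ⟨s, hs, a, rfl⟩

theorem subL_mono (X : ℕ → K → Γ) {L L' : List ℕ} (h : ∀ s ∈ L, s ∈ L') : subL X L ≤ subL X L' := by
  apply Subgroup.closure_mono
  rintro y ⟨s, hs, a, rfl⟩
  exact ⟨s, h s hs, a, rfl⟩

namespace Setup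

variable {D : ChevalleyDatum} {X : ℕ → K → Γ} {θ : Γ →* GL D.Idx K} (S : Setup D X θ)
include S

theorem pos_lt (c : ℕ) (hc : c ∈ D.posRoots) : c < D.nroots := by
  rw [← posFrom_zero, mem_posFrom] at hc
  exact hc.2.1

theorem pos_of_mem (c : ℕ) (hc : c ∈ D.posRoots) : D.IsPosRoot c := by
  rw [← posFrom_zero, mem_posFrom] at hc
  exact hc.2

theorem mem_pos (c : ℕ) (hc : D.IsPosRoot c) : c ∈ D.posRoots := by
  rw [← posFrom_zero, mem_posFrom]
  exact ⟨Nat.zero_le _, hc⟩

theorem xGL_inj (r : ℕ) (hr : r < D.nroots) (a b : K)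
    (h : xGL D S.facts.xadd r a = xGL D S.facts.xadd r b) : a = b := by
  have h1 : xGL D S.facts.xadd r (a - b) = 1 := by
    rw [sub_eq_add_neg, ← xGL_mul, ← xGL_inv, h, mul_inv_cancel]
  have h2 := congrArg (fun g : GL D.Idx K => (g : Matrix D.Idx D.Idx K)) h1
  simp only [xGL_val, Units.val_one] at h2
  exact sub_eq_zero.1 (S.xinj r hr _ h2)

theorem rightClosed_listW (w : List ℕ) (hw : ∀ i ∈ w, i < D.rank) : RightClosed D (listW D w) :=
  rightClosed_map S.equiv (etaOf D) S.facts.facts S.rank_pos w hw _ (rightClosed_posRoots S.facts.poscomm)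

theorem map_wordG (w : List (ℕ × K)) (hw : ∀ q ∈ w, q.1 < D.nroots) :
    θ (wordG X w) = wordGL D S.facts.xadd w := by
  induction w with
  | nil => rw [wordG_nil, wordGL_nil, map_one]
  | cons q w ih =>
    rw [wordG_cons, wordGL_cons, map_mul, S.map q.1 (hw q List.mem_cons_self),
      ih fun q' hq' => hw q' (List.mem_cons_of_mem _ hq')]

/-- conjugating a word by `n_w` -/
theorem conj_wordGL (w : List ℕ) (hw : ∀ i ∈ w, i < D.rank) (M : List ℕ) (hM : ∀ c ∈ M, c < D.nroots)
    (f : ℕ → K) :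
    nWordGL D S.facts.xadd w * wordGL D S.facts.xadd (M.map fun c => (c, f c)) *
        (nWordGL D S.facts.xadd w)⁻¹ =
      wordGL D S.facts.xadd
        (M.map fun c => (reflWord D w c, ((signWord D (etaOf D) w c : ℤ) : K) * f c)) := by
  induction M with
  | nil => simp [wordGL_nil]
  | cons c M ih =>
    have hM' : ∀ c' ∈ M, c' < D.nroots := fun c' hc' => hM c' (List.mem_cons_of_mem _ hc')
    rw [List.map_cons, List.map_cons, wordGL_cons, wordGL_cons, ← ih hM',
      ← nWordGL_conj D S.facts.xadd (etaOf D) S.facts.nsimple w hw c (hM c List.mem_cons_self)]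
    group

/-- the map is injective on the subgroup generated by the `X s`, `s ∈ w(Φ⁺)` -/
theorem inj (w : List ℕ) (hw : ∀ i ∈ w, i < D.rank) (g g' : Γ)
    (hg : g ∈ subL X (listW D w)) (hg' : g' ∈ subL X (listW D w)) (h : θ g = θ g') : g = g' := by
  have hRC := S.rightClosed_listW w hw
  obtain ⟨t, rfl⟩ := S.rel.exists_prodX_of_mem _ hRC g hg
  obtain ⟨t', rfl⟩ := S.rel.exists_prodX_of_mem _ hRC g' hg'
  have hsg : ∀ c, ((signWord D (etaOf D) w c : ℤ) : K) * ((signWord D (etaOf D) w c : ℤ) : K) = 1 := by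
    intro c
    rcases signWord_sq D (etaOf D) w (fun j hj s => (S.facts.nsimple j (hw j hj)).sign s) c with h1 | h1 <;>
      rw [h1] <;> simp
  have key : ∀ τ : ℕ → K, θ (prodX X (listW D w) τ) =
      nWordGL D S.facts.xadd w * wordGL D S.facts.xadd (D.posRoots.map fun c =>
        (c, ((signWord D (etaOf D) w c : ℤ) : K) * τ (reflWord D w c))) *
        (nWordGL D S.facts.xadd w)⁻¹ := by
    intro τ
    unfold prodX
    rw [S.map_wordG _ (by
      intro q hq
      obtain ⟨r, hr, rfl⟩ := List.mem_map.1 hq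
      exact hRC.lt r hr)]
    rw [S.conj_wordGL w hw _ S.pos_lt]
    unfold listW
    rw [List.map_map]
    congr 1
    apply List.map_congr_left
    intro c hc
    simp only [Function.comp]
    rw [← mul_assoc, hsg, one_mul]
  rw [key, key] at h
  have h2 := mul_left_cancel (mul_right_cancel h)
  have h3 : prodL D D.posRoots (fun c => ((signWord D (etaOf D) w c : ℤ) : K) * t (reflWord D w c)) =
      prodL D D.posRoots (fun c => ((signWord D (etaOf D) w c : ℤ) : K) * t' (reflWord D w c)) := by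
    have := congrArg (fun g : GL D.Idx K => (g : Matrix D.Idx D.Idx K)) h2
    simp only [wordGL_val] at this
    exact this
  have h4 := prodL_posRoots_inj D S.facts.ufacts S.facts.xadd.add S.facts.xadd.zero _ _ h3
  apply prodX_congr
  intro r hr
  unfold listW at hr
  obtain ⟨c, hc, rfl⟩ := List.mem_map.1 hr
  have h5 := h4 c (S.pos_of_mem c hc)
  have h6 := congrArg (fun z => ((signWord D (etaOf D) w c : ℤ) : K) * z) h5
  rwa [← mul_assoc, ← mul_assoc, hsg, one_mul, one_mul] at h6

end Setup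

end Cfsg.Agent.Helper6.StC
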