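import Mathlib
import Cfsg.Agent.Lib.Helper6.StInj
import Cfsg.Agent.Lib.Helper6.ChevLSL2
import Cfsg.Agent.Lib.Lead.ChevRank1
import Cfsg.Agent.Lib.Lead.ChevUp

/-!
The elements `n̄_i(t) = X_p(t) X_{-p}(-t⁻¹) X_p(t)` of a group with Steinberg's relations (R1), (R2) conjugate
the `X_s(u)` as the corresponding elements of the Chevalley group do.
-/

set_option autoImplicit false
set_option linter.unusedSectionVars false
set_option linter.unusedVariables false

namespace Cfsg.Agent.Helper6.StC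

open Cfsg Cfsg.Lie Cfsg.Agent.Lead.Chev Cfsg.Agent.Helper6.ChevL

variable {K : Type*} [Field K] {Γ : Type*} [Group Γ]

/-- `n̄_r(t)` -/
def nG (D : ChevalleyDatum) (X : ℕ → K → Γ) (r : ℕ) (t : K) : Γ := X r t * X (D.neg r) (-t⁻¹) * X r t

/-- the subgroup generated by the `X s`, `s` satisfying a predicate -/
def subP (X : ℕ → K → Γ) (T : ℕ → Prop) : Subgroup Γ :=
  Subgroup.closure {y : Γ | ∃ s, T s ∧ ∃ a : K, y = X s a}

theorem mem_subP (X : ℕ → K → Γ) (T : ℕ → Prop) (s : ℕ) (hs : T s) (a : K) : X s a ∈ subP X T :=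
  Subgroup.subset_closure ⟨s, hs, a, rfl⟩

theorem subP_le_subL (X : ℕ → K → Γ) (T : ℕ → Prop) (L : List ℕ) (h : ∀ s, T s → s ∈ L) :
    subP X T ≤ subL X L := by
  apply Subgroup.closure_mono
  rintro y ⟨s, hs, a, rfl⟩
  exact ⟨s, h s hs, a, rfl⟩

/-- the negative analogue of `upChk` -/
def downChk (D : ChevalleyDatum) (i : ℕ) : Bool :=
  (List.range D.nroots).all fun s =>
    !decide (D.IsNegRoot s) || decide (s = D.neg (D.simple i)) ||
      (decide (s ≠ D.simple i) &&
        (D.commTerms (D.simple i) s).all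
          (fun c => decide (D.IsNegRoot c.1) && decide (c.1 ≠ D.neg (D.simple i))) &&
        (D.commTerms (D.neg (D.simple i)) s).all
          (fun c => decide (D.IsNegRoot c.1) && decide (c.1 ≠ D.neg (D.simple i))))

theorem down_of_chk (D : ChevalleyDatum) (i : ℕ) (h : downChk D i = true) (s : ℕ) (hs : D.IsNegRoot s)
    (hsp : s ≠ D.neg (D.simple i)) :
    s ≠ D.simple i ∧
      (∀ c ∈ D.commTerms (D.simple i) s, D.IsNegRoot c.1 ∧ c.1 ≠ D.neg (D.simple i)) ∧
      (∀ c ∈ D.commTerms (D.neg (D.simple i)) s, D.IsNegRoot c.1 ∧ c.1 ≠ D.neg (D.simple i)) := by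
  unfold downChk at h
  rw [List.all_eq_true] at h
  have h1 := h s (List.mem_range.2 hs.1)
  simp only [Bool.or_eq_true, Bool.and_eq_true, Bool.not_eq_true', decide_eq_false_iff_not,
    decide_eq_true_eq, List.all_eq_true] at h1
  rcases h1 with (h1 | h1) | h1
  · exact absurd hs h1
  · exact absurd h1 hsp
  · exact ⟨h1.1.1, fun c hc => h1.1.2 c hc, fun c hc => h1.2 c hc⟩

/-- the certificate for the conjugation of `X_p` by `n̄_p(t)`, `p` fundamental -/
def StepC (D : ChevalleyDatum) (i : ℕ) : Prop :=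
  ∃ a b : ℕ, ∃ w : List ℕ, ∃ pre post : List (ℕ × ℤ × ℕ × ℕ), ∃ ε : ℤ, ∃ k : ℕ,
    a < D.nroots ∧ b < D.nroots ∧ b ≠ a ∧ b ≠ D.neg a ∧ (∀ j ∈ w, j < D.rank) ∧ (ε = 1 ∨ ε = -1) ∧
    D.commTerms a b = pre ++ (D.simple i, ε, k, 1) :: post ∧
    (∀ c ∈ a :: b :: ((pre ++ post).map Prod.fst),
      c ∈ listW D w ∧ c ≠ D.simple i ∧ c ≠ D.neg (D.simple i)) ∧
    D.simple i ∈ listW D w

/-- the combinatorial facts needed -/
structure StData (D : ChevalleyDatum) : Prop where
  equiv : SuppEquiv D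
  rank_pos : 0 < D.rank
  down : ∀ i < D.rank, downChk D i = true
  stepC : ∀ i < D.rank, StepC D i
  diag2 : ∀ j < D.rank, D.cartan j (D.simple j) = 2

namespace StRel

variable {D : ChevalleyDatum} {X : ℕ → K → Γ} (h : StRel D X)
include h

theorem nG_inv (r : ℕ) (hr : r < D.nroots) (hnr : D.neg r < D.nroots) (t : K) :
    (nG D X r t)⁻¹ = nG D X r (-t) := by
  unfold nG
  rw [mul_inv_rev, mul_inv_rev, h.inv r hr, h.inv _ hnr, mul_assoc, inv_neg]

/-- the general normalisation lemma -/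
theorem conj_mem (a : ℕ) (ha : a < D.nroots) (T : ℕ → Prop)
    (hT : ∀ s, T s → s < D.nroots ∧ s ≠ a ∧ s ≠ D.neg a ∧ ∀ c ∈ D.commTerms a s, T c.1)
    (t : K) (g : Γ) (hg : g ∈ subP X T) : X a t * g * (X a t)⁻¹ ∈ subP X T := by
  have hle : subP X T ≤ (subP X T).comap (MulAut.conj (X a t)).toMonoidHom := by
    unfold subP
    rw [Subgroup.closure_le]
    rintro y ⟨s, hs, u, rfl⟩
    refine Subgroup.mem_comap.2 ?_
    rw [MulEquiv.coe_toMonoidHom, MulAut.conj_apply]
    obtain ⟨hs1, hs2, hs3, hs4⟩ := hT s hs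
    have e := h.comm' a s ha hs1 hs2 hs3 (-t) u
    have e2 : X a t * X s u * (X a t)⁻¹ = X s u * wordG X (D.commWord K a s (-t) u) := by
      rw [h.inv a ha, mul_assoc, e, ← mul_assoc, ← mul_assoc, h.add a ha, add_neg_cancel, h.zero a ha,
        one_mul]
    rw [e2]
    refine mul_mem (Subgroup.subset_closure ⟨s, hs, u, rfl⟩) ?_
    apply h.wordG_mem
    intro q hq
    unfold ChevalleyDatum.commWord at hq
    obtain ⟨c, hc, rfl⟩ := List.mem_map.1 hq
    exact Subgroup.subset_closure ⟨c.1, hs4 c hc, _, rfl⟩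
  exact hle hg

/-- `n̄_r(t)` normalises the subgroup generated by the `X s`, `T s`, when `X_r` and `X_{-r}` do -/
theorem nG_conj_mem (a : ℕ) (ha : a < D.nroots) (hna : D.neg a < D.nroots) (T : ℕ → Prop)
    (hT : ∀ s, T s → s < D.nroots ∧ s ≠ a ∧ s ≠ D.neg a ∧ ∀ c ∈ D.commTerms a s, T c.1)
    (hT' : ∀ s, T s → s < D.nroots ∧ s ≠ D.neg a ∧ s ≠ D.neg (D.neg a) ∧
      ∀ c ∈ D.commTerms (D.neg a) s, T c.1)
    (t : K) (g : Γ) (hg : g ∈ subP X T) : nG D X a t * g * (nG D X a t)⁻¹ ∈ subP X T := by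
  have h1 := h.conj_mem a ha T hT t g hg
  have h2 := h.conj_mem (D.neg a) hna T hT' (-t⁻¹) _ h1
  have h3 := h.conj_mem a ha T hT t _ h2
  have e : nG D X a t * g * (nG D X a t)⁻¹ =
      X a t * (X (D.neg a) (-t⁻¹) * (X a t * g * (X a t)⁻¹) * (X (D.neg a) (-t⁻¹))⁻¹) * (X a t)⁻¹ := by
    unfold nG
    group
  rw [e]
  exact h3

end StRel

/-- the constant in the conjugation formula for `n_i(t)` -/
noncomputable def cN (D : ChevalleyDatum) (i s : ℕ) (t : K) : K :=
  t ^ (D.cartan i (D.reflectRoot i s)) * ((etaOf D i s : ℤ) : K)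

theorem cN_ne_zero {D : ChevalleyDatum} (hF : ChevFacts D K) (i : ℕ) (hi : i < D.rank) (s : ℕ) (t : K)
    (ht : t ≠ 0) : cN D i s t ≠ 0 := by
  unfold cN
  refine mul_ne_zero (zpow_ne_zero _ ht) ?_
  rcases (hF.nsimple i hi).sign s with h | h <;> rw [h] <;> simp

/-- conjugation by `h_i(c)` in the Chevalley group -/
theorem hGLt_conj {D : ChevalleyDatum} (hF : ChevFacts D K) (i : ℕ) (hi : i < D.rank) (c : K) (hc : c ≠ 0)
    (s : ℕ) (hs : s < D.nroots) (v : K) :
    hGLt D hF.xadd (D.simple i) c * xGL D hF.xadd s v * (hGLt D hF.xadd (D.simple i) c)⁻¹ =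
      xGL D hF.xadd s (c ^ (D.cartan i s) * v) := by
  rw [mul_inv_eq_iff_eq_mul]
  apply Units.ext
  rw [Units.val_mul, Units.val_mul, hGLt_simple_val hF i hi c hc, xGL_val, xGL_val]
  exact hF.hconj i hi s hs c hc v

/-- conjugation by `n_i(t)` in the Chevalley group -/
theorem nGLt_conj {D : ChevalleyDatum} (hF : ChevFacts D K) (i : ℕ) (hi : i < D.rank) (t : K) (ht : t ≠ 0)
    (s : ℕ) (hs : s < D.nroots) (u : K) :
    nGLt D hF.xadd (D.simple i) t * xGL D hF.xadd s u * (nGLt D hF.xadd (D.simple i) t)⁻¹ =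
      xGL D hF.xadd (D.reflectRoot i s) (cN D i s t * u) := by
  rw [nGLt_eq_hGLt_mul, ← nGL_eq_nGLt, mul_inv_rev]
  have e : hGLt D hF.xadd (D.simple i) t * nGL D hF.xadd (D.simple i) * xGL D hF.xadd s u *
      ((nGL D hF.xadd (D.simple i))⁻¹ * (hGLt D hF.xadd (D.simple i) t)⁻¹) =
      hGLt D hF.xadd (D.simple i) t * (nGL D hF.xadd (D.simple i) * xGL D hF.xadd s u *
        (nGL D hF.xadd (D.simple i))⁻¹) * (hGLt D hF.xadd (D.simple i) t)⁻¹ := by group
  rw [e, nGL_conj D hF.xadd i (etaOf D i) (hF.nsimple i hi) s hs,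
    hGLt_conj hF i hi t ht _ ((hF.facts i hi).wlt s hs)]
  unfold cN
  rw [mul_assoc]

namespace Setup

variable {D : ChevalleyDatum} {X : ℕ → K → Γ} {θ : Γ →* GL D.Idx K} (S : Setup D X θ)
include S

theorem map_nG (r : ℕ) (hr : r < D.nroots) (t : K) : θ (nG D X r t) = nGLt D S.facts.xadd r t := by
  unfold nG
  rw [map_mul, map_mul, S.map r hr, S.map _ (S.facts.sign.neg_lt r hr), nGLt_eq]

theorem listW_nil : listW D [] = D.posRoots := by
  unfold listW
  have : ∀ s ∈ D.posRoots, reflWord D [] s = id s := fun s _ => rfl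
  rw [List.map_congr_left this, List.map_id]

theorem listW_cons (i : ℕ) (w : List ℕ) : listW D (i :: w) = (listW D w).map (D.reflectRoot i) := by
  unfold listW
  rw [List.map_map]
  rfl

/-- equality of two elements of `subL X (listW D w)` with the same image -/
theorem eq_of_map_eq (w : List ℕ) (hw : ∀ i ∈ w, i < D.rank) (g : Γ) (hg : g ∈ subL X (listW D w))
    (r : ℕ) (hr : r ∈ listW D w) (a : K) (hθ : θ g = xGL D S.facts.xadd r a) : g = X r a := by
  apply S.inj w hw g _ hg (mem_subL X _ r hr a)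
  rw [hθ, S.map r ((S.rightClosed_listW w hw).lt r hr)]

/-- Step B: the conjugation formula for the roots other than `±p` -/
theorem nG_conj_of_ne (hd : ∀ i < D.rank, downChk D i = true) (i : ℕ) (hi : i < D.rank) (t : K) (ht : t ≠ 0)
    (s : ℕ) (hs : s < D.nroots) (hne : s ≠ D.simple i) (hne' : s ≠ D.neg (D.simple i)) (u : K) :
    nG D X (D.simple i) t * X s u * (nG D X (D.simple i) t)⁻¹ =
      X (D.reflectRoot i s) (cN D i s t * u) := by
  have hF := S.facts
  have hp := hF.simple_lt i hi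
  have hnp := hF.neg_simple_lt i hi
  have hnn := hF.sign.neg_neg _ hp
  have himg : θ (nG D X (D.simple i) t * X s u * (nG D X (D.simple i) t)⁻¹) =
      xGL D hF.xadd (D.reflectRoot i s) (cN D i s t * u) := by
    rw [map_mul, map_mul, map_inv, S.map_nG _ hp, S.map s hs, nGLt_conj hF i hi t ht s hs]
  rcases hF.sign.pos_or_neg s hs with hpos | hneg
  · -- positive roots
    set T : ℕ → Prop := fun c => D.IsPosRoot c ∧ c ≠ D.simple i with hTdef
    have hT : ∀ c, T c → c < D.nroots ∧ c ≠ D.simple i ∧ c ≠ D.neg (D.simple i) ∧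
        ∀ c' ∈ D.commTerms (D.simple i) c, T c'.1 := by
      rintro c ⟨hc1, hc2⟩
      obtain ⟨h1, h2, h3⟩ := up_of_chk D i (hF.up i hi) c hc1 hc2
      exact ⟨hc1.1, hc2, h1, h2⟩
    have hT' : ∀ c, T c → c < D.nroots ∧ c ≠ D.neg (D.simple i) ∧ c ≠ D.neg (D.neg (D.simple i)) ∧
        ∀ c' ∈ D.commTerms (D.neg (D.simple i)) c, T c'.1 := by
      rintro c ⟨hc1, hc2⟩
      obtain ⟨h1, h2, h3⟩ := up_of_chk D i (hF.up i hi) c hc1 hc2
      exact ⟨hc1.1, h1, by rw [hnn]; exact hc2, h3⟩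
    have hmem := S.rel.nG_conj_mem _ hp hnp T hT hT' t _ (mem_subP X T s ⟨hpos, hne⟩ u)
    have hle : subP X T ≤ subL X (listW D []) := by
      apply subP_le_subL
      rintro c ⟨hc1, _⟩
      rw [S.listW_nil]
      exact S.mem_pos c hc1
    apply S.eq_of_map_eq [] (by simp) _ (hle hmem) _ _ _ himg
    rw [S.listW_nil]
    exact S.mem_pos _ (hF.refl.refl_pos i hi s hpos hne)
  · -- negative roots
    obtain ⟨w0, hw0, hw0neg, hw0surj⟩ := hF.w0
    set T : ℕ → Prop := fun c => D.IsNegRoot c ∧ c ≠ D.neg (D.simple i) with hTdef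
    have hT : ∀ c, T c → c < D.nroots ∧ c ≠ D.simple i ∧ c ≠ D.neg (D.simple i) ∧
        ∀ c' ∈ D.commTerms (D.simple i) c, T c'.1 := by
      rintro c ⟨hc1, hc2⟩
      obtain ⟨h1, h2, h3⟩ := down_of_chk D i (hd i hi) c hc1 hc2
      exact ⟨hc1.1, h1, hc2, h2⟩
    have hT' : ∀ c, T c → c < D.nroots ∧ c ≠ D.neg (D.simple i) ∧ c ≠ D.neg (D.neg (D.simple i)) ∧
        ∀ c' ∈ D.commTerms (D.neg (D.simple i)) c, T c'.1 := by
      rintro c ⟨hc1, hc2⟩
      obtain ⟨h1, h2, h3⟩ := down_of_chk D i (hd i hi) c hc1 hc2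
      exact ⟨hc1.1, hc2, by rw [hnn]; exact h1, h3⟩
    have hmem := S.rel.nG_conj_mem _ hp hnp T hT hT' t _ (mem_subP X T s ⟨hneg, hne'⟩ u)
    have hnegmem : ∀ c, D.IsNegRoot c → c ∈ listW D w0 := by
      intro c hc
      obtain ⟨r, hr, hrc⟩ := hw0surj c hc
      exact List.mem_map.2 ⟨r, S.mem_pos r hr, hrc⟩
    have hle : subP X T ≤ subL X (listW D w0) := by
      apply subP_le_subL
      rintro c ⟨hc1, _⟩
      exact hnegmem c hc1
    apply S.eq_of_map_eq w0 hw0 _ (hle hmem) _ _ _ himg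
    apply hnegmem
    -- the reflection of a negative root other than `-p` is negative
    have hns := hF.sign.pos_of_neg s hneg
    have hnsne : D.neg s ≠ D.simple i := by
      intro e
      apply hne'
      rw [← e, hF.sign.neg_neg s hs]
    have h1 := hF.refl.refl_pos i hi _ hns hnsne
    rw [(hF.facts i hi).wneg s hs] at h1
    have h2 := hF.sign.neg_of_pos _ h1
    rwa [hF.sign.neg_neg _ ((hF.facts i hi).wlt s hs)] at h2

theorem reflectRoot_simple (i : ℕ) : D.reflectRoot i (D.simple i) = D.neg (D.simple i) := by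
  unfold ChevalleyDatum.reflectRoot
  simp

theorem reflectRoot_neg_simple (i : ℕ) (hi : i < D.rank) :
    D.reflectRoot i (D.neg (D.simple i)) = D.simple i := by
  have h := (S.facts.facts i hi).wneg _ (S.facts.simple_lt i hi)
  rw [h, S.reflectRoot_simple, S.facts.sign.neg_neg _ (S.facts.simple_lt i hi)]

/-- Step C: the conjugation formula for the root `p` -/
theorem nG_conj_simple (hd : StData D) (i : ℕ) (hi : i < D.rank) (t : K) (ht : t ≠ 0) (u : K) :
    nG D X (D.simple i) t * X (D.simple i) u * (nG D X (D.simple i) t)⁻¹ =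
      X (D.reflectRoot i (D.simple i)) (cN D i (D.simple i) t * u) := by
  have hF := S.facts
  have hp := hF.simple_lt i hi
  have hnp := hF.neg_simple_lt i hi
  obtain ⟨a, b, w, pre, post, ε, k, ha, hb, hba, hbn, hw, hε, hct, hall, hpw⟩ := hd.stepC i hi
  have hRC := S.rightClosed_listW w hw
  set T : ℕ → Prop := fun c => c ∈ listW D w ∧ c ≠ D.simple i ∧ c ≠ D.neg (D.simple i) with hTdef
  -- Step 1: `X p u` lies in the subgroup generated by the other `X c`, `c ∈ w(Φ⁺)`
  have h1 : X (D.simple i) u ∈ subP X T := by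
    have hTa : T a := hall a List.mem_cons_self
    have hTb : T b := hall b (List.mem_cons_of_mem _ List.mem_cons_self)
    have hTc : ∀ c ∈ pre ++ post, T c.1 := by
      intro c hc
      exact hall c.1 (List.mem_cons_of_mem _ (List.mem_cons_of_mem _ (List.mem_map.2 ⟨c, hc, rfl⟩)))
    have hW := S.rel.comm a ha b hb hba hbn (-1) ((ε : K) * u)
    have hlhs : (X b ((ε : K) * u))⁻¹ * (X a (-1))⁻¹ * X b ((ε : K) * u) * X a (-1) ∈ subP X T :=
      mul_mem (mul_mem (mul_mem (inv_mem (mem_subP X T b hTb _)) (inv_mem (mem_subP X T a hTa _)))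
        (mem_subP X T b hTb _)) (mem_subP X T a hTa _)
    rw [hW] at hlhs
    unfold ChevalleyDatum.commWord at hlhs
    rw [hct, List.map_append, List.map_cons, wordG_append, wordG_cons] at hlhs
    have hpre : ∀ l : List (ℕ × ℤ × ℕ × ℕ), (∀ c ∈ l, T c.1) →
        wordG X (l.map fun c => (c.1, (c.2.1 : K) * (-(-1 : K)) ^ c.2.2.1 * ((ε : K) * u) ^ c.2.2.2)) ∈
          subP X T := by
      intro l hl
      apply S.rel.wordG_mem
      intro q hq
      obtain ⟨c, hc, rfl⟩ := List.mem_map.1 hq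
      exact mem_subP X T c.1 (hl c hc) _
    have h2 := hpre pre (fun c hc => hTc c (List.mem_append_left _ hc))
    have h3 := hpre post (fun c hc => hTc c (List.mem_append_right _ hc))
    have h4 := (Subgroup.mul_mem_cancel_left _ h2).1 hlhs
    have h5 := (Subgroup.mul_mem_cancel_right _ h3).1 h4
    have e : (ε : K) * (-(-1 : K)) ^ k * ((ε : K) * u) ^ 1 = u := by
      rcases hε with rfl | rfl <;> simp
    simp only at h5
    rwa [e] at h5
  -- Step 2: conjugation by `n̄` maps this subgroup into the one attached to `i :: w`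
  have hw' : ∀ j ∈ i :: w, j < D.rank := by
    intro j hj
    rcases List.mem_cons.1 hj with rfl | hj
    · exact hi
    · exact hw j hj
  have hle : subP X T ≤ (subL X (listW D (i :: w))).comap
      (MulAut.conj (nG D X (D.simple i) t)).toMonoidHom := by
    unfold subP
    rw [Subgroup.closure_le]
    rintro y ⟨c, ⟨hc1, hc2, hc3⟩, v, rfl⟩
    refine Subgroup.mem_comap.2 ?_
    rw [MulEquiv.coe_toMonoidHom, MulAut.conj_apply,
      S.nG_conj_of_ne hd.down i hi t ht c (hRC.lt c hc1) hc2 hc3 v]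
    apply mem_subL
    rw [S.listW_cons]
    exact List.mem_map.2 ⟨c, hc1, rfl⟩
  have h2 := hle h1
  rw [Subgroup.mem_comap, MulEquiv.coe_toMonoidHom, MulAut.conj_apply] at h2
  -- Step 3: compare the images
  apply S.eq_of_map_eq (i :: w) hw' _ h2
  · rw [S.listW_cons]
    exact List.mem_map.2 ⟨_, hpw, rfl⟩
  · rw [map_mul, map_mul, map_inv, S.map_nG _ hp, S.map _ hp, nGLt_conj hF i hi t ht _ hp]

/-- Step C for the root `-p` -/
theorem nG_conj_neg_simple (hd : StData D) (i : ℕ) (hi : i < D.rank) (t : K) (ht : t ≠ 0) (u : K) :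
    nG D X (D.simple i) t * X (D.neg (D.simple i)) u * (nG D X (D.simple i) t)⁻¹ =
      X (D.reflectRoot i (D.neg (D.simple i))) (cN D i (D.neg (D.simple i)) t * u) := by
  have hF := S.facts
  have hp := hF.simple_lt i hi
  have hnp := hF.neg_simple_lt i hi
  have hc0 := cN_ne_zero hF i hi (D.simple i) (-t) (neg_ne_zero.2 ht)
  have h1 := S.nG_conj_simple hd i hi (-t) (neg_ne_zero.2 ht) (u / cN D i (D.simple i) (-t))
  rw [mul_div_cancel₀ _ hc0, ← S.rel.nG_inv _ hp hnp, inv_inv, S.reflectRoot_simple] at h1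
  have h2 : nG D X (D.simple i) t * X (D.neg (D.simple i)) u * (nG D X (D.simple i) t)⁻¹ =
      X (D.simple i) (u / cN D i (D.simple i) (-t)) := by
    rw [← h1]
    group
  rw [h2, S.reflectRoot_neg_simple i hi]
  have h3 := congrArg θ h2
  rw [map_mul, map_mul, map_inv, S.map_nG _ hp, S.map _ hnp, S.map _ hp, nGLt_conj hF i hi t ht _ hnp,
    S.reflectRoot_neg_simple i hi] at h3
  rw [S.xGL_inj _ hp _ _ h3]

/-- the conjugation formula for all roots -/
theorem nG_conj (hd : StData D) (i : ℕ) (hi : i < D.rank) (t : K) (ht : t ≠ 0) (s : ℕ) (hs : s < D.nroots)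
    (u : K) :
    nG D X (D.simple i) t * X s u * (nG D X (D.simple i) t)⁻¹ =
      X (D.reflectRoot i s) (cN D i s t * u) := by
  by_cases h1 : s = D.simple i
  · rw [h1]
    exact S.nG_conj_simple hd i hi t ht u
  · by_cases h2 : s = D.neg (D.simple i)
    · rw [h2]
      exact S.nG_conj_neg_simple hd i hi t ht u
    · exact S.nG_conj_of_ne hd.down i hi t ht s hs h1 h2 u

end Setup

end Cfsg.Agent.Helper6.StC
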