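import Mathlib
import Cfsg.Agent.Lib.Helper6.StNorm
import Cfsg.Agent.Lib.Lead.ChevMono
import Cfsg.Agent.Lib.Lead.ChevNConj

/-!
The Bruhat decomposition `Γ = Ū N̄ Ū` of a group `Γ` generated by elements `X r t` satisfying Steinberg's
relations (R1), (R2), and the centrality of the kernel of `Γ → G`.
-/

set_option autoImplicit false
set_option linter.unusedSectionVars false
set_option linter.unusedVariables false

namespace Cfsg.Agent.Helper6.StC

open Cfsg Cfsg.Lie Cfsg.Agent.Lead.Chev Cfsg.Agent.Helper6.ChevL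

variable {K : Type*} [Field K] {Γ : Type*} [Group Γ]

/-- the generators of `N̄` -/
def nGen (D : ChevalleyDatum) (X : ℕ → K → Γ) : Set Γ :=
  {y | ∃ i < D.rank, ∃ t : K, t ≠ 0 ∧ y = nG D X (D.simple i) t}

/-- the subgroup `N̄` -/
def subN (D : ChevalleyDatum) (X : ℕ → K → Γ) : Subgroup Γ := Subgroup.closure (nGen D X)

/-- `n` acts on the `X s` as a monomial element attached to a Weyl word -/
def Mon (D : ChevalleyDatum) (X : ℕ → K → Γ) (θ : Γ →* GL D.Idx K) (hX : XAdd D K) (n : Γ) : Prop :=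
  ∃ w : List ℕ, (∀ j ∈ w, j < D.rank) ∧ (∃ h ∈ D.diagonalSubgroup K, θ n = h * nWordGL D hX w) ∧
    ∃ c : ℕ → K, (∀ s, c s ≠ 0) ∧
      ∀ s < D.nroots, ∀ u : K, n * X s u * n⁻¹ = X (reflWord D w s) (c s * u)

/-- the set `Ū N̄ Ū` -/
def bigSet (D : ChevalleyDatum) (X : ℕ → K → Γ) : Set Γ :=
  {g | ∃ v ∈ subL X D.posRoots, ∃ n ∈ subN D X, ∃ v' ∈ subL X D.posRoots, g = v * n * v'}

/-- the word `n̄_{i_1}(1) ⋯ n̄_{i_k}(1)` -/
def nWordG (D : ChevalleyDatum) (X : ℕ → K → Γ) (w : List ℕ) : Γ :=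
  (w.map fun j => nG D X (D.simple j) 1).prod

namespace Setup

variable {D : ChevalleyDatum} {X : ℕ → K → Γ} {θ : Γ →* GL D.Idx K} (S : Setup D X θ)
include S

theorem nG_mem_subN (i : ℕ) (hi : i < D.rank) (t : K) (ht : t ≠ 0) : nG D X (D.simple i) t ∈ subN D X :=
  Subgroup.subset_closure ⟨i, hi, t, ht, rfl⟩

theorem mon_one : Mon D X θ S.facts.xadd 1 := by
  refine ⟨[], by simp, ⟨1, one_mem _, by rw [map_one, nWordGL_nil, mul_one]⟩, fun _ => 1,
    fun _ => one_ne_zero, ?_⟩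
  intro s hs u
  rw [one_mul, inv_one, mul_one, one_mul]
  rfl

theorem mon_nG (hd : StData D) (i : ℕ) (hi : i < D.rank) (t : K) (ht : t ≠ 0) :
    Mon D X θ S.facts.xadd (nG D X (D.simple i) t) := by
  have hF := S.facts
  have hp := hF.simple_lt i hi
  refine ⟨[i], ?_, ⟨hGLt D hF.xadd (D.simple i) t, hGLt_mem_diagonal D hF.xadd _ hp t ht, ?_⟩,
    fun s => cN D i s t, fun s => cN_ne_zero hF i hi s t ht, ?_⟩
  · intro j hj
    rw [List.mem_singleton] at hj
    rw [hj]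
    exact hi
  · rw [S.map_nG _ hp, nGLt_eq_hGLt_mul, nWordGL_cons, nWordGL_nil, mul_one, ← nGL_eq_nGLt]
  · intro s hs u
    exact S.nG_conj hd i hi t ht s hs u

theorem mon_mul (n n' : Γ) (h : Mon D X θ S.facts.xadd n) (h' : Mon D X θ S.facts.xadd n') :
    Mon D X θ S.facts.xadd (n * n') := by
  have hF := S.facts
  obtain ⟨w, hw, ⟨a, ha, hθ⟩, c, hc, hconj⟩ := h
  obtain ⟨w', hw', ⟨a', ha', hθ'⟩, c', hc', hconj'⟩ := h'
  refine ⟨w ++ w', ?_, ⟨a * (nWordGL D hF.xadd w * a' * (nWordGL D hF.xadd w)⁻¹),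
    mul_mem ha (nWordGL_conj_mem_diagonal D hF.xadd (etaOf D) hF.nsimple w hw a' ha'), ?_⟩,
    fun s => c (reflWord D w' s) * c' s, fun s => mul_ne_zero (hc _) (hc' _), ?_⟩
  · intro j hj
    rcases List.mem_append.1 hj with hj | hj
    · exact hw j hj
    · exact hw' j hj
  · rw [map_mul, hθ, hθ', nWordGL_append]
    group
  · intro s hs u
    have e : n * n' * X s u * (n * n')⁻¹ = n * (n' * X s u * n'⁻¹) * n⁻¹ := by group
    rw [e, hconj' s hs, hconj _ (reflWord_lt D (etaOf D) hF.facts w' hw' s hs), reflWord_append, mul_assoc]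

theorem mon_of_mem (hd : StData D) (n : Γ) (hn : n ∈ subN D X) : Mon D X θ S.facts.xadd n := by
  have hF := S.facts
  unfold subN at hn
  induction hn using Subgroup.closure_induction_right with
  | one => exact S.mon_one
  | mul_right x hx y hy ih =>
    obtain ⟨i, hi, t, ht, rfl⟩ := hy
    exact S.mon_mul _ _ ih (S.mon_nG hd i hi t ht)
  | mul_inv_cancel x hx y hy ih =>
    obtain ⟨i, hi, t, ht, rfl⟩ := hy
    rw [S.rel.nG_inv _ (hF.simple_lt i hi) (hF.neg_simple_lt i hi)]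
    exact S.mon_mul _ _ ih (S.mon_nG hd i hi (-t) (neg_ne_zero.2 ht))

/-! ### the set `Ū N̄ Ū` -/

theorem one_mem_bigSet : (1 : Γ) ∈ bigSet D X :=
  ⟨1, one_mem _, 1, one_mem _, 1, one_mem _, by simp⟩

theorem mul_mem_bigSet (a g b : Γ) (ha : a ∈ subL X D.posRoots) (hg : g ∈ bigSet D X)
    (hb : b ∈ subL X D.posRoots) : a * g * b ∈ bigSet D X := by
  obtain ⟨v, hv, n, hn, v', hv', rfl⟩ := hg
  exact ⟨a * v, mul_mem ha hv, n, hn, v' * b, mul_mem hv' hb, by group⟩

theorem subN_le_bigSet (n : Γ) (hn : n ∈ subN D X) : n ∈ bigSet D X :=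
  ⟨1, one_mem _, n, hn, 1, one_mem _, by simp⟩

/-- the facts about the positive roots other than `p` -/
theorem hTpos (i : ℕ) (hi : i < D.rank) :
    ∀ c, (D.IsPosRoot c ∧ c ≠ D.simple i) → c < D.nroots ∧ c ≠ D.simple i ∧ c ≠ D.neg (D.simple i) ∧
        ∀ c' ∈ D.commTerms (D.simple i) c, (D.IsPosRoot c'.1 ∧ c'.1 ≠ D.simple i) := by
  rintro c ⟨hc1, hc2⟩
  obtain ⟨h1, h2, h3⟩ := up_of_chk D i (S.facts.up i hi) c hc1 hc2
  exact ⟨hc1.1, hc2, h1, h2⟩

theorem hTpos' (i : ℕ) (hi : i < D.rank) :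
    ∀ c, (D.IsPosRoot c ∧ c ≠ D.simple i) → c < D.nroots ∧ c ≠ D.neg (D.simple i) ∧
      c ≠ D.neg (D.neg (D.simple i)) ∧
        ∀ c' ∈ D.commTerms (D.neg (D.simple i)) c, (D.IsPosRoot c'.1 ∧ c'.1 ≠ D.simple i) := by
  rintro c ⟨hc1, hc2⟩
  obtain ⟨h1, h2, h3⟩ := up_of_chk D i (S.facts.up i hi) c hc1 hc2
  exact ⟨hc1.1, h1, by rw [S.facts.sign.neg_neg _ (S.facts.simple_lt i hi)]; exact hc2, h3⟩

theorem subP_pos_le (i : ℕ) : subP X (fun c => D.IsPosRoot c ∧ c ≠ D.simple i) ≤ subL X D.posRoots := by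
  apply subP_le_subL
  rintro c ⟨hc1, _⟩
  exact S.mem_pos c hc1

/-- `Ū = Ū_i X̄_p` -/
theorem split (i : ℕ) (hi : i < D.rank) (v : Γ) (hv : v ∈ subL X D.posRoots) :
    ∃ v₁ ∈ subP X (fun c => D.IsPosRoot c ∧ c ≠ D.simple i), ∃ a : K, v = v₁ * X (D.simple i) a := by
  have hF := S.facts
  have hp := hF.simple_lt i hi
  have step : ∀ v₁ ∈ subP X (fun c => D.IsPosRoot c ∧ c ≠ D.simple i), ∀ a : K, ∀ s ∈ D.posRoots, ∀ b : K,
      ∃ v₂ ∈ subP X (fun c => D.IsPosRoot c ∧ c ≠ D.simple i), ∃ a' : K,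
        v₁ * X (D.simple i) a * X s b = v₂ * X (D.simple i) a' := by
    intro v₁ hv₁ a s hs b
    by_cases hsp : s = D.simple i
    · refine ⟨v₁, hv₁, a + b, ?_⟩
      rw [hsp, mul_assoc, S.rel.add _ hp]
    · refine ⟨v₁ * (X (D.simple i) a * X s b * (X (D.simple i) a)⁻¹), mul_mem hv₁ ?_, a, by group⟩
      exact S.rel.conj_mem _ hp _ (S.hTpos i hi) a _ (mem_subP X _ s ⟨S.pos_of_mem s hs, hsp⟩ b)
  unfold subL at hv
  induction hv using Subgroup.closure_induction_right with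
  | one => exact ⟨1, one_mem _, 0, by rw [S.rel.zero _ hp, mul_one]⟩
  | mul_right x hx y hy ih =>
    obtain ⟨v₁, hv₁, a, rfl⟩ := ih
    obtain ⟨s, hs, b, rfl⟩ := hy
    exact step v₁ hv₁ a s hs b
  | mul_inv_cancel x hx y hy ih =>
    obtain ⟨v₁, hv₁, a, rfl⟩ := ih
    obtain ⟨s, hs, b, rfl⟩ := hy
    rw [S.rel.inv s (S.pos_lt s hs)]
    exact step v₁ hv₁ a s hs (-b)

/-- the rank one identity `x_p(a) = x_{-p}(a⁻¹) n_p(a) x_{-p}(a⁻¹)` -/
theorem x_eq (hd : StData D) (i : ℕ) (hi : i < D.rank) (a : K) (ha : a ≠ 0) :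
    X (D.simple i) a = X (D.neg (D.simple i)) a⁻¹ * nG D X (D.simple i) a * X (D.neg (D.simple i)) a⁻¹ := by
  have hF := S.facts
  have hp := hF.simple_lt i hi
  have hnp := hF.neg_simple_lt i hi
  have h1 := S.nG_conj_neg_simple hd i hi a ha (-a⁻¹)
  have hc : cN D i (D.neg (D.simple i)) a * (-a⁻¹) = a := by
    unfold cN
    rw [S.reflectRoot_neg_simple i hi, hd.diag2 i hi, (hF.nsimple i hi).sign_np]
    push_cast
    field_simp
  rw [hc, S.reflectRoot_neg_simple i hi] at h1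
  -- `n X_{-p}(-a⁻¹) = X_p(a) n`
  have h2 : nG D X (D.simple i) a * X (D.neg (D.simple i)) (-a⁻¹) =
      X (D.simple i) a * nG D X (D.simple i) a := by
    rw [← h1]
    group
  have h3 : X (D.neg (D.simple i)) (-a⁻¹) * X (D.simple i) a * X (D.neg (D.simple i)) (-a⁻¹) =
      nG D X (D.simple i) a := by
    have h4 : X (D.simple i) a * (X (D.neg (D.simple i)) (-a⁻¹) * X (D.simple i) a *
        X (D.neg (D.simple i)) (-a⁻¹)) = X (D.simple i) a * nG D X (D.simple i) a := by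
      rw [← h2]
      unfold nG
      group
    exact mul_left_cancel h4
  rw [← h3]
  have e1 : X (D.neg (D.simple i)) a⁻¹ * X (D.neg (D.simple i)) (-a⁻¹) = 1 := by
    rw [S.rel.add _ hnp, add_neg_cancel, S.rel.zero _ hnp]
  have e2 : X (D.neg (D.simple i)) (-a⁻¹) * X (D.neg (D.simple i)) a⁻¹ = 1 := by
    rw [S.rel.add _ hnp, neg_add_cancel, S.rel.zero _ hnp]
  calc X (D.simple i) a = 1 * X (D.simple i) a * 1 := by group
    _ = (X (D.neg (D.simple i)) a⁻¹ * X (D.neg (D.simple i)) (-a⁻¹)) * X (D.simple i) a *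
        (X (D.neg (D.simple i)) (-a⁻¹) * X (D.neg (D.simple i)) a⁻¹) := by rw [e1, e2]
    _ = _ := by group

/-- the main step: `n̄_i(t) x̄_p(a) n ∈ Ū N̄ Ū` -/
theorem nG_mul_x_mul_mem (hd : StData D) (i : ℕ) (hi : i < D.rank) (t : K) (ht : t ≠ 0) (a : K) (n : Γ)
    (hn : n ∈ subN D X) : nG D X (D.simple i) t * X (D.simple i) a * n ∈ bigSet D X := by
  have hF := S.facts
  have hp := hF.simple_lt i hi
  have hnp := hF.neg_simple_lt i hi
  obtain ⟨w', hw', _, c', hc', hconj'⟩ := S.mon_of_mem hd n⁻¹ (inv_mem hn)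
  simp only [inv_inv] at hconj'
  have hs0 := reflWord_lt D (etaOf D) hF.facts w' hw' _ hp
  rcases hF.sign.pos_or_neg _ hs0 with hpos | hneg
  · refine ⟨1, one_mem _, nG D X (D.simple i) t * n, mul_mem (S.nG_mem_subN i hi t ht) hn,
      X (reflWord D w' (D.simple i)) (c' (D.simple i) * a), mem_subL X _ _ (S.mem_pos _ hpos) _, ?_⟩
    rw [← hconj' _ hp]
    group
  · by_cases ha : a = 0
    · rw [ha, S.rel.zero _ hp, mul_one]
      exact S.subN_le_bigSet _ (mul_mem (S.nG_mem_subN i hi t ht) hn)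
    · have hx := S.x_eq hd i hi a ha
      have h1 := S.nG_conj_neg_simple hd i hi t ht a⁻¹
      rw [S.reflectRoot_neg_simple i hi] at h1
      have h2 := hconj' _ hnp a⁻¹
      rw [reflWord_neg D (etaOf D) hF.facts w' hw' _ hp] at h2
      refine ⟨X (D.simple i) (cN D i (D.neg (D.simple i)) t * a⁻¹),
        mem_subL X _ _ (S.mem_pos _ (hF.simple_pos i hi)) _,
        nG D X (D.simple i) t * nG D X (D.simple i) a * n,
        mul_mem (mul_mem (S.nG_mem_subN i hi t ht) (S.nG_mem_subN i hi a ha)) hn,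
        X (D.neg (reflWord D w' (D.simple i))) (c' (D.neg (D.simple i)) * a⁻¹),
        mem_subL X _ _ (S.mem_pos _ (hF.sign.pos_of_neg _ hneg)) _, ?_⟩
      rw [← h1, ← h2]
      conv_lhs => rw [hx]
      group

/-- `Ū N̄ Ū` is closed under left multiplication by the `n̄_i(t)` -/
theorem nG_mul_mem_bigSet (hd : StData D) (i : ℕ) (hi : i < D.rank) (t : K) (ht : t ≠ 0) (g : Γ)
    (hg : g ∈ bigSet D X) : nG D X (D.simple i) t * g ∈ bigSet D X := by
  have hF := S.facts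
  have hp := hF.simple_lt i hi
  have hnp := hF.neg_simple_lt i hi
  obtain ⟨v, hv, n, hn, v', hv', rfl⟩ := hg
  obtain ⟨v₁, hv₁, a, rfl⟩ := S.split i hi v hv
  have h1 := S.rel.nG_conj_mem _ hp hnp _ (S.hTpos i hi) (S.hTpos' i hi) t v₁ hv₁
  have h2 := S.nG_mul_x_mul_mem hd i hi t ht a n hn
  have h3 := S.mul_mem_bigSet _ _ _ (S.subP_pos_le i h1) h2 hv'
  have e : nG D X (D.simple i) t * (v₁ * X (D.simple i) a * n * v') =
      nG D X (D.simple i) t * v₁ * (nG D X (D.simple i) t)⁻¹ *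
        (nG D X (D.simple i) t * X (D.simple i) a * n) * v' := by group
  rw [e]
  exact h3

theorem subN_mul_mem_bigSet (hd : StData D) (n : Γ) (hn : n ∈ subN D X) :
    ∀ g ∈ bigSet D X, n * g ∈ bigSet D X := by
  have hF := S.facts
  unfold subN at hn
  induction hn using Subgroup.closure_induction_right with
  | one =>
    intro g hg
    rwa [one_mul]
  | mul_right x hx y hy ih =>
    obtain ⟨i, hi, t, ht, rfl⟩ := hy
    intro g hg
    rw [mul_assoc]
    exact ih _ (S.nG_mul_mem_bigSet hd i hi t ht g hg)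
  | mul_inv_cancel x hx y hy ih =>
    obtain ⟨i, hi, t, ht, rfl⟩ := hy
    intro g hg
    rw [mul_assoc, S.rel.nG_inv _ (hF.simple_lt i hi) (hF.neg_simple_lt i hi)]
    exact ih _ (S.nG_mul_mem_bigSet hd i hi (-t) (neg_ne_zero.2 ht) g hg)

theorem nWordG_mem (w : List ℕ) (hw : ∀ j ∈ w, j < D.rank) : nWordG D X w ∈ subN D X := by
  unfold nWordG
  apply Subgroup.list_prod_mem
  intro y hy
  obtain ⟨j, hj, rfl⟩ := List.mem_map.1 hy
  exact S.nG_mem_subN j (hw j hj) 1 one_ne_zero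

theorem nWordG_conj (hd : StData D) (w : List ℕ) (hw : ∀ j ∈ w, j < D.rank) (s : ℕ) (hs : s < D.nroots) :
    ∃ c : K, c ≠ 0 ∧ ∀ u : K, nWordG D X w * X s u * (nWordG D X w)⁻¹ = X (reflWord D w s) (c * u) := by
  have hF := S.facts
  induction w with
  | nil =>
    refine ⟨1, one_ne_zero, fun u => ?_⟩
    unfold nWordG
    simp [reflWord]
  | cons j w ih =>
    have hw' : ∀ k ∈ w, k < D.rank := fun k hk => hw k (List.mem_cons_of_mem _ hk)
    have hj := hw j List.mem_cons_self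
    obtain ⟨c, hc, hconj⟩ := ih hw'
    refine ⟨cN D j (reflWord D w s) 1 * c, mul_ne_zero (cN_ne_zero hF j hj _ 1 one_ne_zero) hc, fun u => ?_⟩
    have e : nWordG D X (j :: w) = nG D X (D.simple j) 1 * nWordG D X w := by
      unfold nWordG
      rw [List.map_cons, List.prod_cons]
    have e2 : nG D X (D.simple j) 1 * nWordG D X w * X s u * (nG D X (D.simple j) 1 * nWordG D X w)⁻¹ =
        nG D X (D.simple j) 1 * (nWordG D X w * X s u * (nWordG D X w)⁻¹) *
          (nG D X (D.simple j) 1)⁻¹ := by group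
    rw [e, e2, hconj, S.nG_conj hd j hj 1 one_ne_zero _ (reflWord_lt D (etaOf D) hF.facts w hw' s hs),
      mul_assoc]
    rfl

/-- `Ū N̄ Ū` is closed under left multiplication by all the `X r t` -/
theorem x_mul_mem_bigSet (hd : StData D) (r : ℕ) (hr : r < D.nroots) (t : K) (g : Γ)
    (hg : g ∈ bigSet D X) : X r t * g ∈ bigSet D X := by
  have hF := S.facts
  obtain ⟨i, hi, w, hw, hwr⟩ := hF.orbit r hr
  obtain ⟨c, hc, hconj⟩ := S.nWordG_conj hd w hw _ (hF.simple_lt i hi)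
  have h1 := hconj (t / c)
  rw [mul_div_cancel₀ _ hc, hwr] at h1
  rw [← h1]
  have hn := S.nWordG_mem w hw
  have h2 := S.subN_mul_mem_bigSet hd _ (inv_mem hn) g hg
  have h3 := S.mul_mem_bigSet (X (D.simple i) (t / c)) _ 1
    (mem_subL X _ _ (S.mem_pos _ (hF.simple_pos i hi)) _) h2 (one_mem _)
  have h4 := S.subN_mul_mem_bigSet hd _ hn _ h3
  have e : nWordG D X w * X (D.simple i) (t / c) * (nWordG D X w)⁻¹ * g =
      nWordG D X w * (X (D.simple i) (t / c) * ((nWordG D X w)⁻¹ * g) * 1) := by group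
  rw [e]
  exact h4

/-- the Bruhat decomposition -/
theorem mem_bigSet (hd : StData D)
    (hgen : Subgroup.closure {y : Γ | ∃ r < D.nroots, ∃ t : K, y = X r t} = ⊤) (g : Γ) :
    g ∈ bigSet D X := by
  have hg : g ∈ Subgroup.closure {y : Γ | ∃ r < D.nroots, ∃ t : K, y = X r t} := by
    rw [hgen]
    trivial
  induction hg using Subgroup.closure_induction_left with
  | one => exact S.one_mem_bigSet
  | mul_left x hx y hy ih =>
    obtain ⟨r, hr, t, rfl⟩ := hx
    exact S.x_mul_mem_bigSet hd r hr t y ih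
  | inv_mul_cancel x hx y hy ih =>
    obtain ⟨r, hr, t, rfl⟩ := hx
    rw [S.rel.inv r hr]
    exact S.x_mul_mem_bigSet hd r hr (-t) y ih

theorem map_mem_posUnipotent (v : Γ) (hv : v ∈ subL X D.posRoots) : θ v ∈ D.posUnipotent K := by
  have hle : subL X D.posRoots ≤ (D.posUnipotent K).comap θ := by
    unfold subL
    rw [Subgroup.closure_le]
    rintro y ⟨s, hs, a, rfl⟩
    refine Subgroup.mem_comap.2 ?_
    rw [S.map s (S.pos_lt s hs)]
    exact Subgroup.subset_closure ⟨s, a, S.pos_of_mem s hs, xGL_val D S.facts.xadd _ _⟩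
  exact hle hv

/-- the kernel is central -/
theorem ker_le_center (hd : StData D)
    (hgen : Subgroup.closure {y : Γ | ∃ r < D.nroots, ∃ t : K, y = X r t} = ⊤) :
    θ.ker ≤ Subgroup.center Γ := by
  have hF := S.facts
  intro g hg
  rw [MonoidHom.mem_ker] at hg
  obtain ⟨v, hv, n, hn, v', hv', rfl⟩ := S.mem_bigSet hd hgen g
  obtain ⟨w, hw, ⟨a, ha, hθn⟩, c, hc, hconj⟩ := S.mon_of_mem hd n hn
  -- the image of `n` lies in `U`
  have hnU : a * nWordGL D hF.xadd w ∈ D.posUnipotent K := by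
    rw [← hθn]
    have e : θ n = (θ v)⁻¹ * (θ v')⁻¹ := by
      rw [map_mul, map_mul] at hg
      calc θ n = (θ v)⁻¹ * (θ v * θ n * θ v') * (θ v')⁻¹ := by group
        _ = _ := by rw [hg, mul_one]
    rw [e]
    exact mul_mem (inv_mem (S.map_mem_posUnipotent v hv)) (inv_mem (S.map_mem_posUnipotent v' hv'))
  obtain ⟨hfix, hone⟩ := hF.eq_one_of_mem_posUnipotent a ha w hw hnU
  have hθn1 : θ n = 1 := by rw [hθn, hone]
  -- `n` commutes with the generators
  have hcomm : ∀ s < D.nroots, ∀ u : K, n * X s u = X s u * n := by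
    intro s hs u
    have h1 := hconj s hs u
    rw [hfix s hs] at h1
    have h2 := congrArg θ h1
    rw [map_mul, map_mul, map_inv, hθn1, one_mul, inv_one, mul_one, S.map s hs, S.map s hs] at h2
    have h3 := S.xGL_inj s hs _ _ h2
    rw [← h3] at h1
    calc n * X s u = n * X s u * n⁻¹ * n := by group
      _ = X s u * n := by rw [h1]
  have hncen : n ∈ Subgroup.center Γ := by
    rw [Subgroup.mem_center_iff]
    have hle : Subgroup.closure {y : Γ | ∃ r < D.nroots, ∃ t : K, y = X r t} ≤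
        Subgroup.centralizer {n} := by
      rw [Subgroup.closure_le]
      rintro y ⟨r, hr, t, rfl⟩
      rw [SetLike.mem_coe, Subgroup.mem_centralizer_iff]
      intro m hm
      rw [Set.mem_singleton_iff] at hm
      rw [hm]
      exact hcomm r hr t
    intro z
    have hz : z ∈ Subgroup.centralizer {n} := hle (by rw [hgen]; trivial)
    rw [Subgroup.mem_centralizer_iff] at hz
    exact (hz n rfl).symm
  -- `v v' = 1`
  have hvv : v * v' = 1 := by
    apply S.inj [] (by simp) _ _ (by rw [S.listW_nil]; exact mul_mem hv hv')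
      (by rw [S.listW_nil]; exact one_mem _)
    rw [map_mul, map_mul, hθn1, mul_one] at hg
    rw [map_mul, hg, map_one]
  have hgn : v * n * v' = n := by
    rw [Subgroup.mem_center_iff] at hncen
    rw [hncen v, mul_assoc, hvv, mul_one]
  rw [hgn]
  exact hncen

end Setup

end Cfsg.Agent.Helper6.StC
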