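import Mathlib
import Cfsg.Agent.Lib.Helper6.StNorm
import Cfsg.Agent.Lib.Lead.ChevSL_D4
import Cfsg.Agent.Lib.Lead.ChevSL_E6
import Cfsg.Agent.Lib.Lead.ChevSL_E7
import Cfsg.Agent.Lib.Lead.ChevSL_E8
import Cfsg.Agent.Lib.Lead.ChevSLH
import Cfsg.Agent.Lib.Lead.ChevCommSL

/-!
The combinatorial data `StData` for the seven types.
-/

set_option autoImplicit false
set_option Elab.async false
set_option linter.unusedSectionVars false
set_option linter.unusedVariables false

namespace Cfsg.Agent.Helper6.StC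

open Cfsg Cfsg.Lie Cfsg.Agent.Lead.Chev Cfsg.Agent.Helper6.ChevL

theorem suppChk_G2 : ∀ i < chevG2.rank, ∀ r < chevG2.nroots, suppChk chevG2 i r = true := by decide +kernel
theorem suppChk_B2 : ∀ i < chevB2.rank, ∀ r < chevB2.nroots, suppChk chevB2 i r = true := by decide +kernel
theorem suppChk_F4 : ∀ i < chevF4.rank, ∀ r < chevF4.nroots, suppChk chevF4 i r = true := by decide +kernel

theorem suppEquiv_of_mem (D : ChevalleyDatum)
    (hD : D ∈ [chevG2, chevB2, chevD4, chevF4, chevE6, chevE7, chevE8]) : SuppEquiv D := by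
  have hfa : ∀ i < D.rank, NXFacts D (etaOf D i) i := fun i hi => (nSimple_of_mem (F := ℚ) D hD i hi).facts
  simp only [List.mem_cons, List.mem_nil_iff, or_false] at hD
  rcases hD with rfl | rfl | rfl | rfl | rfl | rfl | rfl
  · exact suppEquiv_of_chk _ suppChk_G2
  · exact suppEquiv_of_chk _ suppChk_B2
  · exact suppEquiv_of_SL _ (fun r hr => slRoot_of_ok _ r (slOK_D4 0 (by norm_num) r hr))
      (fun r hr => nodup_of_slRootOK _ r (slOK_D4 0 (by norm_num) r hr)) _ hfa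
  · exact suppEquiv_of_chk _ suppChk_F4
  · exact suppEquiv_of_SL _ (fun r hr => slRoot_of_ok _ r (slOK_E6 0 (by norm_num) r hr))
      (fun r hr => nodup_of_slRootOK _ r (slOK_E6 0 (by norm_num) r hr)) _ hfa
  · exact suppEquiv_of_SL _ (fun r hr => slRoot_of_ok _ r (slOK_E7 0 (by norm_num) r hr))
      (fun r hr => nodup_of_slRootOK _ r (slOK_E7 0 (by norm_num) r hr)) _ hfa
  · exact suppEquiv_of_SL _ (fun r hr => slRoot_of_ok _ r (slOK_E8 0 (by norm_num) r hr))
      (fun r hr => nodup_of_slRootOK _ r (slOK_E8 0 (by norm_num) r hr)) _ hfa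

theorem down_G2 : ∀ i < chevG2.rank, downChk chevG2 i = true := by decide +kernel
theorem down_B2 : ∀ i < chevB2.rank, downChk chevB2 i = true := by decide +kernel
theorem down_D4 : ∀ i < chevD4.rank, downChk chevD4 i = true := by decide +kernel
theorem down_F4 : ∀ i < chevF4.rank, downChk chevF4 i = true := by decide +kernel
theorem down_E6 : ∀ i < chevE6.rank, downChk chevE6 i = true := by decide +kernel
theorem down_E7 : ∀ i < chevE7.rank, downChk chevE7 i = true := by decide +kernel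
theorem down_E8 : ∀ i < chevE8.rank, downChk chevE8 i = true := by decide +kernel

theorem stepC_G2_0 : StepC chevG2 0 :=
  ⟨5, 8, [1], [], [(9, -1, 1, 2), (11, 1, 1, 3), (10, 2, 2, 3)], 1, 1, by decide +kernel⟩

theorem stepC_G2_1 : StepC chevG2 1 :=
  ⟨4, 10, [0], [(9, 1, 1, 1), (8, -1, 2, 1)], [(11, -1, 3, 2)], 1, 3, by decide +kernel⟩

theorem stepC_B2_0 : StepC chevB2 0 :=
  ⟨3, 6, [1], [], [(7, 1, 1, 2)], 1, 1, by decide +kernel⟩

theorem stepC_B2_1 : StepC chevB2 1 :=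
  ⟨2, 7, [0], [(6, 1, 1, 1)], [], -1, 2, by decide +kernel⟩

theorem stepC_D4_0 : StepC chevD4 0 :=
  ⟨9, 19, [1], [], [], 1, 1, by decide +kernel⟩

theorem stepC_D4_1 : StepC chevD4 1 :=
  ⟨19, 5, [0], [], [], 1, 1, by decide +kernel⟩

theorem stepC_D4_2 : StepC chevD4 2 :=
  ⟨16, 9, [1], [], [], 1, 1, by decide +kernel⟩

theorem stepC_D4_3 : StepC chevD4 3 :=
  ⟨15, 9, [1], [], [], 1, 1, by decide +kernel⟩

theorem stepC_F4_0 : StepC chevF4 0 :=
  ⟨20, 34, [1], [], [], 1, 1, by decide +kernel⟩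

theorem stepC_F4_1 : StepC chevF4 1 :=
  ⟨34, 14, [0], [], [], 1, 1, by decide +kernel⟩

theorem stepC_F4_2 : StepC chevF4 2 :=
  ⟨20, 30, [1], [(28, 1, 1, 1)], [], -1, 2, by decide +kernel⟩

theorem stepC_F4_3 : StepC chevF4 3 :=
  ⟨26, 22, [2], [], [], 1, 1, by decide +kernel⟩

theorem stepC_E6_0 : StepC chevE6 0 :=
  ⟨29, 57, [2], [], [], 1, 1, by decide +kernel⟩

theorem stepC_E6_1 : StepC chevE6 1 :=
  ⟨32, 47, [3], [], [], 1, 1, by decide +kernel⟩

theorem stepC_E6_2 : StepC chevE6 2 :=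
  ⟨57, 15, [0], [], [], 1, 1, by decide +kernel⟩

theorem stepC_E6_3 : StepC chevE6 3 :=
  ⟨47, 25, [1], [], [], 1, 1, by decide +kernel⟩

theorem stepC_E6_4 : StepC chevE6 4 :=
  ⟨40, 32, [3], [], [], 1, 1, by decide +kernel⟩

theorem stepC_E6_5 : StepC chevE6 5 :=
  ⟨38, 34, [4], [], [], 1, 1, by decide +kernel⟩

theorem stepC_E7_0 : StepC chevE7 0 :=
  ⟨52, 94, [2], [], [], 1, 1, by decide +kernel⟩

theorem stepC_E7_1 : StepC chevE7 1 :=
  ⟨56, 79, [3], [], [], 1, 1, by decide +kernel⟩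

theorem stepC_E7_2 : StepC chevE7 2 :=
  ⟨94, 32, [0], [], [], 1, 1, by decide +kernel⟩

theorem stepC_E7_3 : StepC chevE7 3 :=
  ⟨79, 47, [1], [], [], 1, 1, by decide +kernel⟩

theorem stepC_E7_4 : StepC chevE7 4 :=
  ⟨70, 56, [3], [], [], 1, 1, by decide +kernel⟩

theorem stepC_E7_5 : StepC chevE7 5 :=
  ⟨67, 59, [4], [], [], 1, 1, by decide +kernel⟩

theorem stepC_E7_6 : StepC chevE7 6 :=
  ⟨65, 61, [5], [], [], 1, 1, by decide +kernel⟩

theorem stepC_E8_0 : StepC chevE8 0 :=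
  ⟨104, 163, [2], [], [], 1, 1, by decide +kernel⟩

theorem stepC_E8_1 : StepC chevE8 1 :=
  ⟨109, 142, [3], [], [], 1, 1, by decide +kernel⟩

theorem stepC_E8_2 : StepC chevE8 2 :=
  ⟨163, 77, [0], [], [], 1, 1, by decide +kernel⟩

theorem stepC_E8_3 : StepC chevE8 3 :=
  ⟨142, 98, [1], [], [], 1, 1, by decide +kernel⟩

theorem stepC_E8_4 : StepC chevE8 4 :=
  ⟨131, 109, [3], [], [], 1, 1, by decide +kernel⟩

theorem stepC_E8_5 : StepC chevE8 5 :=
  ⟨127, 113, [4], [], [], 1, 1, by decide +kernel⟩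

theorem stepC_E8_6 : StepC chevE8 6 :=
  ⟨124, 116, [5], [], [], 1, 1, by decide +kernel⟩

theorem stepC_E8_7 : StepC chevE8 7 :=
  ⟨122, 118, [6], [], [], 1, 1, by decide +kernel⟩

theorem stepC_G2 : ∀ i < chevG2.rank, StepC chevG2 i := by
  intro i hi
  have hrk : chevG2.rank = 2 := rfl
  rw [hrk] at hi
  interval_cases i
  · exact stepC_G2_0
  · exact stepC_G2_1

theorem stepC_B2 : ∀ i < chevB2.rank, StepC chevB2 i := by
  intro i hi
  have hrk : chevB2.rank = 2 := rfl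
  rw [hrk] at hi
  interval_cases i
  · exact stepC_B2_0
  · exact stepC_B2_1

theorem stepC_D4 : ∀ i < chevD4.rank, StepC chevD4 i := by
  intro i hi
  have hrk : chevD4.rank = 4 := rfl
  rw [hrk] at hi
  interval_cases i
  · exact stepC_D4_0
  · exact stepC_D4_1
  · exact stepC_D4_2
  · exact stepC_D4_3

theorem stepC_F4 : ∀ i < chevF4.rank, StepC chevF4 i := by
  intro i hi
  have hrk : chevF4.rank = 4 := rfl
  rw [hrk] at hi
  interval_cases i
  · exact stepC_F4_0
  · exact stepC_F4_1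
  · exact stepC_F4_2
  · exact stepC_F4_3

theorem stepC_E6 : ∀ i < chevE6.rank, StepC chevE6 i := by
  intro i hi
  have hrk : chevE6.rank = 6 := rfl
  rw [hrk] at hi
  interval_cases i
  · exact stepC_E6_0
  · exact stepC_E6_1
  · exact stepC_E6_2
  · exact stepC_E6_3
  · exact stepC_E6_4
  · exact stepC_E6_5

theorem stepC_E7 : ∀ i < chevE7.rank, StepC chevE7 i := by
  intro i hi
  have hrk : chevE7.rank = 7 := rfl
  rw [hrk] at hi
  interval_cases i
  · exact stepC_E7_0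
  · exact stepC_E7_1
  · exact stepC_E7_2
  · exact stepC_E7_3
  · exact stepC_E7_4
  · exact stepC_E7_5
  · exact stepC_E7_6

theorem stepC_E8 : ∀ i < chevE8.rank, StepC chevE8 i := by
  intro i hi
  have hrk : chevE8.rank = 8 := rfl
  rw [hrk] at hi
  interval_cases i
  · exact stepC_E8_0
  · exact stepC_E8_1
  · exact stepC_E8_2
  · exact stepC_E8_3
  · exact stepC_E8_4
  · exact stepC_E8_5
  · exact stepC_E8_6
  · exact stepC_E8_7

theorem stData_of_mem (D : ChevalleyDatum)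
    (hD : D ∈ [chevG2, chevB2, chevD4, chevF4, chevE6, chevE7, chevE8]) : StData D := by
  have hE := suppEquiv_of_mem D hD
  have hd2 := diag2_of_mem D hD
  simp only [List.mem_cons, List.mem_nil_iff, or_false] at hD
  rcases hD with rfl | rfl | rfl | rfl | rfl | rfl | rfl
  · exact ⟨hE, by decide, down_G2, stepC_G2, hd2⟩
  · exact ⟨hE, by decide, down_B2, stepC_B2, hd2⟩
  · exact ⟨hE, by decide, down_D4, stepC_D4, hd2⟩
  · exact ⟨hE, by decide, down_F4, stepC_F4, hd2⟩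
  · exact ⟨hE, by decide, down_E6, stepC_E6, hd2⟩
  · exact ⟨hE, by decide, down_E7, stepC_E7, hd2⟩
  · exact ⟨hE, by decide, down_E8, stepC_E8, hd2⟩

end Cfsg.Agent.Helper6.StC
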