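import Mathlib
import Cfsg.Agent.Lib.Helper6.StBruhat

/-!
The subgroup `H̄₀` generated by the `h̄_p(t)`, `p` fundamental, of a group with Steinberg's relations (R1), (R2):
it is normalised by `N̄`, and `N̄ ∩ θ⁻¹(H) = H̄₀`; hence the kernel of `θ` lies in `H̄₀`.
-/

set_option autoImplicit false
set_option linter.unusedSectionVars false
set_option linter.unusedVariables false

namespace Cfsg.Agent.Helper6.StC

open Cfsg Cfsg.Lie Cfsg.Agent.Lead.Chev Cfsg.Agent.Helper6.ChevL

variable {K : Type*} [Field K] {Γ : Type*} [Group Γ]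

/-- `h̄_r(t) = n̄_r(t) n̄_r(-1)` -/
def hG (D : ChevalleyDatum) (X : ℕ → K → Γ) (r : ℕ) (t : K) : Γ := nG D X r t * nG D X r (-1)

/-- the subgroup generated by the `h̄_p(t)`, `p` fundamental -/
def subH (D : ChevalleyDatum) (X : ℕ → K → Γ) : Subgroup Γ :=
  Subgroup.closure {y | ∃ i < D.rank, ∃ t : K, t ≠ 0 ∧ y = hG D X (D.simple i) t}

/-- the product of the `n̄_i(t)` along a word with parameters -/
def nWordP (D : ChevalleyDatum) (X : ℕ → K → Γ) (w : List (ℕ × K)) : Γ :=
  (w.map fun q => nG D X (D.simple q.1) q.2).prod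

theorem nWordP_nil (D : ChevalleyDatum) (X : ℕ → K → Γ) : nWordP D X [] = 1 := rfl

theorem nWordP_cons (D : ChevalleyDatum) (X : ℕ → K → Γ) (q : ℕ × K) (w : List (ℕ × K)) :
    nWordP D X (q :: w) = nG D X (D.simple q.1) q.2 * nWordP D X w := by
  unfold nWordP
  rw [List.map_cons, List.prod_cons]

theorem nWordP_append (D : ChevalleyDatum) (X : ℕ → K → Γ) (w₁ w₂ : List (ℕ × K)) :
    nWordP D X (w₁ ++ w₂) = nWordP D X w₁ * nWordP D X w₂ := by
  unfold nWordP
  rw [List.map_append, List.prod_append]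

theorem nWordG_eq (D : ChevalleyDatum) (X : ℕ → K → Γ) (w : List ℕ) :
    nWordG D X w = nWordP D X (w.map fun j => (j, (1 : K))) := by
  unfold nWordG nWordP
  rw [List.map_map]
  rfl

theorem cN_neg {D : ChevalleyDatum} (hF : ChevFacts D K) (i : ℕ) (hi : i < D.rank) (s : ℕ) (hs : s < D.nroots)
    (t : K) (ht : t ≠ 0) : cN D i (D.neg s) t = (cN D i s t)⁻¹ := by
  unfold cN
  have h1 := (hF.facts i hi).wneg s hs
  have h2 := hF.cartan_neg i hi _ ((hF.facts i hi).wlt s hs)
  rw [h1, h2, zpow_neg, mul_inv]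
  congr 1
  have h3 := (hF.nsimple i hi).sign_neg s hs
  rcases (hF.nsimple i hi).sign s with h4 | h4 <;> rcases (hF.nsimple i hi).sign (D.neg s) with h5 | h5 <;>
    rw [h4, h5] at h3 <;> rw [h4, h5] <;> simp at h3 ⊢

namespace Setup

variable {D : ChevalleyDatum} {X : ℕ → K → Γ} {θ : Γ →* GL D.Idx K} (S : Setup D X θ)
include S

/-- conjugation by a word with parameters, with the constants for `s` and `-s` -/
theorem nWordP_conj₂ (hd : StData D) (w : List (ℕ × K)) (hw : ∀ q ∈ w, q.1 < D.rank ∧ q.2 ≠ 0)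
    (s : ℕ) (hs : s < D.nroots) :
    ∃ c : K, c ≠ 0 ∧
      (∀ u : K, nWordP D X w * X s u * (nWordP D X w)⁻¹ =
        X (reflWord D (w.map Prod.fst) s) (c * u)) ∧
      (∀ u : K, nWordP D X w * X (D.neg s) u * (nWordP D X w)⁻¹ =
        X (D.neg (reflWord D (w.map Prod.fst) s)) (c⁻¹ * u)) := by
  have hF := S.facts
  induction w with
  | nil =>
    refine ⟨1, one_ne_zero, fun u => ?_, fun u => ?_⟩ <;> simp [nWordP_nil, reflWord]
  | cons q w ih =>
    have hw' : ∀ q' ∈ w, q'.1 < D.rank ∧ q'.2 ≠ 0 := fun q' hq' => hw q' (List.mem_cons_of_mem _ hq')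
    obtain ⟨hq1, hq2⟩ := hw q List.mem_cons_self
    obtain ⟨c, hc, h1, h2⟩ := ih hw'
    have hwi : ∀ j ∈ w.map Prod.fst, j < D.rank := by
      intro j hj
      obtain ⟨q', hq', rfl⟩ := List.mem_map.1 hj
      exact (hw' q' hq').1
    have hlt := reflWord_lt D (etaOf D) hF.facts _ hwi s hs
    have hc1 := cN_ne_zero hF q.1 hq1 (reflWord D (w.map Prod.fst) s) q.2 hq2
    have e : ∀ y : Γ, nWordP D X (q :: w) * y * (nWordP D X (q :: w))⁻¹ =
        nG D X (D.simple q.1) q.2 * (nWordP D X w * y * (nWordP D X w)⁻¹) *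
          (nG D X (D.simple q.1) q.2)⁻¹ := by
      intro y
      rw [nWordP_cons]
      group
    refine ⟨cN D q.1 (reflWord D (w.map Prod.fst) s) q.2 * c, mul_ne_zero hc1 hc, fun u => ?_, fun u => ?_⟩
    · rw [e, h1, S.nG_conj hd q.1 hq1 q.2 hq2 _ hlt, mul_assoc]
      rfl
    · rw [e, h2, S.nG_conj hd q.1 hq1 q.2 hq2 _ (hF.sign.neg_lt _ hlt), cN_neg hF q.1 hq1 _ hlt q.2 hq2,
        (hF.facts q.1 hq1).wneg _ hlt, mul_inv, mul_assoc]
      rfl

/-- conjugation of `n̄_s(u)` by a word with parameters -/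
theorem nWordP_conj_nG (hd : StData D) (w : List (ℕ × K)) (hw : ∀ q ∈ w, q.1 < D.rank ∧ q.2 ≠ 0)
    (s : ℕ) (hs : s < D.nroots) :
    ∃ c : K, c ≠ 0 ∧ ∀ u : K, nWordP D X w * nG D X s u * (nWordP D X w)⁻¹ =
      nG D X (reflWord D (w.map Prod.fst) s) (c * u) := by
  obtain ⟨c, hc, h1, h2⟩ := S.nWordP_conj₂ hd w hw s hs
  refine ⟨c, hc, fun u => ?_⟩
  have e : nWordP D X w * nG D X s u * (nWordP D X w)⁻¹ =
      (nWordP D X w * X s u * (nWordP D X w)⁻¹) * (nWordP D X w * X (D.neg s) (-u⁻¹) * (nWordP D X w)⁻¹) *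
        (nWordP D X w * X s u * (nWordP D X w)⁻¹) := by
    unfold nG
    group
  rw [e, h1, h2]
  unfold nG
  have e2 : c⁻¹ * -u⁻¹ = -(c * u)⁻¹ := by
    rw [mul_inv]
    ring
  rw [e2]

theorem hG_mem_subH (i : ℕ) (hi : i < D.rank) (t : K) (ht : t ≠ 0) : hG D X (D.simple i) t ∈ subH D X :=
  Subgroup.subset_closure ⟨i, hi, t, ht, rfl⟩

/-- `n̄_i(t) = h̄_i(t) n̄_i(1)` -/
theorem nG_eq_hG_mul (i : ℕ) (hi : i < D.rank) (t : K) :
    nG D X (D.simple i) t = hG D X (D.simple i) t * nG D X (D.simple i) 1 := by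
  have hF := S.facts
  unfold hG
  have h1 := S.rel.nG_inv _ (hF.simple_lt i hi) (hF.neg_simple_lt i hi) (1 : K)
  rw [← h1]
  group

/-- `n̄_i(1)` normalises `H̄₀` -/
theorem nG_one_conj_subH (hd : StData D) (i : ℕ) (hi : i < D.rank) (h : Γ) (hh : h ∈ subH D X) :
    nG D X (D.simple i) 1 * h * (nG D X (D.simple i) 1)⁻¹ ∈ subH D X := by
  have hF := S.facts
  have hle : subH D X ≤ (subH D X).comap (MulAut.conj (nG D X (D.simple i) 1)).toMonoidHom := by
    unfold subH
    rw [Subgroup.closure_le]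
    rintro y ⟨j, hj, u, hu, rfl⟩
    refine Subgroup.mem_comap.2 ?_
    rw [MulEquiv.coe_toMonoidHom, MulAut.conj_apply]
    -- `h⁻¹ n̄_i(1) h = n̄_i(c)`
    have hpj := hF.simple_lt j hj
    have hnpj := hF.neg_simple_lt j hj
    have hinv : (hG D X (D.simple j) u)⁻¹ = nWordP D X [(j, (1 : K)), (j, -u)] := by
      unfold hG
      rw [nWordP_cons, nWordP_cons, nWordP_nil, mul_one, mul_inv_rev, S.rel.nG_inv _ hpj hnpj,
        S.rel.nG_inv _ hpj hnpj, neg_neg]
    obtain ⟨c, hc, hconj⟩ := S.nWordP_conj_nG hd [(j, (1 : K)), (j, -u)] (by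
      intro q hq
      simp only [List.mem_cons, List.not_mem_nil, or_false] at hq
      rcases hq with rfl | rfl
      · exact ⟨hj, one_ne_zero⟩
      · exact ⟨hj, neg_ne_zero.2 hu⟩) (D.simple i) (hF.simple_lt i hi)
    have h1 := hconj 1
    rw [← hinv, inv_inv, mul_one] at h1
    have hrefl : reflWord D ([(j, (1 : K)), (j, -u)].map Prod.fst) (D.simple i) = D.simple i := by
      show D.reflectRoot j (D.reflectRoot j (D.simple i)) = D.simple i
      exact (hF.facts j hj).winv _ (hF.simple_lt i hi)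
    rw [hrefl] at h1
    -- conclude
    have e : nG D X (D.simple i) 1 * hG D X (D.simple j) u * (nG D X (D.simple i) 1)⁻¹ =
        hG D X (D.simple j) u * hG D X (D.simple i) c := by
      unfold hG at h1 ⊢
      rw [← S.rel.nG_inv _ (hF.simple_lt i hi) (hF.neg_simple_lt i hi) (1 : K)]
      rw [← h1]
      group
    rw [e]
    exact mul_mem (Subgroup.subset_closure ⟨j, hj, u, hu, rfl⟩) (Subgroup.subset_closure ⟨i, hi, c, hc, rfl⟩)
  exact hle hh

/-- `N̄` normalises `H̄₀` -/
theorem subN_conj_subH (hd : StData D) (n : Γ) (hn : n ∈ subN D X) :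
    ∀ h ∈ subH D X, n * h * n⁻¹ ∈ subH D X := by
  have hF := S.facts
  have hgen : ∀ i < D.rank, ∀ t : K, t ≠ 0 → ∀ h ∈ subH D X,
      nG D X (D.simple i) t * h * (nG D X (D.simple i) t)⁻¹ ∈ subH D X := by
    intro i hi t ht h hh
    rw [S.nG_eq_hG_mul i hi t]
    have h1 := S.nG_one_conj_subH hd i hi h hh
    have h2 := S.hG_mem_subH i hi t ht
    have e : hG D X (D.simple i) t * nG D X (D.simple i) 1 * h *
        (hG D X (D.simple i) t * nG D X (D.simple i) 1)⁻¹ =
        hG D X (D.simple i) t * (nG D X (D.simple i) 1 * h * (nG D X (D.simple i) 1)⁻¹) *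
          (hG D X (D.simple i) t)⁻¹ := by group
    rw [e]
    exact mul_mem (mul_mem h2 h1) (inv_mem h2)
  unfold subN at hn
  induction hn using Subgroup.closure_induction_right with
  | one =>
    intro h hh
    simpa using hh
  | mul_right x hx y hy ih =>
    obtain ⟨i, hi, t, ht, rfl⟩ := hy
    intro h hh
    have e : x * nG D X (D.simple i) t * h * (x * nG D X (D.simple i) t)⁻¹ =
        x * (nG D X (D.simple i) t * h * (nG D X (D.simple i) t)⁻¹) * x⁻¹ := by group
    rw [e]
    exact ih _ (hgen i hi t ht h hh)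
  | mul_inv_cancel x hx y hy ih =>
    obtain ⟨i, hi, t, ht, rfl⟩ := hy
    intro h hh
    rw [S.rel.nG_inv _ (hF.simple_lt i hi) (hF.neg_simple_lt i hi)]
    have e : x * nG D X (D.simple i) (-t) * h * (x * nG D X (D.simple i) (-t))⁻¹ =
        x * (nG D X (D.simple i) (-t) * h * (nG D X (D.simple i) (-t))⁻¹) * x⁻¹ := by group
    rw [e]
    exact ih _ (hgen i hi (-t) (neg_ne_zero.2 ht) h hh)

/-- `n̄_i(1)² ∈ H̄₀` -/
theorem nG_one_sq_mem (i : ℕ) (hi : i < D.rank) :
    nG D X (D.simple i) 1 * nG D X (D.simple i) 1 ∈ subH D X := by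
  have hF := S.facts
  have h1 := S.hG_mem_subH i hi (-1) (neg_ne_zero.2 one_ne_zero)
  have h2 := inv_mem h1
  have e : (hG D X (D.simple i) (-1))⁻¹ = nG D X (D.simple i) 1 * nG D X (D.simple i) 1 := by
    unfold hG
    rw [mul_inv_rev, S.rel.nG_inv _ (hF.simple_lt i hi) (hF.neg_simple_lt i hi), neg_neg]
  rwa [e] at h2

theorem subH_le_subN : subH D X ≤ subN D X := by
  unfold subH
  rw [Subgroup.closure_le]
  rintro y ⟨i, hi, t, ht, rfl⟩
  exact mul_mem (S.nG_mem_subN i hi t ht) (S.nG_mem_subN i hi (-1) (neg_ne_zero.2 one_ne_zero))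

/-- every element of `N̄` is `h · n̄_w` with `h ∈ H̄₀` -/
theorem exists_word_of_mem_subN (hd : StData D) (n : Γ) (hn : n ∈ subN D X) :
    ∃ h ∈ subH D X, ∃ w : List ℕ, (∀ j ∈ w, j < D.rank) ∧ n = h * nWordG D X w := by
  have hF := S.facts
  have step : ∀ h ∈ subH D X, ∀ w : List ℕ, (∀ j ∈ w, j < D.rank) → ∀ i < D.rank, ∀ t : K, t ≠ 0 →
      ∃ h' ∈ subH D X, ∃ w' : List ℕ, (∀ j ∈ w', j < D.rank) ∧
        h * nWordG D X w * nG D X (D.simple i) t = h' * nWordG D X w' := by
    intro h hh w hw i hi t ht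
    refine ⟨h * (nWordG D X w * hG D X (D.simple i) t * (nWordG D X w)⁻¹),
      mul_mem hh (S.subN_conj_subH hd _ (S.nWordG_mem w hw) _ (S.hG_mem_subH i hi t ht)), w ++ [i], ?_, ?_⟩
    · intro j hj
      rcases List.mem_append.1 hj with hj | hj
      · exact hw j hj
      · rw [List.mem_singleton] at hj
        rw [hj]
        exact hi
    · have e : nWordG D X (w ++ [i]) = nWordG D X w * nG D X (D.simple i) 1 := by
        unfold nWordG
        rw [List.map_append, List.prod_append, List.map_singleton, List.prod_singleton]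
      rw [e, S.nG_eq_hG_mul i hi t]
      group
  unfold subN at hn
  induction hn using Subgroup.closure_induction_right with
  | one => exact ⟨1, one_mem _, [], by simp, by simp [nWordG]⟩
  | mul_right x hx y hy ih =>
    obtain ⟨h, hh, w, hw, rfl⟩ := ih
    obtain ⟨i, hi, t, ht, rfl⟩ := hy
    exact step h hh w hw i hi t ht
  | mul_inv_cancel x hx y hy ih =>
    obtain ⟨h, hh, w, hw, rfl⟩ := ih
    obtain ⟨i, hi, t, ht, rfl⟩ := hy
    rw [S.rel.nG_inv _ (hF.simple_lt i hi) (hF.neg_simple_lt i hi)]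
    exact step h hh w hw i hi (-t) (neg_ne_zero.2 ht)

theorem map_nWordG (w : List ℕ) (hw : ∀ j ∈ w, j < D.rank) :
    θ (nWordG D X w) = nWordGL D S.facts.xadd w := by
  have hF := S.facts
  induction w with
  | nil => simp [nWordG, nWordGL_nil]
  | cons i w ih =>
    have e : nWordG D X (i :: w) = nG D X (D.simple i) 1 * nWordG D X w := by
      unfold nWordG
      rw [List.map_cons, List.prod_cons]
    rw [e, map_mul, ih fun j hj => hw j (List.mem_cons_of_mem _ hj),
      S.map_nG _ (hF.simple_lt i (hw i List.mem_cons_self)), nWordGL_cons, ← nGL_eq_nGLt]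

theorem map_subH_le : ∀ h ∈ subH D X, θ h ∈ D.diagonalSubgroup K := by
  have hF := S.facts
  have hle : subH D X ≤ (D.diagonalSubgroup K).comap θ := by
    unfold subH
    rw [Subgroup.closure_le]
    rintro y ⟨i, hi, t, ht, rfl⟩
    refine Subgroup.mem_comap.2 ?_
    have hp := hF.simple_lt i hi
    unfold hG
    rw [map_mul, S.map_nG _ hp, S.map_nG _ hp, ← hGLt_eq]
    exact hGLt_mem_diagonal D hF.xadd _ hp t ht
  exact fun h hh => hle hh

/-- the exchange condition -/
theorem exists_split (k : ℕ) (hk : k < D.rank) (a : List ℕ) (ha : ∀ j ∈ a, j < D.rank)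
    (hpos : D.IsPosRoot (reflWord D a (D.neg (D.simple k)))) :
    ∃ a₁ : List ℕ, ∃ m : ℕ, ∃ a₂ : List ℕ, a = a₁ ++ m :: a₂ ∧ reflWord D a₂ (D.simple k) = D.simple m := by
  have hF := S.facts
  induction a with
  | nil =>
    exfalso
    exact hF.sign.not_both _ hpos (hF.sign.neg_of_pos _ (hF.simple_pos k hk))
  | cons i a ih =>
    have ha' : ∀ j ∈ a, j < D.rank := fun j hj => ha j (List.mem_cons_of_mem _ hj)
    have hi := ha i List.mem_cons_self
    have hlt := reflWord_lt D (etaOf D) hF.facts a ha' _ (hF.neg_simple_lt k hk)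
    rcases hF.sign.pos_or_neg _ hlt with hp | hn
    · obtain ⟨a₁, m, a₂, e, h⟩ := ih ha' hp
      exact ⟨i :: a₁, m, a₂, by rw [e]; rfl, h⟩
    · -- `β = reflWord a (-γ)` is negative and `w_i β` is positive: `β = -p_i`
      refine ⟨[], i, a, rfl, ?_⟩
      have hβ : reflWord D a (D.neg (D.simple k)) = D.neg (D.simple i) := by
        by_contra hne
        have hnβ := hF.sign.pos_of_neg _ hn
        have hne2 : D.neg (reflWord D a (D.neg (D.simple k))) ≠ D.simple i := by
          intro e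
          apply hne
          rw [← e, hF.sign.neg_neg _ hlt]
        have h1 := hF.refl.refl_pos i hi _ hnβ hne2
        rw [(hF.facts i hi).wneg _ hlt] at h1
        have h2 := hF.sign.neg_of_pos _ h1
        rw [hF.sign.neg_neg _ ((hF.facts i hi).wlt _ hlt)] at h2
        exact hF.sign.not_both _ hpos h2
      rw [reflWord_neg D (etaOf D) hF.facts a ha' _ (hF.simple_lt k hk)] at hβ
      have h3 := congrArg D.neg hβ
      rwa [hF.sign.neg_neg _ (reflWord_lt D (etaOf D) hF.facts a ha' _ (hF.simple_lt k hk)),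
        hF.sign.neg_neg _ (hF.simple_lt i hi)] at h3

/-- a word whose `n_w` lies in `H` gives an element of `H̄₀` -/
theorem nWordG_mem_subH (hd : StData D) : ∀ (N : ℕ) (w : List ℕ), w.length = N → (∀ j ∈ w, j < D.rank) →
    nWordGL D S.facts.xadd w ∈ D.diagonalSubgroup K → nWordG D X w ∈ subH D X := by
  have hF := S.facts
  intro N
  induction N using Nat.strong_induction_on with
  | _ N IH =>
    intro w hlen hw hmem
    rcases List.eq_nil_or_concat w with rfl | ⟨a, k, rfl⟩
    · simp [nWordG]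
    · have ha : ∀ j ∈ a, j < D.rank := fun j hj => hw j (by simp [hj])
      have hk : k < D.rank := hw k (by simp)
      have hfix := (hF.mem_diagonal_of_borel_word _ (diagonal_le_borel D hmem) 1 (one_mem _) _ hw
        (one_mul _).symm).1
      have hpos : D.IsPosRoot (reflWord D a (D.neg (D.simple k))) := by
        have h1 := hfix _ (hF.simple_lt k hk)
        rw [List.concat_eq_append, reflWord_append] at h1
        have h2 : reflWord D [k] (D.simple k) = D.neg (D.simple k) := S.reflectRoot_simple k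
        rw [h2] at h1
        rw [h1]
        exact hF.simple_pos k hk
      obtain ⟨a₁, m, a₂, rfl, hm⟩ := S.exists_split k hk a ha hpos
      have ha₁ : ∀ j ∈ a₁, j < D.rank := fun j hj => ha j (by simp [hj])
      have ha₂ : ∀ j ∈ a₂, j < D.rank := fun j hj => ha j (by simp [hj])
      have hmr : m < D.rank := ha m (by simp)
      -- `n̄_{a₂} n̄_k(1) = n̄_m(c) n̄_{a₂}`
      obtain ⟨c, hc, hconj⟩ := S.nWordP_conj_nG hd (a₂.map fun j => (j, (1 : K))) (by
        intro q hq
        obtain ⟨j, hj, rfl⟩ := List.mem_map.1 hq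
        exact ⟨ha₂ j hj, one_ne_zero⟩) (D.simple k) (hF.simple_lt k hk)
      have h1 := hconj 1
      rw [← nWordG_eq, mul_one, List.map_map] at h1
      have hid : (Prod.fst ∘ fun j : ℕ => (j, (1 : K))) = id := rfl
      rw [hid, List.map_id, hm] at h1
      -- the element `n̄_m(1) n̄_m(c) ∈ H̄₀`
      have h2 : nG D X (D.simple m) 1 * nG D X (D.simple m) c ∈ subH D X := by
        rw [S.nG_eq_hG_mul m hmr c]
        have h3 := S.nG_one_conj_subH hd m hmr _ (S.hG_mem_subH m hmr c hc)
        have h4 := mul_mem h3 (S.nG_one_sq_mem m hmr)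
        have e : nG D X (D.simple m) 1 * (hG D X (D.simple m) c * nG D X (D.simple m) 1) =
            nG D X (D.simple m) 1 * hG D X (D.simple m) c * (nG D X (D.simple m) 1)⁻¹ *
              (nG D X (D.simple m) 1 * nG D X (D.simple m) 1) := by group
        rw [e]
        exact h4
      -- rewrite the word
      have e1 : nWordG D X ((a₁ ++ m :: a₂).concat k) =
          nWordG D X a₁ * (nG D X (D.simple m) 1 * nG D X (D.simple m) c) * nWordG D X a₂ := by
        have e2 : nWordG D X ((a₁ ++ m :: a₂).concat k) =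
            nWordG D X a₁ * nG D X (D.simple m) 1 * (nWordG D X a₂ * nG D X (D.simple k) 1) := by
          unfold nWordG
          rw [List.concat_eq_append, List.map_append, List.map_append, List.map_cons, List.prod_append,
            List.prod_append, List.prod_cons, List.map_singleton, List.prod_singleton]
          group
        have e3 : nWordG D X a₂ * nG D X (D.simple k) 1 = nG D X (D.simple m) c * nWordG D X a₂ := by
          rw [← h1]
          group
        rw [e2, e3]
        group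
      have e4 : nWordG D X (a₁ ++ a₂) = nWordG D X a₁ * nWordG D X a₂ := by
        unfold nWordG
        rw [List.map_append, List.prod_append]
      have h5 := S.subN_conj_subH hd _ (S.nWordG_mem a₁ ha₁) _ h2
      have e5 : nWordG D X ((a₁ ++ m :: a₂).concat k) =
          (nWordG D X a₁ * (nG D X (D.simple m) 1 * nG D X (D.simple m) c) * (nWordG D X a₁)⁻¹) *
            nWordG D X (a₁ ++ a₂) := by
        rw [e1, e4]
        group
      have ha12 : ∀ j ∈ a₁ ++ a₂, j < D.rank := by
        intro j hj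
        rcases List.mem_append.1 hj with hj | hj
        · exact ha₁ j hj
        · exact ha₂ j hj
      -- the shorter word also maps into `H`
      have h6 : nWordGL D hF.xadd (a₁ ++ a₂) ∈ D.diagonalSubgroup K := by
        have h7 := congrArg θ e5
        rw [map_mul, S.map_nWordG _ hw, S.map_nWordG _ ha12] at h7
        have h8 := S.map_subH_le _ h5
        have e6 : nWordGL D hF.xadd (a₁ ++ a₂) =
            (θ (nWordG D X a₁ * (nG D X (D.simple m) 1 * nG D X (D.simple m) c) * (nWordG D X a₁)⁻¹))⁻¹ *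
              nWordGL D hF.xadd ((a₁ ++ m :: a₂).concat k) := by
          rw [h7]
          group
        rw [e6]
        exact mul_mem (inv_mem h8) hmem
      have hlen2 : (a₁ ++ a₂).length < N := by
        rw [← hlen]
        simp
      have h9 := IH _ hlen2 (a₁ ++ a₂) rfl ha12 h6
      rw [e5]
      exact mul_mem h5 h9

/-- the kernel lies in `H̄₀` -/
theorem ker_le_subH (hd : StData D)
    (hgen : Subgroup.closure {y : Γ | ∃ r < D.nroots, ∃ t : K, y = X r t} = ⊤) :
    θ.ker ≤ subH D X := by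
  have hF := S.facts
  intro g hg
  rw [MonoidHom.mem_ker] at hg
  obtain ⟨v, hv, n, hn, v', hv', rfl⟩ := S.mem_bigSet hd hgen g
  obtain ⟨w, hw, ⟨a, ha, hθn⟩, c, hc, hconj⟩ := S.mon_of_mem hd n hn
  have hnU : a * nWordGL D hF.xadd w ∈ D.posUnipotent K := by
    rw [← hθn]
    have e : θ n = (θ v)⁻¹ * (θ v')⁻¹ := by
      rw [map_mul, map_mul] at hg
      calc θ n = (θ v)⁻¹ * (θ v * θ n * θ v') * (θ v')⁻¹ := by group
        _ = _ := by rw [hg, mul_one]
    rw [e]
    exact mul_mem (inv_mem (S.map_mem_posUnipotent v hv)) (inv_mem (S.map_mem_posUnipotent v' hv'))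
  obtain ⟨hfix, hone⟩ := hF.eq_one_of_mem_posUnipotent a ha w hw hnU
  have hθn1 : θ n = 1 := by rw [hθn, hone]
  have hcen := S.ker_le_center hd hgen (show n ∈ θ.ker from hθn1)
  have hvv : v * v' = 1 := by
    apply S.inj [] (by simp) _ _ (by rw [S.listW_nil]; exact mul_mem hv hv')
      (by rw [S.listW_nil]; exact one_mem _)
    rw [map_mul, map_mul, hθn1, mul_one] at hg
    rw [map_mul, hg, map_one]
  have hgn : v * n * v' = n := by
    rw [Subgroup.mem_center_iff] at hcen
    rw [hcen v, mul_assoc, hvv, mul_one]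
  rw [hgn]
  -- `n = h n̄_w'` with `n_w' ∈ H`
  obtain ⟨h, hh, w', hw', rfl⟩ := S.exists_word_of_mem_subN hd n hn
  have h1 : nWordGL D hF.xadd w' ∈ D.diagonalSubgroup K := by
    rw [map_mul, S.map_nWordG _ hw'] at hθn1
    have e : nWordGL D hF.xadd w' = (θ h)⁻¹ := by
      rw [eq_inv_iff_mul_eq_one]
      have := hθn1
      calc nWordGL D hF.xadd w' * θ h = (θ h)⁻¹ * (θ h * nWordGL D hF.xadd w') * θ h := by group
        _ = 1 := by rw [this]; group
    rw [e]
    exact inv_mem (S.map_subH_le h hh)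
  exact mul_mem hh (S.nWordG_mem_subH hd _ w' rfl hw' h1)

end Setup

end Cfsg.Agent.Helper6.StC
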