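import Mathlib
import Cfsg.Agent.Lib.Helper6.StBruhat
import Cfsg.Agent.Lib.Helper6.StData
import Cfsg.Agent.Lib.Helper6.ChevCenter
import Cfsg.Agent.Lib.Helper6.StTorus

/-!
The groups presented by Steinberg's relators: the homomorphism to the Chevalley group and the centrality of its
kernel.
-/

set_option autoImplicit false
set_option linter.unusedSectionVars false
set_option linter.unusedVariables false

namespace Cfsg.Agent.Helper6.StC

open Cfsg Cfsg.Lie Cfsg.Agent.Lead.Chev Cfsg.Agent.Helper6.ChevL Cfsg.Agent.Helper6.SL2Hom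

variable {K : Type*} [Field K]

theorem mk_stWord (D : ChevalleyDatum) (rels : Set (FreeGroup (Fin D.nroots × K)))
    (w : List (ℕ × K)) :
    PresentedGroup.mk rels (D.stWord w) = wordG (fun r t => PresentedGroup.mk rels (D.stX r t)) w := by
  unfold ChevalleyDatum.stWord wordG
  rw [map_list_prod, List.map_map]
  rfl

/-- the relations in any quotient of the free group by relators containing (R1), (R2) -/
theorem stRel_of_rels (D : ChevalleyDatum) (rels : Set (FreeGroup (Fin D.nroots × K)))
    (hrel : D.steinbergRelsAB K ⊆ rels) :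
    StRel D (fun r t => PresentedGroup.mk rels (D.stX r t)) := by
  refine ⟨?_, ?_⟩
  · intro r hr t u
    have hmem : D.stX r t * D.stX r u * (D.stX r (t + u))⁻¹ ∈ rels :=
      hrel (Or.inl ⟨r, t, u, hr, rfl⟩)
    have h1 := PresentedGroup.one_of_mem hmem
    rw [map_mul, map_mul, map_inv, mul_inv_eq_one] at h1
    exact h1
  · intro r hr s hs hne hne' t u
    have hmem : (D.stX s u)⁻¹ * (D.stX r t)⁻¹ * D.stX s u * D.stX r t *
        (D.stWord (D.commWord K r s t u))⁻¹ ∈ rels :=
      hrel (Or.inr ⟨r, s, t, u, hr, hs, hne, hne', rfl⟩)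
    have h1 := PresentedGroup.one_of_mem hmem
    rw [map_mul, map_mul, map_mul, map_mul, map_inv, map_inv, map_inv, mul_inv_eq_one,
      mk_stWord] at h1
    exact h1

/-- the presented group is generated by the `x̄_r(t)` -/
theorem eq_top_of_gen (D : ChevalleyDatum) (rels : Set (FreeGroup (Fin D.nroots × K)))
    (H : Subgroup (PresentedGroup rels))
    (hH : ∀ r < D.nroots, ∀ t : K, PresentedGroup.mk rels (D.stX r t) ∈ H) : H = ⊤ := by
  rw [eq_top_iff]
  intro x _
  apply PresentedGroup.generated_by rels H _ x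
  rintro ⟨r, t⟩
  have := hH r.val r.2 t
  unfold ChevalleyDatum.stX at this
  rw [dif_pos r.2] at this
  exact this

theorem mk_stN (D : ChevalleyDatum) (rels : Set (FreeGroup (Fin D.nroots × K))) (r : ℕ) (t : K) :
    PresentedGroup.mk rels (D.stN r t) = nG D (fun r t => PresentedGroup.mk rels (D.stX r t)) r t := by
  unfold ChevalleyDatum.stN ChevalleyDatum.nWord nG
  rw [mk_stWord, wordG_cons, wordG_cons, wordG_cons, wordG_nil, mul_one, mul_assoc]

theorem mk_stH (D : ChevalleyDatum) (rels : Set (FreeGroup (Fin D.nroots × K))) (r : ℕ) (t : K) :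
    PresentedGroup.mk rels (D.stH r t) = hG D (fun r t => PresentedGroup.mk rels (D.stX r t)) r t := by
  have h1 := mk_stN D rels r t
  have h2 := mk_stN D rels r (-1)
  unfold ChevalleyDatum.stN at h1 h2
  unfold ChevalleyDatum.stH ChevalleyDatum.hWord hG
  unfold ChevalleyDatum.stWord at h1 h2 ⊢
  rw [List.map_append, List.prod_append, map_mul, h1, h2]

/-- the images of the generators in the general linear group -/
def xF (D : ChevalleyDatum) (hX : XAdd D K) (q : Fin D.nroots × K) : GL D.Idx K := xGL D hX q.1.val q.2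

theorem lift_stX (D : ChevalleyDatum) (hX : XAdd D K) (r : ℕ) (t : K) :
    FreeGroup.lift (xF D hX) (D.stX r t) = xGL D hX r t := by
  unfold ChevalleyDatum.stX
  split_ifs with h
  · rw [FreeGroup.lift_apply_of]
    rfl
  · rw [map_one, xGL_of_ge D hX r (not_lt.1 h)]

theorem lift_stWord (D : ChevalleyDatum) (hX : XAdd D K) (w : List (ℕ × K)) :
    FreeGroup.lift (xF D hX) (D.stWord w) = wordGL D hX w := by
  unfold ChevalleyDatum.stWord wordGL
  rw [map_list_prod, List.map_map]
  congr 1
  apply List.map_congr_left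
  intro q hq
  exact lift_stX D hX q.1 q.2

/-- the relators (R1), (R2) hold in the Chevalley group -/
theorem lift_relAB {D : ChevalleyDatum} (hF : ChevFacts D K) :
    ∀ r ∈ D.steinbergRelsAB K, FreeGroup.lift (xF D hF.xadd) r = 1 := by
  rintro g (⟨r, t₁, t₂, hr, rfl⟩ | ⟨r, s, t, u, hr, hs, hne, hne', rfl⟩)
  · rw [map_mul, map_mul, map_inv, lift_stX, lift_stX, lift_stX, xGL_mul, mul_inv_cancel]
  · rw [map_mul, map_mul, map_mul, map_mul, map_inv, map_inv, map_inv, lift_stX, lift_stX, lift_stWord,
      mul_inv_eq_one, ← comm_GL D hF.xadd r s (hF.comm r hr s hs hne hne') t u, commutatorElement_def,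
      inv_inv, inv_inv]

/-- the relators (R1), (R2), (R3) hold in the Chevalley group -/
theorem lift_rel {D : ChevalleyDatum} (hF : ChevFacts D K) (hd : ∀ j < D.rank, D.cartan j (D.simple j) = 2) :
    ∀ r ∈ D.steinbergRels K, FreeGroup.lift (xF D hF.xadd) r = 1 := by
  rintro g ((hg | hg) | ⟨r, t₁, t₂, hr, ht₁, ht₂, rfl⟩)
  · exact lift_relAB hF g (Or.inl hg)
  · exact lift_relAB hF g (Or.inr hg)
  · have hH : ∀ t : K, FreeGroup.lift (xF D hF.xadd) (D.stH r t) = hGLt D hF.xadd r t := by
      intro t
      unfold ChevalleyDatum.stH hGLt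
      exact lift_stWord D hF.xadd _
    rw [map_mul, map_mul, map_inv, hH, hH, hH, mul_inv_eq_one]
    have h1 := (rankOne_root hF hd r hr).hmul t₁ t₂ ht₁ ht₂
    rw [hh_eq hF, hh_eq hF, hh_eq hF] at h1
    exact h1.symm

section general

variable {D : ChevalleyDatum} (hD : D ∈ [chevG2, chevB2, chevD4, chevF4, chevE6, chevE7, chevE8])
  (rels : Set (FreeGroup (Fin D.nroots × K))) (hrel : D.steinbergRelsAB K ⊆ rels)
  (hlift : ∀ r ∈ rels, FreeGroup.lift (xF D (chevFacts_of_mem (F := K) D hD).xadd) r = 1)

/-- the homomorphism to the general linear group -/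
noncomputable def thetaGL : PresentedGroup rels →* GL D.Idx K := PresentedGroup.toGroup hlift

theorem thetaGL_mk (r : ℕ) (t : K) :
    thetaGL hD rels hlift (PresentedGroup.mk rels (D.stX r t)) =
      xGL D (chevFacts_of_mem (F := K) D hD).xadd r t :=
  lift_stX D _ r t

include hrel in
theorem setup : Setup D (fun r t => PresentedGroup.mk rels (D.stX r t)) (thetaGL hD rels hlift) where
  rel := stRel_of_rels D rels hrel
  facts := chevFacts_of_mem D hD
  map := fun r hr t => thetaGL_mk hD rels hlift r t
  equiv := (stData_of_mem D hD).equiv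
  rank_pos := (stData_of_mem D hD).rank_pos
  xinj := fun r hr t h => (Cfsg.Agent.S1024.result D hD r hr t).1 h

theorem gen_eq_top :
    Subgroup.closure {y : PresentedGroup rels | ∃ r < D.nroots, ∃ t : K,
      y = PresentedGroup.mk rels (D.stX r t)} = ⊤ := by
  apply eq_top_of_gen
  intro r hr t
  exact Subgroup.subset_closure ⟨r, hr, t, rfl⟩

theorem thetaGL_range : (thetaGL hD rels hlift).range = D.group K := by
  apply le_antisymm
  · rintro _ ⟨x, rfl⟩
    have hx : x ∈ (⊤ : Subgroup (PresentedGroup rels)) := trivial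
    rw [← gen_eq_top rels] at hx
    induction hx using Subgroup.closure_induction with
    | mem y hy =>
      obtain ⟨r, hr, t, rfl⟩ := hy
      rw [thetaGL_mk]
      exact xGL_mem_group D _ r t
    | one => rw [map_one]; exact one_mem _
    | mul a b _ _ ha hb => rw [map_mul]; exact mul_mem ha hb
    | inv a _ ha => rw [map_inv]; exact inv_mem ha
  · apply group_le_of D (chevFacts_of_mem (F := K) D hD).xadd
    intro r hr t
    exact ⟨PresentedGroup.mk rels (D.stX r t), thetaGL_mk hD rels hlift r t⟩

/-- the homomorphism to the Chevalley group -/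
noncomputable def thetaG : PresentedGroup rels →* D.group K :=
  (thetaGL hD rels hlift).codRestrict (D.group K) (fun x => by
    rw [← thetaGL_range hD rels hlift]
    exact ⟨x, rfl⟩)

theorem thetaG_val (x : PresentedGroup rels) :
    ((thetaG hD rels hlift x : D.group K) : GL D.Idx K) = thetaGL hD rels hlift x := rfl

theorem thetaG_surjective : Function.Surjective (thetaG hD rels hlift) := by
  intro y
  have hy : (y : GL D.Idx K) ∈ (thetaGL hD rels hlift).range := by
    rw [thetaGL_range hD rels hlift]
    exact y.2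
  obtain ⟨x, hx⟩ := hy
  exact ⟨x, Subtype.ext hx⟩

include hrel in
theorem thetaG_ker_le : (thetaG hD rels hlift).ker ≤ Subgroup.center (PresentedGroup rels) := by
  have h := (setup hD rels hrel hlift).ker_le_center (stData_of_mem D hD) (gen_eq_top rels)
  intro x hx
  apply h
  rw [MonoidHom.mem_ker] at hx ⊢
  have := congrArg (fun y : D.group K => (y : GL D.Idx K)) hx
  exact this

theorem center_le_ker : Subgroup.center (PresentedGroup rels) ≤ (thetaG hD rels hlift).ker := by
  intro z hz
  rw [MonoidHom.mem_ker]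
  apply Subtype.ext
  rw [Subgroup.coe_one]
  apply eq_one_of_central (chevFacts_of_mem (F := K) D hD) (corSize_of_mem D hD) _ (Subtype.mem _)
  intro g hg
  obtain ⟨x, hx⟩ := thetaG_surjective hD rels hlift ⟨g, hg⟩
  have hg' : g = ((thetaG hD rels hlift x : D.group K) : GL D.Idx K) := by rw [hx]
  rw [hg', ← Subgroup.coe_mul, ← Subgroup.coe_mul, ← map_mul, ← map_mul]
  rw [Subgroup.mem_center_iff] at hz
  rw [hz x]

end general

end Cfsg.Agent.Helper6.StC
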