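import Mathlib
import Cfsg.Agent.Lib.Helper6.OrthD4Tab
import Cfsg.Agent.Lib.Helper6.OrthOmega
import Cfsg.Agent.Lib.Helper6.StPres

/-!
The root elements of `O₈⁺(F)` satisfy Steinberg's relations (R1), (R2) of type `D₄`.
-/

set_option autoImplicit false

namespace Cfsg.Agent.Helper6.OrthD4

open Matrix Cfsg Cfsg.Lie Cfsg.Agent.Helper6.OrthE Cfsg.Agent.Helper6.StC

variable {F : Type*} [Field F]

/-- the expansion of a commutator of two "square-zero" unipotent elements -/
theorem comm_expand {R : Type*} [Ring R] (A B : R) (hA : A * A = 0) (hB : B * B = 0)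
    (hABA : A * B * A = 0) (hBAB : B * A * B = 0) :
    (1 - B) * (1 - A) * (1 + B) * (1 + A) = 1 + (B * A - A * B) := by
  have h1 : (1 - B) * (1 - A) = 1 - B - A + B * A := by noncomm_ring
  have h2 : (1 - B) * (1 - A) * (1 + B) = 1 - A + B * A - A * B := by
    rw [h1]
    have : (1 - B - A + B * A) * (1 + B) = 1 - A + B * A - A * B - B * B + B * A * B := by noncomm_ring
    rw [this, hB, hBAB]
    noncomm_ring
  rw [h2]
  have : (1 - A + B * A - A * B) * (1 + A) = 1 + B * A - A * B - A * A + B * (A * A) - A * B * A := by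
    noncomm_ring
  rw [this, hA, hABA]
  noncomm_ring

/-- the matrix `ε (e_{ab} - e_{b̄ā})` over `F` -/
def aM (r : ℕ) : Matrix I8 I8 F := toMat F (spA r)

theorem eM_eq (r : ℕ) (t : F) : eM (ra r) (rb r) (((reps r : ℤ) : F) * t) = 1 + t • aM r := by
  unfold eM aM spA
  rw [toMat_cons, toMat_cons, toMat_nil, add_zero]
  congr 1
  ext i j
  simp only [Matrix.smul_apply, Matrix.sub_apply, Matrix.add_apply, single_apply, smul_eq_mul, Int.cast_neg]
  split_ifs <;> ring

theorem aM_sq (r : ℕ) (hr : r < 24) : (aM r : Matrix I8 I8 F) * aM r = 0 := by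
  unfold aM
  rw [← toMat_spMul, toMat_eq_of_eqv F (chk_facts r hr).2.2.2.1, toMat_nil]

/-- the data extracted from the check of a pair -/
theorem pair_facts (r s : ℕ) (hr : r < 24) (hs : s < 24) (hsr : s ≠ r) (hsn : s ≠ chevD4.neg r) :
    (aM r : Matrix I8 I8 F) * aM s * aM r = 0 ∧ (aM s : Matrix I8 I8 F) * aM r * aM s = 0 ∧
    ((chevD4.commTerms r s = [] ∧ (aM r : Matrix I8 I8 F) * aM s = aM s * aM r) ∨
     ∃ k N, k < 24 ∧ chevD4.commTerms r s = [(k, N, 1, 1)] ∧
       (aM r : Matrix I8 I8 F) * aM s = aM s * aM r + ((N : ℤ) : F) • aM k) := by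
  have h := (chk_facts r hr).2.2.2.2 s hs hsr hsn
  unfold chkPair at h
  rw [Bool.and_eq_true, Bool.and_eq_true, decide_eq_true_eq, decide_eq_true_eq] at h
  obtain ⟨⟨h1, h2⟩, h3⟩ := h
  refine ⟨?_, ?_, ?_⟩
  · unfold aM
    rw [← toMat_spMul, ← toMat_spMul, toMat_eq_of_eqv F h1, toMat_nil]
  · unfold aM
    rw [← toMat_spMul, ← toMat_spMul, toMat_eq_of_eqv F h2, toMat_nil]
  · rw [Bool.or_eq_true, Bool.and_eq_true, Bool.and_eq_true, Bool.and_eq_true, decide_eq_true_eq,
      decide_eq_true_eq, decide_eq_true_eq, decide_eq_true_eq, decide_eq_true_eq] at h3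
    rcases h3 with ⟨h4, h5⟩ | ⟨⟨h4, h5⟩, h6⟩
    · left
      refine ⟨h4, ?_⟩
      unfold aM
      rw [← toMat_spMul, ← toMat_spMul, toMat_eq_of_eqv F h5]
    · right
      refine ⟨_, _, h5, h4, ?_⟩
      unfold aM
      rw [← toMat_spMul, ← toMat_spMul, toMat_eq_of_eqv F h6, toMat_append, toMat_spSmul]

/-- the root elements of `O₈⁺` attached to the roots of `D₄` -/
noncomputable def xO (r : ℕ) (t : F) : GL I8 F :=
  if h : r < 24 then eGL (ra r) (rb r) (chk_facts r h).1 (((reps r : ℤ) : F) * t) else 1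

theorem xO_eq (r : ℕ) (hr : r < 24) (t : F) :
    xO r t = eGL (ra r) (rb r) (chk_facts r hr).1 (((reps r : ℤ) : F) * t) := by
  unfold xO
  rw [dif_pos hr]

theorem xO_of_ge (r : ℕ) (hr : ¬ r < 24) (t : F) : xO r t = 1 := by
  unfold xO
  rw [dif_neg hr]

theorem xO_val (r : ℕ) (hr : r < 24) (t : F) : (xO r t : GL I8 F).1 = 1 + t • aM r := by
  rw [xO_eq r hr, eGL_val, eM_eq]

theorem xO_mem (r : ℕ) (t : F) : xO r t ∈ Cfsg.isometryGroup F (Cfsg.quadFormPlus 4 F) := by
  unfold xO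
  split_ifs with h
  · exact eGL_mem _ _ _ _
  · exact one_mem _

theorem xO_add (r : ℕ) (hr : r < 24) (t u : F) : xO r t * xO r u = xO r (t + u) := by
  rw [xO_eq r hr, xO_eq r hr, xO_eq r hr]
  apply Units.ext
  rw [Units.val_mul, eGL_val, eGL_val, eGL_val, eM_mul _ _ (chk_facts r hr).1, mul_add]

theorem xO_zero (r : ℕ) (hr : r < 24) : xO r (0 : F) = 1 := by
  rw [xO_eq r hr]
  apply Units.ext
  rw [eGL_val, mul_zero, eM_zero, Units.val_one]

theorem xO_inv (r : ℕ) (hr : r < 24) (t : F) : (xO r t)⁻¹ = xO r (-t) := by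
  rw [inv_eq_iff_mul_eq_one, xO_add r hr, add_neg_cancel, xO_zero r hr]

theorem nroots_D4 : chevD4.nroots = 24 := rfl

/-- the commutator relations -/
theorem xO_comm (r s : ℕ) (hr : r < 24) (hs : s < 24) (hsr : s ≠ r) (hsn : s ≠ chevD4.neg r) (t u : F) :
    (xO s u)⁻¹ * (xO r t)⁻¹ * xO s u * xO r t = wordG xO (chevD4.commWord F r s t u) := by
  obtain ⟨h1, h2, h3⟩ := pair_facts (F := F) r s hr hs hsr hsn
  have hA := aM_sq (F := F) r hr
  have hB := aM_sq (F := F) s hs
  have hexp : ((xO s u)⁻¹ * (xO r t)⁻¹ * xO s u * xO r t : GL I8 F).1 =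
      1 + (t * u) • (aM s * aM r - aM r * aM s) := by
    rw [xO_inv s hs, xO_inv r hr, Units.val_mul, Units.val_mul, Units.val_mul, xO_val s hs, xO_val r hr,
      xO_val s hs, xO_val r hr, neg_smul, neg_smul, ← sub_eq_add_neg, ← sub_eq_add_neg]
    have := comm_expand (R := Matrix I8 I8 F) (t • (aM r : Matrix I8 I8 F)) (u • (aM s : Matrix I8 I8 F))
      (by rw [smul_mul_smul_comm, hA, smul_zero]) (by rw [smul_mul_smul_comm, hB, smul_zero])
      (by rw [smul_mul_smul_comm, smul_mul_smul_comm, h1, smul_zero])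
      (by rw [smul_mul_smul_comm, smul_mul_smul_comm, h2, smul_zero])
    rw [this, smul_mul_smul_comm, smul_mul_smul_comm, mul_comm u t, ← smul_sub]
  apply Units.ext
  rw [hexp]
  unfold ChevalleyDatum.commWord
  rcases h3 with ⟨hct, hcomm⟩ | ⟨k, N, hk, hct, hcomm⟩
  · rw [hct, List.map_nil, wordG_nil, hcomm, sub_self, smul_zero, add_zero, Units.val_one]
  · rw [hct, List.map_cons, List.map_nil, wordG_cons, wordG_nil, mul_one, xO_val k hk, hcomm]
    simp only [pow_one]
    rw [sub_add_cancel_left, smul_neg, ← neg_smul, smul_smul]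
    congr 2
    ring

end Cfsg.Agent.Helper6.OrthD4
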