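import Mathlib
import Cfsg.Agent.Lib.Helper6.OrthD4
import Cfsg.Agent.Lib.Helper6.CentralQuot
import Cfsg.Agent.S2395
import Cfsg.Agent.S1054

/-!
`D₄(F) ≅ PΩ₈⁺(F)`: the Steinberg cover of type `D₄` maps onto the subgroup of `O₈⁺(F)` generated by the long root
elements, which is the commutator subgroup; both this map and the map onto the Chevalley group have central kernel.
-/

set_option autoImplicit false

namespace Cfsg.Agent.Helper6.OrthD4

open Matrix Cfsg Cfsg.Lie Cfsg.Agent.Helper6.OrthE Cfsg.Agent.Helper6.StC Cfsg.Agent.Lead.Chev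

variable {F : Type*} [Field F]

/-- the root elements inside the isometry group -/
noncomputable def xG (r : ℕ) (t : F) : ↥(Cfsg.isometryGroup F (Cfsg.quadFormPlus 4 F)) :=
  ⟨xO r t, xO_mem r t⟩

theorem coe_wordG (w : List (ℕ × F)) :
    ((wordG (xG (F := F)) w : ↥(Cfsg.isometryGroup F (Cfsg.quadFormPlus 4 F))) : GL I8 F) = wordG xO w := by
  induction w with
  | nil => rfl
  | cons q w ih =>
    rw [wordG_cons, wordG_cons, Subgroup.coe_mul, ih]
    rfl

theorem stRel_xG : StRel chevD4 (xG (F := F)) where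
  add := fun r hr t u => Subtype.ext (xO_add r hr t u)
  comm := fun r hr s hs hsr hsn t u => by
    apply Subtype.ext
    rw [coe_wordG, ← xO_comm r s hr hs hsr hsn t u]
    rfl

/-- the map on the generators -/
noncomputable def genMap (q : Fin chevD4.nroots × F) : ↥(Cfsg.isometryGroup F (Cfsg.quadFormPlus 4 F)) :=
  xG q.1.val q.2

theorem lift_stX (r : ℕ) (t : F) : FreeGroup.lift (genMap (F := F)) (chevD4.stX r t) = xG r t := by
  unfold ChevalleyDatum.stX
  split_ifs with h
  · rw [FreeGroup.lift_apply_of]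
    rfl
  · rw [map_one]
    apply Subtype.ext
    exact (xO_of_ge r h t).symm

theorem lift_stWord (w : List (ℕ × F)) :
    FreeGroup.lift (genMap (F := F)) (chevD4.stWord w) = wordG xG w := by
  unfold ChevalleyDatum.stWord wordG
  rw [map_list_prod, List.map_map]
  congr 1
  apply List.map_congr_left
  intro q _
  exact lift_stX q.1 q.2

theorem lift_rel : ∀ g ∈ chevD4.steinbergRelsAB F, FreeGroup.lift (genMap (F := F)) g = 1 := by
  rintro g (⟨r, t₁, t₂, hr, rfl⟩ | ⟨r, s, t, u, hr, hs, hne, hne', rfl⟩)
  · rw [map_mul, map_mul, map_inv, lift_stX, lift_stX, lift_stX, stRel_xG.add r hr, mul_inv_cancel]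
  · rw [map_mul, map_mul, map_mul, map_mul, map_inv, map_inv, map_inv, lift_stX, lift_stX, lift_stWord,
      mul_inv_eq_one]
    exact stRel_xG.comm r hr s hs hne hne' t u

/-- the homomorphism from the Steinberg cover to the orthogonal group -/
noncomputable def phi : chevD4.SteinbergCover F →* ↥(Cfsg.isometryGroup F (Cfsg.quadFormPlus 4 F)) :=
  PresentedGroup.toGroup lift_rel

theorem phi_scGen (r : ℕ) (t : F) : phi (chevD4.scGen F r t) = xG r t := by
  unfold phi ChevalleyDatum.scGen
  exact lift_stX r t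

theorem hD4 : chevD4 ∈ [chevG2, chevB2, chevD4, chevF4, chevE6, chevE7, chevE8] := by simp

/-- the root elements for `e₁ - e₂` and `e₂ - e₃` do not commute -/
theorem not_commute : (xG 18 (1 : F)) * xG 14 1 ≠ xG 14 1 * xG 18 1 := by
  intro h
  have h1 := congrArg (fun g : ↥(Cfsg.isometryGroup F (Cfsg.quadFormPlus 4 F)) =>
    ((g : GL I8 F).1 *ᵥ Pi.single (Sum.inl 2) (1 : F)) (Sum.inl 0)) h
  simp only [xG, Subgroup.coe_mul, Units.val_mul] at h1
  rw [xO_eq 18 (by norm_num), xO_eq 14 (by norm_num), eGL_val, eGL_val, ← mulVec_mulVec, ← mulVec_mulVec,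
    eM_mulVec_apply, eM_mulVec_apply, eM_mulVec_apply, eM_mulVec_apply, eM_mulVec_apply] at h1
  simp [ra, rb, reps, ent, tab, bar, eM] at h1

/-- the image of `φ` is generated by the root elements -/
theorem range_phi :
    (phi (F := F)).range = Subgroup.closure {y | ∃ r < 24, ∃ t : F, y = xG r t} := by
  apply le_antisymm
  · rintro _ ⟨x, rfl⟩
    have hx : x ∈ (⊤ : Subgroup (chevD4.SteinbergCover F)) := trivial
    rw [← gen_eq_top (D := chevD4) (chevD4.steinbergRelsAB F)] at hx
    induction hx using Subgroup.closure_induction with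
    | mem y hy =>
      obtain ⟨r, hr, t, rfl⟩ := hy
      have := phi_scGen (F := F) r t
      unfold ChevalleyDatum.scGen at this
      rw [this]
      exact Subgroup.subset_closure ⟨r, hr, t, rfl⟩
    | one => rw [map_one]; exact one_mem _
    | mul a b _ _ ha hb => rw [map_mul]; exact mul_mem ha hb
    | inv a _ ha => rw [map_inv]; exact inv_mem ha
  · rw [Subgroup.closure_le]
    rintro _ ⟨r, _, t, rfl⟩
    exact ⟨chevD4.scGen F r t, phi_scGen r t⟩

/-- the image of `φ` lies in the commutator subgroup -/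
theorem range_phi_le : (phi (F := F)).range ≤ commutator ↥(Cfsg.isometryGroup F (Cfsg.quadFormPlus 4 F)) := by
  have h1 : commutator (chevD4.SteinbergCover F) = ⊤ :=
    Cfsg.Agent.S2395.result chevD4 hD4 (fun h => by
      exfalso
      simp only [List.mem_cons, List.not_mem_nil, or_false] at h
      rcases h with h | h
      · have := congrArg ChevalleyDatum.rank h
        revert this
        decide
      · have := congrArg ChevalleyDatum.rank h
        revert this
        decide)
  rw [MonoidHom.range_eq_map, ← h1, commutator_def, Subgroup.map_commutator, commutator_def]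
  exact Subgroup.commutator_mono le_top le_top

/-- every root element `E(a, b, c)` lies in the image of `φ` -/
theorem eGL_mem_range (a b : I8) (hab : a ≠ b) (hab' : a ≠ bar b) (c : F)
    (h : eGL a b hab c ∈ Cfsg.isometryGroup F (Cfsg.quadFormPlus 4 F)) :
    (⟨eGL a b hab c, h⟩ : ↥(Cfsg.isometryGroup F (Cfsg.quadFormPlus 4 F))) ∈ (phi (F := F)).range := by
  obtain ⟨r, hr, h1 | h1⟩ := cover_facts a b hab hab'
  · obtain ⟨h2, h3⟩ := h1
    have he : (((reps r : ℤ) : F)) * (((reps r : ℤ) : F) * c) = c := by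
      rcases (chk_facts r hr).2.2.1 with h4 | h4 <;> rw [h4] <;> simp
    refine ⟨chevD4.scGen F r (((reps r : ℤ) : F) * c), ?_⟩
    rw [phi_scGen]
    apply Subtype.ext
    apply Units.ext
    show (xO r _).1 = (eGL a b hab c).1
    rw [xO_eq r hr, eGL_val, eGL_val, he]
    subst h2
    subst h3
    rfl
  · obtain ⟨h2, h3⟩ := h1
    have he : (((reps r : ℤ) : F)) * (((reps r : ℤ) : F) * (-c)) = -c := by
      rcases (chk_facts r hr).2.2.1 with h4 | h4 <;> rw [h4] <;> simp
    refine ⟨chevD4.scGen F r (((reps r : ℤ) : F) * (-c)), ?_⟩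
    rw [phi_scGen]
    apply Subtype.ext
    apply Units.ext
    show (xO r _).1 = (eGL a b hab c).1
    rw [xO_eq r hr, eGL_val, eGL_val, he, eM_symm a b c, h2, h3]

/-- the commutator subgroup is the image of `φ` -/
theorem commutator_eq_range :
    commutator ↥(Cfsg.isometryGroup F (Cfsg.quadFormPlus 4 F)) = (phi (F := F)).range := by
  apply le_antisymm _ range_phi_le
  refine le_trans (commutator_le_subE (n := 4) (F := F) 3 0 (by decide)) ?_
  have key : ∀ y (hy : y ∈ subE 4 F) (h : y ∈ Cfsg.isometryGroup F (Cfsg.quadFormPlus 4 F)),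
      (⟨y, h⟩ : ↥(Cfsg.isometryGroup F (Cfsg.quadFormPlus 4 F))) ∈ (phi (F := F)).range := by
    intro y hy
    induction hy using Subgroup.closure_induction with
    | mem y hy =>
      obtain ⟨a, b, hab, hab', c, rfl⟩ := hy
      exact eGL_mem_range a b hab hab' c
    | one => exact fun _ => one_mem _
    | mul x y hx hy ihx ihy =>
      intro h
      have hx' := subM_le (3 : Fin 4) (subE_le_subM 3 hx)
      have hy' := subM_le (3 : Fin 4) (subE_le_subM 3 hy)
      exact mul_mem (ihx hx') (ihy hy')
    | inv x hx ih =>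
      intro h
      have hx' := subM_le (3 : Fin 4) (subE_le_subM 3 hx)
      exact inv_mem (ih hx')
  intro g hg
  rw [Subgroup.mem_subgroupOf] at hg
  exact key g.1 hg g.2

/-- **`D₄(F) ≅ PΩ₈⁺(F)`** -/
theorem nonempty_equiv :
    Nonempty (↥(chevD4.group F) ≃* Cfsg.POmega F (Cfsg.quadFormPlus 4 F)) := by
  have hF := chevFacts_of_mem (F := F) chevD4 hD4
  have hlift := lift_relAB hF
  set θ := thetaG hD4 (chevD4.steinbergRelsAB F) hlift with hθ
  have hsurj : Function.Surjective θ := thetaG_surjective hD4 _ hlift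
  have hker : θ.ker = Subgroup.center (chevD4.SteinbergCover F) :=
    le_antisymm (thetaG_ker_le hD4 _ (fun _ h => h) hlift) (center_le_ker hD4 _ hlift)
  obtain ⟨hsimple, hnc⟩ := Cfsg.Agent.S1054.result (F := F) chevD4 (by simp)
  have hcen : Subgroup.center ↥(chevD4.group F) = ⊥ := by
    rcases (inferInstance : (Subgroup.center ↥(chevD4.group F)).Normal).eq_bot_or_eq_top with h | h
    · exact h
    · exfalso
      apply hnc
      constructor
      constructor
      intro a b
      have ha : a ∈ Subgroup.center ↥(chevD4.group F) := by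
        rw [h]
        trivial
      exact (Subgroup.mem_center_iff.1 ha b).symm
  have hle : (phi (F := F)).ker ≤ θ.ker :=
    Cfsg.Agent.Helper6.CQ.ker_le_ker θ hsurj (le_of_eq hker) phi (chevD4.scGen F 18 1) (chevD4.scGen F 14 1)
      (by rw [phi_scGen, phi_scGen]; exact not_commute)
  have h1 := Cfsg.Agent.Helper6.CQ.nonempty_equiv θ hsurj hker hcen phi hle
  unfold Cfsg.POmega Cfsg.Omega
  rw [commutator_eq_range]
  exact h1

end Cfsg.Agent.Helper6.OrthD4
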