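import Mathlib
import Cfsg.Agent.S4208
import Cfsg.Agent.S0012
import Cfsg.Agent.S0013

/-!
`N/C`-type lemmas: indices of centralizers in normalizers and automorphism groups of
the Klein four-group and of `Q₈`.
-/

set_option autoImplicit false

namespace Cfsg.Agent.Helper6.NC

open Subgroup

variable {G : Type*} [Group G]

/-- `|N_G(H) : C_G(H)|` divides `|Aut H|` -/
theorem relIndex_centralizer_dvd [Finite G] (H : Subgroup G) :
    (centralizer (H : Set G)).relIndex (normalizer (H : Set G)) ∣ Nat.card (MulAut H) := by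
  have key := card_dvd_of_injective _ (QuotientGroup.kerLift_injective H.normalizerMonoidHom)
  rw [normalizerMonoidHom_ker, ← index, ← relIndex] at key
  exact key

theorem centralizer_subgroupOf_normal (H : Subgroup G) :
    ((centralizer (H : Set G)).subgroupOf (normalizer (H : Set G))).Normal := by
  rw [← normalizerMonoidHom_ker]
  infer_instance

/-- a 2-element of `N` outside `K ⊴ N` forces `|N : K|` to be even -/
theorem two_dvd_relIndex [Finite G] (K N : Subgroup G) (hnorm : (K.subgroupOf N).Normal) (s : G)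
    (hsN : s ∈ N) (hsK : s ∉ K) (k : ℕ) (hs : s ^ (2 ^ k) = 1) : 2 ∣ K.relIndex N := by
  have : (K.subgroupOf N).Normal := hnorm
  let sb : ↥N ⧸ K.subgroupOf N := QuotientGroup.mk ⟨s, hsN⟩
  have h1 : sb ≠ 1 := by
    intro h
    rw [QuotientGroup.eq_one_iff] at h
    exact hsK h
  have h2 : sb ^ (2 ^ k) = 1 := by
    show (QuotientGroup.mk ⟨s, hsN⟩ : ↥N ⧸ K.subgroupOf N) ^ (2 ^ k) = 1
    rw [← QuotientGroup.mk_pow]
    have : (⟨s, hsN⟩ : ↥N) ^ (2 ^ k) = 1 := by
      apply Subtype.ext
      simpa using hs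
    rw [this]
    rfl
  have h3 : orderOf sb ∣ 2 ^ k := orderOf_dvd_of_pow_eq_one h2
  obtain ⟨j, -, hj⟩ := (Nat.dvd_prime_pow Nat.prime_two).mp h3
  have hj0 : j ≠ 0 := by
    rintro rfl
    rw [pow_zero, orderOf_eq_one_iff] at hj
    exact h1 hj
  have h4 : 2 ∣ orderOf sb := by
    rw [hj]
    exact dvd_pow_self 2 hj0
  have h5 : orderOf sb ∣ Nat.card (↥N ⧸ K.subgroupOf N) := orderOf_dvd_natCard sb
  exact dvd_trans h4 h5

/-- `N_G(H)` normalizes `C_G(H)` -/
theorem normalizer_le_normalizer_centralizer (H : Subgroup G) :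
    normalizer (H : Set G) ≤ normalizer ((centralizer (H : Set G) : Subgroup G) : Set G) := by
  intro g hg
  have key : ∀ g : G, g ∈ normalizer (H : Set G) → ∀ c, c ∈ centralizer (H : Set G) →
      g * c * g⁻¹ ∈ centralizer (H : Set G) := by
    intro g hg c hc
    rw [mem_centralizer_iff] at hc ⊢
    intro t ht
    have h1 : g⁻¹ * t * g ∈ (H : Set G) := (mem_normalizer_iff''.mp hg t).mp ht
    have h2 := hc _ h1
    calc t * (g * c * g⁻¹) = g * ((g⁻¹ * t * g) * c) * g⁻¹ := by group
      _ = g * (c * (g⁻¹ * t * g)) * g⁻¹ := by rw [h2]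
      _ = g * c * g⁻¹ * t := by group
  rw [mem_normalizer_iff]
  intro c
  constructor
  · exact key g hg c
  · intro h
    have := key g⁻¹ (inv_mem hg) _ h
    simpa [mul_assoc] using this

/-- transfer of normalizer membership from a subgroup `P` to `G` -/
theorem coe_mem_normalizer (P H : Subgroup G) (hHP : H ≤ P) (s : P)
    (hs : s ∈ normalizer ((H.subgroupOf P : Subgroup P) : Set P)) :
    (s : G) ∈ normalizer (H : Set G) := by
  rw [mem_normalizer_iff]
  intro t
  constructor
  · intro ht
    have h1 : (⟨t, hHP ht⟩ : P) ∈ H.subgroupOf P := ht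
    have h2 := (mem_normalizer_iff.mp hs _).mp h1
    exact h2
  · intro ht
    have htP : t ∈ P := by
      have h1 : (s : G) * t * (s : G)⁻¹ ∈ P := hHP ht
      have h2 : t = (s : G)⁻¹ * ((s : G) * t * (s : G)⁻¹) * (s : G) := by group
      rw [h2]
      exact P.mul_mem (P.mul_mem (P.inv_mem s.2) h1) s.2
    have h1 : s * (⟨t, htP⟩ : P) * s⁻¹ ∈ H.subgroupOf P := ht
    have h2 := (mem_normalizer_iff.mp hs _).mpr h1
    exact h2

/-- transfer of centralizer membership from `G` to a subgroup `P` -/
theorem mem_centralizer_subgroupOf (P H : Subgroup G) (s : P)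
    (hs : (s : G) ∈ centralizer (H : Set G)) :
    s ∈ centralizer ((H.subgroupOf P : Subgroup P) : Set P) := by
  rw [mem_centralizer_iff] at hs ⊢
  intro t ht
  apply Subtype.ext
  exact hs _ ht

end Cfsg.Agent.Helper6.NC

namespace Cfsg.Agent.Helper6.NC

open Subgroup

/-- `|Aut V₄|` divides `6` -/
theorem card_mulAut_kleinFour_dvd {T : Type*} [Group T] [IsKleinFour T] :
    Nat.card (MulAut T) ∣ 6 := by
  have hfin : Finite T := Nat.finite_of_card_ne_zero (by rw [IsKleinFour.card_four]; norm_num)
  have : Fact (Nat.Prime 2) := ⟨Nat.prime_two⟩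
  have hcard : Nat.card T = 2 ^ 2 := by rw [IsKleinFour.card_four]; norm_num
  have hP : IsPGroup 2 T := IsPGroup.of_card hcard
  have hcomm : IsMulCommutative T := IsKleinFour.isMulCommutative
  have hfr : frattini T = ⊥ := by
    rw [eq_bot_iff]
    apply Cfsg.Agent.S0013.result 2 hP ⊥
    · rw [commutator_eq_closure, Subgroup.closure_le]
      rintro _ ⟨a, b, rfl⟩
      rw [SetLike.mem_coe, Subgroup.mem_bot, commutatorElement_def]
      have := hcomm.is_comm.comm a b
      rw [this]
      group
    · intro x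
      rw [Subgroup.mem_bot]
      have h := Monoid.pow_exponent_eq_one x
      rwa [IsKleinFour.exponent_two] at h
  have hidx : (frattini T).index = 2 ^ 2 := by
    rw [hfr, Subgroup.index_bot, hcard]
  have h := Cfsg.Agent.S4208.result (p := 2) (n := 2) (r := 2) hcard hidx
  have h6 : 2 ^ (2 * (2 - 2)) * ∏ i ∈ Finset.range 2, (2 ^ 2 - 2 ^ i) = 6 := by
    simp [Finset.prod_range_succ]
  rwa [h6] at h

open QuaternionGroup in
/-- `|Aut Q₈|` divides `24` -/
theorem card_mulAut_Q8_dvd : Nat.card (MulAut (QuaternionGroup 2)) ∣ 24 := by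
  have : Fact (Nat.Prime 2) := ⟨Nat.prime_two⟩
  have hcard : Nat.card (QuaternionGroup 2) = 2 ^ 3 := by
    rw [Nat.card_eq_fintype_card, QuaternionGroup.card]; norm_num
  have hP : IsPGroup 2 (QuaternionGroup 2) := IsPGroup.of_card hcard
  have hmemZ : ∀ w : QuaternionGroup 2, w ∈ Subgroup.zpowers (a 2 : QuaternionGroup 2) ↔
      w = 1 ∨ w = a 2 := by
    intro w
    constructor
    · intro hw
      rw [Subgroup.mem_zpowers_iff] at hw
      obtain ⟨k, rfl⟩ := hw
      have h2 : (a 2 : QuaternionGroup 2) ^ (2 : ℤ) = 1 := by decide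
      rcases Int.emod_two_eq_zero_or_one k with h | h
      · left
        have : k = 2 * (k / 2) := by omega
        rw [this, zpow_mul, h2, one_zpow]
      · right
        have : k = 2 * (k / 2) + 1 := by omega
        rw [this, zpow_add, zpow_mul, h2, one_zpow, one_mul, zpow_one]
    · rintro (rfl | rfl)
      · exact Subgroup.one_mem _
      · exact Subgroup.mem_zpowers _
  have hnormal : (Subgroup.zpowers (a 2 : QuaternionGroup 2)).Normal := by
    constructor
    intro n hn g
    rw [hmemZ] at hn ⊢
    rcases hn with rfl | rfl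
    · left; group
    · right
      revert g
      decide
  have hfr : frattini (QuaternionGroup 2) = Subgroup.zpowers (a 2 : QuaternionGroup 2) := by
    apply le_antisymm
    · apply Cfsg.Agent.S0013.result 2 hP
      · rw [commutator_eq_closure, Subgroup.closure_le]
        rintro _ ⟨v, w, rfl⟩
        rw [SetLike.mem_coe, hmemZ]
        revert v w
        decide
      · intro x
        rw [hmemZ]
        revert x
        decide
    · rw [Subgroup.zpowers_le]
      have h := (Cfsg.Agent.S0012.result 2 hP).2 (a 1 : QuaternionGroup 2)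
      have h2 : (a 1 : QuaternionGroup 2) ^ 2 = a 2 := by decide
      rwa [h2] at h
  have hcardZ : Nat.card (Subgroup.zpowers (a 2 : QuaternionGroup 2)) = 2 := by
    rw [Nat.card_zpowers]
    have h1 : (a 2 : QuaternionGroup 2) ^ 2 = 1 := by decide
    have h2 : (a 2 : QuaternionGroup 2) ≠ 1 := by decide
    exact orderOf_eq_prime h1 h2
  have hidx : (frattini (QuaternionGroup 2)).index = 2 ^ 2 := by
    have h := Subgroup.card_mul_index (frattini (QuaternionGroup 2))
    rw [hfr, hcardZ, hcard] at h
    rw [hfr]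
    omega
  have h := Cfsg.Agent.S4208.result (p := 2) (n := 3) (r := 2) hcard hidx
  have h24 : 2 ^ (2 * (3 - 2)) * ∏ i ∈ Finset.range 2, (2 ^ 2 - 2 ^ i) = 24 := by
    simp [Finset.prod_range_succ]
  rwa [h24] at h

end Cfsg.Agent.Helper6.NC
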