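import Mathlib
import Cfsg.Agent.Lib.Helper6.NC

/-!
General lemmas for 2-fusion arguments: small indices, Klein four and `Q₈` configurations.
-/

set_option autoImplicit false

namespace Cfsg.Agent.Helper6.Fus

open Subgroup

variable {G : Type*} [Group G]

/-- if the product of two elements of `N` outside `K` lies in `K` then `|N : K| ≤ 2` -/
theorem relIndex_le_two_of_mul_mem (K N : Subgroup G)
    (h : ∀ g ∈ N, ∀ h ∈ N, g ∉ K → h ∉ K → g * h ∈ K) :
    K.relIndex N = 1 ∨ K.relIndex N = 2 := by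
  by_cases hNK : N ≤ K
  · left; exact Subgroup.relIndex_eq_one.mpr hNK
  · right
    obtain ⟨a, haN, haK⟩ := SetLike.not_le_iff_exists.mp hNK
    rw [Subgroup.relIndex_eq_two_iff]
    refine ⟨a, haN, ?_⟩
    intro b hbN
    by_cases hbK : b ∈ K
    · right
      refine ⟨hbK, ?_⟩
      intro hba
      apply haK
      have : a = b⁻¹ * (b * a) := by group
      rw [this]
      exact K.mul_mem (K.inv_mem hbK) hba
    · left
      exact ⟨h b hbN a haN hbK haK, hbK⟩

theorem centralizer_le_normalizer' (H : Subgroup G) :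
    centralizer (H : Set G) ≤ normalizer (H : Set G) := by
  intro c hc
  rw [mem_normalizer_iff]
  intro t
  have key : ∀ c : G, c ∈ centralizer (H : Set G) → ∀ t ∈ H, c * t * c⁻¹ ∈ H := by
    intro c hc t ht
    have h2 : t * c = c * t := (mem_centralizer_iff.mp hc) t ht
    have h3 : c * t * c⁻¹ = t := by rw [← h2]; group
    rw [h3]; exact ht
  constructor
  · exact key c hc t
  · intro ht
    have := key c⁻¹ (inv_mem hc) _ ht
    simpa [mul_assoc] using this

/-- A Klein four configuration: if every element of `N(T)` fixes `z` then `|N(T) : C(T)| ≤ 2`. -/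
theorem kleinFour_relIndex_le_two (T : Subgroup G) (z y : G)
    (hT : ∀ t, t ∈ T ↔ t = 1 ∨ t = z ∨ t = y ∨ t = z * y)
    (hz1 : z ≠ 1) (hy1 : y ≠ 1) (hzy : z ≠ y) (hzz : z * z = 1)
    (hfix : ∀ g ∈ normalizer (T : Set G), g * z * g⁻¹ = z) :
    (centralizer (T : Set G)).relIndex (normalizer (T : Set G)) = 1 ∨
      (centralizer (T : Set G)).relIndex (normalizer (T : Set G)) = 2 := by
  have hyT : y ∈ T := (hT y).mpr (Or.inr (Or.inr (Or.inl rfl)))
  have hzT : z ∈ T := (hT z).mpr (Or.inr (Or.inl rfl))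
  -- an element of `N` fixes `y` or sends it to `z y`
  have hcases : ∀ g ∈ normalizer (T : Set G), g * y * g⁻¹ = y ∨ g * y * g⁻¹ = z * y := by
    intro g hg
    have h1 : g * y * g⁻¹ ∈ T := (mem_normalizer_iff.mp hg y).mp hyT
    rcases (hT _).mp h1 with h | h | h | h
    · exfalso; apply hy1
      have : y = g⁻¹ * (g * y * g⁻¹) * g := by group
      rw [this, h]; group
    · exfalso; apply hzy
      have h2 := hfix g hg
      have h3 : g * y * g⁻¹ = g * z * g⁻¹ := by rw [h, h2]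
      have h4 : y = z := by
        have := congrArg (fun w => g⁻¹ * w * g) h3
        simpa [mul_assoc] using this
      exact h4.symm
    · left; exact h
    · right; exact h
  -- membership in `C(T)`
  have hC : ∀ g ∈ normalizer (T : Set G), (g ∈ centralizer (T : Set G) ↔ g * y * g⁻¹ = y) := by
    intro g hg
    constructor
    · intro hc
      have := (mem_centralizer_iff.mp hc) y hyT
      rw [← this]; group
    · intro hy
      have hz := hfix g hg
      have hgy : g * y = y * g := by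
        have := congrArg (· * g) hy
        simpa [mul_assoc] using this
      have hgz : g * z = z * g := by
        have := congrArg (· * g) hz
        simpa [mul_assoc] using this
      rw [mem_centralizer_iff]
      intro t ht
      rcases (hT t).mp ht with rfl | rfl | rfl | rfl
      · simp
      · exact hgz.symm
      · exact hgy.symm
      · rw [mul_assoc, ← hgy, ← mul_assoc, ← hgz, mul_assoc]
  have hzy_ne : z * y ≠ y := by
    intro h
    apply hz1
    have := congrArg (· * y⁻¹) h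
    simpa using this
  apply relIndex_le_two_of_mul_mem
  intro g hg h hh hgC hhC
  have hgh : g * h ∈ normalizer (T : Set G) := Subgroup.mul_mem _ hg hh
  rw [hC g hg] at hgC
  rw [hC h hh] at hhC
  rw [hC _ hgh]
  have h1 : g * y * g⁻¹ = z * y := (hcases g hg).resolve_left hgC
  have h2 : h * y * h⁻¹ = z * y := (hcases h hh).resolve_left hhC
  calc g * h * y * (g * h)⁻¹ = g * (h * y * h⁻¹) * g⁻¹ := by group
    _ = g * (z * y) * g⁻¹ := by rw [h2]
    _ = (g * z * g⁻¹) * (g * y * g⁻¹) := by group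
    _ = z * (z * y) := by rw [hfix g hg, h1]
    _ = y := by rw [← mul_assoc, hzz, one_mul]

end Cfsg.Agent.Helper6.Fus

namespace Cfsg.Agent.Helper6.Fus

open Subgroup

variable {G : Type*} [Group G]

/-- a `Q₈` configuration `Q = {±1, ±a, ±b, ±ab}` with `z = -1` -/
structure Q8Config (Q : Subgroup G) (a b z : G) : Prop where
  mem : ∀ q, q ∈ Q ↔ q = 1 ∨ q = z ∨ q = a ∨ q = z * a ∨ q = b ∨ q = z * b ∨ q = a * b ∨
    q = z * (a * b)
  haa : a * a = z
  hbb : b * b = z
  hzz : z * z = 1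
  hza : z * a = a * z
  hzb : z * b = b * z
  hba : b * a = z * (a * b)
  hbA : ¬ (b = 1 ∨ b = z ∨ b = a ∨ b = z * a)

namespace Q8Config

variable {Q : Subgroup G} {a b z : G} (h : Q8Config Q a b z)
include h

theorem a_mem : a ∈ Q := (h.mem a).mpr (Or.inr (Or.inr (Or.inl rfl)))
theorem b_mem : b ∈ Q := (h.mem b).mpr (Or.inr (Or.inr (Or.inr (Or.inr (Or.inl rfl)))))
theorem z_mem : z ∈ Q := (h.mem z).mpr (Or.inr (Or.inl rfl))

/-- a sign is `1` or `z` -/
def IsSign (_ : Q8Config Q a b z) (ε : G) : Prop := ε = 1 ∨ ε = z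

theorem sign_comm_a (ε : G) (hε : h.IsSign ε) : ε * a = a * ε := by
  rcases hε with rfl | rfl
  · simp
  · exact h.hza

theorem sign_comm_b (ε : G) (hε : h.IsSign ε) : ε * b = b * ε := by
  rcases hε with rfl | rfl
  · simp
  · exact h.hzb

theorem sign_mul (ε δ : G) (hε : h.IsSign ε) (hδ : h.IsSign δ) : h.IsSign (ε * δ) := by
  rcases hε with rfl | rfl <;> rcases hδ with rfl | rfl
  · left; simp
  · right; simp
  · right; simp
  · left; exact h.hzz

theorem sign_z : h.IsSign z := Or.inr rfl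

theorem sign_sq (ε : G) (hε : h.IsSign ε) : ε * ε = 1 := by
  rcases hε with rfl | rfl
  · simp
  · exact h.hzz

/-- `a b a⁻¹ = z b` -/
theorem a_conj_b : a * b * a⁻¹ = z * b := by
  have h1 : a * b = z * (b * a) := by
    rw [h.hba, ← mul_assoc, h.hzz, one_mul]
  rw [h1]; group

/-- `b a b⁻¹ = z a` -/
theorem b_conj_a : b * a * b⁻¹ = z * a := by
  rw [h.hba]; group

theorem conj_z (g : G) (hga : g * a * g⁻¹ = a ∨ g * a * g⁻¹ = z * a) : g * z * g⁻¹ = z := by
  have h1 : g * z * g⁻¹ = (g * a * g⁻¹) * (g * a * g⁻¹) := by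
    rw [← h.haa]; group
  rw [h1]
  rcases hga with h2 | h2
  · rw [h2, h.haa]
  · rw [h2]
    calc z * a * (z * a) = z * (a * z) * a := by group
      _ = z * (z * a) * a := by rw [h.hza]
      _ = (z * z) * (a * a) := by group
      _ = z := by rw [h.hzz, one_mul, h.haa]

theorem conj_sign (g : G) (hga : g * a * g⁻¹ = a ∨ g * a * g⁻¹ = z * a) (ε : G)
    (hε : h.IsSign ε) : g * ε * g⁻¹ = ε := by
  rcases hε with rfl | rfl
  · group
  · exact h.conj_z g hga

end Q8Config

end Cfsg.Agent.Helper6.Fus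

namespace Cfsg.Agent.Helper6.Fus

open Subgroup

variable {G : Type*} [Group G]

namespace Q8Config

variable {Q : Subgroup G} {a b z : G} (h : Q8Config Q a b z)
include h

/-- the cyclic subgroup `⟨a⟩` is invariant -/
theorem conj_mem_A (g : G) (hga : g * a * g⁻¹ = a ∨ g * a * g⁻¹ = z * a) (w : G)
    (hw : w = 1 ∨ w = z ∨ w = a ∨ w = z * a) :
    g * w * g⁻¹ = 1 ∨ g * w * g⁻¹ = z ∨ g * w * g⁻¹ = a ∨ g * w * g⁻¹ = z * a := by
  have hz := h.conj_z g hga
  rcases hw with rfl | rfl | rfl | rfl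
  · left; group
  · right; left; exact hz
  · rcases hga with h1 | h1
    · right; right; left; exact h1
    · right; right; right; exact h1
  · have h2 : g * (z * a) * g⁻¹ = (g * z * g⁻¹) * (g * a * g⁻¹) := by group
    rw [h2, hz]
    rcases hga with h1 | h1
    · right; right; right; rw [h1]
    · right; right; left
      rw [h1, ← mul_assoc, h.hzz, one_mul]

/-- the subgroup of `N(Q)` of elements sending `b` to `±b` -/
def K0 (hfix : ∀ g ∈ normalizer (Q : Set G), g * a * g⁻¹ = a ∨ g * a * g⁻¹ = z * a) :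
    Subgroup G where
  carrier := {g | g ∈ normalizer (Q : Set G) ∧ ∃ γ, h.IsSign γ ∧ g * b * g⁻¹ = γ * b}
  mul_mem' := by
    rintro g k ⟨hg, γ, hγ, hgb⟩ ⟨hk, γ', hγ', hkb⟩
    refine ⟨Subgroup.mul_mem _ hg hk, γ' * γ, h.sign_mul _ _ hγ' hγ, ?_⟩
    calc g * k * b * (g * k)⁻¹ = g * (k * b * k⁻¹) * g⁻¹ := by group
      _ = g * (γ' * b) * g⁻¹ := by rw [hkb]
      _ = (g * γ' * g⁻¹) * (g * b * g⁻¹) := by group
      _ = γ' * (γ * b) := by rw [h.conj_sign g (hfix g hg) γ' hγ', hgb]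
      _ = γ' * γ * b := by group
  one_mem' := ⟨Subgroup.one_mem _, 1, Or.inl rfl, by group⟩
  inv_mem' := by
    rintro g ⟨hg, γ, hγ, hgb⟩
    have hg' : g⁻¹ ∈ normalizer (Q : Set G) := Subgroup.inv_mem _ hg
    refine ⟨hg', γ, hγ, ?_⟩
    have h1 : b = g⁻¹ * (γ * b) * g⁻¹⁻¹ := by rw [← hgb]; group
    have h2 : g⁻¹ * (γ * b) * g⁻¹⁻¹ = (g⁻¹ * γ * g⁻¹⁻¹) * (g⁻¹ * b * g⁻¹⁻¹) := by group
    rw [h2, h.conj_sign g⁻¹ (hfix _ hg') γ hγ] at h1
    have h3 : γ * b = γ * (γ * (g⁻¹ * b * g⁻¹⁻¹)) := by rw [← h1]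
    rw [← mul_assoc, h.sign_sq γ hγ, one_mul] at h3
    exact h3.symm

theorem sup_eq_K0 (hfix : ∀ g ∈ normalizer (Q : Set G), g * a * g⁻¹ = a ∨ g * a * g⁻¹ = z * a) :
    Q ⊔ centralizer (Q : Set G) = h.K0 hfix := by
  have hQN : Q ≤ normalizer (Q : Set G) := Subgroup.le_normalizer
  have haK : a ∈ h.K0 hfix := ⟨hQN h.a_mem, z, h.sign_z, h.a_conj_b⟩
  have hbK : b ∈ h.K0 hfix := ⟨hQN h.b_mem, 1, Or.inl rfl, by group⟩
  have hzK : z ∈ h.K0 hfix := by
    have h1 : a * a ∈ h.K0 hfix := Subgroup.mul_mem _ haK haK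
    have h2 : a * a = z := h.haa
    exact h2 ▸ h1
  apply le_antisymm
  · apply sup_le
    · intro q hq
      rcases (h.mem q).mp hq with rfl | rfl | rfl | rfl | rfl | rfl | rfl | rfl
      · exact Subgroup.one_mem _
      · exact hzK
      · exact haK
      · exact Subgroup.mul_mem _ hzK haK
      · exact hbK
      · exact Subgroup.mul_mem _ hzK hbK
      · exact Subgroup.mul_mem _ haK hbK
      · exact Subgroup.mul_mem _ hzK (Subgroup.mul_mem _ haK hbK)
    · intro c hc
      refine ⟨centralizer_le_normalizer' Q hc, 1, Or.inl rfl, ?_⟩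
      have := (mem_centralizer_iff.mp hc) b h.b_mem
      rw [← this]; group
  · rintro g ⟨hg, γ, hγ, hgb⟩
    -- choose `q ∈ Q` inducing the same action on `a` and `b`
    have hex : ∃ q ∈ Q, q * a * q⁻¹ = g * a * g⁻¹ ∧ q * b * q⁻¹ = g * b * g⁻¹ := by
      have hab_a : a * b * a * (a * b)⁻¹ = z * a := by
        calc a * b * a * (a * b)⁻¹ = a * (b * a * b⁻¹) * a⁻¹ := by group
          _ = a * (z * a) * a⁻¹ := by rw [h.b_conj_a]
          _ = a * z := by group
          _ = z * a := h.hza.symm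
      have hab_b : a * b * b * (a * b)⁻¹ = z * b := by
        calc a * b * b * (a * b)⁻¹ = a * b * a⁻¹ := by group
          _ = z * b := h.a_conj_b
      rcases hfix g hg with h1 | h1 <;> rcases hγ with rfl | rfl
      · exact ⟨1, Subgroup.one_mem _, by rw [h1]; group, by rw [hgb]; group⟩
      · exact ⟨a, h.a_mem, by rw [h1]; group, by rw [hgb]; exact h.a_conj_b⟩
      · exact ⟨b, h.b_mem, by rw [h1]; exact h.b_conj_a, by rw [hgb]; group⟩
      · exact ⟨a * b, Q.mul_mem h.a_mem h.b_mem, by rw [h1]; exact hab_a,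
          by rw [hgb]; exact hab_b⟩
    obtain ⟨q, hq, hqa, hqb⟩ := hex
    have hca : (q⁻¹ * g) * a = a * (q⁻¹ * g) := by
      have h1 : q⁻¹ * (g * a * g⁻¹) * q = a := by rw [← hqa]; group
      calc q⁻¹ * g * a = q⁻¹ * (g * a * g⁻¹) * q * (q⁻¹ * g) := by group
        _ = a * (q⁻¹ * g) := by rw [h1]
    have hcb : (q⁻¹ * g) * b = b * (q⁻¹ * g) := by
      have h1 : q⁻¹ * (g * b * g⁻¹) * q = b := by rw [← hqb]; group
      calc q⁻¹ * g * b = q⁻¹ * (g * b * g⁻¹) * q * (q⁻¹ * g) := by group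
        _ = b * (q⁻¹ * g) := by rw [h1]
    have hcz : (q⁻¹ * g) * z = z * (q⁻¹ * g) := by
      rw [← h.haa, ← mul_assoc, hca, mul_assoc, hca, mul_assoc]
    have hcC : q⁻¹ * g ∈ centralizer (Q : Set G) := by
      rw [mem_centralizer_iff]
      intro t ht
      rcases (h.mem t).mp ht with rfl | rfl | rfl | rfl | rfl | rfl | rfl | rfl
      · simp
      · exact hcz.symm
      · exact hca.symm
      · rw [mul_assoc, ← hca, ← mul_assoc, ← hcz, mul_assoc]
      · exact hcb.symm
      · rw [mul_assoc, ← hcb, ← mul_assoc, ← hcz, mul_assoc]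
      · rw [mul_assoc, ← hcb, ← mul_assoc, ← hca, mul_assoc]
      · rw [mul_assoc, mul_assoc, ← hcb, ← mul_assoc a, ← hca, ← mul_assoc, ← mul_assoc,
          ← hcz]
        group
    have : g = q * (q⁻¹ * g) := by group
    rw [this]
    exact Subgroup.mul_mem_sup hq hcC

/-- if `⟨a⟩` is invariant under `N(Q)` then `|N(Q) : Q C(Q)| ≤ 2` -/
theorem relIndex_le_two
    (hfix : ∀ g ∈ normalizer (Q : Set G), g * a * g⁻¹ = a ∨ g * a * g⁻¹ = z * a) :
    (Q ⊔ centralizer (Q : Set G)).relIndex (normalizer (Q : Set G)) = 1 ∨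
      (Q ⊔ centralizer (Q : Set G)).relIndex (normalizer (Q : Set G)) = 2 := by
  rw [h.sup_eq_K0 hfix]
  -- the image of `b`
  have hcases : ∀ g ∈ normalizer (Q : Set G),
      (∃ γ, h.IsSign γ ∧ g * b * g⁻¹ = γ * b) ∨ (∃ γ, h.IsSign γ ∧ g * b * g⁻¹ = γ * (a * b)) := by
    intro g hg
    have h1 : g * b * g⁻¹ ∈ Q := (mem_normalizer_iff.mp hg b).mp h.b_mem
    have hg' : g⁻¹ ∈ normalizer (Q : Set G) := Subgroup.inv_mem _ hg
    have hnotA : ¬ (g * b * g⁻¹ = 1 ∨ g * b * g⁻¹ = z ∨ g * b * g⁻¹ = a ∨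
        g * b * g⁻¹ = z * a) := by
      intro hw
      have h2 := h.conj_mem_A g⁻¹ (hfix _ hg') _ hw
      have h3 : g⁻¹ * (g * b * g⁻¹) * g⁻¹⁻¹ = b := by group
      rw [h3] at h2
      exact h.hbA h2
    rcases (h.mem _).mp h1 with h2 | h2 | h2 | h2 | h2 | h2 | h2 | h2
    · exact absurd (Or.inl h2) hnotA
    · exact absurd (Or.inr (Or.inl h2)) hnotA
    · exact absurd (Or.inr (Or.inr (Or.inl h2))) hnotA
    · exact absurd (Or.inr (Or.inr (Or.inr h2))) hnotA
    · left; exact ⟨1, Or.inl rfl, by rw [h2, one_mul]⟩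
    · left; exact ⟨z, h.sign_z, h2⟩
    · right; exact ⟨1, Or.inl rfl, by rw [h2, one_mul]⟩
    · right; exact ⟨z, h.sign_z, h2⟩
  apply relIndex_le_two_of_mul_mem
  intro g hg k hk hgK hkK
  have hg2 : ∃ γ, h.IsSign γ ∧ g * b * g⁻¹ = γ * (a * b) := by
    rcases hcases g hg with h1 | h1
    · exact absurd ⟨hg, h1⟩ hgK
    · exact h1
  have hk2 : ∃ γ, h.IsSign γ ∧ k * b * k⁻¹ = γ * (a * b) := by
    rcases hcases k hk with h1 | h1
    · exact absurd ⟨hk, h1⟩ hkK
    · exact h1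
  obtain ⟨γ, hγ, hgb⟩ := hg2
  obtain ⟨γ', hγ', hkb⟩ := hk2
  have hδ : ∃ δ, h.IsSign δ ∧ g * a * g⁻¹ = δ * a := by
    rcases hfix g hg with h1 | h1
    · exact ⟨1, Or.inl rfl, by rw [h1, one_mul]⟩
    · exact ⟨z, h.sign_z, h1⟩
  obtain ⟨δ, hδ, hga⟩ := hδ
  refine ⟨Subgroup.mul_mem _ hg hk, γ' * δ * γ * z, ?_, ?_⟩
  · exact h.sign_mul _ _ (h.sign_mul _ _ (h.sign_mul _ _ hγ' hδ) hγ) h.sign_z
  · calc g * k * b * (g * k)⁻¹ = g * (k * b * k⁻¹) * g⁻¹ := by group
      _ = g * (γ' * (a * b)) * g⁻¹ := by rw [hkb]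
      _ = (g * γ' * g⁻¹) * (g * a * g⁻¹) * (g * b * g⁻¹) := by group
      _ = γ' * (δ * a) * (γ * (a * b)) := by
          rw [h.conj_sign g (hfix g hg) γ' hγ', hga, hgb]
      _ = γ' * δ * (a * γ) * (a * b) := by group
      _ = γ' * δ * (γ * a) * (a * b) := by rw [h.sign_comm_a γ hγ]
      _ = γ' * δ * γ * (a * a) * b := by group
      _ = γ' * δ * γ * z * b := by rw [h.haa]

end Q8Config

end Cfsg.Agent.Helper6.Fus

namespace Cfsg.Agent.Helper6.Fus

open Subgroup

variable {G : Type*} [Group G]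

/-- an element of `p`-power order is conjugate into a given Sylow `p`-subgroup -/
theorem exists_conj_mem_sylow [Finite G] {p : ℕ} [Fact p.Prime] (P : Sylow p G) (t : G) (k : ℕ)
    (ht : orderOf t = p ^ k) : ∃ g : G, g * t * g⁻¹ ∈ (P : Subgroup G) := by
  have hpg : IsPGroup p (Subgroup.zpowers t) := by
    apply IsPGroup.of_card (n := k)
    rw [Nat.card_zpowers, ht]
  obtain ⟨P', hP'⟩ := hpg.exists_le_sylow
  obtain ⟨g, hg⟩ := MulAction.exists_smul_eq G P' P
  refine ⟨g, ?_⟩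
  have h1 : t ∈ (P' : Subgroup G) := hP' (Subgroup.mem_zpowers t)
  have h2 : g * t * g⁻¹ ∈ ((g • P' : Sylow p G) : Subgroup G) := by
    rw [Sylow.coe_subgroup_smul, Subgroup.mem_smul_pointwise_iff_exists]
    exact ⟨t, h1, by rw [MulAut.smul_def, MulAut.conj_apply]⟩
  rwa [hg] at h2

/-- a subgroup of index `2` contains the commutator subgroup -/
theorem commutator_le_of_index_two (H : Subgroup G) (hH : H.index = 2) : commutator G ≤ H := by
  have hn : H.Normal := Subgroup.normal_of_index_eq_two hH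
  have hcard : Nat.card (G ⧸ H) = 2 := hH
  have : Fact (Nat.Prime 2) := ⟨Nat.prime_two⟩
  have hcyc : IsCyclic (G ⧸ H) := isCyclic_of_prime_card hcard
  let _ : CommGroup (G ⧸ H) := hcyc.commGroup
  have h1 := Abelianization.commutator_subset_ker (QuotientGroup.mk' H)
  rwa [QuotientGroup.ker_mk'] at h1

/-- if a Sylow `2`-subgroup lies in the commutator subgroup there is no subgroup of index `2` -/
theorem no_index_two [Finite G] (P : Sylow 2 G) (hP : (P : Subgroup G) ≤ commutator G)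
    (H : Subgroup G) : H.index ≠ 2 := by
  intro hH
  have : Fact (Nat.Prime 2) := ⟨Nat.prime_two⟩
  have h1 : (P : Subgroup G) ≤ H := le_trans hP (commutator_le_of_index_two H hH)
  have h2 : H.index ∣ (P : Subgroup G).index := Subgroup.index_dvd_of_le h1
  rw [hH] at h2
  exact P.not_dvd_index h2

end Cfsg.Agent.Helper6.Fus
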