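import Mathlib
import Cfsg.Agent.Lib.Helper6.FusionLemmas

/-!
Abstract lemmas on elements acting with odd order on abelian `2`-subgroups, used to extract
fusion from the hypothesis `3 ∣ |N : C|`.
-/

set_option autoImplicit false

namespace Cfsg.Agent.Helper6.Fus

open Subgroup
open scoped commutatorElement

variable {G : Type*} [Group G]

/-- Cauchy's theorem in a quotient `N / C` -/
theorem exists_pow_prime_mem [Finite G] (p : ℕ) [Fact p.Prime] (C N : Subgroup G)
    (hnorm : (C.subgroupOf N).Normal) (hp : p ∣ C.relIndex N) :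
    ∃ g ∈ N, g ∉ C ∧ g ^ p ∈ C := by
  have hcard : Nat.card (↥N ⧸ C.subgroupOf N) = C.relIndex N := rfl
  rw [← hcard] at hp
  obtain ⟨q, hq⟩ := exists_prime_orderOf_dvd_card' p hp
  obtain ⟨g, rfl⟩ := QuotientGroup.mk_surjective q
  refine ⟨(g : G), g.2, ?_, ?_⟩
  · intro hgC
    have h1 : g ∈ C.subgroupOf N := hgC
    have h2 : (QuotientGroup.mk g : ↥N ⧸ C.subgroupOf N) = 1 :=
      (QuotientGroup.eq_one_iff g).mpr h1
    rw [h2, orderOf_one] at hq
    exact (Fact.out : p.Prime).ne_one hq.symm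
  · have h1 : (QuotientGroup.mk g : ↥N ⧸ C.subgroupOf N) ^ p = 1 := by
      rw [← hq]; exact pow_orderOf_eq_one _
    rw [← QuotientGroup.mk_pow, QuotientGroup.eq_one_iff] at h1
    exact h1

theorem conj_mul' (g a b : G) : g * (a * b) * g⁻¹ = (g * a * g⁻¹) * (g * b * g⁻¹) := by group

theorem conj_pow' (g a : G) (k : ℕ) : g * a ^ k * g⁻¹ = (g * a * g⁻¹) ^ k := by
  rw [conj_pow]

/-- an element whose cube centralizes the abelian `2`-group `W` and which fixes the involutions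
of `W` centralizes `W` -/
theorem centralizes_of_cube (W : Subgroup G) (hcomm : ∀ u ∈ W, ∀ v ∈ W, u * v = v * u)
    (h2 : ∀ w ∈ W, ∃ k : ℕ, w ^ (2 ^ k) = 1) (g : G) (hnorm : ∀ w ∈ W, g * w * g⁻¹ ∈ W)
    (h3 : ∀ w ∈ W, g * g * g * w * (g * g * g)⁻¹ = w)
    (hinv : ∀ w ∈ W, w * w = 1 → g * w * g⁻¹ = w) :
    ∀ w ∈ W, g * w * g⁻¹ = w := by
  have key : ∀ k : ℕ, ∀ w ∈ W, w ^ (2 ^ k) = 1 → g * w * g⁻¹ = w := by
    intro k
    induction k with
    | zero =>
      intro w _ hw
      rw [pow_zero, pow_one] at hw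
      rw [hw]; group
    | succ k ih =>
      intro w hw hwk
      have hww : w * w ∈ W := W.mul_mem hw hw
      have h4 : g * (w * w) * g⁻¹ = w * w := by
        apply ih _ hww
        rw [← pow_two, ← pow_mul, ← pow_succ']
        exact hwk
      have hgw : g * w * g⁻¹ ∈ W := hnorm w hw
      set v := g * w * g⁻¹ * w⁻¹ with hv
      have hvW : v ∈ W := W.mul_mem hgw (W.inv_mem hw)
      have hc : g * w * g⁻¹ * w = w * (g * w * g⁻¹) := hcomm _ hgw _ hw
      have hvv : v * v = 1 := by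
        have h5 : (g * w * g⁻¹) * (g * w * g⁻¹) = w * w := by
          rw [← conj_mul', h4]
        have hc' : w⁻¹ * (g * w * g⁻¹) = (g * w * g⁻¹) * w⁻¹ := by
          have := congrArg (fun t => w⁻¹ * t * w⁻¹) hc
          simp only [mul_assoc, mul_inv_cancel, mul_one, inv_mul_cancel_left] at this
          simpa [mul_assoc] using this
        calc v * v = (g * w * g⁻¹) * (w⁻¹ * (g * w * g⁻¹)) * w⁻¹ := by rw [hv]; group
          _ = (g * w * g⁻¹) * ((g * w * g⁻¹) * w⁻¹) * w⁻¹ := by rw [hc']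
          _ = ((g * w * g⁻¹) * (g * w * g⁻¹)) * w⁻¹ * w⁻¹ := by group
          _ = 1 := by rw [h5]; group
      have hgv : g * v * g⁻¹ = v := hinv v hvW hvv
      have hgw' : g * w * g⁻¹ = v * w := by rw [hv]; group
      have h6 : g * g * g * w * (g * g * g)⁻¹ = v * w := by
        calc g * g * g * w * (g * g * g)⁻¹ = g * (g * (g * w * g⁻¹) * g⁻¹) * g⁻¹ := by group
          _ = g * (g * (v * w) * g⁻¹) * g⁻¹ := by rw [hgw']
          _ = g * ((g * v * g⁻¹) * (g * w * g⁻¹)) * g⁻¹ := by rw [conj_mul' g v w]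
          _ = g * (v * (v * w)) * g⁻¹ := by rw [hgv, hgw']
          _ = g * w * g⁻¹ := by rw [← mul_assoc v v w, hvv, one_mul]
          _ = v * w := hgw'
      rw [h3 w hw] at h6
      have hv1 : v = 1 := by
        have := congrArg (· * w⁻¹) h6
        simpa using this.symm
      rw [hgw', hv1, one_mul]
  intro w hw
  obtain ⟨k, hk⟩ := h2 w hw
  exact key k w hw hk

/-- an element of order dividing `3` and a power of `2` is trivial -/
theorem eq_one_of_cube_of_two_pow (w : G) (h3 : w ^ 3 = 1) (k : ℕ) (h2 : w ^ (2 ^ k) = 1) :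
    w = 1 := by
  have h4 : orderOf w ∣ 3 := orderOf_dvd_of_pow_eq_one h3
  have h5 : orderOf w ∣ 2 ^ k := orderOf_dvd_of_pow_eq_one h2
  have h6 : Nat.Coprime 3 (2 ^ k) := Nat.Coprime.pow_right k (by norm_num)
  have h7 : orderOf w ∣ 1 := by
    have := Nat.dvd_gcd h4 h5
    rwa [h6] at this
  exact orderOf_eq_one_iff.mp (Nat.dvd_one.mp h7)

/-- if `g` centralizes `w`, `g b g⁻¹ = b w` and `g³` centralizes `b` then `g` centralizes `b` -/
theorem centralizes_coset (g b w : G) (hw : g * w * g⁻¹ = w) (hb : g * b * g⁻¹ = b * w)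
    (h3 : g * g * g * b * (g * g * g)⁻¹ = b) (k : ℕ) (h2 : w ^ (2 ^ k) = 1) :
    g * b * g⁻¹ = b := by
  have h4 : g * g * g * b * (g * g * g)⁻¹ = b * w ^ 3 := by
    calc g * g * g * b * (g * g * g)⁻¹ = g * (g * (g * b * g⁻¹) * g⁻¹) * g⁻¹ := by group
      _ = g * (g * (b * w) * g⁻¹) * g⁻¹ := by rw [hb]
      _ = g * ((g * b * g⁻¹) * (g * w * g⁻¹)) * g⁻¹ := by rw [conj_mul' g b w]
      _ = g * (b * w * w) * g⁻¹ := by rw [hb, hw]
      _ = (g * b * g⁻¹) * (g * w * g⁻¹) * (g * w * g⁻¹) := by group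
      _ = b * w * w * w := by rw [hb, hw]
      _ = b * w ^ 3 := by rw [pow_succ, pow_succ, pow_one]; group
  rw [h3] at h4
  have h5 : w ^ 3 = 1 := by
    have := congrArg (b⁻¹ * ·) h4
    simpa using this.symm
  rw [hb, eq_one_of_cube_of_two_pow w h5 k h2, mul_one]

/-- if `h` normalizes the `2`-group `U` and fixes no involution of `U`, then `U` lies in
the commutator subgroup -/
theorem le_commutator_of_fixedPointFree [Finite G] (U : Subgroup G)
    (h2 : ∀ w ∈ U, ∃ k : ℕ, w ^ (2 ^ k) = 1)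
    (h : G) (hnorm : ∀ w ∈ U, h * w * h⁻¹ ∈ U)
    (hfix : ∀ w ∈ U, w ≠ 1 → w * w = 1 → h * w * h⁻¹ ≠ w) : U ≤ commutator G := by
  -- no nontrivial fixed point at all
  have hfix' : ∀ k : ℕ, ∀ w ∈ U, w ^ (2 ^ k) = 1 → h * w * h⁻¹ = w → w = 1 := by
    intro k
    induction k with
    | zero =>
      intro w _ hw _
      rwa [pow_zero, pow_one] at hw
    | succ k ih =>
      intro w hw hwk hhw
      have hww : w * w ∈ U := U.mul_mem hw hw
      have h4 : w * w = 1 := by
        apply ih _ hww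
        · rw [← pow_two, ← pow_mul, ← pow_succ']
          exact hwk
        · rw [conj_mul', hhw]
      by_contra hw1
      exact hfix w hw hw1 h4 hhw
  let φ : ↥U → ↥U := fun u => ⟨(u : G) * (h * (u : G)⁻¹ * h⁻¹),
    U.mul_mem u.2 (hnorm _ (U.inv_mem u.2))⟩
  have hinj : Function.Injective φ := by
    intro u v huv
    have h1 : (u : G) * (h * (u : G)⁻¹ * h⁻¹) = (v : G) * (h * (v : G)⁻¹ * h⁻¹) :=
      congrArg Subtype.val huv
    -- `w = v⁻¹ u` is fixed
    have hw : (v : G)⁻¹ * (u : G) ∈ U := U.mul_mem (U.inv_mem v.2) u.2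
    have h3 : h * ((v : G)⁻¹ * (u : G)) * h⁻¹ = (v : G)⁻¹ * (u : G) := by
      have hu' : h * (u : G)⁻¹ * h⁻¹ ∈ U := hnorm _ (U.inv_mem u.2)
      have hv' : h * (v : G)⁻¹ * h⁻¹ ∈ U := hnorm _ (U.inv_mem v.2)
      have e1 : h * ((v : G)⁻¹ * (u : G)) * h⁻¹ =
          (h * (v : G)⁻¹ * h⁻¹) * (h * (u : G)⁻¹ * h⁻¹)⁻¹ := by group
      have e2 : (h * (v : G)⁻¹ * h⁻¹) = (v : G)⁻¹ * ((u : G) * (h * (u : G)⁻¹ * h⁻¹)) := by
        rw [h1]; group
      rw [e1, e2]
      group
    obtain ⟨k, hk⟩ := h2 _ hw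
    have h4 := hfix' k _ hw hk h3
    apply Subtype.ext
    have : (u : G) = (v : G) * ((v : G)⁻¹ * (u : G)) := by group
    rw [this, h4, mul_one]
  have hsurj : Function.Surjective φ := Finite.injective_iff_surjective.mp hinj
  intro u hu
  obtain ⟨u', hu'⟩ := hsurj ⟨u, hu⟩
  have h1 : (u' : G) * (h * (u' : G)⁻¹ * h⁻¹) = u := congrArg Subtype.val hu'
  rw [← h1]
  have h5 : (u' : G) * (h * (u' : G)⁻¹ * h⁻¹) = ⁅(u' : G), h⁆ := by
    rw [commutatorElement_def]; group
  rw [h5]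
  exact Subgroup.commutator_mem_commutator (Subgroup.mem_top _) (Subgroup.mem_top _)

end Cfsg.Agent.Helper6.Fus

namespace Cfsg.Agent.Helper6.Fus

open Subgroup

variable {G : Type*} [Group G]

/-- the square of an element fixing `c` and permuting `{t, ct}` fixes `t` -/
theorem sq_fixes (g c t : G) (hcc : c * c = 1) (hc : g * c * g⁻¹ = c)
    (ht : g * t * g⁻¹ = t ∨ g * t * g⁻¹ = c * t) : (g * g) * t * (g * g)⁻¹ = t := by
  have h1 : (g * g) * t * (g * g)⁻¹ = g * (g * t * g⁻¹) * g⁻¹ := by group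
  rw [h1]
  rcases ht with h | h
  · rw [h, h]
  · rw [h, conj_mul', hc, h, ← mul_assoc, hcc, one_mul]

/-- Let `V = W ∪ bW` with `W` an abelian `2`-group whose involutions are `c, t, ct`.  If every
element of `N(V)` fixes `c` and normalizes `W`, then `3 ∤ |N(V) : C(V)|`. -/
theorem not_three_dvd_relIndex [Finite G] (V W : Subgroup G) (hWV : W ≤ V) (b c t : G)
    (hbV : b ∈ V) (hcover : ∀ v ∈ V, v ∈ W ∨ ∃ w ∈ W, v = b * w)
    (hcomm : ∀ u ∈ W, ∀ v ∈ W, u * v = v * u) (h2 : ∀ w ∈ W, ∃ k : ℕ, w ^ (2 ^ k) = 1)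
    (hinvW : ∀ w ∈ W, w * w = 1 → w = 1 ∨ w = c ∨ w = t ∨ w = c * t)
    (htW : t ∈ W) (hcc : c * c = 1) (htt : t * t = 1) (hct : c ≠ t)
    (ht1 : t ≠ 1)
    (hfix : ∀ g ∈ normalizer (V : Set G), g * c * g⁻¹ = c ∧ ∀ w ∈ W, g * w * g⁻¹ ∈ W) :
    ¬ 3 ∣ (centralizer (V : Set G)).relIndex (normalizer (V : Set G)) := by
  intro h3
  have : Fact (Nat.Prime 3) := ⟨Nat.prime_three⟩
  have hnormal : ((centralizer (V : Set G)).subgroupOf (normalizer (V : Set G))).Normal := by
    rw [← normalizerMonoidHom_ker]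
    infer_instance
  obtain ⟨g, hgN, hgC, hg3⟩ := exists_pow_prime_mem 3 _ _ hnormal h3
  apply hgC
  have hinj : ∀ a b : G, g * a * g⁻¹ = g * b * g⁻¹ → a = b := by
    intro a b h
    have := congrArg (fun w => g⁻¹ * w * g) h
    simpa [mul_assoc] using this
  have hgc := (hfix g hgN).1
  have hgt : g * t * g⁻¹ = t ∨ g * t * g⁻¹ = c * t := by
    have h4 : g * t * g⁻¹ ∈ W := (hfix g hgN).2 t htW
    have h5 : (g * t * g⁻¹) * (g * t * g⁻¹) = 1 := by
      rw [← conj_mul', htt]; group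
    rcases hinvW _ h4 h5 with h | h | h | h
    · exfalso; apply ht1
      have : g * t * g⁻¹ = g * 1 * g⁻¹ := by rw [h]; group
      exact hinj _ _ this
    · exfalso; apply hct
      exact (hinj _ _ (h.trans hgc.symm)).symm
    · left; exact h
    · right; exact h
  have hg'N : g * g ∈ normalizer (V : Set G) := Subgroup.mul_mem _ hgN hgN
  have hg'c : (g * g) * c * (g * g)⁻¹ = c := by
    have : (g * g) * c * (g * g)⁻¹ = g * (g * c * g⁻¹) * g⁻¹ := by group
    rw [this, hgc, hgc]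
  have hg't : (g * g) * t * (g * g)⁻¹ = t := sq_fixes g c t hcc hgc hgt
  have hcube : g * g * (g * g) * (g * g) = g ^ 3 * g ^ 3 := by
    simp only [pow_succ, pow_zero, one_mul, mul_assoc]
  have hg6 : g * g * (g * g) * (g * g) ∈ centralizer (V : Set G) := by
    rw [hcube]; exact Subgroup.mul_mem _ hg3 hg3
  have h3' : ∀ v ∈ V, g * g * (g * g) * (g * g) * v * (g * g * (g * g) * (g * g))⁻¹ = v := by
    intro v hv
    have := (mem_centralizer_iff.mp hg6) v hv
    rw [← this]; group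
  have hW : ∀ w ∈ W, (g * g) * w * (g * g)⁻¹ = w := by
    apply centralizes_of_cube W hcomm h2 (g * g) (hfix _ hg'N).2
    · intro w hw; exact h3' w (hWV hw)
    · intro w hw hww
      rcases hinvW w hw hww with rfl | rfl | rfl | rfl
      · group
      · exact hg'c
      · exact hg't
      · rw [conj_mul', hg'c, hg't]
  have hb : (g * g) * b * (g * g)⁻¹ = b := by
    have h4 : (g * g) * b * (g * g)⁻¹ ∈ V := (mem_normalizer_iff.mp hg'N b).mp hbV
    rcases hcover _ h4 with h5 | ⟨w, hw, h5⟩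
    · have h6 : (g * g)⁻¹ ∈ normalizer (V : Set G) := Subgroup.inv_mem _ hg'N
      have h7 := (hfix _ h6).2 _ h5
      have h8 : (g * g)⁻¹ * ((g * g) * b * (g * g)⁻¹) * (g * g)⁻¹⁻¹ = b := by group
      rw [h8] at h7
      exact hW b h7
    · obtain ⟨k, hk⟩ := h2 w hw
      exact centralizes_coset (g * g) b w (hW w hw) h5 (h3' b hbV) k hk
  have hV : ∀ v ∈ V, (g * g) * v * (g * g)⁻¹ = v := by
    intro v hv
    rcases hcover v hv with h5 | ⟨w, hw, rfl⟩
    · exact hW v h5
    · rw [conj_mul', hb, hW w hw]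
  have hg'C : g * g ∈ centralizer (V : Set G) := by
    rw [mem_centralizer_iff]
    intro v hv
    have := hV v hv
    have h9 := congrArg (· * (g * g)) this
    simp only [inv_mul_cancel_right] at h9
    exact h9.symm
  have : g = g ^ 3 * (g * g)⁻¹ := by
    simp only [pow_succ, pow_zero, one_mul, mul_assoc, mul_inv_rev]
    group
  rw [this]
  exact Subgroup.mul_mem _ hg3 (Subgroup.inv_mem _ hg'C)

end Cfsg.Agent.Helper6.Fus

namespace Cfsg.Agent.Helper6.Fus

theorem orderOf_conj_eq {G : Type*} [Group G] (g t : G) :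
    orderOf (g * t * g⁻¹) = orderOf t := by
  have h : SemiconjBy g t (g * t * g⁻¹) := by
    unfold SemiconjBy; group
  exact (h.orderOf_eq g).symm

end Cfsg.Agent.Helper6.Fus

namespace Cfsg.Agent.Helper6.Fus

open Subgroup

variable {G : Type*} [Group G]

theorem conj_pow_conj (g w : G) (j : ℕ) :
    g ^ (j + 1) * w * (g ^ (j + 1))⁻¹ = g * (g ^ j * w * (g ^ j)⁻¹) * g⁻¹ := by
  rw [pow_succ']; group

/-- an element of odd order which normalizes the abelian `2`-group `W` and fixes its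
involutions centralizes `W` -/
theorem centralizes_of_odd (W : Subgroup G) (hcomm : ∀ u ∈ W, ∀ v ∈ W, u * v = v * u)
    (h2 : ∀ w ∈ W, ∃ k : ℕ, w ^ (2 ^ k) = 1) (g : G) (hnorm : ∀ w ∈ W, g * w * g⁻¹ ∈ W)
    (m : ℕ) (hm : Odd m) (hgm : g ^ m = 1)
    (hinv : ∀ w ∈ W, w * w = 1 → g * w * g⁻¹ = w) :
    ∀ w ∈ W, g * w * g⁻¹ = w := by
  have key : ∀ k : ℕ, ∀ w ∈ W, w ^ (2 ^ k) = 1 → g * w * g⁻¹ = w := by
    intro k
    induction k with
    | zero =>
      intro w _ hw
      rw [pow_zero, pow_one] at hw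
      rw [hw]; group
    | succ k ih =>
      intro w hw hwk
      have hww : w * w ∈ W := W.mul_mem hw hw
      have h4 : g * (w * w) * g⁻¹ = w * w := by
        apply ih _ hww
        rw [← pow_two, ← pow_mul, ← pow_succ']
        exact hwk
      have hgw : g * w * g⁻¹ ∈ W := hnorm w hw
      obtain ⟨v, hv⟩ : ∃ v, v = g * w * g⁻¹ * w⁻¹ := ⟨_, rfl⟩
      have hvW : v ∈ W := by rw [hv]; exact W.mul_mem hgw (W.inv_mem hw)
      have hc : g * w * g⁻¹ * w = w * (g * w * g⁻¹) := hcomm _ hgw _ hw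
      have hvv : v * v = 1 := by
        have h5 : (g * w * g⁻¹) * (g * w * g⁻¹) = w * w := by
          rw [← conj_mul', h4]
        have hc' : w⁻¹ * (g * w * g⁻¹) = (g * w * g⁻¹) * w⁻¹ := by
          have := congrArg (fun t => w⁻¹ * t * w⁻¹) hc
          simp only [mul_assoc, mul_inv_cancel, mul_one, inv_mul_cancel_left] at this
          simpa [mul_assoc] using this
        calc v * v = (g * w * g⁻¹) * (w⁻¹ * (g * w * g⁻¹)) * w⁻¹ := by rw [hv]; group
          _ = (g * w * g⁻¹) * ((g * w * g⁻¹) * w⁻¹) * w⁻¹ := by rw [hc']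
          _ = ((g * w * g⁻¹) * (g * w * g⁻¹)) * w⁻¹ * w⁻¹ := by group
          _ = 1 := by rw [h5]; group
      have hgv : g * v * g⁻¹ = v := hinv v hvW hvv
      have hgw' : g * w * g⁻¹ = v * w := by rw [hv]; group
      have hpow : ∀ j : ℕ, g ^ j * w * (g ^ j)⁻¹ = v ^ j * w := by
        intro j
        induction j with
        | zero => simp
        | succ j ihj =>
          rw [conj_pow_conj, ihj, conj_mul', conj_pow', hgv, hgw', pow_succ, mul_assoc]
      have h6 := hpow m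
      rw [hgm] at h6
      have hvm : v ^ m = 1 := by
        have h7 : w = v ^ m * w := by simpa using h6
        have := congrArg (· * w⁻¹) h7
        simpa using this.symm
      obtain ⟨q, hq⟩ := hm
      have hv1 : v = 1 := by
        have h8 : v ^ (2 * q) = 1 := by rw [pow_mul, pow_two, hvv, one_pow]
        rw [hq, pow_succ, h8, one_mul] at hvm
        exact hvm
      rw [hgw', hv1, one_mul]
  intro w hw
  obtain ⟨k, hk⟩ := h2 w hw
  exact key k w hw hk

/-- an element of odd order and of `2`-power order is trivial -/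
theorem eq_one_of_odd_of_two_pow (w : G) (m : ℕ) (hm : Odd m) (h3 : w ^ m = 1) (k : ℕ)
    (h2 : w ^ (2 ^ k) = 1) : w = 1 := by
  have h4 : orderOf w ∣ m := orderOf_dvd_of_pow_eq_one h3
  have h5 : orderOf w ∣ 2 ^ k := orderOf_dvd_of_pow_eq_one h2
  have h6 : Nat.Coprime m (2 ^ k) := Nat.Coprime.pow_right k hm.coprime_two_right
  have h7 : orderOf w ∣ 1 := by
    have := Nat.dvd_gcd h4 h5
    rwa [h6] at this
  exact orderOf_eq_one_iff.mp (Nat.dvd_one.mp h7)

/-- if `g` of odd order centralizes `w` and `g b g⁻¹ = b w` then `g` centralizes `b` -/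
theorem centralizes_coset_odd (g b w : G) (hw : g * w * g⁻¹ = w) (hb : g * b * g⁻¹ = b * w)
    (m : ℕ) (hm : Odd m) (hgm : g ^ m = 1) (k : ℕ) (h2 : w ^ (2 ^ k) = 1) :
    g * b * g⁻¹ = b := by
  have hpow : ∀ j : ℕ, g ^ j * b * (g ^ j)⁻¹ = b * w ^ j := by
    intro j
    induction j with
    | zero => simp
    | succ j ihj =>
      rw [conj_pow_conj, ihj, conj_mul', conj_pow', hw, hb, pow_succ']
      group
  have h6 := hpow m
  rw [hgm] at h6
  have hwm : w ^ m = 1 := by
    have h7 : b = b * w ^ m := by simpa using h6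
    have := congrArg (b⁻¹ * ·) h7
    simpa using this.symm
  rw [hb, eq_one_of_odd_of_two_pow w m hm hwm k h2, mul_one]

end Cfsg.Agent.Helper6.Fus
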