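import Mathlib
import Cfsg.Agent.Lib.Helper6.FusionLemmas
import Cfsg.Agent.Lib.Helper6.OddAction

/-!
Sylow conjugation inside a subgroup, sign stabilizers, and an index-two criterion.
-/

set_option autoImplicit false

namespace Cfsg.Agent.Helper6.Fus

open Subgroup

variable {G : Type*} [Group G]

/-- a `p`-subgroup of `K` is `K`-conjugate into a Sylow `p`-subgroup of `G` lying in `K` -/
theorem exists_conj_le_sylow [Finite G] {p : ℕ} [Fact p.Prime] (P : Sylow p G)
    (K H : Subgroup G) (hPK : (P : Subgroup G) ≤ K) (hHK : H ≤ K) (hH : IsPGroup p H) :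
    ∃ k ∈ K, ∀ h ∈ H, k * h * k⁻¹ ∈ (P : Subgroup G) := by
  have hH' : IsPGroup p (H.subgroupOf K) := hH.comap_subtype
  obtain ⟨R, hR⟩ := hH'.exists_le_sylow
  obtain ⟨k, hk⟩ := MulAction.exists_smul_eq K R (P.subtype hPK)
  refine ⟨k, k.2, fun h hh => ?_⟩
  have h1 : (⟨h, hHK hh⟩ : K) ∈ (R : Subgroup K) := hR hh
  have h2 : k * ⟨h, hHK hh⟩ * k⁻¹ ∈ ((k • R : Sylow p K) : Subgroup K) := by
    rw [Sylow.coe_subgroup_smul, Subgroup.mem_smul_pointwise_iff_exists]
    exact ⟨⟨h, hHK hh⟩, h1, by rw [MulAut.smul_def, MulAut.conj_apply]⟩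
  rw [hk] at h2
  exact h2

/-- if `s, r ∈ N ∖ C` and `s r⁻¹ ∉ C` then `|N : C| ≠ 2` -/
theorem relIndex_ne_two_of (C N : Subgroup G) (s r : G) (hs : s ∈ N) (hr : r ∈ N)
    (hsC : s ∉ C) (hrC : r ∉ C) (hsr : s * r⁻¹ ∉ C) : C.relIndex N ≠ 2 := by
  intro h
  rw [Subgroup.relIndex_eq_two_iff] at h
  obtain ⟨a, -, ha⟩ := h
  have h1 : s * a ∈ C := by
    rcases ha s hs with ⟨h1, -⟩ | ⟨h1, -⟩
    · exact h1
    · exact absurd h1 hsC
  have h2 : r * a ∈ C := by
    rcases ha r hr with ⟨h1, -⟩ | ⟨h1, -⟩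
    · exact h1
    · exact absurd h1 hrC
  apply hsr
  have : s * r⁻¹ = (s * a) * (r * a)⁻¹ := by group
  rw [this]
  exact C.mul_mem h1 (C.inv_mem h2)

/-- the elements conjugating `a` to `a` or `z a`, where `z = a²` is an involution -/
def signStab (a z : G) (haa : a * a = z) (hzz : z * z = 1) : Subgroup G where
  carrier := {m | m * a * m⁻¹ = a ∨ m * a * m⁻¹ = z * a}
  one_mem' := Or.inl (by group)
  mul_mem' := by
    intro m₁ m₂ h₁ h₂
    have hza : z * a = a * z := by rw [← haa, mul_assoc]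
    have hz : m₁ * z * m₁⁻¹ = z := by
      have h3 : m₁ * z * m₁⁻¹ = (m₁ * a * m₁⁻¹) * (m₁ * a * m₁⁻¹) := by
        rw [← conj_mul', haa]
      rw [h3]
      rcases h₁ with h | h
      · rw [h, haa]
      · rw [h]
        calc z * a * (z * a) = z * (a * z) * a := by group
          _ = z * (z * a) * a := by rw [hza]
          _ = (z * z) * (a * a) := by group
          _ = z := by rw [hzz, one_mul, haa]
    have h4 : m₁ * m₂ * a * (m₁ * m₂)⁻¹ = m₁ * (m₂ * a * m₂⁻¹) * m₁⁻¹ := by group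
    show m₁ * m₂ * a * (m₁ * m₂)⁻¹ = a ∨ m₁ * m₂ * a * (m₁ * m₂)⁻¹ = z * a
    rw [h4]
    rcases h₂ with h | h
    · rw [h]; exact h₁
    · rw [h, conj_mul', hz]
      rcases h₁ with h' | h'
      · right; rw [h']
      · left; rw [h', ← mul_assoc, hzz, one_mul]
  inv_mem' := by
    intro m h
    have hza : z * a = a * z := by rw [← haa, mul_assoc]
    have hz : m * z * m⁻¹ = z := by
      have h3 : m * z * m⁻¹ = (m * a * m⁻¹) * (m * a * m⁻¹) := by
        rw [← conj_mul', haa]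
      rw [h3]
      rcases h with h | h
      · rw [h, haa]
      · rw [h]
        calc z * a * (z * a) = z * (a * z) * a := by group
          _ = z * (z * a) * a := by rw [hza]
          _ = (z * z) * (a * a) := by group
          _ = z := by rw [hzz, one_mul, haa]
    have hz' : m⁻¹ * z * m⁻¹⁻¹ = z := by
      have := congrArg (fun w => m⁻¹ * w * m) hz
      simp only [mul_assoc, inv_mul_cancel_left, inv_mul_cancel, mul_one] at this
      rw [inv_inv]; rw [mul_assoc]; exact this.symm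
    show m⁻¹ * a * m⁻¹⁻¹ = a ∨ m⁻¹ * a * m⁻¹⁻¹ = z * a
    rcases h with h | h
    · left
      have := congrArg (fun w => m⁻¹ * w * m) h
      simp only [mul_assoc, inv_mul_cancel_left, inv_mul_cancel, mul_one] at this
      rw [inv_inv, mul_assoc]; exact this.symm
    · right
      have h5 : a = m⁻¹ * (z * a) * m⁻¹⁻¹ := by rw [← h]; group
      rw [conj_mul', hz'] at h5
      have h6 : z * a = z * (z * (m⁻¹ * a * m⁻¹⁻¹)) := by rw [← h5]
      rw [← mul_assoc, hzz, one_mul] at h6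
      exact h6.symm

theorem mem_signStab_iff (a z : G) (haa : a * a = z) (hzz : z * z = 1) (m : G) :
    m ∈ signStab a z haa hzz ↔ (m * a * m⁻¹ = a ∨ m * a * m⁻¹ = z * a) := Iff.rfl

end Cfsg.Agent.Helper6.Fus
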