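import Mathlib
import Cfsg.Agent.Lib.Helper6.CentPairOrb
import Cfsg.Agent.Lib.Helper6.RootCentData
import Cfsg.Agent.Lib.Helper6.ParCentData

/-!
# The centralizer of `x_47(1) x_44(1)` in `F₄(q)`, `q` even

The product of the highest root element and the highest short root element is central in `U`; its centralizer
is generated by `U`, `X_{-p₂}` and `X_{-p₃}`.
-/

set_option autoImplicit false
set_option linter.unusedSectionVars false
set_option linter.unusedSimpArgs false
set_option linter.unusedVariables false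
set_option maxRecDepth 100000

namespace Cfsg.Agent.Helper6.CentPair

open Cfsg Cfsg.Lie Cfsg.Agent.Lead.Chev Cfsg.Agent.Helper6.ChevL Cfsg.Agent.Helper6.RootCent
  Cfsg.Agent.Helper6.HtF Cfsg.Agent.Helper5 Cfsg.Agent.Lead.ChevHt Cfsg.Agent.Helper6.G2S

variable {F : Type*} [Field F] {D : ChevalleyDatum}

/-- a subgroup of `G` containing `B` lies in the parabolic subgroup of the fundamental reflections it contains -/
theorem le_parabolic_of_borel_le (hF : ChevFacts D F) (hP : ParFacts D) (M : Subgroup (GL D.Idx F))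
    (hBM : D.borelSubgroup F ≤ M) (J : Set ℕ)
    (hJ : ∀ i < D.rank, nGL D hF.xadd (D.simple i) ∈ M → i ∈ J) (g : GL D.Idx F) (hgG : g ∈ D.group F)
    (hgM : g ∈ M) : g ∈ D.parabolicSubgroup F J := by
  let M' : Subgroup ↥(D.group F) := M.comap (D.group F).subtype
  have hM : hF.bnPair.B ≤ M' := by
    intro b hb
    have hb' : (b : GL D.Idx F) ∈ D.borelSubgroup F := hb
    exact hBM hb'
  have heq := Cfsg.Agent.Helper2.BN.eq_parabolic hF.bnPair M' hM
  have hle : hF.bnPair.parabolic {s | s ∈ hF.bnPair.S ∧ s ∈ M'} ≤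
      (D.parabolicSubgroup F J).comap (D.group F).subtype := by
    unfold BNPair.parabolic
    apply sup_le
    · intro b hb
      have hb' : (b : GL D.Idx F) ∈ D.borelSubgroup F := hb
      exact borel_le_parabolic _ hb'
    · rw [Subgroup.closure_le]
      rintro s ⟨⟨i, hi, hs⟩, hsM⟩
      have e : (s : GL D.Idx F) = nGL D hF.xadd (D.simple i) := Units.ext (by rw [hs, nGL_val])
      have hsN : (s : GL D.Idx F) ∈ M := hsM
      rw [e] at hsN
      show (s : GL D.Idx F) ∈ D.parabolicSubgroup F J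
      rw [e]
      exact nGL_mem_parabolic hF hP _ i hi (hJ i hi hsN)
  have hgM' : (⟨g, hgG⟩ : ↥(D.group F)) ∈ M' := hgM
  rw [heq] at hgM'
  exact hle hgM'

/-- conjugation of `∏ x_r(c_r)` by `T(d)` -/
theorem Tmat_conj_PGL (hF : ChevFacts D F) {R : List ℕ} (hA : AbData D F R) (h : GL D.Idx F) (d : ℕ → F)
    (hd : ∀ i < D.rank, d i ≠ 0) (hhd : (h : Matrix D.Idx D.Idx F) = Tmat D d) (c : ℕ → F) :
    h * PGL hF.xadd R c * h⁻¹ = PGL hF.xadd R (fun r => chi D d r * c r) := by
  have key : ∀ R' : List ℕ, (∀ r ∈ R', r ∈ R) →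
      h * PGL hF.xadd R' c * h⁻¹ = PGL hF.xadd R' (fun r => chi D d r * c r) := by
    intro R' hR'
    induction R' with
    | nil => simp [PGL_nil]
    | cons r R' ih =>
      rw [PGL_cons, PGL_cons, ← ih (fun r' hr' => hR' r' (List.mem_cons_of_mem _ hr')),
        ← hF.Tmat_conj_xGL h d hd hhd r (hA.lt hF r (hR' r List.mem_cons_self))]
      group
  exact key R (fun _ h => h)

/-! ## type `F₄` -/

theorem hmF4 : chevF4 ∈ [chevG2, chevB2, chevD4, chevF4, chevE6, chevE7, chevE8] := by simp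

theorem abOK_A : abChk chevF4 [47, 44] = true := by decide +kernel

/-- the roots of `⟨U, X_{-p₂}, X_{-p₃}⟩` -/
def QA (r : ℕ) : Prop := chevF4.IsPosRoot r ∨ r = 20 ∨ r = 22

theorem QA_QK3 : ∀ r, QA r → QK chevF4 3 r := by
  rintro r (h | rfl | rfl)
  · exact Or.inl h
  · exact Or.inr ⟨1, by decide, by decide, by decide +kernel⟩
  · exact Or.inr ⟨2, by decide, by decide, by decide +kernel⟩

theorem QA_QK0 : ∀ r, QA r → QK chevF4 0 r := by
  rintro r (h | rfl | rfl)
  · exact Or.inl h
  · exact Or.inr ⟨1, by decide, by decide, by decide +kernel⟩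
  · exact Or.inr ⟨2, by decide, by decide, by decide +kernel⟩

theorem rootGen_mono (Q Q' : ℕ → Prop) (h : ∀ r, Q r → Q' r) : rootGen D F Q ≤ rootGen D F Q' := by
  unfold rootGen
  apply Subgroup.closure_mono
  rintro x ⟨r, t, hr, hx⟩
  exact ⟨r, t, h r hr, hx⟩

section partA

variable [CharP F 2] (hF : ChevFacts chevF4 F)
include hF

theorem cd47 : CentData (F := F) (D := chevF4) 47 3 := centData_of_chk chevF4 47 3 centOK_F4_long
theorem cd44 : CentData (F := F) (D := chevF4) 44 0 := centData_of_chk chevF4 44 0 centOK_F4_short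

theorem hcorF4 : ∀ r < chevF4.nroots, ∃ i : Fin chevF4.rank, ((cor chevF4 r i.val : ℤ) : F) ≠ 0 :=
  fun r hr => exists_cor_ne_zero (F := F) 2 chevF4 t3_F4 r hr

/-- the involution `x_47(1) x_44(1)` -/
def TA : GL chevF4.Idx F := xGL chevF4 hF.xadd 47 1 * xGL chevF4 hF.xadd 44 1

theorem TA_eq : TA hF = PGL hF.xadd [47, 44] (fun _ => (1 : F)) := by
  unfold TA
  rw [PGL_cons, PGL_cons, PGL_nil, mul_one]

/-- `K = ⟨U, X_{-p₂}, X_{-p₃}⟩` centralizes the involution -/
theorem QA_commute (g : GL chevF4.Idx F) (hg : g ∈ rootGen chevF4 F QA) : Commute g (TA hF) := by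
  unfold TA
  exact (K_commute hF (cd47 hF) g (rootGen_mono QA _ QA_QK3 hg) 1).mul_right
    (K_commute hF (cd44 hF) g (rootGen_mono QA _ QA_QK0 hg) 1)

theorem posUnipotent_le_QA : chevF4.posUnipotent F ≤ rootGen chevF4 F QA := by
  unfold ChevalleyDatum.posUnipotent rootGen
  apply Subgroup.closure_mono
  rintro x ⟨r, t, hr, hx⟩
  exact ⟨r, t, Or.inl hr, hx⟩

/-- the normalizer of both root subgroups -/
def MA : Subgroup (GL chevF4.Idx F) :=
  Subgroup.normalizer (rootGen chevF4 F (fun s => s = 47) : Set (GL chevF4.Idx F)) ⊓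
    Subgroup.normalizer (rootGen chevF4 F (fun s => s = 44) : Set (GL chevF4.Idx F))

theorem borel_le_MA : chevF4.borelSubgroup F ≤ MA (F := F) := fun b hb =>
  ⟨borel_le_normalizer hF (cd47 hF) hb, borel_le_normalizer hF (cd44 hF) hb⟩

/-- the centralizer of the involution lies in `MA` -/
theorem centralizer_le_MA (hS : CorSize chevF4) (g : GL chevF4.Idx F) (hg : g ∈ chevF4.group F)
    (hc : Commute g (TA hF)) : g ∈ MA (F := F) := by
  have hA : AbData chevF4 F [47, 44] := abData_of_chk _ abOK_A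
  obtain ⟨b, hb, w, hw, u, hu, rfl⟩ := hF.exists_bruhat hS g hg
  have huU := hF.negPart_le_posUnipotent w hu
  have huc := QA_commute hF u (posUnipotent_le_QA hF huU)
  obtain ⟨u₁, hu₁, h, hh, rfl⟩ := (hF.mem_borel_iff b).1 hb
  have hu₁c := QA_commute hF u₁ (posUnipotent_le_QA hF hu₁)
  set n := nWordGL chevF4 hF.xadd w with hn
  -- `n T n⁻¹ = h⁻¹ T h`
  have h1 : n * TA hF * n⁻¹ = h⁻¹ * TA hF * h⁻¹⁻¹ := by
    have hTu : u * TA hF * u⁻¹ = TA hF := by rw [huc.eq]; group
    have hTu₁ : u₁⁻¹ * TA hF * u₁ = TA hF := by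
      rw [mul_assoc, ← hu₁c.eq]; group
    have hgT : (u₁ * h * n * u) * TA hF * (u₁ * h * n * u)⁻¹ = TA hF := by rw [hc.eq]; group
    calc n * TA hF * n⁻¹ = n * (u * TA hF * u⁻¹) * n⁻¹ := by rw [hTu]
      _ = h⁻¹ * (u₁⁻¹ * ((u₁ * h * n * u) * TA hF * (u₁ * h * n * u)⁻¹) * u₁) * h := by group
      _ = h⁻¹ * (u₁⁻¹ * TA hF * u₁) * h := by rw [hgT]
      _ = h⁻¹ * TA hF * h⁻¹⁻¹ := by rw [hTu₁, inv_inv]
  obtain ⟨d, hd, hhd⟩ := exists_Tmat_of_mem chevF4 hF.hall h⁻¹ (inv_mem hh)
  rw [TA_eq, Tmat_conj_PGL hF hA h⁻¹ d hd hhd] at h1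
  have h47 := (support_transport hF hA (hcorF4 hF) w hw _ _ h1 47 (by simp) one_ne_zero).1
  have h44 := (support_transport hF hA (hcorF4 hF) w hw _ _ h1 44 (by simp) one_ne_zero).1
  have hmem := orb_mem orbA certA orbA_chk [47, 44] (by decide) w hw
  simp only [List.map_cons, List.map_nil] at hmem
  have hfix := orbA_fix _ hmem (by simpa using h47) (by simpa using h44)
  simp only [List.cons.injEq, and_true] at hfix
  have hnM : n ∈ MA (F := F) :=
    ⟨nWordGL_mem_normalizer hF (cd47 hF) w hw hfix.1, nWordGL_mem_normalizer hF (cd44 hF) w hw hfix.2⟩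
  exact mul_mem (mul_mem (borel_le_MA hF hb) hnM) (borel_le_MA hF (posUnipotent_le_borel _ huU))


/-- `MA` lies in the parabolic subgroup of `p₂, p₃` -/
theorem MA_le_parabolic (hP : ParFacts chevF4) (g : GL chevF4.Idx F) (hgG : g ∈ chevF4.group F)
    (hgM : g ∈ MA (F := F)) : g ∈ chevF4.parabolicSubgroup F {j | j = 1 ∨ j = 2} := by
  apply le_parabolic_of_borel_le hF hP (MA (F := F)) (borel_le_MA hF) _ _ g hgG hgM
  intro i hi hiM
  -- `n_i` normalizes `X_47` and `X_44`, hence `w_i` fixes both roots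
  have key : ∀ (r₀ k : ℕ) (hd : CentData (F := F) (D := chevF4) r₀ k),
      nGL chevF4 hF.xadd (chevF4.simple i) ∈
        Subgroup.normalizer (rootGen chevF4 F (fun s => s = r₀) : Set (GL chevF4.Idx F)) → i ≠ k := by
    intro r₀ k hd hsN
    have h1 := ((Subgroup.mem_normalizer_iff.1 hsN) (xGL chevF4 hF.xadd r₀ 1)).1
      ((mem_rootGen_eq_iff hF.xadd r₀ _).2 ⟨1, rfl⟩)
    obtain ⟨c', hc'⟩ := (mem_rootGen_eq_iff hF.xadd r₀ _).1 h1
    rw [nGL_conj chevF4 hF.xadd i _ (hF.nsimple i hi) r₀ hd.pos.1 1] at hc'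
    have hη : ((etaOf chevF4 i r₀ : ℤ) : F) * 1 ≠ 0 := by
      rcases (hF.nsimple i hi).sign r₀ with h | h <;> rw [h] <;> simp
    have hfix := root_eq_of_xGL_eq hF _ r₀ ((hF.nsimple i hi).facts.wlt r₀ hd.pos.1) hd.pos _ c' hη hc'
    rintro rfl
    exact hd.hkr hfix
  have h3 := key 47 3 (cd47 hF) hiM.1
  have h0 := key 44 0 (cd44 hF) hiM.2
  have hi4 : i < 4 := hi
  show i = 1 ∨ i = 2
  omega

theorem parabolic_le_sup_A :
    chevF4.parabolicSubgroup F {j | j = 1 ∨ j = 2} ≤ rootGen chevF4 F QA ⊔ chevF4.diagonalSubgroup F := by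
  unfold ChevalleyDatum.parabolicSubgroup ChevalleyDatum.borelSubgroup
  apply sup_le
  · apply sup_le
    · exact le_trans (posUnipotent_le_QA hF) le_sup_left
    · exact le_sup_right
  · rw [Subgroup.closure_le]
    rintro g ⟨j, hj, -, hg⟩
    have e : g = nGL chevF4 hF.xadd (chevF4.simple j) := Units.ext (by rw [hg, nGL_val])
    rw [e]
    apply Subgroup.mem_sup_left
    unfold nGL
    apply wordGL_mem_rootGen
    intro q hq
    simp only [ChevalleyDatum.nWord, List.mem_cons, List.mem_nil_iff, or_false] at hq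
    have e1 : chevF4.simple 1 = 27 := by decide +kernel
    have e2 : chevF4.simple 2 = 25 := by decide +kernel
    have n1 : chevF4.neg 27 = 20 := by decide +kernel
    have n2 : chevF4.neg 25 = 22 := by decide +kernel
    have p27 : chevF4.IsPosRoot 27 := by decide +kernel
    have p25 : chevF4.IsPosRoot 25 := by decide +kernel
    rcases hj with rfl | rfl
    · rw [e1, n1] at hq
      rcases hq with rfl | rfl | rfl
      · exact Or.inl p27
      · exact Or.inr (Or.inl rfl)
      · exact Or.inl p27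
    · rw [e2, n2] at hq
      rcases hq with rfl | rfl | rfl
      · exact Or.inl p25
      · exact Or.inr (Or.inr rfl)
      · exact Or.inl p25

theorem QA_lt (r : ℕ) (hr : QA r) : r < chevF4.nroots := by
  rcases hr with h | rfl | rfl
  · exact h.1
  · decide
  · decide

/-- an element of `H` centralizing the involution lies in `K` -/
theorem diagonal_mem_QA (h : GL chevF4.Idx F) (hh : h ∈ chevF4.diagonalSubgroup F)
    (hc : Commute h (TA hF)) : h ∈ rootGen chevF4 F QA := by
  have hA : AbData chevF4 F [47, 44] := abData_of_chk _ abOK_A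
  obtain ⟨c, hc0, hhc⟩ := exists_Tmat_of_mem chevF4 hF.hall h hh
  have h2 : h * TA hF * h⁻¹ = TA hF := by
    rw [hc.eq, mul_assoc, mul_inv_cancel, mul_one]
  rw [TA_eq, Tmat_conj_PGL hF hA h c hc0 hhc] at h2
  have h3 := PGL_inj hF hA (hcorF4 hF) _ _ h2
  have h47 := h3 47 (by simp)
  have h44 := h3 44 (by simp)
  have hrk : chevF4.rank = 4 := rfl
  have c47 : chi chevF4 c 47 = c 3 := by
    unfold chi
    have e0 : chevF4.cartan 0 47 = 0 := by decide +kernel
    have e1 : chevF4.cartan 1 47 = 0 := by decide +kernel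
    have e2 : chevF4.cartan 2 47 = 0 := by decide +kernel
    have e3 : chevF4.cartan 3 47 = 1 := by decide +kernel
    rw [hrk]
    simp [List.range_succ, e0, e1, e2, e3]
  have c44 : chi chevF4 c 44 = c 0 := by
    unfold chi
    have e0 : chevF4.cartan 0 44 = 1 := by decide +kernel
    have e1 : chevF4.cartan 1 44 = 0 := by decide +kernel
    have e2 : chevF4.cartan 2 44 = 0 := by decide +kernel
    have e3 : chevF4.cartan 3 44 = 0 := by decide +kernel
    rw [hrk]
    simp [List.range_succ, e0, e1, e2, e3]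
  rw [mul_one, c47] at h47
  rw [mul_one, c44] at h44
  have h5 : h = wordGL chevF4 hF.xadd
      ((List.range chevF4.rank).flatMap fun i => chevF4.hWord (chevF4.simple i) (c i)) :=
    Units.ext (by rw [hhc, wordGL_val, wordMat_eq_Tmat chevF4 hF.hsimple c hc0])
  rw [h5, wordGL_flatMap_hWord_simple]
  apply Subgroup.list_prod_mem
  intro x hx
  obtain ⟨i, hi, rfl⟩ := List.mem_map.1 hx
  have hi' : i < 4 := List.mem_range.1 hi
  have hone : ∀ j < 4, c j = 1 → hGLt chevF4 hF.xadd (chevF4.simple j) (c j) = 1 := by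
    intro j hj hcj
    rw [hcj]
    apply Units.ext
    rw [hGLt_val, hF.hsimple j hj 1 one_ne_zero]
    rw [Units.val_one, ← Matrix.diagonal_one]
    congr 1
    funext idx
    rcases idx with k | v
    · rfl
    · simp
  have e1 : chevF4.simple 1 = 27 := by decide +kernel
  have e2 : chevF4.simple 2 = 25 := by decide +kernel
  have n1 : chevF4.neg 27 = 20 := by decide +kernel
  have n2 : chevF4.neg 25 = 22 := by decide +kernel
  have p27 : chevF4.IsPosRoot 27 := by decide +kernel
  have p25 : chevF4.IsPosRoot 25 := by decide +kernel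
  have hi03 : i = 0 ∨ i = 1 ∨ i = 2 ∨ i = 3 := by omega
  rcases hi03 with rfl | rfl | rfl | rfl
  · rw [hone 0 (by decide) h44]
    exact one_mem _
  · unfold hGLt
    apply wordGL_mem_rootGen
    intro q hq
    simp only [ChevalleyDatum.hWord, ChevalleyDatum.nWord, List.mem_append, List.mem_cons, List.mem_nil_iff,
      or_false, e1, n1] at hq
    rcases hq with (rfl | rfl | rfl) | (rfl | rfl | rfl)
    · exact Or.inl p27
    · exact Or.inr (Or.inl rfl)
    · exact Or.inl p27
    · exact Or.inl p27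
    · exact Or.inr (Or.inl rfl)
    · exact Or.inl p27
  · unfold hGLt
    apply wordGL_mem_rootGen
    intro q hq
    simp only [ChevalleyDatum.hWord, ChevalleyDatum.nWord, List.mem_append, List.mem_cons, List.mem_nil_iff,
      or_false, e2, n2] at hq
    rcases hq with (rfl | rfl | rfl) | (rfl | rfl | rfl)
    · exact Or.inl p25
    · exact Or.inr (Or.inr rfl)
    · exact Or.inl p25
    · exact Or.inl p25
    · exact Or.inr (Or.inr rfl)
    · exact Or.inl p25
  · rw [hone 3 (by decide) h47]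
    exact one_mem _

/-- **the centralizer of `x_47(1) x_44(1)`** -/
theorem centralizer_A (hP : ParFacts chevF4) (hS : CorSize chevF4) (t : GL chevF4.Idx F)
    (ht : (t : Matrix chevF4.Idx chevF4.Idx F) = chevF4.x F 47 1 * chevF4.x F 44 1) :
    chevF4.group F ⊓ Subgroup.centralizer {t} = rootGen chevF4 F QA := by
  have et : t = TA hF := Units.ext (by rw [ht]; rfl)
  subst et
  apply le_antisymm
  · rintro g ⟨hgG, hgC⟩
    have hc : Commute g (TA hF) := by
      have hgC' : g ∈ Subgroup.centralizer ({TA hF} : Set (GL chevF4.Idx F)) := hgC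
      rw [Subgroup.mem_centralizer_iff] at hgC'
      exact (hgC' _ rfl).symm
    have hM := centralizer_le_MA hF hS g hgG hc
    have hPJ := MA_le_parabolic hF hP g hgG hM
    have hsup := parabolic_le_sup_A hF hPJ
    have hle : chevF4.diagonalSubgroup F ≤ Subgroup.normalizer (rootGen chevF4 F QA : Set (GL chevF4.Idx F)) :=
      diagonal_le_normalizer_rootGen hF QA (QA_lt hF)
    have hcoe := Subgroup.coe_mul_of_right_le_normalizer_left (rootGen chevF4 F QA) (chevF4.diagonalSubgroup F) hle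
    have hmem : g ∈ ((rootGen chevF4 F QA ⊔ chevF4.diagonalSubgroup F : Subgroup (GL chevF4.Idx F)) :
        Set (GL chevF4.Idx F)) := hsup
    rw [hcoe] at hmem
    obtain ⟨k', hk', h, hh, rfl⟩ := Set.mem_mul.1 hmem
    have hk'c := QA_commute hF k' hk'
    have hhc : Commute h (TA hF) := by
      have e1 : k' * h * TA hF = TA hF * (k' * h) := hc.eq
      have e2 : k' * TA hF = TA hF * k' := hk'c.eq
      have e3 : k' * (h * TA hF) = k' * (TA hF * h) := by
        rw [← mul_assoc, e1, ← mul_assoc, ← e2, mul_assoc]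
      exact mul_left_cancel e3
    exact mul_mem hk' (diagonal_mem_QA hF h hh hhc)
  · intro g hg
    refine ⟨?_, ?_⟩
    · have hle : rootGen chevF4 F QA ≤ chevF4.group F := by
        unfold rootGen
        rw [Subgroup.closure_le]
        rintro x ⟨r, u, -, hx⟩
        have e : x = xGL chevF4 hF.xadd r u := Units.ext (by rw [hx, xGL_val])
        rw [e]
        exact xGL_mem_group chevF4 hF.xadd r u
      exact hle hg
    · show g ∈ Subgroup.centralizer ({TA hF} : Set (GL chevF4.Idx F))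
      rw [Subgroup.mem_centralizer_iff]
      intro y hy
      rw [Set.mem_singleton_iff] at hy
      subst hy
      exact (QA_commute hF g hg).eq.symm

end partA

/-- the centralizer as a join -/
theorem rootGen_QA_eq : rootGen chevF4 F QA =
    chevF4.posUnipotent F ⊔ chevF4.rootSubgroup F 20 ⊔ chevF4.rootSubgroup F 22 := by
  unfold rootGen ChevalleyDatum.posUnipotent ChevalleyDatum.rootSubgroup
  rw [← Subgroup.closure_union, ← Subgroup.closure_union]
  congr 1
  ext g
  simp only [QA, Set.mem_ofPred_eq, Set.mem_union]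
  constructor
  · rintro ⟨r, t, hr | rfl | rfl, hg⟩
    · exact Or.inl (Or.inl ⟨r, t, hr, hg⟩)
    · exact Or.inl (Or.inr ⟨t, hg⟩)
    · exact Or.inr ⟨t, hg⟩
  · rintro ((⟨r, t, hr, hg⟩ | ⟨t, hg⟩) | ⟨t, hg⟩)
    · exact ⟨r, t, Or.inl hr, hg⟩
    · exact ⟨20, t, Or.inr (Or.inl rfl), hg⟩
    · exact ⟨22, t, Or.inr (Or.inr rfl), hg⟩

end Cfsg.Agent.Helper6.CentPair
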