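import Mathlib
import Cfsg.Agent.Lib.Helper6.CentPairA
import Cfsg.Agent.Lib.Lead.ChevSub

/-!
# The centralizer of `x_39(1) x_45(1)` in `F₄(q)`, `q` even: the unipotent part

The `U`-conjugates of the involution `v = x_39(1) x_45(1)` are the elements `v x_40(a) x_44(b) x_46(c) x_47(d)`, and the
centralizer of `v` in `U` is generated by the positive root subgroups other than `X_27, X_25, X_34, X_26`.
-/

set_option autoImplicit false
set_option linter.unusedSectionVars false
set_option linter.unusedSimpArgs false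
set_option linter.unusedVariables false
set_option maxRecDepth 100000

namespace Cfsg.Agent.Helper6.CentPair

open Cfsg Cfsg.Lie Cfsg.Agent.Lead.Chev Cfsg.Agent.Helper6.ChevL Cfsg.Agent.Helper6.RootCent
  Cfsg.Agent.Helper6.HtF Cfsg.Agent.Helper5 Cfsg.Agent.Lead.ChevHt Cfsg.Agent.Helper6.G2S

variable {F : Type*} [Field F]

/-- the roots of the abelian subgroup `V` -/
def RB : List ℕ := [39, 40, 44, 45, 46, 47]

theorem abOK_B : abChk chevF4 RB = true := by decide +kernel

/-- the roots of the centralizer -/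
def QB (r : ℕ) : Prop :=
  r = 33 ∨ r = 14 ∨ r = 24 ∨ r = 23 ∨ (chevF4.IsPosRoot r ∧ r ∉ [27, 25, 34, 26])

/-- the Boolean form of `QB` -/
def qbB (r : ℕ) : Bool :=
  r == 33 || r == 14 || r == 24 || r == 23 || (decide (chevF4.IsPosRoot r) && !([27, 25, 34, 26] : List ℕ).contains r)

theorem qbB_of_QB (r : ℕ) (h : QB r) : qbB r = true := by
  unfold qbB
  rcases h with rfl | rfl | rfl | rfl | ⟨h1, h2⟩
  · rfl
  · rfl
  · rfl
  · rfl
  · simp only [Bool.or_eq_true, Bool.and_eq_true, decide_eq_true_eq, Bool.not_eq_true']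
    right
    refine ⟨h1, ?_⟩
    rw [← Bool.not_eq_true, List.contains_iff_mem]
    exact h2

/-- the generators commute with both root elements -/
def commChkB : Bool :=
  (List.range 48).all fun r => !qbB r ||
    ((r == 39 || evenChk chevF4 39 r) && (r == 45 || evenChk chevF4 45 r) && r != 8 && r != 2)

theorem commOK_B : commChkB = true := by decide +kernel

theorem QB_lt (r : ℕ) (hr : QB r) : r < chevF4.nroots := by
  rcases hr with rfl | rfl | rfl | rfl | ⟨h1, -⟩
  · decide
  · decide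
  · decide
  · decide
  · exact h1.1

theorem conj_mul {G : Type*} [Group G] (g a b : G) : g * (a * b) * g⁻¹ = (g * a * g⁻¹) * (g * b * g⁻¹) := by
  group

theorem commTerms_B : chevF4.commTerms 26 45 = [(47, 1, 1, 1)] ∧ chevF4.commTerms 25 45 = [(46, 1, 1, 1)] ∧
    chevF4.commTerms 34 39 = [(44, 1, 1, 1)] ∧ chevF4.commTerms 27 39 = [(40, 1, 1, 1)] := by
  decide +kernel

theorem evenB : evenChk chevF4 26 39 = true ∧ evenChk chevF4 25 39 = true ∧ evenChk chevF4 25 47 = true ∧
    evenChk chevF4 34 45 = true ∧ evenChk chevF4 34 46 = true ∧ evenChk chevF4 34 47 = true ∧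
    evenChk chevF4 27 44 = true ∧ evenChk chevF4 27 45 = true ∧ evenChk chevF4 27 46 = true ∧
    evenChk chevF4 27 47 = true := by
  decide +kernel

/-- the positive roots of the centralizer -/
def psiB : ℕ → Bool := fun r => !([27, 25, 34, 26] : List ℕ).contains r

/-- the Boolean test of `ClosedPsi` -/
def closedPsiChk (D : ChevalleyDatum) (Ψ : ℕ → Bool) : Bool :=
  (List.range D.nroots).all fun r => (List.range D.nroots).all fun s =>
    !(decide (D.IsPosRoot r) && decide (D.IsPosRoot s) && decide (r < s) && Ψ r && Ψ s) ||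
      (D.commTerms r s).all fun c => Ψ c.1

theorem closedPsi_of_chk (D : ChevalleyDatum) (Ψ : ℕ → Bool) (h : closedPsiChk D Ψ = true) : ClosedPsi D Ψ := by
  intro r s hr hs hlt hΨr hΨs c hc
  unfold closedPsiChk at h
  rw [List.all_eq_true] at h
  have h1 := h r (List.mem_range.2 hr.1)
  rw [List.all_eq_true] at h1
  have h2 := h1 s (List.mem_range.2 hs.1)
  rw [Bool.or_eq_true] at h2
  rcases h2 with h2 | h2
  · simp only [Bool.not_eq_true', Bool.and_eq_false_iff, decide_eq_false_iff_not] at h2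
    rcases h2 with (((h2 | h2) | h2) | h2) | h2
    · exact absurd hr h2
    · exact absurd hs h2
    · exact absurd hlt h2
    · rw [hΨr] at h2; exact absurd h2 (by simp)
    · rw [hΨs] at h2; exact absurd h2 (by simp)
  · rw [List.all_eq_true] at h2
    exact h2 c hc

theorem closedPsi_B : ClosedPsi chevF4 psiB := closedPsi_of_chk _ _ (by decide +kernel)

theorem length_B : (subFrom chevF4 psiB 0).length = 20 := by decide +kernel

theorem length_all : (subFrom chevF4 (fun _ => true) 0).length = 24 := by decide +kernel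

section partB

variable [CharP F 2] (hF : ChevFacts chevF4 F)
include hF

theorem abB : AbData chevF4 F RB := abData_of_chk _ abOK_B

/-- the involution `x_39(1) x_45(1)` -/
def TB : GL chevF4.Idx F := xGL chevF4 hF.xadd 39 1 * xGL chevF4 hF.xadd 45 1

/-- the coefficients of the `U`-conjugates of the involution -/
def cB (a b c d : F) : ℕ → F := fun r =>
  if r = 39 then 1 else if r = 40 then a else if r = 44 then b else if r = 45 then 1 else if r = 46 then c
  else if r = 47 then d else 0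

theorem PGL_cB (a b c d : F) : PGL hF.xadd RB (cB a b c d) =
    xGL chevF4 hF.xadd 39 1 * xGL chevF4 hF.xadd 40 a * xGL chevF4 hF.xadd 44 b *
      (xGL chevF4 hF.xadd 45 1 * xGL chevF4 hF.xadd 46 c * xGL chevF4 hF.xadd 47 d) := by
  unfold RB
  simp only [PGL_cons, PGL_nil, cB, mul_one, mul_assoc]
  norm_num

theorem TB_eq : TB hF = PGL hF.xadd RB (cB 0 0 0 0) := by
  rw [PGL_cB hF]
  unfold TB
  simp only [xGL_zero, mul_one]

/-- the generators of the centralizer commute with the involution -/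
theorem QB_commute_gen (r : ℕ) (hr : QB r) (u : F) : Commute (xGL chevF4 hF.xadd r u) (TB hF) := by
  have hchk := commOK_B
  unfold commChkB at hchk
  rw [List.all_eq_true] at hchk
  have h1 := hchk r (List.mem_range.2 (QB_lt r hr))
  rw [qbB_of_QB r hr] at h1
  simp only [Bool.not_true, Bool.false_or, Bool.and_eq_true, Bool.or_eq_true, beq_iff_eq, bne_iff_ne] at h1
  obtain ⟨⟨⟨h39, h45⟩, h8⟩, h2⟩ := h1
  have n39 : chevF4.neg 39 = 8 := by decide +kernel
  have n45 : chevF4.neg 45 = 2 := by decide +kernel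
  unfold TB
  apply Commute.mul_right
  · rcases h39 with rfl | h39
    · show xGL chevF4 hF.xadd 39 u * xGL chevF4 hF.xadd 39 1 = xGL chevF4 hF.xadd 39 1 * xGL chevF4 hF.xadd 39 u
      rw [xGL_mul, xGL_mul, add_comm]
    · by_cases e : r = 39
      · subst e
        show xGL chevF4 hF.xadd 39 u * xGL chevF4 hF.xadd 39 1 = xGL chevF4 hF.xadd 39 1 * xGL chevF4 hF.xadd 39 u
        rw [xGL_mul, xGL_mul, add_comm]
      · exact commute_of_centOK hF 39 r (by decide) (QB_lt r hr) e (by rw [n39]; exact h8)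
          (centOK_of_evenChk chevF4 39 r h39) 1 u
  · rcases h45 with rfl | h45
    · show xGL chevF4 hF.xadd 45 u * xGL chevF4 hF.xadd 45 1 = xGL chevF4 hF.xadd 45 1 * xGL chevF4 hF.xadd 45 u
      rw [xGL_mul, xGL_mul, add_comm]
    · by_cases e : r = 45
      · subst e
        show xGL chevF4 hF.xadd 45 u * xGL chevF4 hF.xadd 45 1 = xGL chevF4 hF.xadd 45 1 * xGL chevF4 hF.xadd 45 u
        rw [xGL_mul, xGL_mul, add_comm]
      · exact commute_of_centOK hF 45 r (by decide) (QB_lt r hr) e (by rw [n45]; exact h2)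
          (centOK_of_evenChk chevF4 45 r h45) 1 u

theorem QB_commute (g : GL chevF4.Idx F) (hg : g ∈ rootGen chevF4 F QB) : Commute g (TB hF) := by
  have hle : rootGen chevF4 F QB ≤ Subgroup.centralizer ({TB hF} : Set (GL chevF4.Idx F)) := by
    unfold rootGen
    rw [Subgroup.closure_le]
    rintro x ⟨r, u, hr, hx⟩
    have e : x = xGL chevF4 hF.xadd r u := Units.ext (by rw [hx, xGL_val])
    rw [e, SetLike.mem_coe, Subgroup.mem_centralizer_iff]
    intro y hy
    rw [Set.mem_singleton_iff] at hy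
    subst hy
    exact (QB_commute_gen hF r hr u).eq.symm
  have := hle hg
  rw [Subgroup.mem_centralizer_iff] at this
  exact (this _ rfl).symm

/-! ## conjugation formulas -/

/-- conjugation by `x_r(t)` of a commuting root element -/
theorem conj_of_even (r s : ℕ) (hr : r < 48) (hs : s < 48) (hsr : s ≠ r) (hsn : s ≠ chevF4.neg r)
    (h : evenChk chevF4 r s = true) (t u : F) :
    xGL chevF4 hF.xadd r t * xGL chevF4 hF.xadd s u * (xGL chevF4 hF.xadd r t)⁻¹ = xGL chevF4 hF.xadd s u := by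
  have := commute_of_centOK hF r s hr hs hsr hsn (centOK_of_evenChk chevF4 r s h) t u
  rw [mul_inv_eq_iff_eq_mul]
  exact this.eq.symm

/-- conjugation by `x_r(t)` of a root element with a single term in the commutator formula -/
theorem conj_of_single (r s k : ℕ) (C : ℤ) (hr : r < 48) (hs : s < 48) (hsr : s ≠ r) (hsn : s ≠ chevF4.neg r)
    (h : chevF4.commTerms r s = [(k, C, 1, 1)]) (t u : F) :
    xGL chevF4 hF.xadd r t * xGL chevF4 hF.xadd s u * (xGL chevF4 hF.xadd r t)⁻¹ =
      xGL chevF4 hF.xadd s u * xGL chevF4 hF.xadd k ((C : F) * t * u) := by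
  have hc := hF.comm r hr s hs hsr hsn
  rw [xGL_inv]
  have e1 : xGL chevF4 hF.xadd s u * xGL chevF4 hF.xadd r (-t) =
      xGL chevF4 hF.xadd r (-t) * xGL chevF4 hF.xadd s u *
        wordGL chevF4 hF.xadd (chevF4.commWord F r s (-t) u) := by
    apply Units.ext
    rw [Units.val_mul, Units.val_mul, Units.val_mul, wordGL_val, xGL_val, xGL_val]
    exact hc (-t) u
  have e2 : wordGL chevF4 hF.xadd (chevF4.commWord F r s (-t) u) = xGL chevF4 hF.xadd k ((C : F) * t * u) := by
    unfold ChevalleyDatum.commWord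
    rw [h]
    simp only [List.map_cons, List.map_nil, wordGL_cons, wordGL_nil, mul_one, neg_neg, pow_one]
  rw [mul_assoc, e1, ← mul_assoc, ← mul_assoc, xGL_mul, add_neg_cancel, xGL_zero, one_mul, e2]

/-- the representatives of the cosets of the centralizer in `U` -/
def EB (a b c d : F) : GL chevF4.Idx F :=
  xGL chevF4 hF.xadd 27 a * xGL chevF4 hF.xadd 34 b * xGL chevF4 hF.xadd 25 c * xGL chevF4 hF.xadd 26 d

theorem EB_conj (a b c d : F) : EB hF a b c d * TB hF * (EB hF a b c d)⁻¹ = PGL hF.xadd RB (cB a b c d) := by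
  obtain ⟨c1, c2, c3, c4⟩ := commTerms_B
  obtain ⟨v1, v2, v3, v4, v5, v6, v7, v8, v9, v10⟩ := evenB
  have n26 : chevF4.neg 26 = 21 := by decide +kernel
  have n25 : chevF4.neg 25 = 22 := by decide +kernel
  have n34 : chevF4.neg 34 = 13 := by decide +kernel
  have n27 : chevF4.neg 27 = 20 := by decide +kernel
  -- step 1
  have s1 : xGL chevF4 hF.xadd 26 d * (xGL chevF4 hF.xadd 39 (1 : F) * xGL chevF4 hF.xadd 45 (1 : F)) * (xGL chevF4 hF.xadd 26 d)⁻¹ =
      xGL chevF4 hF.xadd 39 (1 : F) * (xGL chevF4 hF.xadd 45 (1 : F) * xGL chevF4 hF.xadd 47 d) := by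
    rw [conj_mul, conj_of_even hF 26 39 (by decide) (by decide) (by decide) (by rw [n26]; decide) v1,
      conj_of_single hF 26 45 47 1 (by decide) (by decide) (by decide) (by rw [n26]; decide) c1]
    simp
  -- step 2
  have s2 : xGL chevF4 hF.xadd 25 c * (xGL chevF4 hF.xadd 39 (1 : F) * (xGL chevF4 hF.xadd 45 (1 : F) * xGL chevF4 hF.xadd 47 d)) * (xGL chevF4 hF.xadd 25 c)⁻¹ =
      xGL chevF4 hF.xadd 39 (1 : F) * (xGL chevF4 hF.xadd 45 (1 : F) * xGL chevF4 hF.xadd 46 c * xGL chevF4 hF.xadd 47 d) := by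
    rw [conj_mul, conj_mul, conj_of_even hF 25 39 (by decide) (by decide) (by decide) (by rw [n25]; decide) v2,
      conj_of_single hF 25 45 46 1 (by decide) (by decide) (by decide) (by rw [n25]; decide) c2,
      conj_of_even hF 25 47 (by decide) (by decide) (by decide) (by rw [n25]; decide) v3]
    simp
  -- step 3
  have s3 : xGL chevF4 hF.xadd 34 b * (xGL chevF4 hF.xadd 39 (1 : F) * (xGL chevF4 hF.xadd 45 (1 : F) * xGL chevF4 hF.xadd 46 c * xGL chevF4 hF.xadd 47 d)) * (xGL chevF4 hF.xadd 34 b)⁻¹ =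
      xGL chevF4 hF.xadd 39 (1 : F) * xGL chevF4 hF.xadd 44 b * (xGL chevF4 hF.xadd 45 (1 : F) * xGL chevF4 hF.xadd 46 c * xGL chevF4 hF.xadd 47 d) := by
    rw [conj_mul, conj_mul, conj_mul,
      conj_of_single hF 34 39 44 1 (by decide) (by decide) (by decide) (by rw [n34]; decide) c3,
      conj_of_even hF 34 45 (by decide) (by decide) (by decide) (by rw [n34]; decide) v4,
      conj_of_even hF 34 46 (by decide) (by decide) (by decide) (by rw [n34]; decide) v5,
      conj_of_even hF 34 47 (by decide) (by decide) (by decide) (by rw [n34]; decide) v6]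
    simp
  -- step 4
  have s4 : xGL chevF4 hF.xadd 27 a * (xGL chevF4 hF.xadd 39 (1 : F) * xGL chevF4 hF.xadd 44 b * (xGL chevF4 hF.xadd 45 (1 : F) * xGL chevF4 hF.xadd 46 c * xGL chevF4 hF.xadd 47 d)) * (xGL chevF4 hF.xadd 27 a)⁻¹ =
      xGL chevF4 hF.xadd 39 (1 : F) * xGL chevF4 hF.xadd 40 a * xGL chevF4 hF.xadd 44 b * (xGL chevF4 hF.xadd 45 (1 : F) * xGL chevF4 hF.xadd 46 c * xGL chevF4 hF.xadd 47 d) := by
    rw [conj_mul, conj_mul, conj_mul, conj_mul,
      conj_of_single hF 27 39 40 1 (by decide) (by decide) (by decide) (by rw [n27]; decide) c4,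
      conj_of_even hF 27 44 (by decide) (by decide) (by decide) (by rw [n27]; decide) v7,
      conj_of_even hF 27 45 (by decide) (by decide) (by decide) (by rw [n27]; decide) v8,
      conj_of_even hF 27 46 (by decide) (by decide) (by decide) (by rw [n27]; decide) v9,
      conj_of_even hF 27 47 (by decide) (by decide) (by decide) (by rw [n27]; decide) v10]
    simp
  rw [PGL_cB hF, ← s4, ← s3, ← s2, ← s1]
  unfold EB TB
  group


/-! ## the centralizer in `U` -/

/-- the centralizer of the involution in `U` -/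
def SB : Subgroup (GL chevF4.Idx F) := chevF4.posUnipotent F ⊓ Subgroup.centralizer {TB hF}

theorem mem_SB (g : GL chevF4.Idx F) : g ∈ SB hF ↔ g ∈ chevF4.posUnipotent F ∧ Commute g (TB hF) := by
  unfold SB
  rw [Subgroup.mem_inf, Subgroup.mem_centralizer_iff]
  constructor
  · rintro ⟨h1, h2⟩
    exact ⟨h1, (h2 _ rfl).symm⟩
  · rintro ⟨h1, h2⟩
    refine ⟨h1, fun y hy => ?_⟩
    rw [Set.mem_singleton_iff] at hy
    subst hy
    exact h2.eq.symm

theorem subGrp_le_SB : subGrp chevF4 F psiB ≤ SB hF := by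
  unfold subGrp
  rw [Subgroup.closure_le]
  rintro x ⟨r, t, hr, hψ, hx⟩
  have e : x = xGL chevF4 hF.xadd r t := Units.ext (by rw [hx, xGL_val])
  rw [e, SetLike.mem_coe, mem_SB]
  refine ⟨xGL_mem_posUnipotent chevF4 hF.xadd r hr t, QB_commute_gen hF r ?_ t⟩
  right; right; right; right
  refine ⟨hr, ?_⟩
  unfold psiB at hψ
  rw [Bool.not_eq_true', ← Bool.not_eq_true, List.contains_iff_mem] at hψ
  exact hψ

theorem EB_mem (a b c d : F) : EB hF a b c d ∈ chevF4.posUnipotent F := by
  unfold EB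
  exact mul_mem (mul_mem (mul_mem (xGL_mem_posUnipotent chevF4 hF.xadd 27 (by decide +kernel) a)
    (xGL_mem_posUnipotent chevF4 hF.xadd 34 (by decide +kernel) b))
    (xGL_mem_posUnipotent chevF4 hF.xadd 25 (by decide +kernel) c))
    (xGL_mem_posUnipotent chevF4 hF.xadd 26 (by decide +kernel) d)

theorem cB_inj (a b c d a' b' c' d' : F)
    (h : PGL hF.xadd RB (cB a b c d) = PGL hF.xadd RB (cB a' b' c' d')) :
    a = a' ∧ b = b' ∧ c = c' ∧ d = d' := by
  have h1 := PGL_inj hF (abB hF) (hcorF4 hF) _ _ h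
  have e40 := h1 40 (by simp [RB])
  have e44 := h1 44 (by simp [RB])
  have e46 := h1 46 (by simp [RB])
  have e47 := h1 47 (by simp [RB])
  simp only [cB] at e40 e44 e46 e47
  norm_num at e40 e44 e46 e47
  exact ⟨e40, e44, e46, e47⟩

theorem EB_inj (a b c d a' b' c' d' : F) (s s' : GL chevF4.Idx F) (hs : s ∈ SB hF) (hs' : s' ∈ SB hF)
    (h : EB hF a b c d * s = EB hF a' b' c' d' * s') : (a = a' ∧ b = b' ∧ c = c' ∧ d = d') ∧ s = s' := by
  have hsc := ((mem_SB hF s).1 hs).2
  have hsc' := ((mem_SB hF s').1 hs').2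
  have hT : s * TB hF * s⁻¹ = TB hF := by rw [hsc.eq]; group
  have hT' : s' * TB hF * s'⁻¹ = TB hF := by rw [hsc'.eq]; group
  have h1 : EB hF a b c d * TB hF * (EB hF a b c d)⁻¹ = EB hF a' b' c' d' * TB hF * (EB hF a' b' c' d')⁻¹ := by
    calc EB hF a b c d * TB hF * (EB hF a b c d)⁻¹
        = EB hF a b c d * (s * TB hF * s⁻¹) * (EB hF a b c d)⁻¹ := by rw [hT]
      _ = (EB hF a b c d * s) * TB hF * (EB hF a b c d * s)⁻¹ := by group
      _ = (EB hF a' b' c' d' * s') * TB hF * (EB hF a' b' c' d' * s')⁻¹ := by rw [h]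
      _ = EB hF a' b' c' d' * (s' * TB hF * s'⁻¹) * (EB hF a' b' c' d')⁻¹ := by group
      _ = _ := by rw [hT']
  rw [EB_conj, EB_conj] at h1
  have h2 := cB_inj hF _ _ _ _ _ _ _ _ h1
  refine ⟨h2, ?_⟩
  obtain ⟨rfl, rfl, rfl, rfl⟩ := h2
  exact mul_left_cancel h

theorem card_posUnipotent_F4 [Fintype F] : Nat.card (chevF4.posUnipotent F) = Fintype.card F ^ 24 := by
  have h := card_subGrp (F := F) chevF4 hF.ufacts hF.xadd.add hF.xadd.zero hF.comm hF.poscomm (fun _ => true)
    (fun _ _ _ _ _ _ _ _ _ => rfl)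
  rw [length_all] at h
  rw [← h]
  congr 1
  unfold subGrp ChevalleyDatum.posUnipotent
  congr 1
  ext g
  simp

theorem card_subGrp_B [Fintype F] : Nat.card (subGrp chevF4 F psiB) = Fintype.card F ^ 20 := by
  have h := card_subGrp (F := F) chevF4 hF.ufacts hF.xadd.add hF.xadd.zero hF.comm hF.poscomm psiB closedPsi_B
  rw [length_B] at h
  exact h

/-- the centralizer of the involution in `U`, and the cosets of it -/
theorem SB_eq [Fintype F] : SB hF = subGrp chevF4 F psiB ∧
    ∀ u ∈ chevF4.posUnipotent F, ∃ a b c d : F, ∃ s ∈ SB hF, u = EB hF a b c d * s := by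
  classical
  set q := Fintype.card F with hq
  have hq0 : 0 < q := Fintype.card_pos
  haveI : Finite (GL chevF4.Idx F) := inferInstance
  let f : (F × F × F × F) × ↥(SB hF) → ↥(chevF4.posUnipotent F) := fun p =>
    ⟨EB hF p.1.1 p.1.2.1 p.1.2.2.1 p.1.2.2.2 * p.2.1,
      mul_mem (EB_mem hF _ _ _ _) ((mem_SB hF _).1 p.2.2).1⟩
  have hf : Function.Injective f := by
    rintro ⟨⟨a, b, c, d⟩, s, hs⟩ ⟨⟨a', b', c', d'⟩, s', hs'⟩ h
    have h' : EB hF a b c d * s = EB hF a' b' c' d' * s' := congrArg Subtype.val h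
    obtain ⟨⟨rfl, rfl, rfl, rfl⟩, rfl⟩ := EB_inj hF _ _ _ _ _ _ _ _ s s' hs hs' h'
    rfl
  have hdom : Nat.card ((F × F × F × F) × ↥(SB hF)) = q ^ 4 * Nat.card (SB hF) := by
    rw [Nat.card_prod, Nat.card_prod, Nat.card_prod, Nat.card_prod, Nat.card_eq_fintype_card]
    ring
  have hle1 : q ^ 4 * Nat.card (SB hF) ≤ q ^ 24 := by
    rw [← hdom, ← card_posUnipotent_F4 hF]
    exact Nat.card_le_card_of_injective f hf
  have hle2 : q ^ 20 ≤ Nat.card (SB hF) := by
    rw [← card_subGrp_B hF]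
    exact Subgroup.card_le_of_le (subGrp_le_SB hF)
  have hle3 : Nat.card (SB hF) ≤ q ^ 20 := by
    have : q ^ 4 * Nat.card (SB hF) ≤ q ^ 4 * q ^ 20 := by
      rw [← pow_add]
      exact hle1
    exact Nat.le_of_mul_le_mul_left this (pow_pos hq0 4)
  have hcard : Nat.card (SB hF) = q ^ 20 := le_antisymm hle3 hle2
  refine ⟨?_, ?_⟩
  · symm
    apply Subgroup.eq_of_le_of_card_ge (subGrp_le_SB hF)
    rw [card_subGrp_B hF, hcard]
  · have hbij : Function.Bijective f := by
      apply Function.Injective.bijective_of_nat_card_le hf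
      rw [hdom, hcard, card_posUnipotent_F4 hF, ← pow_add]
    intro u hu
    obtain ⟨⟨⟨a, b, c, d⟩, s, hs⟩, hp⟩ := hbij.2 ⟨u, hu⟩
    exact ⟨a, b, c, d, s, hs, (congrArg Subtype.val hp).symm⟩

/-- the `U`-conjugates of the involution -/
theorem conj_posUnipotent [Fintype F] (u : GL chevF4.Idx F) (hu : u ∈ chevF4.posUnipotent F) :
    ∃ a b c d : F, u * TB hF * u⁻¹ = PGL hF.xadd RB (cB a b c d) := by
  obtain ⟨a, b, c, d, s, hs, rfl⟩ := (SB_eq hF).2 u hu
  refine ⟨a, b, c, d, ?_⟩
  have hsc := ((mem_SB hF s).1 hs).2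
  have hT : s * TB hF * s⁻¹ = TB hF := by rw [hsc.eq]; group
  rw [← EB_conj hF a b c d]
  calc EB hF a b c d * s * TB hF * (EB hF a b c d * s)⁻¹
      = EB hF a b c d * (s * TB hF * s⁻¹) * (EB hF a b c d)⁻¹ := by group
    _ = _ := by rw [hT]

end partB

end Cfsg.Agent.Helper6.CentPair
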