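import Mathlib
import Cfsg.Agent.Lib.Helper6.CentPairB
import Cfsg.Agent.Lib.Helper6.G2ShortC

/-!
# The centralizer of `x_39(1) x_45(1)` in `F₄(q)`, `q` even
-/

set_option autoImplicit false
set_option linter.unusedSectionVars false
set_option linter.unusedSimpArgs false
set_option linter.unusedVariables false
set_option maxRecDepth 100000

namespace Cfsg.Agent.Helper6.CentPair

open Cfsg Cfsg.Lie Cfsg.Agent.Lead.Chev Cfsg.Agent.Helper6.ChevL Cfsg.Agent.Helper6.RootCent
  Cfsg.Agent.Helper6.HtF Cfsg.Agent.Helper5 Cfsg.Agent.Lead.ChevHt Cfsg.Agent.Helper6.G2S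

variable {F : Type*} [Field F]

/-- words whose letters lie in `Q` or have coefficient zero -/
theorem wordGL_mem_rootGen' {D : ChevalleyDatum} (hX : XAdd D F) (Q : ℕ → Prop) (w : List (ℕ × F))
    (hw : ∀ q ∈ w, Q q.1 ∨ q.2 = 0) : wordGL D hX w ∈ rootGen D F Q := by
  induction w with
  | nil => rw [wordGL_nil]; exact one_mem _
  | cons q w ih =>
    rw [wordGL_cons]
    refine mul_mem ?_ (ih fun q' hq' => hw q' (List.mem_cons_of_mem _ hq'))
    rcases hw q List.mem_cons_self with h | h
    · exact xGL_mem_rootGen hX Q q.1 h _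
    · rw [h, xGL_zero]
      exact one_mem _

/-- `U` normalizes `V` -/
def normChkB : Bool :=
  (List.range 48).all fun r => !decide (chevF4.IsPosRoot r) ||
    RB.all fun s => s == r || (chevF4.commTerms r s).all fun c => RB.contains c.1 || c.2.1 % 2 == 0

theorem normOK_B : normChkB = true := by decide +kernel

theorem posRB : ∀ r ∈ RB, chevF4.IsPosRoot r := by decide +kernel

/-- the roots `±p₁`, `±p₄` -/
def QS (r : ℕ) : Prop := r = 33 ∨ r = 14 ∨ r = 24 ∨ r = 23

theorem corF4_03 : ∀ r < 48, (chevF4.coroot.getD r #[]).getD 1 0 = 0 → (chevF4.coroot.getD r #[]).getD 2 0 = 0 →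
    r = 33 ∨ r = 14 ∨ r = 24 ∨ r = 23 := by decide +kernel

theorem QS_QB (r : ℕ) (h : QS r) : QB r := by
  rcases h with rfl | rfl | rfl | rfl
  · exact Or.inl rfl
  · exact Or.inr (Or.inl rfl)
  · exact Or.inr (Or.inr (Or.inl rfl))
  · exact Or.inr (Or.inr (Or.inr (Or.inl rfl)))

section partC

variable [CharP F 2] (hF : ChevFacts chevF4 F)
include hF

/-- the abelian subgroup `V` -/
def VB : Subgroup (GL chevF4.Idx F) := rootGen chevF4 F (fun r => r ∈ RB)

theorem xGL_conj_VB (r : ℕ) (hr : chevF4.IsPosRoot r) (t : F) (k : GL chevF4.Idx F) (hk : k ∈ VB (F := F)) :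
    xGL chevF4 hF.xadd r t * k * (xGL chevF4 hF.xadd r t)⁻¹ ∈ VB (F := F) := by
  unfold VB at hk ⊢
  apply conj_rootGen hF.xadd _ (fun r => r ∈ RB) (fun r => r ∈ RB) _ k hk
  intro s hs u
  have hspos : chevF4.IsPosRoot s := posRB s hs
  by_cases hsr : s = r
  · subst hsr
    have e : xGL chevF4 hF.xadd s t * xGL chevF4 hF.xadd s u * (xGL chevF4 hF.xadd s t)⁻¹ =
        xGL chevF4 hF.xadd s u := by
      rw [xGL_inv, xGL_mul, xGL_mul]
      congr 1
      ring
    rw [e]
    exact xGL_mem_rootGen hF.xadd _ s hs u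
  · have hsnr : s ≠ chevF4.neg r := by
      intro h
      rw [h] at hspos
      exact hF.sign.not_both _ hspos (hF.sign.neg_of_pos r hr)
    have hc := hF.comm r hr.1 s hspos.1 hsr hsnr
    have e : xGL chevF4 hF.xadd r t * xGL chevF4 hF.xadd s u * (xGL chevF4 hF.xadd r t)⁻¹ =
        xGL chevF4 hF.xadd s u * wordGL chevF4 hF.xadd (chevF4.commWord F r s (-t) u) := by
      rw [xGL_inv]
      have e1 : xGL chevF4 hF.xadd s u * xGL chevF4 hF.xadd r (-t) =
          xGL chevF4 hF.xadd r (-t) * xGL chevF4 hF.xadd s u *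
            wordGL chevF4 hF.xadd (chevF4.commWord F r s (-t) u) := by
        apply Units.ext
        rw [Units.val_mul, Units.val_mul, Units.val_mul, wordGL_val, xGL_val, xGL_val]
        exact hc (-t) u
      rw [mul_assoc, e1, ← mul_assoc, ← mul_assoc, xGL_mul, add_neg_cancel, xGL_zero, one_mul]
    rw [e]
    refine mul_mem (xGL_mem_rootGen hF.xadd _ s hs u) (wordGL_mem_rootGen' hF.xadd _ _ ?_)
    intro q hq
    unfold ChevalleyDatum.commWord at hq
    obtain ⟨c, hc', rfl⟩ := List.mem_map.1 hq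
    have hchk := normOK_B
    unfold normChkB at hchk
    rw [List.all_eq_true] at hchk
    have h1 := hchk r (List.mem_range.2 hr.1)
    rw [Bool.or_eq_true] at h1
    rcases h1 with h1 | h1
    · simp only [Bool.not_eq_true', decide_eq_false_iff_not] at h1
      exact absurd hr h1
    · rw [List.all_eq_true] at h1
      have h2 := h1 s hs
      rw [Bool.or_eq_true] at h2
      rcases h2 with h2 | h2
      · exact absurd (beq_iff_eq.1 h2) hsr
      · rw [List.all_eq_true] at h2
        have h3 := h2 c hc'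
        rw [Bool.or_eq_true] at h3
        rcases h3 with h3 | h3
        · exact Or.inl (List.contains_iff_mem.1 h3)
        · right
          have h4 : c.2.1 % 2 = 0 := beq_iff_eq.1 h3
          have h5 : ((c.2.1 : ℤ) : F) = 0 :=
            (CharP.intCast_eq_zero_iff F 2 c.2.1).2 (by exact_mod_cast Int.dvd_of_emod_eq_zero h4)
          show (c.2.1 : F) * (- -t) ^ c.2.2.1 * u ^ c.2.2.2 = 0
          rw [h5, zero_mul, zero_mul]

theorem posUnipotent_le_normalizer_VB :
    chevF4.posUnipotent F ≤ Subgroup.normalizer (VB (F := F) : Set (GL chevF4.Idx F)) := by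
  unfold ChevalleyDatum.posUnipotent
  apply closure_le_normalizer_of
  · rintro g ⟨r, t, hr, hg⟩
    refine ⟨r, -t, hr, ?_⟩
    have : g = xGL chevF4 hF.xadd r t := Units.ext (by rw [hg, xGL_val])
    rw [this, xGL_inv]
    rfl
  · rintro g ⟨r, t, hr, hg⟩ k hk
    have : g = xGL chevF4 hF.xadd r t := Units.ext (by rw [hg, xGL_val])
    rw [this]
    exact xGL_conj_VB hF r hr t k hk

theorem borel_le_normalizer_VB :
    chevF4.borelSubgroup F ≤ Subgroup.normalizer (VB (F := F) : Set (GL chevF4.Idx F)) := by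
  unfold ChevalleyDatum.borelSubgroup
  apply sup_le (posUnipotent_le_normalizer_VB hF)
  exact diagonal_le_normalizer_rootGen hF _ (fun r hr => (posRB r hr).1)

/-- a root element of a positive root outside `RB` lying in `V` is trivial -/
theorem eq_zero_of_xGL_mem_VB (s : ℕ) (hs : s < 48) (hsR : s ∉ RB) (ε : F)
    (h : xGL chevF4 hF.xadd s ε ∈ VB (F := F)) : ε = 0 := by
  obtain ⟨c, hc⟩ := exists_PGL_of_mem hF (abB hF) _ h
  obtain ⟨i, hi⟩ := hcorF4 hF s hs
  have hns : chevF4.neg s < chevF4.nroots := hF.sign.neg_lt s hs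
  have h1 := PGL_entry hF (abB hF) c i ⟨chevF4.neg s, hns⟩
  rw [← hc, xGL_val] at h1
  simp only [hF.sign.neg_neg s hs] at h1
  rw [if_neg hsR, x_entry s hs hns (neg_ne hF.sign s hs) ε i] at h1
  rcases mul_eq_zero.1 h1 with h2 | h2
  · exact absurd h2 hi
  · exact h2

/-- `n_w` normalizes `V` when `w` fixes `39, 45` and permutes `{40, 44}` and `{46, 47}` -/
theorem nWordGL_mem_normalizer_VB [Fintype F] (w : List ℕ) (hw : ∀ i ∈ w, i < chevF4.rank)
    (h : ∀ r ∈ RB, reflWord chevF4 w r ∈ RB) :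
    nWordGL chevF4 hF.xadd w ∈ Subgroup.normalizer (VB (F := F) : Set (GL chevF4.Idx F)) := by
  haveI : Finite (GL chevF4.Idx F) := inferInstance
  apply mem_normalizer_of_fin
  intro k hk
  unfold VB at hk ⊢
  apply conj_rootGen hF.xadd _ (fun r => r ∈ RB) (fun r => r ∈ RB) _ k hk
  intro r hr t
  rw [nWordGL_conj chevF4 hF.xadd (etaOf chevF4) hF.nsimple w hw r (posRB r hr).1 t]
  exact xGL_mem_rootGen hF.xadd _ _ (h r hr) _

/-- the centralizer of the involution normalizes `V` -/
theorem centralizer_le_normalizer_VB [Fintype F] (hS : CorSize chevF4) (g : GL chevF4.Idx F)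
    (hg : g ∈ chevF4.group F) (hc : Commute g (TB hF)) :
    g ∈ Subgroup.normalizer (VB (F := F) : Set (GL chevF4.Idx F)) := by
  have hA := abB hF
  obtain ⟨b, hb, w, hw, u, hu, rfl⟩ := hF.exists_bruhat hS g hg
  have huU := hF.negPart_le_posUnipotent w hu
  obtain ⟨u₁, hu₁, h, hh, rfl⟩ := (hF.mem_borel_iff b).1 hb
  set n := nWordGL chevF4 hF.xadd w with hn
  obtain ⟨a, b', c, d, hconj⟩ := conj_posUnipotent hF u huU
  obtain ⟨a₁, b₁, c₁, d₁, hconj₁⟩ := conj_posUnipotent hF u₁⁻¹ (inv_mem hu₁)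
  rw [inv_inv] at hconj₁
  obtain ⟨e, he, hhe⟩ := exists_Tmat_of_mem chevF4 hF.hall h⁻¹ (inv_mem hh)
  have h1 : n * PGL hF.xadd RB (cB a b' c d) * n⁻¹ =
      PGL hF.xadd RB (fun r => chi chevF4 e r * cB a₁ b₁ c₁ d₁ r) := by
    have hgT : (u₁ * h * n * u) * TB hF * (u₁ * h * n * u)⁻¹ = TB hF := by rw [hc.eq]; group
    rw [← Tmat_conj_PGL hF hA h⁻¹ e he hhe, ← hconj, ← hconj₁]
    calc n * (u * TB hF * u⁻¹) * n⁻¹
        = h⁻¹ * (u₁⁻¹ * ((u₁ * h * n * u) * TB hF * (u₁ * h * n * u)⁻¹) * u₁) * h := by group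
      _ = h⁻¹ * (u₁⁻¹ * TB hF * u₁) * h⁻¹⁻¹ := by rw [hgT, inv_inv]
  have h39 := (support_transport hF hA (hcorF4 hF) w hw _ _ h1 39 (by simp [RB]) (by simp [cB])).1
  have h45 := (support_transport hF hA (hcorF4 hF) w hw _ _ h1 45 (by simp [RB]) (by simp [cB])).1
  have hw4 : ∀ i ∈ w, i < 4 := hw
  have m1 := orb_mem orbB1 certB1 orbB1_chk [39, 45, 40] (by decide +kernel) w hw4
  have m2 := orb_mem orbB1 certB1 orbB1_chk [39, 45, 44] (by decide +kernel) w hw4
  have m3 := orb_mem orbB2 certB2 orbB2_chk [39, 45, 46] (by decide +kernel) w hw4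
  have m4 := orb_mem orbB2 certB2 orbB2_chk [39, 45, 47] (by decide +kernel) w hw4
  simp only [List.map_cons, List.map_nil] at m1 m2 m3 m4
  have hR39 : reflWord chevF4 w 39 ∈ [39, 40, 44, 45, 46, 47] := h39
  have hR45 : reflWord chevF4 w 45 ∈ [39, 40, 44, 45, 46, 47] := h45
  have f1 := fix_of_chk orbB1 40 44 orbB1_fixChk _ m1 (by simpa using hR39) (by simpa using hR45)
  have f2 := fix_of_chk orbB1 40 44 orbB1_fixChk _ m2 (by simpa using hR39) (by simpa using hR45)
  have f3 := fix_of_chk orbB2 46 47 orbB2_fixChk _ m3 (by simpa using hR39) (by simpa using hR45)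
  have f4 := fix_of_chk orbB2 46 47 orbB2_fixChk _ m4 (by simpa using hR39) (by simpa using hR45)
  simp only [List.getD_cons_zero, List.getD_cons_succ] at f1 f2 f3 f4
  have hperm : ∀ r ∈ RB, reflWord chevF4 w r ∈ RB := by
    intro r hr
    unfold RB at hr ⊢
    simp only [List.mem_cons, List.mem_nil_iff, or_false] at hr ⊢
    rcases hr with rfl | rfl | rfl | rfl | rfl | rfl
    · left; exact f1.1
    · rcases f1.2.2 with e' | e'
      · right; left; exact e'
      · right; right; left; exact e'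
    · rcases f2.2.2 with e' | e'
      · right; left; exact e'
      · right; right; left; exact e'
    · right; right; right; left; exact f1.2.1
    · rcases f3.2.2 with e' | e'
      · right; right; right; right; left; exact e'
      · right; right; right; right; right; exact e'
    · rcases f4.2.2 with e' | e'
      · right; right; right; right; left; exact e'
      · right; right; right; right; right; exact e'
  have hnN := nWordGL_mem_normalizer_VB hF w hw hperm
  exact mul_mem (mul_mem (borel_le_normalizer_VB hF hb) hnN)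
    (borel_le_normalizer_VB hF (posUnipotent_le_borel _ huU))

end partC

end Cfsg.Agent.Helper6.CentPair
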