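import Mathlib
import Cfsg.Agent.Lib.Helper6.CentPairC

/-!
# The centralizer of `x_39(1) x_45(1)` in `F₄(q)`, `q` even: the parabolic subgroup and the result
-/

set_option autoImplicit false
set_option linter.unusedSectionVars false
set_option linter.unusedSimpArgs false
set_option linter.unusedVariables false
set_option maxRecDepth 100000

namespace Cfsg.Agent.Helper6.CentPair

open Cfsg Cfsg.Lie Cfsg.Agent.Lead.Chev Cfsg.Agent.Helper6.ChevL Cfsg.Agent.Helper6.RootCent
  Cfsg.Agent.Helper6.HtF Cfsg.Agent.Helper5 Cfsg.Agent.Lead.ChevHt Cfsg.Agent.Helper6.G2S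

variable {F : Type*} [Field F]

section partD

variable [CharP F 2] (hF : ChevFacts chevF4 F)
include hF

/-- the normalizer of `V` lies in the parabolic subgroup of `p₁, p₄` -/
theorem normalizer_VB_le_parabolic (hP : ParFacts chevF4) (g : GL chevF4.Idx F) (hgG : g ∈ chevF4.group F)
    (hgN : g ∈ Subgroup.normalizer (VB (F := F) : Set (GL chevF4.Idx F))) :
    g ∈ chevF4.parabolicSubgroup F {j | j = 0 ∨ j = 3} := by
  apply le_parabolic_of_borel_le hF hP _ (borel_le_normalizer_VB hF) _ _ g hgG hgN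
  intro i hi hiN
  have hi4 : i < 4 := hi
  have hη : ∀ s, ((etaOf chevF4 i s : ℤ) : F) * 1 ≠ 0 := by
    intro s
    rcases (hF.nsimple i hi).sign s with h | h <;> rw [h] <;> simp
  have hi03 : i = 0 ∨ i = 1 ∨ i = 2 ∨ i = 3 := by omega
  rcases hi03 with rfl | rfl | rfl | rfl
  · exact Or.inl rfl
  · exfalso
    have h1 := ((Subgroup.mem_normalizer_iff.1 hiN) (xGL chevF4 hF.xadd 45 1)).1
      (xGL_mem_rootGen hF.xadd _ 45 (by simp [RB]) 1)
    rw [nGL_conj chevF4 hF.xadd 1 _ (hF.nsimple 1 hi) 45 (by decide) 1] at h1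
    have e : chevF4.reflectRoot 1 45 = 43 := by decide +kernel
    rw [e] at h1
    exact hη 45 (eq_zero_of_xGL_mem_VB hF 43 (by decide) (by decide) _ h1)
  · exfalso
    have h1 := ((Subgroup.mem_normalizer_iff.1 hiN) (xGL chevF4 hF.xadd 39 1)).1
      (xGL_mem_rootGen hF.xadd _ 39 (by simp [RB]) 1)
    rw [nGL_conj chevF4 hF.xadd 2 _ (hF.nsimple 2 hi) 39 (by decide) 1] at h1
    have e : chevF4.reflectRoot 2 39 = 38 := by decide +kernel
    rw [e] at h1
    exact hη 39 (eq_zero_of_xGL_mem_VB hF 38 (by decide) (by decide) _ h1)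
  · exact Or.inr rfl

/-- the Levi decomposition of the parabolic subgroup of `p₁, p₄` -/
theorem parabolic_decomp_B (hP : ParFacts chevF4) (hC : CommJ chevF4) (g : GL chevF4.Idx F)
    (hg : g ∈ chevF4.parabolicSubgroup F {j | j = 0 ∨ j = 3}) :
    ∃ v ∈ chevF4.posUnipotent F, ∃ h ∈ chevF4.diagonalSubgroup F, ∃ s ∈ rootGen chevF4 F QS,
      g = v * h * s := by
  set J : Set ℕ := {j | j = 0 ∨ j = 3} with hJ
  have hsup := radical_sup_levi hF hP J
  have hLP : chevF4.leviSubgroup F J ≤ chevF4.parabolicSubgroup F J := by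
    rw [← hsup]
    exact le_sup_right
  have hLN : chevF4.leviSubgroup F J ≤
      Subgroup.normalizer (chevF4.unipotentRadical F J : Set (GL chevF4.Idx F)) :=
    le_trans hLP (parabolic_le_normalizer hF hP hC J)
  have hcoe := Subgroup.coe_mul_of_right_le_normalizer_left (chevF4.unipotentRadical F J)
    (chevF4.leviSubgroup F J) hLN
  rw [← hsup] at hg
  have hg' : g ∈ ((chevF4.unipotentRadical F J ⊔ chevF4.leviSubgroup F J : Subgroup (GL chevF4.Idx F)) :
      Set (GL chevF4.Idx F)) := hg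
  rw [hcoe] at hg'
  obtain ⟨v, hv, l, hl, rfl⟩ := Set.mem_mul.1 hg'
  have hl' : l ∈ chevF4.diagonalSubgroup F ⊔ rootGen chevF4 F (chevF4.InRootSub J) := hl
  have hHN : chevF4.diagonalSubgroup F ≤
      Subgroup.normalizer (rootGen chevF4 F (chevF4.InRootSub J) : Set (GL chevF4.Idx F)) :=
    diagonal_le_normalizer_rootGen hF _ (fun r hr => hr.1)
  have hcoe2 := Subgroup.coe_mul_of_left_le_normalizer_right (chevF4.diagonalSubgroup F)
    (rootGen chevF4 F (chevF4.InRootSub J)) hHN
  have hl'' : l ∈ ((chevF4.diagonalSubgroup F ⊔ rootGen chevF4 F (chevF4.InRootSub J) :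
      Subgroup (GL chevF4.Idx F)) : Set (GL chevF4.Idx F)) := hl'
  rw [hcoe2] at hl''
  obtain ⟨h, hh, s, hs, rfl⟩ := Set.mem_mul.1 hl''
  have hsub : rootGen chevF4 F (chevF4.InRootSub J) ≤ rootGen chevF4 F QS := by
    apply rootGen_mono
    intro r hr
    have h1 := hr.2 1 (by decide) (by simp [hJ])
    have h2 := hr.2 2 (by decide) (by simp [hJ])
    exact corF4_03 r hr.1 h1 h2
  exact ⟨v, radical_le_posUnipotent hF J hv, h, hh, s, hsub hs, by group⟩

/-- an element of `H` centralizing the involution lies in `⟨X_{±p₁}, X_{±p₄}⟩` -/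
theorem diagonal_mem_QS (h : GL chevF4.Idx F) (hh : h ∈ chevF4.diagonalSubgroup F)
    (c : ℕ → F) (hc0 : ∀ i < chevF4.rank, c i ≠ 0) (hhc : (h : Matrix chevF4.Idx chevF4.Idx F) = Tmat chevF4 c)
    (h39 : chi chevF4 c 39 = 1) (h45 : chi chevF4 c 45 = 1) : h ∈ rootGen chevF4 F QS := by
  have hrk : chevF4.rank = 4 := rfl
  have c39 : chi chevF4 c 39 = (c 1)⁻¹ * c 2 := by
    unfold chi
    have e0 : chevF4.cartan 0 39 = 0 := by decide +kernel
    have e1 : chevF4.cartan 1 39 = -1 := by decide +kernel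
    have e2 : chevF4.cartan 2 39 = 1 := by decide +kernel
    have e3 : chevF4.cartan 3 39 = 0 := by decide +kernel
    rw [hrk]
    simp [List.range_succ, e0, e1, e2, e3]
  have c45 : chi chevF4 c 45 = (c 1) ^ 2 * (c 2)⁻¹ := by
    unfold chi
    have e0 : chevF4.cartan 0 45 = 0 := by decide +kernel
    have e1 : chevF4.cartan 1 45 = 2 := by decide +kernel
    have e2 : chevF4.cartan 2 45 = -1 := by decide +kernel
    have e3 : chevF4.cartan 3 45 = 0 := by decide +kernel
    rw [hrk]
    simp [List.range_succ, e0, e1, e2, e3]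
  rw [c39] at h39
  rw [c45] at h45
  have hc1 := hc0 1 (by decide)
  have hc2 := hc0 2 (by decide)
  have e12 : c 2 = c 1 := by
    field_simp at h39
    exact h39
  have e1 : c 1 = 1 := by
    rw [e12] at h45
    field_simp at h45
    have : c 1 * (c 1 - 1) = 0 := by ring_nf; ring_nf at h45; rw [h45]; ring
    rcases mul_eq_zero.1 this with h' | h'
    · exact absurd h' hc1
    · exact sub_eq_zero.1 h'
  have e2 : c 2 = 1 := by rw [e12, e1]
  have h5 : h = wordGL chevF4 hF.xadd
      ((List.range chevF4.rank).flatMap fun i => chevF4.hWord (chevF4.simple i) (c i)) :=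
    Units.ext (by rw [hhc, wordGL_val, wordMat_eq_Tmat chevF4 hF.hsimple c hc0])
  rw [h5, wordGL_flatMap_hWord_simple]
  apply Subgroup.list_prod_mem
  intro x hx
  obtain ⟨i, hi, rfl⟩ := List.mem_map.1 hx
  have hi' : i < 4 := List.mem_range.1 hi
  have hone : ∀ j < 4, c j = 1 → hGLt chevF4 hF.xadd (chevF4.simple j) (c j) = 1 := by
    intro j hj hcj
    rw [hcj]
    apply Units.ext
    rw [hGLt_val, hF.hsimple j hj 1 one_ne_zero]
    rw [Units.val_one, ← Matrix.diagonal_one]
    congr 1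
    funext idx
    rcases idx with k | v
    · rfl
    · simp
  have s0 : chevF4.simple 0 = 33 := by decide +kernel
  have s3 : chevF4.simple 3 = 24 := by decide +kernel
  have n0 : chevF4.neg 33 = 14 := by decide +kernel
  have n3 : chevF4.neg 24 = 23 := by decide +kernel
  have hi03 : i = 0 ∨ i = 1 ∨ i = 2 ∨ i = 3 := by omega
  rcases hi03 with rfl | rfl | rfl | rfl
  · unfold hGLt
    apply wordGL_mem_rootGen
    intro q hq
    simp only [ChevalleyDatum.hWord, ChevalleyDatum.nWord, List.mem_append, List.mem_cons, List.mem_nil_iff,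
      or_false, s0, n0] at hq
    rcases hq with (rfl | rfl | rfl) | (rfl | rfl | rfl)
    · exact Or.inl rfl
    · exact Or.inr (Or.inl rfl)
    · exact Or.inl rfl
    · exact Or.inl rfl
    · exact Or.inr (Or.inl rfl)
    · exact Or.inl rfl
  · rw [hone 1 (by decide) e1]
    exact one_mem _
  · rw [hone 2 (by decide) e2]
    exact one_mem _
  · unfold hGLt
    apply wordGL_mem_rootGen
    intro q hq
    simp only [ChevalleyDatum.hWord, ChevalleyDatum.nWord, List.mem_append, List.mem_cons, List.mem_nil_iff,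
      or_false, s3, n3] at hq
    rcases hq with (rfl | rfl | rfl) | (rfl | rfl | rfl)
    · exact Or.inr (Or.inr (Or.inl rfl))
    · exact Or.inr (Or.inr (Or.inr rfl))
    · exact Or.inr (Or.inr (Or.inl rfl))
    · exact Or.inr (Or.inr (Or.inl rfl))
    · exact Or.inr (Or.inr (Or.inr rfl))
    · exact Or.inr (Or.inr (Or.inl rfl))

theorem subGrp_psiB_le : subGrp chevF4 F psiB ≤ rootGen chevF4 F QB := by
  unfold subGrp rootGen
  apply Subgroup.closure_mono
  rintro x ⟨r, t, hr, hψ, hx⟩
  refine ⟨r, t, ?_, hx⟩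
  right; right; right; right
  refine ⟨hr, ?_⟩
  unfold psiB at hψ
  rw [Bool.not_eq_true', ← Bool.not_eq_true, List.contains_iff_mem] at hψ
  exact hψ

/-- **the centralizer of `x_39(1) x_45(1)`** -/
theorem centralizer_B [Fintype F] (hP : ParFacts chevF4) (hC : CommJ chevF4) (hS : CorSize chevF4)
    (t : GL chevF4.Idx F)
    (ht : (t : Matrix chevF4.Idx chevF4.Idx F) = chevF4.x F 39 1 * chevF4.x F 45 1) :
    chevF4.group F ⊓ Subgroup.centralizer {t} = rootGen chevF4 F QB := by
  have et : t = TB hF := Units.ext (by rw [ht]; rfl)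
  subst et
  have hA := abB hF
  apply le_antisymm
  · rintro g ⟨hgG, hgC⟩
    have hc : Commute g (TB hF) := by
      have hgC' : g ∈ Subgroup.centralizer ({TB hF} : Set (GL chevF4.Idx F)) := hgC
      rw [Subgroup.mem_centralizer_iff] at hgC'
      exact (hgC' _ rfl).symm
    have hN := centralizer_le_normalizer_VB hF hS g hgG hc
    have hPJ := normalizer_VB_le_parabolic hF hP g hgG hN
    obtain ⟨v, hv, h, hh, s, hs, rfl⟩ := parabolic_decomp_B hF hP hC g hPJ
    have hsR : s ∈ rootGen chevF4 F QB := rootGen_mono QS QB QS_QB hs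
    have hsc : Commute s (TB hF) := QB_commute hF s hsR
    -- `v h` commutes with the involution
    have hvh : Commute (v * h) (TB hF) := by
      have e1 : v * h * s * TB hF = TB hF * (v * h * s) := hc.eq
      have e2 : v * h * TB hF * s = TB hF * (v * h) * s := by
        rw [mul_assoc (v * h) (TB hF) s, ← hsc.eq, ← mul_assoc, e1]
        group
      exact mul_right_cancel e2
    obtain ⟨c, hc0, hhc⟩ := exists_Tmat_of_mem chevF4 hF.hall h hh
    obtain ⟨a, b, c', d, hconj⟩ := conj_posUnipotent hF v⁻¹ (inv_mem hv)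
    rw [inv_inv] at hconj
    have h1 : h * TB hF * h⁻¹ = v⁻¹ * TB hF * v := by
      have : (v * h) * TB hF * (v * h)⁻¹ = TB hF := by rw [hvh.eq]; group
      calc h * TB hF * h⁻¹ = v⁻¹ * ((v * h) * TB hF * (v * h)⁻¹) * v := by group
        _ = v⁻¹ * TB hF * v := by rw [this]
    rw [hconj, TB_eq, Tmat_conj_PGL hF hA h c hc0 hhc] at h1
    have h2 := PGL_inj hF hA (hcorF4 hF) _ _ h1
    have e39 := h2 39 (by simp [RB])
    have e40 := h2 40 (by simp [RB])
    have e44 := h2 44 (by simp [RB])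
    have e45 := h2 45 (by simp [RB])
    have e46 := h2 46 (by simp [RB])
    have e47 := h2 47 (by simp [RB])
    simp only [cB] at e39 e40 e44 e45 e46 e47
    norm_num at e39 e40 e44 e45 e46 e47
    -- `v` centralizes the involution
    have hvc : Commute v (TB hF) := by
      rw [← e40, ← e44, ← e46, ← e47, ← TB_eq] at hconj
      unfold Commute SemiconjBy
      calc v * TB hF = v * (v⁻¹ * TB hF * v) := by rw [hconj]
        _ = TB hF * v := by group
    have hvS : v ∈ SB hF := (mem_SB hF v).2 ⟨hv, hvc⟩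
    rw [(SB_eq hF).1] at hvS
    have hvR : v ∈ rootGen chevF4 F QB := subGrp_psiB_le hF hvS
    have hhR : h ∈ rootGen chevF4 F QB :=
      rootGen_mono QS QB QS_QB (diagonal_mem_QS hF h hh c hc0 hhc e39 e45)
    exact mul_mem (mul_mem hvR hhR) hsR
  · intro g hg
    refine ⟨?_, ?_⟩
    · have hle : rootGen chevF4 F QB ≤ chevF4.group F := by
        unfold rootGen
        rw [Subgroup.closure_le]
        rintro x ⟨r, u, -, hx⟩
        have e : x = xGL chevF4 hF.xadd r u := Units.ext (by rw [hx, xGL_val])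
        rw [e]
        exact xGL_mem_group chevF4 hF.xadd r u
      exact hle hg
    · show g ∈ Subgroup.centralizer ({TB hF} : Set (GL chevF4.Idx F))
      rw [Subgroup.mem_centralizer_iff]
      intro y hy
      rw [Set.mem_singleton_iff] at hy
      subst hy
      exact (QB_commute hF g hg).eq.symm

end partD

/-- the centralizer as a join -/
theorem rootGen_QB_eq : rootGen chevF4 F QB =
    chevF4.rootSubgroup F 33 ⊔ chevF4.rootSubgroup F 14 ⊔ chevF4.rootSubgroup F 24 ⊔ chevF4.rootSubgroup F 23 ⊔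
      Subgroup.closure {g : GL chevF4.Idx F | ∃ (r : ℕ) (c : F), chevF4.IsPosRoot r ∧ r ∉ [27, 25, 34, 26] ∧
        (g : Matrix chevF4.Idx chevF4.Idx F) = chevF4.x F r c} := by
  unfold rootGen ChevalleyDatum.rootSubgroup
  rw [← Subgroup.closure_union, ← Subgroup.closure_union, ← Subgroup.closure_union, ← Subgroup.closure_union]
  congr 1
  ext g
  simp only [QB, Set.mem_ofPred_eq, Set.mem_union]
  constructor
  · rintro ⟨r, t, hr | hr | hr | hr | ⟨h1, h2⟩, hg⟩
    · subst hr; exact Or.inl (Or.inl (Or.inl (Or.inl ⟨t, hg⟩)))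
    · subst hr; exact Or.inl (Or.inl (Or.inl (Or.inr ⟨t, hg⟩)))
    · subst hr; exact Or.inl (Or.inl (Or.inr ⟨t, hg⟩))
    · subst hr; exact Or.inl (Or.inr ⟨t, hg⟩)
    · exact Or.inr ⟨r, t, h1, h2, hg⟩
  · rintro ((((⟨t, hg⟩ | ⟨t, hg⟩) | ⟨t, hg⟩) | ⟨t, hg⟩) | ⟨r, t, h1, h2, hg⟩)
    · exact ⟨33, t, Or.inl rfl, hg⟩
    · exact ⟨14, t, Or.inr (Or.inl rfl), hg⟩
    · exact ⟨24, t, Or.inr (Or.inr (Or.inl rfl)), hg⟩
    · exact ⟨23, t, Or.inr (Or.inr (Or.inr (Or.inl rfl))), hg⟩
    · exact ⟨r, t, Or.inr (Or.inr (Or.inr (Or.inr ⟨h1, h2⟩))), hg⟩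

end Cfsg.Agent.Helper6.CentPair
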