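import Mathlib

set_option autoImplicit false

/-! S2362 piece S62-LIFT (helper6): element orders of a quotient of a finite group are element orders of the group. -/

namespace Cfsg.Agent.Helper15.S62

theorem exists_orderOf_eq_of_quotient {G : Type*} [Group G] [Finite G] (Z : Subgroup G)
    [Z.Normal] (x : G ⧸ Z) : ∃ g : G, orderOf g = orderOf x := by
  obtain ⟨g, rfl⟩ := QuotientGroup.mk_surjective x
  have hdvd : orderOf (QuotientGroup.mk g : G ⧸ Z) ∣ orderOf g :=
    orderOf_map_dvd (QuotientGroup.mk' Z) g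
  have hg0 : 0 < orderOf g := orderOf_pos g
  have hx0 : 0 < orderOf (QuotientGroup.mk g : G ⧸ Z) := Nat.pos_of_dvd_of_pos hdvd hg0
  obtain ⟨k, hk⟩ := hdvd
  have hk0 : k ≠ 0 := by
    rintro rfl
    rw [mul_zero] at hk
    omega
  refine ⟨g ^ k, ?_⟩
  have hkd : k ∣ orderOf g := ⟨orderOf (QuotientGroup.mk g : G ⧸ Z), by rw [hk, mul_comm]⟩
  rw [orderOf_pow_of_dvd hk0 hkd]
  nth_rewrite 1 [hk]
  exact Nat.mul_div_cancel _ (Nat.pos_of_ne_zero hk0)

end Cfsg.Agent.Helper15.S62
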