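import Mathlib
import Cfsg.Agent.Lib.Helper17.TSLDefs

/-! S3366 piece TSL-DECOMP (helper6): `R = C_R(t) * I_t` elementwise. -/

set_option autoImplicit false
set_option linter.unusedSectionVars false

namespace Cfsg.Agent.Helper17.TSL

/-- Pure group identity behind `decomp`. -/
theorem decomp_aux {X : Type*} [Group X] (t r : X) (ht : t * t = 1)
    (h3 : ((t * r * t⁻¹)⁻¹ * r) ^ 3 = 1) :
    t * (r * ((t * r * t⁻¹)⁻¹ * r)) = (r * ((t * r * t⁻¹)⁻¹ * r)) * t ∧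
      t * ((t * r * t⁻¹)⁻¹ * r)⁻¹ * t⁻¹ = (((t * r * t⁻¹)⁻¹ * r)⁻¹)⁻¹ := by
  have hti : t⁻¹ = t := inv_eq_of_mul_eq_one_left ht
  obtain ⟨s, hs⟩ : ∃ s, s = t * r * t⁻¹ := ⟨_, rfl⟩
  rw [← hs] at h3 ⊢
  obtain ⟨m, hm⟩ : ∃ m, m = s⁻¹ * r := ⟨_, rfl⟩
  rw [← hm] at h3 ⊢
  have hts : t * s * t⁻¹ = r := by
    rw [hs, hti]
    calc t * (t * r * t) * t = (t * t) * r * (t * t) := by simp only [mul_assoc]
      _ = r := by rw [ht, one_mul, mul_one]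
  have htm : t * m * t⁻¹ = m⁻¹ := by
    have e : t * m * t⁻¹ = (t * s * t⁻¹)⁻¹ * (t * r * t⁻¹) := by rw [hm]; group
    rw [e, hts, ← hs, hm, mul_inv_rev, inv_inv]
  have hmm : m * m = m⁻¹ := by
    have : m * m * m = 1 := by rw [← h3, pow_succ, pow_two]
    exact eq_inv_of_mul_eq_one_left this
  have hrs : r = s * m := by rw [hm]; group
  constructor
  · have e : t * (r * m) * t⁻¹ = r * m := by
      have e1 : t * (r * m) * t⁻¹ = (t * r * t⁻¹) * (t * m * t⁻¹) := by group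
      rw [e1, htm, ← hs, ← hmm, ← mul_assoc, ← hrs]
    calc t * (r * m) = (t * (r * m) * t⁻¹) * t := by group
      _ = r * m * t := by rw [e]
  · have e1 : t * m⁻¹ * t⁻¹ = (t * m * t⁻¹)⁻¹ := by group
    rw [e1, htm]

section abstract

variable {X : Type*} [Group X] [Finite X] (S : Setup X)

/-- PIECE DECOMP -/
theorem decomp (t : X) (ht : t * t = 1) (r : X) (hr : r ∈ S.R) :
    ∃ c ∈ S.R, ∃ i ∈ S.R, t * c = c * t ∧ t * i * t⁻¹ = i⁻¹ ∧ r = c * i := by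
  have hsR : t * r * t⁻¹ ∈ S.R := S.normal.conj_mem r hr t
  have hmR : (t * r * t⁻¹)⁻¹ * r ∈ S.R := S.R.mul_mem (S.R.inv_mem hsR) hr
  have hm3 : ((t * r * t⁻¹)⁻¹ * r) ^ 3 = 1 := S.exp_R _ hmR
  obtain ⟨h1, h2⟩ := decomp_aux t r ht hm3
  refine ⟨r * ((t * r * t⁻¹)⁻¹ * r), S.R.mul_mem hr hmR, ((t * r * t⁻¹)⁻¹ * r)⁻¹,
    S.R.inv_mem hmR, h1, h2, ?_⟩
  group

end abstract

end Cfsg.Agent.Helper17.TSL
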