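import Mathlib
import Cfsg.Agent.Lib.Helper17.TSLDefs

/-! S3366 piece TSL-FRAT (helper6): Frattini argument for the involution `t`. -/

set_option autoImplicit false
set_option linter.unusedSectionVars false

namespace Cfsg.Agent.Helper17.TSL

section abstract

variable {X : Type*} [Group X] [Finite X] (S : Setup X)

/-- PIECE FRAT -/
theorem frattini (t : X) (ht : t * t = 1) (hπ : S.π t = negOne) (g : X) :
    ∃ r ∈ S.R, (r⁻¹ * g) * t = t * (r⁻¹ * g) := by
  have hti : t⁻¹ = t := inv_eq_of_mul_eq_one_left ht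
  -- `ρ = g t g⁻¹ t` lies in `R`
  have hρR : g * t * g⁻¹ * t ∈ S.R := by
    rw [← S.ker, MonoidHom.mem_ker, map_mul, map_mul, map_mul, map_inv, hπ]
    rw [negOne_central (S.π g), mul_assoc negOne, mul_inv_cancel, mul_one, negOne_sq]
  have hρ3 : (g * t * g⁻¹ * t) ^ 3 = 1 := S.exp_R _ hρR
  have h1 : g * t * g⁻¹ = (g * t * g⁻¹ * t) * t := by
    rw [mul_assoc (g * t * g⁻¹), ht, mul_one]
  have h2 : t * (g * t * g⁻¹ * t) * t = (g * t * g⁻¹ * t)⁻¹ := by
    have e : (g * t * g⁻¹ * t)⁻¹ = t * g * t * g⁻¹ := by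
      rw [mul_inv_rev, mul_inv_rev, mul_inv_rev, inv_inv, hti]
      simp only [mul_assoc]
    rw [e]
    calc t * (g * t * g⁻¹ * t) * t = t * g * t * g⁻¹ * (t * t) := by simp only [mul_assoc]
      _ = t * g * t * g⁻¹ := by rw [ht, mul_one]
  refine ⟨(g * t * g⁻¹ * t)⁻¹, S.R.inv_mem hρR, ?_⟩
  rw [inv_inv]
  set ρ := g * t * g⁻¹ * t with hρ
  have h3 : ρ * ρ = ρ⁻¹ := by
    have : ρ * ρ * ρ = 1 := by rw [← hρ3, pow_succ, pow_two]
    exact eq_inv_of_mul_eq_one_left this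
  calc ρ * g * t = ρ * (g * t * g⁻¹) * g := by group
    _ = ρ * (ρ * t) * g := by rw [h1]
    _ = (ρ * ρ) * t * g := by group
    _ = ρ⁻¹ * t * g := by rw [h3]
    _ = (t * ρ * t) * t * g := by rw [h2]
    _ = t * ρ * (t * t) * g := by group
    _ = t * (ρ * g) := by rw [ht]; group

end abstract

end Cfsg.Agent.Helper17.TSL
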