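import Mathlib
import Cfsg.Agent.Lib.Helper13.InvNDefs

/-!
# INVN piece LEN (helper6): `len_reverse`, `len_snoc_lt`, `len_cons_lt`.
-/

set_option autoImplicit false
set_option linter.unusedSectionVars false
set_option linter.unusedVariables false

namespace Cfsg.Agent.Helper13.InvN

open Cfsg Cfsg.Lie Cfsg.Agent.Lead.Chev Cfsg.Agent.Helper6.ChevL

variable {F : Type*} [Field F] {D : ChevalleyDatum} (hF : ChevFacts D F) (hS : CorSize D) (hI : CorInj D)
include hF hS hI

/-- one inequality of `len_reverse` -/
theorem len_reverse_le (w : List ℕ) (hw : WOK D w) : len D w ≤ len D w.reverse := by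
  unfold len
  apply Finset.card_le_card_of_injOn (fun r => D.neg (reflWord D w r))
  · intro r hr
    have hr' := (mem_negSet D w r).1 (Finset.mem_coe.1 hr)
    obtain ⟨hr1, hr2⟩ := hr'
    apply Finset.mem_coe.2
    rw [mem_negSet]
    refine ⟨hF.sign.pos_of_neg _ hr2, ?_⟩
    have hlt : reflWord D w r < D.nroots := hr2.1
    rw [reflWord_neg D (etaOf D) hF.facts w.reverse hw.reverse _ hlt,
      reflWord_reverse_cancel' D (etaOf D) hF.facts w hw r hr1.1]
    exact hF.sign.neg_of_pos _ hr1
  · intro r hr r' hr' h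
    have h1 := (mem_negSet D w r).1 (Finset.mem_coe.1 hr)
    have h2 := (mem_negSet D w r').1 (Finset.mem_coe.1 hr')
    have h3 : reflWord D w r = reflWord D w r' := by
      have := congrArg D.neg h
      simp only at this
      rwa [hF.sign.neg_neg _ h1.2.1, hF.sign.neg_neg _ h2.2.1] at this
    have h4 := congrArg (reflWord D w.reverse) h3
    rwa [reflWord_reverse_cancel' D (etaOf D) hF.facts w hw r h1.1.1,
      reflWord_reverse_cancel' D (etaOf D) hF.facts w hw r' h2.1.1] at h4

/-- PIECE LEN (1) -/
theorem len_reverse (w : List ℕ) (hw : WOK D w) : len D w.reverse = len D w := by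
  apply le_antisymm
  · have := len_reverse_le hF hS hI w.reverse hw.reverse
    rwa [List.reverse_reverse] at this
  · exact len_reverse_le hF hS hI w hw

/-- PIECE LEN (2) -/
theorem len_snoc_lt (w : List ℕ) (hw : WOK D w) (i : ℕ) (hi : i < D.rank)
    (hpos : D.IsPosRoot (reflWord D w (D.simple i))) : len D w < len D (w ++ [i]) := by
  have hneg : D.IsNegRoot (reflWord D (w ++ [i]) (D.simple i)) := by
    rw [reflWord_snoc, reflectRoot_simple,
      reflWord_neg D (etaOf D) hF.facts w hw _ (hF.simple_lt i hi)]
    exact hF.sign.neg_of_pos _ hpos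
  have h1 := hF.card_negSet_snoc_lt (w ++ [i]) (hw.snoc hi) i hi hneg
  have h2 : len D (w ++ [i] ++ [i]) = len D w := by
    apply len_congr
    intro r hr
    rw [reflWord_snoc, reflWord_snoc, (hF.facts i hi).winv r hr]
  unfold len at h2 ⊢
  omega

/-- PIECE LEN (3) -/
theorem len_cons_lt (w : List ℕ) (hw : WOK D w) (i : ℕ) (hi : i < D.rank)
    (hpos : D.IsPosRoot (reflWord D w.reverse (D.simple i))) : len D w < len D (i :: w) := by
  have h1 := len_snoc_lt hF hS hI w.reverse hw.reverse i hi hpos
  have h2 := len_reverse hF hS hI (i :: w) (WOK.cons hi hw)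
  rw [List.reverse_cons] at h2
  have h3 := len_reverse hF hS hI w hw
  omega

end Cfsg.Agent.Helper13.InvN
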