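import Mathlib
import Cfsg.Agent.Lib.Helper13.InvNDefs

/-!
# INVN piece JWORD (helper6): `jword_neg`, `jword_out`.
-/

set_option autoImplicit false
set_option linter.unusedSectionVars false
set_option linter.unusedVariables false

namespace Cfsg.Agent.Helper13.InvN

open Cfsg Cfsg.Lie Cfsg.Agent.Lead.Chev Cfsg.Agent.Helper6.ChevL

variable {F : Type*} [Field F] {D : ChevalleyDatum} (hF : ChevFacts D F) (hS : CorSize D) (hI : CorInj D)
include hF hS hI

/-- PIECE JWORD (1): a word in the letters of `J` all of whose letters are made negative makes `Φ_J⁺` negative -/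
theorem jword_neg (J : Set ℕ) (c : List ℕ) (hc : WOK D c) (hcJ : ∀ i ∈ c, i ∈ J)
    (hneg : ∀ j ∈ J, j < D.rank → D.IsNegRoot (reflWord D c (D.simple j))) (r : ℕ) (hr : D.IsPosRoot r)
    (hrJ : D.InRootSub J r) : D.IsNegRoot (reflWord D c r) := by
  have hrlt : r < D.nroots := hr.1
  have hcr : reflWord D c r < D.nroots := reflWord_lt D (etaOf D) hF.facts c hc r hrlt
  apply isNegRoot_of_cv D hS _ hcr
  intro k hk
  rw [cv_reflWord D (etaOf D) hF.facts hF.refl hF.simple_lt c hc r hrlt k hk]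
  apply Finset.sum_nonpos
  intro j hj
  have hjr := Finset.mem_range.1 hj
  by_cases hjJ : j ∈ J
  · have h1 : 0 ≤ cv D r j := cv_nonneg D r hr j
    have h2 : cv D (reflWord D c (D.simple j)) k ≤ 0 := cv_nonpos D _ (hneg j hjJ hjr) k
    exact mul_nonpos_of_nonneg_of_nonpos h1 h2
  · have : cv D r j = 0 := hrJ.2 j hjr hjJ
    rw [this, zero_mul]

/-- one reflection in a letter of `J` keeps a negative root outside `Φ_J` negative and outside `Φ_J` -/
theorem jword_step (J : Set ℕ) (i : ℕ) (hi : i < D.rank) (hiJ : i ∈ J) (s : ℕ)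
    (hs : D.IsNegRoot s) (hsJ : ¬ D.InRootSub J s) :
    D.IsNegRoot (D.reflectRoot i s) ∧ ¬ D.InRootSub J (D.reflectRoot i s) := by
  have hslt : s < D.nroots := hs.1
  have hlt : D.reflectRoot i s < D.nroots := (hF.facts i hi).wlt s hslt
  -- a negative coordinate outside `J`
  have hk0 : ∃ k₀ < D.rank, k₀ ∉ J ∧ cv D s k₀ < 0 := by
    by_contra hcon
    apply hsJ
    refine ⟨hslt, ?_⟩
    intro k hk hkJ
    have h0 : cv D s k ≤ 0 := cv_nonpos D s hs k
    by_contra hne
    apply hcon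
    refine ⟨k, hk, hkJ, ?_⟩
    have hne' : cv D s k ≠ 0 := hne
    omega
  obtain ⟨k₀, hk₀, hk₀J, hk₀neg⟩ := hk0
  have hk₀i : k₀ ≠ i := by
    rintro rfl
    exact hk₀J hiJ
  have hcoord : cv D (D.reflectRoot i s) k₀ = cv D s k₀ := by
    rw [cv_reflect D (etaOf D i) i (hF.facts i hi) s hslt k₀ hk₀, if_neg hk₀i, sub_zero]
  refine ⟨?_, ?_⟩
  · rcases hF.sign.pos_or_neg _ hlt with h | h
    · exfalso
      have := cv_nonneg D _ h k₀
      rw [hcoord] at this
      omega
    · exact h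
  · intro hsub
    have := hsub.2 k₀ hk₀ hk₀J
    have h2 : cv D (D.reflectRoot i s) k₀ = 0 := this
    rw [hcoord] at h2
    omega

/-- the invariant of `jword_out` -/
theorem jword_out_aux (J : Set ℕ) (c : List ℕ) (hc : WOK D c) (hcJ : ∀ i ∈ c, i ∈ J) (r : ℕ)
    (hr : D.IsNegRoot r) (hrJ : ¬ D.InRootSub J r) :
    D.IsNegRoot (reflWord D c r) ∧ ¬ D.InRootSub J (reflWord D c r) := by
  induction c with
  | nil => exact ⟨hr, hrJ⟩
  | cons i c ih =>
    have hc' : WOK D c := fun j hj => hc j (List.mem_cons_of_mem _ hj)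
    have hcJ' : ∀ j ∈ c, j ∈ J := fun j hj => hcJ j (List.mem_cons_of_mem _ hj)
    obtain ⟨h1, h2⟩ := ih hc' hcJ'
    exact jword_step hF hS hI J i (hc i List.mem_cons_self) (hcJ i List.mem_cons_self) _ h1 h2

/-- PIECE JWORD (2): a word in the letters of `J` keeps the negative roots outside `Φ_J` negative -/
theorem jword_out (J : Set ℕ) (c : List ℕ) (hc : WOK D c) (hcJ : ∀ i ∈ c, i ∈ J) (r : ℕ)
    (hr : D.IsNegRoot r) (hrJ : ¬ D.InRootSub J r) : D.IsNegRoot (reflWord D c r) :=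
  (jword_out_aux hF hS hI J c hc hcJ r hr hrJ).1

end Cfsg.Agent.Helper13.InvN
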