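import Mathlib
import Cfsg.Agent.Lib.Helper13.InvNDefs

/-!
# INVN piece ROOTS (helper6): `fix_sub`, `neg_out`.
-/

set_option autoImplicit false
set_option linter.unusedSectionVars false
set_option linter.unusedVariables false

namespace Cfsg.Agent.Helper13.InvN

open Cfsg Cfsg.Lie Cfsg.Agent.Lead.Chev Cfsg.Agent.Helper6.ChevL

variable {F : Type*} [Field F] {D : ChevalleyDatum} (hF : ChevFacts D F) (hS : CorSize D) (hI : CorInj D)
include hF hS hI

/-- the coroot coordinates of a fundamental root -/
theorem roots_cv_simple (j : ℕ) (hj : j < D.rank) (k : ℕ) (hk : k < D.rank) :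
    cv D (D.simple j) k = if k = j then 1 else 0 :=
  hF.refl.simple_coroot j hj k hk

/-- linearity, in the form used here -/
theorem roots_cv_word (w : List ℕ) (hw : WOK D w) (r : ℕ) (hr : r < D.nroots) (k : ℕ) (hk : k < D.rank) :
    cv D (reflWord D w r) k =
      ∑ j ∈ Finset.range D.rank, cv D r j * cv D (reflWord D w (D.simple j)) k :=
  cv_reflWord D (etaOf D) hF.facts hF.refl hF.simple_lt w hw r hr k hk

/-- PIECE ROOTS (1): `w` fixes the subsystem spanned by the fixed fundamental roots pointwise -/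
theorem fix_sub (w : List ℕ) (hw : WOK D w) (hinv : Invol D w) (hM : CondM D w) (r : ℕ)
    (hr : D.InRootSub (fixJ D w) r) : reflWord D w r = r := by
  obtain ⟨hrlt, hr0⟩ := hr
  have hwr : reflWord D w r < D.nroots := reflWord_lt D (etaOf D) hF.facts w hw r hrlt
  apply hI _ hwr _ hrlt
  intro k hk
  rw [roots_cv_word hF hS hI w hw r hrlt k hk]
  have h1 : ∀ j ∈ Finset.range D.rank, cv D r j * cv D (reflWord D w (D.simple j)) k
      = cv D r j * (if k = j then 1 else 0) := by
    intro j hj
    have hjr := Finset.mem_range.1 hj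
    by_cases hjJ : j ∈ fixJ D w
    · rw [hjJ.2, roots_cv_simple hF hS hI j hjr k hk]
    · have : cv D r j = 0 := hr0 j hjr hjJ
      rw [this, zero_mul, zero_mul]
  rw [Finset.sum_congr rfl h1]
  simp only [mul_ite, mul_one, mul_zero, Finset.sum_ite_eq, Finset.mem_range, hk, if_true]

/-- PIECE ROOTS (2): every other positive root is made negative -/
theorem neg_out (w : List ℕ) (hw : WOK D w) (hinv : Invol D w) (hM : CondM D w) (r : ℕ)
    (hr : D.IsPosRoot r) (hrJ : ¬ D.InRootSub (fixJ D w) r) :
    D.IsNegRoot (reflWord D w r) ∧ ¬ D.InRootSub (fixJ D w) (reflWord D w r) := by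
  have hrlt : r < D.nroots := hr.1
  have hwr : reflWord D w r < D.nroots := reflWord_lt D (etaOf D) hF.facts w hw r hrlt
  -- a coordinate outside `J`
  have hj0 : ∃ j₀ < D.rank, j₀ ∉ fixJ D w ∧ 0 < cv D r j₀ := by
    by_contra hcon
    apply hrJ
    refine ⟨hrlt, ?_⟩
    intro i hi hiJ
    have h0 : 0 ≤ cv D r i := cv_nonneg D r hr i
    by_contra hne
    apply hcon
    refine ⟨i, hi, hiJ, ?_⟩
    have hne' : cv D r i ≠ 0 := hne
    omega
  obtain ⟨j₀, hj₀, hj₀J, hj₀pos⟩ := hj0
  -- the fundamental roots outside `J` are made negative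
  have hnegJ : ∀ j < D.rank, j ∉ fixJ D w → D.IsNegRoot (reflWord D w (D.simple j)) := by
    intro j hj hjJ
    rcases hM j hj with h | h
    · exact h
    · exact absurd ⟨hj, h⟩ hjJ
  have hnotpos : ¬ D.IsPosRoot (reflWord D w r) := by
    intro hpos
    -- all coordinates of `w α_{j₀}` outside `J` vanish
    have hz : ∀ k < D.rank, k ∉ fixJ D w → cv D (reflWord D w (D.simple j₀)) k = 0 := by
      intro k hk hkJ
      have h0 : 0 ≤ cv D (reflWord D w r) k := cv_nonneg D _ hpos k
      rw [roots_cv_word hF hS hI w hw r hrlt k hk] at h0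
      have hterm : ∀ j ∈ Finset.range D.rank,
          cv D r j * cv D (reflWord D w (D.simple j)) k ≤ 0 := by
        intro j hj
        have hjr := Finset.mem_range.1 hj
        by_cases hjJ : j ∈ fixJ D w
        · rw [hjJ.2, roots_cv_simple hF hS hI j hjr k hk]
          have hkj : k ≠ j := by
            rintro rfl
            exact hkJ hjJ
          rw [if_neg hkj, mul_zero]
        · have h1 : 0 ≤ cv D r j := cv_nonneg D r hr j
          have h2 : cv D (reflWord D w (D.simple j)) k ≤ 0 :=
            cv_nonpos D _ (hnegJ j hjr hjJ) k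
          exact mul_nonpos_of_nonneg_of_nonpos h1 h2
      have hsum0 : ∑ j ∈ Finset.range D.rank, cv D r j * cv D (reflWord D w (D.simple j)) k = 0 :=
        le_antisymm (Finset.sum_nonpos hterm) h0
      have hall := (Finset.sum_eq_zero_iff_of_nonpos hterm).1 hsum0 j₀ (Finset.mem_range.2 hj₀)
      rcases mul_eq_zero.1 hall with h | h
      · omega
      · exact h
    have hsub : D.InRootSub (fixJ D w) (reflWord D w (D.simple j₀)) :=
      ⟨reflWord_lt D (etaOf D) hF.facts w hw _ (hF.simple_lt j₀ hj₀), hz⟩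
    have h1 := fix_sub hF hS hI w hw hinv hM _ hsub
    rw [hinv _ (hF.simple_lt j₀ hj₀)] at h1
    exact hj₀J ⟨hj₀, h1.symm⟩
  refine ⟨?_, ?_⟩
  · rcases hF.sign.pos_or_neg _ hwr with h | h
    · exact absurd h hnotpos
    · exact h
  · intro hsub
    have h1 := fix_sub hF hS hI w hw hinv hM _ hsub
    rw [hinv r hrlt] at h1
    apply hrJ
    rw [h1]
    exact hsub

end Cfsg.Agent.Helper13.InvN
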