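import Mathlib
import Cfsg.Agent.Lib.Helper6.G2ShortC

/-!
# Involutions of `G₂(q)`, `q` even: root element relations in characteristic two
-/

set_option autoImplicit false
set_option linter.unusedSectionVars false
set_option linter.unusedSimpArgs false
set_option linter.unusedVariables false

namespace Cfsg.Agent.Helper6.G2Inv

open Cfsg Cfsg.Lie Cfsg.Agent.Lead.Chev Cfsg.Agent.Helper6.ChevL Cfsg.Agent.Helper6.RootCent
  Cfsg.Agent.Helper6.HtF Cfsg.Agent.Helper5 Cfsg.Agent.Lead.ChevHt Cfsg.Agent.Helper6.G2S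

variable {F : Type*} [Field F]

theorem commTerms_nil' : chevG2.commTerms 6 8 = [] ∧ chevG2.commTerms 6 9 = [] ∧
    chevG2.commTerms 6 11 = [] ∧ chevG2.commTerms 7 10 = [] ∧ chevG2.commTerms 7 11 = [] ∧
    chevG2.commTerms 8 10 = [] ∧ chevG2.commTerms 8 11 = [] ∧ chevG2.commTerms 9 10 = [] ∧
    chevG2.commTerms 9 11 = [] ∧ chevG2.commTerms 10 11 = [] ∧ chevG2.commTerms 6 4 = [] ∧
    chevG2.commTerms 11 4 = [] := by decide +kernel

section gen

variable (hF : ChevFacts chevG2 F)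
include hF

/-- the commutator formula in the general linear group -/
theorem comm_gl (r s : ℕ) (hr : r < 12) (hs : s < 12) (hsr : s ≠ r) (hsn : s ≠ chevG2.neg r) (t u : F) :
    xGL chevG2 hF.xadd s u * xGL chevG2 hF.xadd r t =
      xGL chevG2 hF.xadd r t * xGL chevG2 hF.xadd s u *
        wordGL chevG2 hF.xadd (chevG2.commWord F r s t u) := by
  apply Units.ext
  simp only [Units.val_mul, xGL_val, wordGL_val]
  exact hF.comm r hr s hs hsr hsn t u

end gen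

section char2

variable [CharP F 2] (hF : ChevFacts chevG2 F)
include hF

theorem cast_neg_three : ((-3 : ℤ) : F) = 1 := three_eq_one hF

theorem cast_three : ((3 : ℤ) : F) = 1 := by
  have h2 : (2 : F) = 0 := CharTwo.two_eq_zero
  push_cast
  linear_combination h2

theorem cast_two : ((2 : ℤ) : F) = 0 := by
  push_cast
  exact CharTwo.two_eq_zero

theorem cast_neg_two : ((-2 : ℤ) : F) = 0 := by
  have h2 : (2 : F) = 0 := CharTwo.two_eq_zero
  push_cast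
  linear_combination (-1 : F) * h2

theorem cast_neg_one : ((-1 : ℤ) : F) = 1 := by
  push_cast
  exact CharTwo.neg_eq 1

/-- a root element is an involution or trivial -/
theorem xGL_sq (r : ℕ) (t : F) : xGL chevG2 hF.xadd r t * xGL chevG2 hF.xadd r t = 1 := by
  rw [xGL_mul, CharTwo.add_self_eq_zero, xGL_zero]

theorem xGL_inv' (r : ℕ) (t : F) : (xGL chevG2 hF.xadd r t)⁻¹ = xGL chevG2 hF.xadd r t := by
  rw [xGL_inv, CharTwo.neg_eq]

/-- `x_a(u) x_b(t) = x_b(t) x_a(u) x_{a+b}(tu) x_{2a+b}(tu²) x_{3a+b}(tu³)` -/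
theorem rel_6_7 (t u : F) : xGL chevG2 hF.xadd 7 u * xGL chevG2 hF.xadd 6 t =
    xGL chevG2 hF.xadd 6 t * xGL chevG2 hF.xadd 7 u *
      (xGL chevG2 hF.xadd 8 (t * u) * (xGL chevG2 hF.xadd 9 (t * u ^ 2) * xGL chevG2 hF.xadd 10 (t * u ^ 3))) := by
  have h1 := comm_gl hF 6 7 (by decide) (by decide) (by decide) (by decide) t u
  have h2 : chevG2.commTerms 6 7 = [(8, 1, 1, 1), (9, 1, 1, 2), (10, -1, 1, 3), (11, -2, 2, 3)] := by
    decide +kernel
  have h3 : chevG2.commWord F 6 7 t u = [(8, t * u), (9, t * u ^ 2), (10, t * u ^ 3), (11, 0)] := by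
    unfold ChevalleyDatum.commWord
    rw [h2]
    simp only [List.map_cons, List.map_nil, pow_one, CharTwo.neg_eq, cast_neg_one hF, cast_neg_two hF,
      Int.cast_one, one_mul, zero_mul]
  rw [h3] at h1
  simp only [wordGL_cons, wordGL_nil, xGL_zero, mul_one] at h1
  exact h1


/-- `x_b(u) x_a(t) = x_a(t) x_b(u) x_{a+b}(tu) x_{2a+b}(t²u) x_{3a+b}(t³u) x_{3a+2b}(t³u²)` -/
theorem rel_7_6 (t u : F) : xGL chevG2 hF.xadd 6 u * xGL chevG2 hF.xadd 7 t =
    xGL chevG2 hF.xadd 7 t * xGL chevG2 hF.xadd 6 u *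
      (xGL chevG2 hF.xadd 8 (t * u) * (xGL chevG2 hF.xadd 9 (t ^ 2 * u) *
        (xGL chevG2 hF.xadd 10 (t ^ 3 * u) * xGL chevG2 hF.xadd 11 (t ^ 3 * u ^ 2)))) := by
  have h1 := comm_gl hF 7 6 (by decide) (by decide) (by decide) (by decide) t u
  have h2 : chevG2.commTerms 7 6 = [(8, -1, 1, 1), (9, 1, 2, 1), (10, 1, 3, 1), (11, 1, 3, 2)] := by
    decide +kernel
  have h3 : chevG2.commWord F 7 6 t u =
      [(8, t * u), (9, t ^ 2 * u), (10, t ^ 3 * u), (11, t ^ 3 * u ^ 2)] := by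
    unfold ChevalleyDatum.commWord
    rw [h2]
    simp only [List.map_cons, List.map_nil, pow_one, CharTwo.neg_eq, cast_neg_one hF,
      Int.cast_one, one_mul]
  rw [h3] at h1
  simp only [wordGL_cons, wordGL_nil, mul_one] at h1
  exact h1

/-- `x_{a+b}(u) x_a(t) = x_a(t) x_{a+b}(u) x_{3a+b}(t²u) x_{3a+2b}(tu²)` -/
theorem rel_7_8 (t u : F) : xGL chevG2 hF.xadd 8 u * xGL chevG2 hF.xadd 7 t =
    xGL chevG2 hF.xadd 7 t * xGL chevG2 hF.xadd 8 u *
      (xGL chevG2 hF.xadd 10 (t ^ 2 * u) * xGL chevG2 hF.xadd 11 (t * u ^ 2)) := by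
  have h1 := comm_gl hF 7 8 (by decide) (by decide) (by decide) (by decide) t u
  have h2 : chevG2.commTerms 7 8 = [(9, -2, 1, 1), (10, -3, 2, 1), (11, 3, 1, 2)] := by
    decide +kernel
  have h3 : chevG2.commWord F 7 8 t u = [(9, 0), (10, t ^ 2 * u), (11, t * u ^ 2)] := by
    unfold ChevalleyDatum.commWord
    rw [h2]
    simp only [List.map_cons, List.map_nil, pow_one, CharTwo.neg_eq, cast_neg_two hF, cast_neg_three hF,
      cast_three hF, one_mul, zero_mul]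
  rw [h3] at h1
  simp only [wordGL_cons, wordGL_nil, xGL_zero, mul_one, one_mul] at h1
  exact h1

/-- `x_a(u) x_{a+b}(t) = x_{a+b}(t) x_a(u) x_{3a+2b}(t²u) x_{3a+b}(tu²)` -/
theorem rel_8_7 (t u : F) : xGL chevG2 hF.xadd 7 u * xGL chevG2 hF.xadd 8 t =
    xGL chevG2 hF.xadd 8 t * xGL chevG2 hF.xadd 7 u *
      (xGL chevG2 hF.xadd 11 (t ^ 2 * u) * xGL chevG2 hF.xadd 10 (t * u ^ 2)) := by
  have h1 := comm_gl hF 8 7 (by decide) (by decide) (by decide) (by decide) t u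
  have h2 : chevG2.commTerms 8 7 = [(9, 2, 1, 1), (11, 3, 2, 1), (10, -3, 1, 2)] := by
    decide +kernel
  have h3 : chevG2.commWord F 8 7 t u = [(9, 0), (11, t ^ 2 * u), (10, t * u ^ 2)] := by
    unfold ChevalleyDatum.commWord
    rw [h2]
    simp only [List.map_cons, List.map_nil, pow_one, CharTwo.neg_eq, cast_two hF, cast_neg_three hF,
      cast_three hF, one_mul, zero_mul]
  rw [h3] at h1
  simp only [wordGL_cons, wordGL_nil, xGL_zero, mul_one, one_mul] at h1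
  exact h1

/-- `x_{2a+b}(u) x_a(t) = x_a(t) x_{2a+b}(u) x_{3a+b}(tu)` -/
theorem rel_7_9 (t u : F) : xGL chevG2 hF.xadd 9 u * xGL chevG2 hF.xadd 7 t =
    xGL chevG2 hF.xadd 7 t * xGL chevG2 hF.xadd 9 u * xGL chevG2 hF.xadd 10 (t * u) := by
  have h1 := comm_gl hF 7 9 (by decide) (by decide) (by decide) (by decide) t u
  have h2 : chevG2.commTerms 7 9 = [(10, 3, 1, 1)] := by decide +kernel
  have h3 : chevG2.commWord F 7 9 t u = [(10, t * u)] := by
    unfold ChevalleyDatum.commWord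
    rw [h2]
    simp only [List.map_cons, List.map_nil, pow_one, CharTwo.neg_eq, cast_three hF, one_mul]
  rw [h3] at h1
  simp only [wordGL_cons, wordGL_nil, mul_one] at h1
  exact h1

/-- `x_a(u) x_{2a+b}(t) = x_{2a+b}(t) x_a(u) x_{3a+b}(tu)` -/
theorem rel_9_7 (t u : F) : xGL chevG2 hF.xadd 7 u * xGL chevG2 hF.xadd 9 t =
    xGL chevG2 hF.xadd 9 t * xGL chevG2 hF.xadd 7 u * xGL chevG2 hF.xadd 10 (t * u) := comm_9_7 hF t u

/-- `x_{3a+b}(u) x_b(t) = x_b(t) x_{3a+b}(u) x_{3a+2b}(tu)` -/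
theorem rel_6_10 (t u : F) : xGL chevG2 hF.xadd 10 u * xGL chevG2 hF.xadd 6 t =
    xGL chevG2 hF.xadd 6 t * xGL chevG2 hF.xadd 10 u * xGL chevG2 hF.xadd 11 (t * u) := by
  have h1 := comm_gl hF 6 10 (by decide) (by decide) (by decide) (by decide) t u
  have h2 : chevG2.commTerms 6 10 = [(11, 1, 1, 1)] := by decide +kernel
  have h3 : chevG2.commWord F 6 10 t u = [(11, t * u)] := by
    unfold ChevalleyDatum.commWord
    rw [h2]
    simp only [List.map_cons, List.map_nil, pow_one, CharTwo.neg_eq, Int.cast_one, one_mul]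
  rw [h3] at h1
  simp only [wordGL_cons, wordGL_nil, mul_one] at h1
  exact h1

/-- `x_b(u) x_{3a+b}(t) = x_{3a+b}(t) x_b(u) x_{3a+2b}(tu)` -/
theorem rel_10_6 (t u : F) : xGL chevG2 hF.xadd 6 u * xGL chevG2 hF.xadd 10 t =
    xGL chevG2 hF.xadd 10 t * xGL chevG2 hF.xadd 6 u * xGL chevG2 hF.xadd 11 (t * u) := by
  have h1 := comm_gl hF 10 6 (by decide) (by decide) (by decide) (by decide) t u
  have h2 : chevG2.commTerms 10 6 = [(11, -1, 1, 1)] := by decide +kernel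
  have h3 : chevG2.commWord F 10 6 t u = [(11, t * u)] := by
    unfold ChevalleyDatum.commWord
    rw [h2]
    simp only [List.map_cons, List.map_nil, pow_one, CharTwo.neg_eq, cast_neg_one hF, one_mul]
  rw [h3] at h1
  simp only [wordGL_cons, wordGL_nil, mul_one] at h1
  exact h1

/-- `x_{2a+b}(u) x_{a+b}(t) = x_{a+b}(t) x_{2a+b}(u) x_{3a+2b}(tu)` -/
theorem rel_8_9 (t u : F) : xGL chevG2 hF.xadd 9 u * xGL chevG2 hF.xadd 8 t =
    xGL chevG2 hF.xadd 8 t * xGL chevG2 hF.xadd 9 u * xGL chevG2 hF.xadd 11 (t * u) := by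
  have h1 := comm_gl hF 8 9 (by decide) (by decide) (by decide) (by decide) t u
  have h2 : chevG2.commTerms 8 9 = [(11, 3, 1, 1)] := by decide +kernel
  have h3 : chevG2.commWord F 8 9 t u = [(11, t * u)] := by
    unfold ChevalleyDatum.commWord
    rw [h2]
    simp only [List.map_cons, List.map_nil, pow_one, CharTwo.neg_eq, cast_three hF, one_mul]
  rw [h3] at h1
  simp only [wordGL_cons, wordGL_nil, mul_one] at h1
  exact h1

/-- `x_{a+b}(u) x_{2a+b}(t) = x_{2a+b}(t) x_{a+b}(u) x_{3a+2b}(tu)` -/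
theorem rel_9_8 (t u : F) : xGL chevG2 hF.xadd 8 u * xGL chevG2 hF.xadd 9 t =
    xGL chevG2 hF.xadd 9 t * xGL chevG2 hF.xadd 8 u * xGL chevG2 hF.xadd 11 (t * u) := comm_9_8 hF t u

/-- `x_{-a}(u) x_{2a+b}(t) = x_{2a+b}(t) x_{-a}(u) x_{3a+2b}(t²u) x_b(tu²)` -/
theorem rel_9_4 (t u : F) : xGL chevG2 hF.xadd 4 u * xGL chevG2 hF.xadd 9 t =
    xGL chevG2 hF.xadd 9 t * xGL chevG2 hF.xadd 4 u *
      (xGL chevG2 hF.xadd 11 (t ^ 2 * u) * xGL chevG2 hF.xadd 6 (t * u ^ 2)) := by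
  have h1 := comm_gl hF 9 4 (by decide) (by decide) (by decide) (by decide) t u
  have h2 : chevG2.commTerms 9 4 = [(8, 2, 1, 1), (11, -3, 2, 1), (6, 3, 1, 2)] := by decide +kernel
  have h3 : chevG2.commWord F 9 4 t u = [(8, 0), (11, t ^ 2 * u), (6, t * u ^ 2)] := by
    unfold ChevalleyDatum.commWord
    rw [h2]
    simp only [List.map_cons, List.map_nil, pow_one, CharTwo.neg_eq, cast_two hF, cast_neg_three hF,
      cast_three hF, one_mul, zero_mul]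
  rw [h3] at h1
  simp only [wordGL_cons, wordGL_nil, xGL_zero, mul_one, one_mul] at h1
  exact h1

theorem c_6_8 (t u : F) : Commute (xGL chevG2 hF.xadd 6 t) (xGL chevG2 hF.xadd 8 u) :=
  commute_of_nil hF 6 8 (by decide) (by decide) (by decide) (by decide) commTerms_nil'.1 t u
theorem c_6_9 (t u : F) : Commute (xGL chevG2 hF.xadd 6 t) (xGL chevG2 hF.xadd 9 u) :=
  commute_of_nil hF 6 9 (by decide) (by decide) (by decide) (by decide) commTerms_nil'.2.1 t u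
theorem c_6_11 (t u : F) : Commute (xGL chevG2 hF.xadd 6 t) (xGL chevG2 hF.xadd 11 u) :=
  commute_of_nil hF 6 11 (by decide) (by decide) (by decide) (by decide) commTerms_nil'.2.2.1 t u
theorem c_7_10 (t u : F) : Commute (xGL chevG2 hF.xadd 7 t) (xGL chevG2 hF.xadd 10 u) :=
  commute_of_nil hF 7 10 (by decide) (by decide) (by decide) (by decide) commTerms_nil'.2.2.2.1 t u
theorem c_7_11 (t u : F) : Commute (xGL chevG2 hF.xadd 7 t) (xGL chevG2 hF.xadd 11 u) :=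
  commute_of_nil hF 7 11 (by decide) (by decide) (by decide) (by decide) commTerms_nil'.2.2.2.2.1 t u
theorem c_8_10 (t u : F) : Commute (xGL chevG2 hF.xadd 8 t) (xGL chevG2 hF.xadd 10 u) :=
  commute_of_nil hF 8 10 (by decide) (by decide) (by decide) (by decide) commTerms_nil'.2.2.2.2.2.1 t u
theorem c_8_11 (t u : F) : Commute (xGL chevG2 hF.xadd 8 t) (xGL chevG2 hF.xadd 11 u) :=
  commute_of_nil hF 8 11 (by decide) (by decide) (by decide) (by decide) commTerms_nil'.2.2.2.2.2.2.1 t u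
theorem c_9_10 (t u : F) : Commute (xGL chevG2 hF.xadd 9 t) (xGL chevG2 hF.xadd 10 u) :=
  commute_of_nil hF 9 10 (by decide) (by decide) (by decide) (by decide) commTerms_nil'.2.2.2.2.2.2.2.1 t u
theorem c_9_11 (t u : F) : Commute (xGL chevG2 hF.xadd 9 t) (xGL chevG2 hF.xadd 11 u) :=
  commute_of_nil hF 9 11 (by decide) (by decide) (by decide) (by decide) commTerms_nil'.2.2.2.2.2.2.2.2.1 t u
theorem c_10_11 (t u : F) : Commute (xGL chevG2 hF.xadd 10 t) (xGL chevG2 hF.xadd 11 u) :=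
  commute_of_nil hF 10 11 (by decide) (by decide) (by decide) (by decide) commTerms_nil'.2.2.2.2.2.2.2.2.2.1 t u
theorem c_6_4 (t u : F) : Commute (xGL chevG2 hF.xadd 6 t) (xGL chevG2 hF.xadd 4 u) :=
  commute_of_nil hF 6 4 (by decide) (by decide) (by decide) (by decide) commTerms_nil'.2.2.2.2.2.2.2.2.2.2.1 t u
theorem c_11_4 (t u : F) : Commute (xGL chevG2 hF.xadd 11 t) (xGL chevG2 hF.xadd 4 u) :=
  commute_of_nil hF 11 4 (by decide) (by decide) (by decide) (by decide) commTerms_nil'.2.2.2.2.2.2.2.2.2.2.2 t u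


/-- `x_{2a+b}(u) x_{-a}(t) = x_{-a}(t) x_{2a+b}(u) x_b(t²u) x_{3a+2b}(tu²)` -/
theorem rel_4_9 (t u : F) : xGL chevG2 hF.xadd 9 u * xGL chevG2 hF.xadd 4 t =
    xGL chevG2 hF.xadd 4 t * xGL chevG2 hF.xadd 9 u *
      (xGL chevG2 hF.xadd 6 (t ^ 2 * u) * xGL chevG2 hF.xadd 11 (t * u ^ 2)) := by
  have h1 := comm_gl hF 4 9 (by decide) (by decide) (by decide) (by decide) t u
  have h2 : chevG2.commTerms 4 9 = [(8, -2, 1, 1), (6, 3, 2, 1), (11, -3, 1, 2)] := by decide +kernel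
  have h3 : chevG2.commWord F 4 9 t u = [(8, 0), (6, t ^ 2 * u), (11, t * u ^ 2)] := by
    unfold ChevalleyDatum.commWord
    rw [h2]
    simp only [List.map_cons, List.map_nil, pow_one, CharTwo.neg_eq, cast_neg_two hF, cast_neg_three hF,
      cast_three hF, one_mul, zero_mul]
  rw [h3] at h1
  simp only [wordGL_cons, wordGL_nil, xGL_zero, mul_one, one_mul] at h1
  exact h1

/-! ## collection rules: sorting a product of positive root elements -/

theorem sw_7_6 (t u : F) : xGL chevG2 hF.xadd 7 u * xGL chevG2 hF.xadd 6 t =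
    xGL chevG2 hF.xadd 6 t * (xGL chevG2 hF.xadd 7 u * (xGL chevG2 hF.xadd 8 (t * u) * (xGL chevG2 hF.xadd 9 (t * u ^ 2) * (xGL chevG2 hF.xadd 10 (t * u ^ 3))))) := by
  rw [rel_6_7 hF t u]
  simp only [mul_assoc]

theorem sw_7_6' (t u : F) (z : GL chevG2.Idx F) : xGL chevG2 hF.xadd 7 u * (xGL chevG2 hF.xadd 6 t * z) =
    xGL chevG2 hF.xadd 6 t * (xGL chevG2 hF.xadd 7 u * (xGL chevG2 hF.xadd 8 (t * u) * (xGL chevG2 hF.xadd 9 (t * u ^ 2) * (xGL chevG2 hF.xadd 10 (t * u ^ 3) * (z))))) := by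
  rw [← mul_assoc, sw_7_6 hF t u]
  simp only [mul_assoc]

theorem sw_10_6 (t u : F) : xGL chevG2 hF.xadd 10 u * xGL chevG2 hF.xadd 6 t =
    xGL chevG2 hF.xadd 6 t * (xGL chevG2 hF.xadd 10 u * (xGL chevG2 hF.xadd 11 (t * u))) := by
  rw [rel_6_10 hF t u]
  simp only [mul_assoc]

theorem sw_10_6' (t u : F) (z : GL chevG2.Idx F) : xGL chevG2 hF.xadd 10 u * (xGL chevG2 hF.xadd 6 t * z) =
    xGL chevG2 hF.xadd 6 t * (xGL chevG2 hF.xadd 10 u * (xGL chevG2 hF.xadd 11 (t * u) * (z))) := by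
  rw [← mul_assoc, sw_10_6 hF t u]
  simp only [mul_assoc]

theorem sw_8_7 (t u : F) : xGL chevG2 hF.xadd 8 u * xGL chevG2 hF.xadd 7 t =
    xGL chevG2 hF.xadd 7 t * (xGL chevG2 hF.xadd 8 u * (xGL chevG2 hF.xadd 10 (t ^ 2 * u) * (xGL chevG2 hF.xadd 11 (t * u ^ 2)))) := by
  rw [rel_7_8 hF t u]
  simp only [mul_assoc]

theorem sw_8_7' (t u : F) (z : GL chevG2.Idx F) : xGL chevG2 hF.xadd 8 u * (xGL chevG2 hF.xadd 7 t * z) =
    xGL chevG2 hF.xadd 7 t * (xGL chevG2 hF.xadd 8 u * (xGL chevG2 hF.xadd 10 (t ^ 2 * u) * (xGL chevG2 hF.xadd 11 (t * u ^ 2) * (z)))) := by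
  rw [← mul_assoc, sw_8_7 hF t u]
  simp only [mul_assoc]

theorem sw_9_7 (t u : F) : xGL chevG2 hF.xadd 9 u * xGL chevG2 hF.xadd 7 t =
    xGL chevG2 hF.xadd 7 t * (xGL chevG2 hF.xadd 9 u * (xGL chevG2 hF.xadd 10 (t * u))) := by
  rw [rel_7_9 hF t u]
  simp only [mul_assoc]

theorem sw_9_7' (t u : F) (z : GL chevG2.Idx F) : xGL chevG2 hF.xadd 9 u * (xGL chevG2 hF.xadd 7 t * z) =
    xGL chevG2 hF.xadd 7 t * (xGL chevG2 hF.xadd 9 u * (xGL chevG2 hF.xadd 10 (t * u) * (z))) := by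
  rw [← mul_assoc, sw_9_7 hF t u]
  simp only [mul_assoc]

theorem sw_9_8 (t u : F) : xGL chevG2 hF.xadd 9 u * xGL chevG2 hF.xadd 8 t =
    xGL chevG2 hF.xadd 8 t * (xGL chevG2 hF.xadd 9 u * (xGL chevG2 hF.xadd 11 (t * u))) := by
  rw [rel_8_9 hF t u]
  simp only [mul_assoc]

theorem sw_9_8' (t u : F) (z : GL chevG2.Idx F) : xGL chevG2 hF.xadd 9 u * (xGL chevG2 hF.xadd 8 t * z) =
    xGL chevG2 hF.xadd 8 t * (xGL chevG2 hF.xadd 9 u * (xGL chevG2 hF.xadd 11 (t * u) * (z))) := by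
  rw [← mul_assoc, sw_9_8 hF t u]
  simp only [mul_assoc]

theorem sw_8_6 (t u : F) : xGL chevG2 hF.xadd 8 u * xGL chevG2 hF.xadd 6 t =
    xGL chevG2 hF.xadd 6 t * xGL chevG2 hF.xadd 8 u := ((c_6_8 hF t u).eq).symm

theorem sw_8_6' (t u : F) (z : GL chevG2.Idx F) : xGL chevG2 hF.xadd 8 u * (xGL chevG2 hF.xadd 6 t * z) =
    xGL chevG2 hF.xadd 6 t * (xGL chevG2 hF.xadd 8 u * z) := by
  rw [← mul_assoc, sw_8_6 hF t u, mul_assoc]

theorem sw_9_6 (t u : F) : xGL chevG2 hF.xadd 9 u * xGL chevG2 hF.xadd 6 t =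
    xGL chevG2 hF.xadd 6 t * xGL chevG2 hF.xadd 9 u := ((c_6_9 hF t u).eq).symm

theorem sw_9_6' (t u : F) (z : GL chevG2.Idx F) : xGL chevG2 hF.xadd 9 u * (xGL chevG2 hF.xadd 6 t * z) =
    xGL chevG2 hF.xadd 6 t * (xGL chevG2 hF.xadd 9 u * z) := by
  rw [← mul_assoc, sw_9_6 hF t u, mul_assoc]

theorem sw_11_6 (t u : F) : xGL chevG2 hF.xadd 11 u * xGL chevG2 hF.xadd 6 t =
    xGL chevG2 hF.xadd 6 t * xGL chevG2 hF.xadd 11 u := ((c_6_11 hF t u).eq).symm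

theorem sw_11_6' (t u : F) (z : GL chevG2.Idx F) : xGL chevG2 hF.xadd 11 u * (xGL chevG2 hF.xadd 6 t * z) =
    xGL chevG2 hF.xadd 6 t * (xGL chevG2 hF.xadd 11 u * z) := by
  rw [← mul_assoc, sw_11_6 hF t u, mul_assoc]

theorem sw_10_7 (t u : F) : xGL chevG2 hF.xadd 10 u * xGL chevG2 hF.xadd 7 t =
    xGL chevG2 hF.xadd 7 t * xGL chevG2 hF.xadd 10 u := ((c_7_10 hF t u).eq).symm

theorem sw_10_7' (t u : F) (z : GL chevG2.Idx F) : xGL chevG2 hF.xadd 10 u * (xGL chevG2 hF.xadd 7 t * z) =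
    xGL chevG2 hF.xadd 7 t * (xGL chevG2 hF.xadd 10 u * z) := by
  rw [← mul_assoc, sw_10_7 hF t u, mul_assoc]

theorem sw_11_7 (t u : F) : xGL chevG2 hF.xadd 11 u * xGL chevG2 hF.xadd 7 t =
    xGL chevG2 hF.xadd 7 t * xGL chevG2 hF.xadd 11 u := ((c_7_11 hF t u).eq).symm

theorem sw_11_7' (t u : F) (z : GL chevG2.Idx F) : xGL chevG2 hF.xadd 11 u * (xGL chevG2 hF.xadd 7 t * z) =
    xGL chevG2 hF.xadd 7 t * (xGL chevG2 hF.xadd 11 u * z) := by
  rw [← mul_assoc, sw_11_7 hF t u, mul_assoc]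

theorem sw_10_8 (t u : F) : xGL chevG2 hF.xadd 10 u * xGL chevG2 hF.xadd 8 t =
    xGL chevG2 hF.xadd 8 t * xGL chevG2 hF.xadd 10 u := ((c_8_10 hF t u).eq).symm

theorem sw_10_8' (t u : F) (z : GL chevG2.Idx F) : xGL chevG2 hF.xadd 10 u * (xGL chevG2 hF.xadd 8 t * z) =
    xGL chevG2 hF.xadd 8 t * (xGL chevG2 hF.xadd 10 u * z) := by
  rw [← mul_assoc, sw_10_8 hF t u, mul_assoc]

theorem sw_11_8 (t u : F) : xGL chevG2 hF.xadd 11 u * xGL chevG2 hF.xadd 8 t =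
    xGL chevG2 hF.xadd 8 t * xGL chevG2 hF.xadd 11 u := ((c_8_11 hF t u).eq).symm

theorem sw_11_8' (t u : F) (z : GL chevG2.Idx F) : xGL chevG2 hF.xadd 11 u * (xGL chevG2 hF.xadd 8 t * z) =
    xGL chevG2 hF.xadd 8 t * (xGL chevG2 hF.xadd 11 u * z) := by
  rw [← mul_assoc, sw_11_8 hF t u, mul_assoc]

theorem sw_10_9 (t u : F) : xGL chevG2 hF.xadd 10 u * xGL chevG2 hF.xadd 9 t =
    xGL chevG2 hF.xadd 9 t * xGL chevG2 hF.xadd 10 u := ((c_9_10 hF t u).eq).symm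

theorem sw_10_9' (t u : F) (z : GL chevG2.Idx F) : xGL chevG2 hF.xadd 10 u * (xGL chevG2 hF.xadd 9 t * z) =
    xGL chevG2 hF.xadd 9 t * (xGL chevG2 hF.xadd 10 u * z) := by
  rw [← mul_assoc, sw_10_9 hF t u, mul_assoc]

theorem sw_11_9 (t u : F) : xGL chevG2 hF.xadd 11 u * xGL chevG2 hF.xadd 9 t =
    xGL chevG2 hF.xadd 9 t * xGL chevG2 hF.xadd 11 u := ((c_9_11 hF t u).eq).symm

theorem sw_11_9' (t u : F) (z : GL chevG2.Idx F) : xGL chevG2 hF.xadd 11 u * (xGL chevG2 hF.xadd 9 t * z) =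
    xGL chevG2 hF.xadd 9 t * (xGL chevG2 hF.xadd 11 u * z) := by
  rw [← mul_assoc, sw_11_9 hF t u, mul_assoc]

theorem sw_11_10 (t u : F) : xGL chevG2 hF.xadd 11 u * xGL chevG2 hF.xadd 10 t =
    xGL chevG2 hF.xadd 10 t * xGL chevG2 hF.xadd 11 u := ((c_10_11 hF t u).eq).symm

theorem sw_11_10' (t u : F) (z : GL chevG2.Idx F) : xGL chevG2 hF.xadd 11 u * (xGL chevG2 hF.xadd 10 t * z) =
    xGL chevG2 hF.xadd 10 t * (xGL chevG2 hF.xadd 11 u * z) := by
  rw [← mul_assoc, sw_11_10 hF t u, mul_assoc]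

theorem mg (r : ℕ) (t u : F) : xGL chevG2 hF.xadd r u * xGL chevG2 hF.xadd r t = xGL chevG2 hF.xadd r (u + t) := xGL_mul _ _ _ _ _

theorem mg' (r : ℕ) (t u : F) (z : GL chevG2.Idx F) : xGL chevG2 hF.xadd r u * (xGL chevG2 hF.xadd r t * z) =
    xGL chevG2 hF.xadd r (u + t) * z := by
  rw [← mul_assoc, mg hF]

end char2

end Cfsg.Agent.Helper6.G2Inv
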