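import Mathlib
import Cfsg.Agent.Lib.Helper6.G2InvA

/-!
# Involutions of `G₂(q)`, `q` even: reduction of the involutions of `U`
-/

set_option autoImplicit false
set_option linter.unusedSectionVars false
set_option linter.unusedSimpArgs false
set_option linter.unusedVariables false

namespace Cfsg.Agent.Helper6.G2Inv

open Cfsg Cfsg.Lie Cfsg.Agent.Lead.Chev Cfsg.Agent.Helper6.ChevL Cfsg.Agent.Helper6.RootCent
  Cfsg.Agent.Helper6.HtF Cfsg.Agent.Helper5 Cfsg.Agent.Lead.ChevHt Cfsg.Agent.Helper6.G2S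

variable {F : Type*} [Field F]

/-- the normal form of an element of `U` -/
def NF (hF : ChevFacts chevG2 F) (p s a b e d : F) : GL chevG2.Idx F :=
  xGL chevG2 hF.xadd 6 p * (xGL chevG2 hF.xadd 7 s * (xGL chevG2 hF.xadd 8 a *
    (xGL chevG2 hF.xadd 9 b * (xGL chevG2 hF.xadd 10 e * xGL chevG2 hF.xadd 11 d))))

/-- conjugacy in the group -/
def CJ (u v : GL chevG2.Idx F) : Prop := ∃ g ∈ chevG2.group F, g * u * g⁻¹ = v

theorem CJ.refl (u : GL chevG2.Idx F) : CJ u u := ⟨1, one_mem _, by group⟩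

theorem CJ.trans {u v w : GL chevG2.Idx F} (h1 : CJ u v) (h2 : CJ v w) : CJ u w := by
  obtain ⟨g, hg, e1⟩ := h1
  obtain ⟨k, hk, e2⟩ := h2
  refine ⟨k * g, mul_mem hk hg, ?_⟩
  rw [← e2, ← e1]
  group

theorem CJ.of_eq {u v : GL chevG2.Idx F} (h : u = v) : CJ u v := h ▸ CJ.refl u

section gen

variable (hF : ChevFacts chevG2 F)
include hF

/-- the coordinate function of a normal form -/
def coord (p s a b e d : F) : ℕ → F := fun r =>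
  if r = 6 then p else if r = 7 then s else if r = 8 then a else if r = 9 then b else
    if r = 10 then e else if r = 11 then d else 0

omit hF in
theorem NF_val (hF : ChevFacts chevG2 F) (p s a b e d : F) :
    ((NF hF p s a b e d : GL chevG2.Idx F) : Matrix chevG2.Idx chevG2.Idx F) =
      prodL chevG2 chevG2.posRoots (coord p s a b e d) := by
  rw [prodL_G2]
  simp only [NF, Units.val_mul, xGL_val, mul_one, coord]
  simp

theorem NF_inj (p s a b e d p' s' a' b' e' d' : F) (h : NF hF p s a b e d = NF hF p' s' a' b' e' d') :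
    p = p' ∧ s = s' ∧ a = a' ∧ b = b' ∧ e = e' ∧ d = d' := by
  have h1 : prodL chevG2 chevG2.posRoots (coord p s a b e d) =
      prodL chevG2 chevG2.posRoots (coord p' s' a' b' e' d') := by
    rw [← NF_val hF, ← NF_val hF, h]
  have h2 := prodL_posRoots_inj chevG2 hF.ufacts hF.xadd.add hF.xadd.zero _ _ h1
  have e6 := h2 6 pos6
  have e7 := h2 7 pos7
  have e8 := h2 8 pos8
  have e9 := h2 9 pos9
  have e10 := h2 10 pos10
  have e11 := h2 11 pos11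
  simp only [coord] at e6 e7 e8 e9 e10 e11
  norm_num at e6 e7 e8 e9 e10 e11
  exact ⟨e6, e7, e8, e9, e10, e11⟩

theorem NF_zero : NF hF 0 0 0 0 0 0 = 1 := by
  simp only [NF, xGL_zero, mul_one]

theorem exists_NF (u : GL chevG2.Idx F) (hu : u ∈ chevG2.posUnipotent F) :
    ∃ p s a b e d : F, u = NF hF p s a b e d := by
  obtain ⟨t, ht⟩ := exists_prodL_of_mem chevG2 hF.xadd.add hF.xadd.zero hF.comm hF.poscomm u hu
  refine ⟨t 6, t 7, t 8, t 9, t 10, t 11, ?_⟩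
  apply Units.ext
  rw [ht, prodL_G2]
  simp only [NF, Units.val_mul, xGL_val, mul_one]

theorem NF_congr {p s a b e d p' s' a' b' e' d' : F} (h6 : p = p') (h7 : s = s') (h8 : a = a')
    (h9 : b = b') (h10 : e = e') (h11 : d = d') : NF hF p s a b e d = NF hF p' s' a' b' e' d' := by
  rw [h6, h7, h8, h9, h10, h11]

end gen

section char2

variable [CharP F 2] (hF : ChevFacts chevG2 F)
include hF

omit hF in
theorem c2 (x : F) : x + x = 0 := CharTwo.add_self_eq_zero x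

omit hF in
theorem c2' (x y : F) : x + y + x = y := by
  rw [add_comm x y, add_assoc, c2, add_zero]

/-- conjugation by a root element -/
theorem CJ_x (r : ℕ) (c : F) (u : GL chevG2.Idx F) :
    CJ u (xGL chevG2 hF.xadd r c * u * xGL chevG2 hF.xadd r c) :=
  ⟨xGL chevG2 hF.xadd r c, xGL_mem_group _ _ _ _, by rw [xGL_inv' hF]⟩

theorem conj6 (c p s a b e d : F) :
    xGL chevG2 hF.xadd 6 c * NF hF p s a b e d * xGL chevG2 hF.xadd 6 c =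
      NF hF p s (c * s + a) (c * s ^ 2 + b) (c * s ^ 3 + e) (a * (c * s ^ 2) + (c * e + d)) := by
  simp only [NF, mul_assoc, sw_7_6 hF, sw_7_6' hF, sw_10_6 hF, sw_10_6' hF, sw_8_7 hF, sw_8_7' hF, sw_9_7 hF, sw_9_7' hF, sw_9_8 hF, sw_9_8' hF, sw_8_6 hF, sw_8_6' hF, sw_9_6 hF, sw_9_6' hF, sw_11_6 hF, sw_11_6' hF, sw_10_7 hF, sw_10_7' hF, sw_11_7 hF, sw_11_7' hF, sw_10_8 hF, sw_10_8' hF, sw_11_8 hF, sw_11_8' hF, sw_10_9 hF, sw_10_9' hF, sw_11_9 hF, sw_11_9' hF, sw_11_10 hF, sw_11_10' hF, mg hF, mg' hF]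
  rw [c2']

theorem conj7 (c p s a b e d : F) :
    xGL chevG2 hF.xadd 7 c * NF hF p s a b e d * xGL chevG2 hF.xadd 7 c =
      NF hF p s (p * c + a) (p * c ^ 2 + b)
        (c ^ 2 * (p * c + a) + (c * (p * c ^ 2 + b) + (s ^ 2 * (p * c) + (s * (p * c ^ 2) + (p * c ^ 3 + e)))))
        (c * (p * c + a) ^ 2 + (s * (p * c) ^ 2 + (a * (p * c ^ 2) + d))) := by
  simp only [NF, mul_assoc, sw_7_6 hF, sw_7_6' hF, sw_10_6 hF, sw_10_6' hF, sw_8_7 hF, sw_8_7' hF, sw_9_7 hF, sw_9_7' hF, sw_9_8 hF, sw_9_8' hF, sw_8_6 hF, sw_8_6' hF, sw_9_6 hF, sw_9_6' hF, sw_11_6 hF, sw_11_6' hF, sw_10_7 hF, sw_10_7' hF, sw_11_7 hF, sw_11_7' hF, sw_10_8 hF, sw_10_8' hF, sw_11_8 hF, sw_11_8' hF, sw_10_9 hF, sw_10_9' hF, sw_11_9 hF, sw_11_9' hF, sw_11_10 hF, sw_11_10' hF, mg hF, mg' hF]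
  rw [c2']

theorem conj8 (c p s a b e d : F) :
    xGL chevG2 hF.xadd 8 c * NF hF p s a b e d * xGL chevG2 hF.xadd 8 c =
      NF hF p s a b (s ^ 2 * c + e) (c * b + (s * c ^ 2 + d)) := by
  simp only [NF, mul_assoc, sw_7_6 hF, sw_7_6' hF, sw_10_6 hF, sw_10_6' hF, sw_8_7 hF, sw_8_7' hF, sw_9_7 hF, sw_9_7' hF, sw_9_8 hF, sw_9_8' hF, sw_8_6 hF, sw_8_6' hF, sw_9_6 hF, sw_9_6' hF, sw_11_6 hF, sw_11_6' hF, sw_10_7 hF, sw_10_7' hF, sw_11_7 hF, sw_11_7' hF, sw_10_8 hF, sw_10_8' hF, sw_11_8 hF, sw_11_8' hF, sw_10_9 hF, sw_10_9' hF, sw_11_9 hF, sw_11_9' hF, sw_11_10 hF, sw_11_10' hF, mg hF, mg' hF]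
  rw [c2']

theorem conj9 (c p s a b e d : F) :
    xGL chevG2 hF.xadd 9 c * NF hF p s a b e d * xGL chevG2 hF.xadd 9 c =
      NF hF p s a b (s * c + e) (a * c + d) := by
  simp only [NF, mul_assoc, sw_7_6 hF, sw_7_6' hF, sw_10_6 hF, sw_10_6' hF, sw_8_7 hF, sw_8_7' hF, sw_9_7 hF, sw_9_7' hF, sw_9_8 hF, sw_9_8' hF, sw_8_6 hF, sw_8_6' hF, sw_9_6 hF, sw_9_6' hF, sw_11_6 hF, sw_11_6' hF, sw_10_7 hF, sw_10_7' hF, sw_11_7 hF, sw_11_7' hF, sw_10_8 hF, sw_10_8' hF, sw_11_8 hF, sw_11_8' hF, sw_10_9 hF, sw_10_9' hF, sw_11_9 hF, sw_11_9' hF, sw_11_10 hF, sw_11_10' hF, mg hF, mg' hF]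
  rw [c2']

theorem conj10 (c p s a b e d : F) :
    xGL chevG2 hF.xadd 10 c * NF hF p s a b e d * xGL chevG2 hF.xadd 10 c =
      NF hF p s a b e (p * c + d) := by
  simp only [NF, mul_assoc, sw_7_6 hF, sw_7_6' hF, sw_10_6 hF, sw_10_6' hF, sw_8_7 hF, sw_8_7' hF, sw_9_7 hF, sw_9_7' hF, sw_9_8 hF, sw_9_8' hF, sw_8_6 hF, sw_8_6' hF, sw_9_6 hF, sw_9_6' hF, sw_11_6 hF, sw_11_6' hF, sw_10_7 hF, sw_10_7' hF, sw_11_7 hF, sw_11_7' hF, sw_10_8 hF, sw_10_8' hF, sw_11_8 hF, sw_11_8' hF, sw_10_9 hF, sw_10_9' hF, sw_11_9 hF, sw_11_9' hF, sw_11_10 hF, sw_11_10' hF, mg hF, mg' hF]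
  rw [c2']

theorem conj11 (c p s a b e d : F) :
    xGL chevG2 hF.xadd 11 c * NF hF p s a b e d * xGL chevG2 hF.xadd 11 c =
      NF hF p s a b e d := by
  simp only [NF, mul_assoc, sw_7_6 hF, sw_7_6' hF, sw_10_6 hF, sw_10_6' hF, sw_8_7 hF, sw_8_7' hF, sw_9_7 hF, sw_9_7' hF, sw_9_8 hF, sw_9_8' hF, sw_8_6 hF, sw_8_6' hF, sw_9_6 hF, sw_9_6' hF, sw_11_6 hF, sw_11_6' hF, sw_10_7 hF, sw_10_7' hF, sw_11_7 hF, sw_11_7' hF, sw_10_8 hF, sw_10_8' hF, sw_11_8 hF, sw_11_8' hF, sw_10_9 hF, sw_10_9' hF, sw_11_9 hF, sw_11_9' hF, sw_11_10 hF, sw_11_10' hF, mg hF, mg' hF]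
  rw [c2']

theorem sq_NF (p s a b e d : F) : NF hF p s a b e d * NF hF p s a b e d =
    NF hF (p + p) (s + s) (p * s + (a + a)) (p * s ^ 2 + (b + b))
      (s ^ 2 * (p * s) + (s * (p * s ^ 2) + (p * s ^ 3 + (s ^ 2 * a + (s * b + (e + e))))))
      (s * (p * s) ^ 2 + ((a + a) * (p * s ^ 2) + (s * a ^ 2 + (a * b + (p * e + (d + d)))))) := by
  simp only [NF, mul_assoc, sw_7_6 hF, sw_7_6' hF, sw_10_6 hF, sw_10_6' hF, sw_8_7 hF, sw_8_7' hF, sw_9_7 hF, sw_9_7' hF, sw_9_8 hF, sw_9_8' hF, sw_8_6 hF, sw_8_6' hF, sw_9_6 hF, sw_9_6' hF, sw_11_6 hF, sw_11_6' hF, sw_10_7 hF, sw_10_7' hF, sw_11_7 hF, sw_11_7' hF, sw_10_8 hF, sw_10_8' hF, sw_11_8 hF, sw_11_8' hF, sw_10_9 hF, sw_10_9' hF, sw_11_9 hF, sw_11_9' hF, sw_11_10 hF, sw_11_10' hF, mg hF, mg' hF]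

end char2

end Cfsg.Agent.Helper6.G2Inv
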