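import Mathlib
import Cfsg.Agent.Lib.Helper12.LSLDefs

/-!
# S2332, PIECE STAB (helper6 for helper12): core, with the generation lemma GEN as a hypothesis
-/

set_option autoImplicit false

namespace Cfsg.Agent.Helper12.LSL

open Matrix Cfsg.Agent.Helper12 Matrix.SpecialLinearGroup

variable {F : Type*} [Field F] {ι : Type*} [Fintype ι] [DecidableEq ι]

/-- conjugation of `x φ` by an element scaling `e_{i₀}` -/
theorem stab_conj_xPhi (i₀ : ι) (g : Matrix.SpecialLinearGroup ι F) (a : F) (ha : a ≠ 0)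
    (hg : g • (Pi.single i₀ 1 : ι → F) = a • (Pi.single i₀ 1 : ι → F)) (φ : Phi F i₀) :
    ∃ φ' : Phi F i₀, xPhi i₀ φ * g = g * xPhi i₀ φ' ∧
      ∀ b : ι → F, φ'.1 ⬝ᵥ b = a⁻¹ * (φ.1 ⬝ᵥ (g • b)) := by
  have hdot : ∀ b : ι → F, (a⁻¹ • Matrix.vecMul φ.1 g.1) ⬝ᵥ b = a⁻¹ * (φ.1 ⬝ᵥ (g • b)) := by
    intro b
    rw [smul_dotProduct, smul_eq_mul, Matrix.SpecialLinearGroup.smul_def, Matrix.smul_eq_mulVec,
      Matrix.dotProduct_mulVec]
  have hmem : a⁻¹ • Matrix.vecMul φ.1 g.1 ∈ Phi F i₀ := by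
    rw [mem_Phi_iff]
    have := hdot (Pi.single i₀ 1)
    rw [hg, dotProduct_smul, Phi_dotProduct_single, smul_zero, mul_zero, dotProduct_single,
      mul_one] at this
    exact this
  refine ⟨⟨_, hmem⟩, ?_, hdot⟩
  apply SL_ext_smul
  intro v
  rw [mul_smul, mul_smul, xPhi_smul, xPhi_smul, smul_add, smul_comm, hg, hdot, smul_smul]
  congr 2
  field_simp

section wt

variable {V : Type*} [AddCommGroup V] [Module ℂ V]

theorem stab_map_wtSpace {R : Matrix.SpecialLinearGroup ι F →* Module.End ℂ V} {ψ : AddChar F ℂ}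
    {i₀ : ι} {b : ι → F} (g : Matrix.SpecialLinearGroup ι F) (a : F) (ha : a ≠ 0)
    (hg : g • (Pi.single i₀ 1 : ι → F) = a • (Pi.single i₀ 1 : ι → F)) {v : V}
    (hv : v ∈ wtSpace R ψ i₀ b) : R g v ∈ wtSpace R ψ i₀ (a⁻¹ • g • b) := by
  rw [mem_wtSpace_iff] at hv ⊢
  intro φ
  obtain ⟨φ', h3, h2⟩ := stab_conj_xPhi i₀ g a ha hg φ
  calc R (xPhi i₀ φ) (R g v) = (R (xPhi i₀ φ * g)) v := by rw [map_mul]; rfl
    _ = R (g * xPhi i₀ φ') v := by rw [h3]
    _ = R g (R (xPhi i₀ φ') v) := by rw [map_mul]; rfl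
    _ = R g (ψ (φ'.1 ⬝ᵥ b) • v) := by rw [hv φ']
    _ = ψ (φ.1 ⬝ᵥ (a⁻¹ • g • b)) • R g v := by rw [map_smul, h2, dotProduct_smul, smul_eq_mul]

/-- elements scaling `e_{i₀}` and `e_{i₁}` by the same nonzero scalar -/
def StabN (F : Type*) [Field F] {ι : Type*} [Fintype ι] [DecidableEq ι] (i₀ i₁ : ι)
    (g : Matrix.SpecialLinearGroup ι F) : Prop :=
  ∃ a : F, a ≠ 0 ∧ g • (Pi.single i₀ 1 : ι → F) = a • (Pi.single i₀ 1 : ι → F) ∧
    g • (Pi.single i₁ 1 : ι → F) = a • (Pi.single i₁ 1 : ι → F)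

theorem stabN_map {R : Matrix.SpecialLinearGroup ι F →* Module.End ℂ V} {ψ : AddChar F ℂ}
    {i₀ i₁ : ι} (g : Matrix.SpecialLinearGroup ι F) (hg : StabN F i₀ i₁ g) {v : V}
    (hv : v ∈ wtSpace R ψ i₀ (Pi.single i₁ 1)) : R g v ∈ wtSpace R ψ i₀ (Pi.single i₁ 1) := by
  obtain ⟨a, ha, h0, h1⟩ := hg
  have := stab_map_wtSpace g a ha h0 hv
  rwa [h1, smul_smul, inv_mul_cancel₀ ha, one_smul] at this

theorem stab_R_inv_apply (R : Matrix.SpecialLinearGroup ι F →* Module.End ℂ V)
    (x : Matrix.SpecialLinearGroup ι F) (w : V) : R x⁻¹ (R x w) = w := by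
  rw [← Module.End.mul_apply, ← map_mul, inv_mul_cancel, map_one]
  rfl

theorem stabN_scalar {R : Matrix.SpecialLinearGroup ι F →* Module.End ℂ V} {ψ : AddChar F ℂ}
    {i₀ i₁ : ι} (hdim : Module.finrank ℂ (wtSpace R ψ i₀ (Pi.single i₁ 1)) = 1)
    (g : Matrix.SpecialLinearGroup ι F) (hg : StabN F i₀ i₁ g) :
    ∃ m : ℂ, m ≠ 0 ∧ ∀ w ∈ wtSpace R ψ i₀ (Pi.single i₁ 1), R g w = m • w := by
  obtain ⟨w₀, hw₀, hspan⟩ := finrank_eq_one_iff'.mp hdim
  have h1 := stabN_map (R := R) (ψ := ψ) g hg w₀.2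
  obtain ⟨m, hm⟩ := hspan ⟨R g w₀, h1⟩
  have hm' : R g w₀ = m • w₀.1 := (congrArg Subtype.val hm).symm
  refine ⟨m, ?_, ?_⟩
  · rintro rfl
    rw [zero_smul] at hm'
    have h3 := stab_R_inv_apply R g w₀.1
    rw [hm', map_zero] at h3
    exact hw₀ (Subtype.ext h3.symm)
  · intro w hw
    obtain ⟨c, hc⟩ := hspan ⟨w, hw⟩
    have hc' : w = c • w₀.1 := (congrArg Subtype.val hc).symm
    rw [hc', map_smul, hm', smul_comm]

theorem stabN_comm_trivial {R : Matrix.SpecialLinearGroup ι F →* Module.End ℂ V}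
    {ψ : AddChar F ℂ} {i₀ i₁ : ι}
    (hdim : Module.finrank ℂ (wtSpace R ψ i₀ (Pi.single i₁ 1)) = 1)
    (g h : Matrix.SpecialLinearGroup ι F) (hg : StabN F i₀ i₁ g) (hh : StabN F i₀ i₁ h) :
    ∀ w ∈ wtSpace R ψ i₀ (Pi.single i₁ 1), R (g * h * g⁻¹ * h⁻¹) w = w := by
  obtain ⟨m, hm0, hm⟩ := stabN_scalar hdim g hg
  obtain ⟨m', hm0', hm'⟩ := stabN_scalar hdim h hh
  have hinv : ∀ (x : Matrix.SpecialLinearGroup ι F) (c : ℂ), c ≠ 0 →
      (∀ w ∈ wtSpace R ψ i₀ (Pi.single i₁ 1), R x w = c • w) →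
      ∀ w ∈ wtSpace R ψ i₀ (Pi.single i₁ 1), R x⁻¹ w = c⁻¹ • w := by
    intro x c hc hx w hw
    have h1 := stab_R_inv_apply R x w
    rw [hx w hw, map_smul] at h1
    calc R x⁻¹ w = c⁻¹ • (c • R x⁻¹ w) := by rw [smul_smul, inv_mul_cancel₀ hc, one_smul]
      _ = c⁻¹ • w := by rw [h1]
  intro w hw
  have e1 : R h⁻¹ w = m'⁻¹ • w := hinv h m' hm0' hm' w hw
  have e2 : R g⁻¹ w = m⁻¹ • w := hinv g m hm0 hm w hw
  have e3 : R g (R h (R g⁻¹ (R h⁻¹ w))) = (m'⁻¹ * m⁻¹ * m' * m) • w := by
    rw [e1, map_smul, e2, smul_smul, map_smul, hm' w hw, smul_smul, map_smul, hm w hw, smul_smul]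
  have e4 : m'⁻¹ * m⁻¹ * m' * m = 1 := by field_simp
  rw [map_mul, map_mul, map_mul, Module.End.mul_apply, Module.End.mul_apply, Module.End.mul_apply,
    e3, e4, one_smul]

end wt

/-! ### diagonal elements -/

/-- the diagonal entries of `diag2n hkl a` -/
def stabD (k l : ι) (a : F) (m : ι) : F := if m = k then a else if m = l then a⁻¹ else 1

omit [Fintype ι] in
theorem stabD_ne_zero (k l : ι) {a : F} (ha : a ≠ 0) (m : ι) : stabD k l a m ≠ 0 := by
  unfold stabD
  split_ifs
  · exact ha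
  · exact inv_ne_zero ha
  · exact one_ne_zero

theorem stab_diag_tv {k l : ι} (hkl : k ≠ l) (a : F) (ha : a ≠ 0) {i j : ι} (hij : i ≠ j) (c : F) :
    diag2n hkl a ha * transvection hij c =
      transvection hij (stabD k l a i * c * (stabD k l a j)⁻¹) * diag2n hkl a ha := by
  apply Subtype.ext
  rw [coe_mul, coe_mul, diag2n_coe, transvection_coe, transvection_coe]
  ext x y
  rw [Matrix.diagonal_mul, Matrix.mul_diagonal, Matrix.add_apply, Matrix.add_apply]
  show stabD k l a x * _ = _ * stabD k l a y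
  by_cases hxy : x = y
  · subst hxy
    have h1 : ¬ (i = x ∧ j = x) := fun h => hij (h.1.trans h.2.symm)
    rw [Matrix.one_apply_eq, Matrix.single_apply, Matrix.single_apply, if_neg h1, if_neg h1]
    ring
  · rw [Matrix.one_apply_ne hxy, Matrix.single_apply, Matrix.single_apply]
    by_cases h2 : i = x ∧ j = y
    · rw [if_pos h2, if_pos h2, ← h2.1, ← h2.2]
      have := stabD_ne_zero k l ha j
      field_simp
      ring
    · rw [if_neg h2, if_neg h2]
      ring

theorem stab_diag_smul {k l : ι} (hkl : k ≠ l) (a : F) (ha : a ≠ 0) (m : ι) :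
    diag2n hkl a ha • (Pi.single m 1 : ι → F) = stabD k l a m • (Pi.single m 1 : ι → F) := by
  rw [Matrix.SpecialLinearGroup.smul_def, Matrix.smul_eq_mulVec, diag2n_coe,
    Matrix.diagonal_mulVec_single, mul_one]
  funext x
  show _ = stabD k l a m * _
  by_cases hx : x = m
  · subst hx
    rw [Pi.single_eq_same, Pi.single_eq_same, mul_one]
    rfl
  · rw [Pi.single_eq_of_ne hx, Pi.single_eq_of_ne hx, mul_zero]

theorem stab_comm_of_mul_eq {G : Type*} [Group G] {D E E' : G} (h : D * E = E' * D) :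
    D * E * D⁻¹ * E⁻¹ = E' * E⁻¹ := by
  rw [h]
  group

theorem stabN_transvection (i₀ i₁ : ι) {i j : ι} (hij : i ≠ j) (hj0 : j ≠ i₀) (hj1 : j ≠ i₁)
    (c : F) : StabN F i₀ i₁ (transvection hij c) := by
  refine ⟨1, one_ne_zero, ?_, ?_⟩
  · rw [transvection_smul, Pi.single_eq_of_ne hj0, mul_zero, zero_smul, add_zero, one_smul]
  · rw [transvection_smul, Pi.single_eq_of_ne hj1, mul_zero, zero_smul, add_zero, one_smul]

theorem stab_exists_pow_ne_one [Fintype F] (k : ℕ) (hk : ¬ (Fintype.card F - 1) ∣ k) :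
    ∃ a : F, a ≠ 0 ∧ a ^ k ≠ 1 := by
  by_contra hcon
  push Not at hcon
  apply hk
  rw [← FiniteField.forall_pow_eq_one_iff]
  intro x
  apply Units.ext
  rw [Units.val_pow_eq_pow_val, Units.val_one]
  exact hcon x x.ne_zero

/-- every elementary transvection in the stabiliser with row index different from `i₀` is a
commutator of two elements preserving the weight space -/
theorem stab_tv_comm [Fintype F] (hι : 3 ≤ Fintype.card ι)
    (hex : (Fintype.card ι, Fintype.card F) ≠ (3, 2) ∧ (Fintype.card ι, Fintype.card F) ≠ (3, 4) ∧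
      (Fintype.card ι, Fintype.card F) ≠ (4, 2) ∧ (Fintype.card ι, Fintype.card F) ≠ (4, 3))
    (i₀ i₁ : ι) (h01 : i₀ ≠ i₁) {i j : ι} (hij : i ≠ j) (hi0 : i ≠ i₀) (hj0 : j ≠ i₀)
    (hj1 : j ≠ i₁) (c : F) :
    ∃ g h : Matrix.SpecialLinearGroup ι F, StabN F i₀ i₁ g ∧ StabN F i₀ i₁ h ∧
      transvection hij c = g * h * g⁻¹ * h⁻¹ := by
  have hq : 2 ≤ Fintype.card F := Fintype.one_lt_card
  by_cases hk : ∃ k, k ≠ i₀ ∧ k ≠ i₁ ∧ k ≠ i ∧ k ≠ j
  · obtain ⟨k, hk0, hk1, hki, hkj⟩ := hk
    refine ⟨transvection (Ne.symm hki) c, transvection hkj 1,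
      stabN_transvection i₀ i₁ _ hk0 hk1 c, stabN_transvection i₀ i₁ _ hj0 hj1 1, ?_⟩
    rw [transvection_inv, transvection_inv, tv_comm_rel (Ne.symm hki) hkj hij c 1, mul_one]
  · push Not at hk
    by_cases hi1 : i = i₁
    · subst hi1
      -- `ι = {i₀, i, j}`
      have hcard : Fintype.card ι = 3 := by
        have hsub : (Finset.univ : Finset ι) ⊆ {i₀, i, j} := by
          intro k _
          by_cases h1 : k = i₀
          · simp [h1]
          by_cases h2 : k = i
          · simp [h2]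
          have := hk k h1 h2 h2
          simp [this]
        have h1 := Finset.card_le_card hsub
        have h2 : ({i₀, i, j} : Finset ι).card ≤ 3 := Finset.card_le_three
        rw [Finset.card_univ] at h1
        omega
      have hq24 : ¬ (Fintype.card F - 1) ∣ 3 := by
        intro hdvd
        rcases (Nat.dvd_prime Nat.prime_three).mp hdvd with h | h
        · exact hex.1 (by rw [hcard]; congr 1; omega)
        · exact hex.2.1 (by rw [hcard]; congr 1; omega)
      obtain ⟨a, ha, ha3⟩ := stab_exists_pow_ne_one (F := F) 3 hq24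
      have ha3' : a ^ 3 - 1 ≠ 0 := sub_ne_zero.mpr ha3
      set c' : F := c / (a ^ 3 - 1) with hc'
      set D₁ := diag2n (F := F) (Ne.symm hj0) a ha with hD₁
      set D₂ := diag2n (F := F) hij a ha with hD₂
      refine ⟨D₁ * D₂, transvection hij c', ⟨a, ha, ?_, ?_⟩,
        stabN_transvection i₀ i hij hj0 hj1 c', ?_⟩
      · rw [mul_smul, hD₂, stab_diag_smul, hD₁]
        have h1 : stabD i j a i₀ = 1 := by
          unfold stabD
          rw [if_neg h01, if_neg (Ne.symm hj0)]
        rw [h1, one_smul, stab_diag_smul]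
        have h2 : stabD i₀ j a i₀ = a := by
          unfold stabD
          rw [if_pos rfl]
        rw [h2]
      · rw [mul_smul, hD₂, stab_diag_smul, hD₁]
        have h1 : stabD i j a i = a := by
          unfold stabD
          rw [if_pos rfl]
        rw [h1, smul_comm, stab_diag_smul]
        have h2 : stabD i₀ j a i = 1 := by
          unfold stabD
          rw [if_neg hi0, if_neg hij]
        rw [h2, one_smul]
      · have h1 : D₂ * transvection hij c' = transvection hij (a * c' * a) * D₂ := by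
          rw [hD₂, stab_diag_tv hij a ha hij c']
          have e1 : stabD i j a i = a := by
            unfold stabD
            rw [if_pos rfl]
          have e2 : stabD i j a j = a⁻¹ := by
            unfold stabD
            rw [if_neg (Ne.symm hij), if_pos rfl]
          rw [e1, e2, inv_inv]
        have h2 : D₁ * transvection hij (a * c' * a) =
            transvection hij (a * c' * a * a) * D₁ := by
          rw [hD₁, stab_diag_tv (Ne.symm hj0) a ha hij (a * c' * a)]
          have e1 : stabD i₀ j a i = 1 := by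
            unfold stabD
            rw [if_neg hi0, if_neg hij]
          have e2 : stabD i₀ j a j = a⁻¹ := by
            unfold stabD
            rw [if_neg hj0, if_pos rfl]
          rw [e1, e2, inv_inv, one_mul]
        have h3 : (D₁ * D₂) * transvection hij c' =
            transvection hij (a * c' * a * a) * (D₁ * D₂) := by
          rw [mul_assoc, h1, ← mul_assoc, h2, mul_assoc]
        rw [stab_comm_of_mul_eq h3, transvection_inv, ← transvection_add]
        congr 1
        rw [hc']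
        field_simp
        ring
    · -- `ι = {i₀, i₁, i, j}`, all distinct
      have hcard : Fintype.card ι = 4 := by
        have hsub : (Finset.univ : Finset ι) ⊆ {i₀, i₁, i, j} := by
          intro k _
          by_cases h1 : k = i₀
          · simp [h1]
          by_cases h2 : k = i₁
          · simp [h2]
          by_cases h3 : k = i
          · simp [h3]
          have := hk k h1 h2 h3
          simp [this]
        have h1 := Finset.card_le_card hsub
        have h2 : ({i₀, i₁, i, j} : Finset ι).card ≤ 4 := Finset.card_le_four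
        have h3 : ({i₀, i₁, i, j} : Finset ι).card = 4 := by
          rw [Finset.card_insert_of_notMem, Finset.card_insert_of_notMem, Finset.card_pair hij]
          · simp only [Finset.mem_insert, Finset.mem_singleton, not_or]
            exact ⟨Ne.symm hi1, Ne.symm hj1⟩
          · simp only [Finset.mem_insert, Finset.mem_singleton, not_or]
            exact ⟨h01, Ne.symm hi0, Ne.symm hj0⟩
        have h4 := Finset.card_le_univ ({i₀, i₁, i, j} : Finset ι)
        rw [Finset.card_univ] at h1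
        omega
      have hq23 : ¬ (Fintype.card F - 1) ∣ 2 := by
        intro hdvd
        rcases (Nat.dvd_prime Nat.prime_two).mp hdvd with h | h
        · exact hex.2.2.1 (by rw [hcard]; congr 1; omega)
        · exact hex.2.2.2 (by rw [hcard]; congr 1; omega)
      obtain ⟨a, ha, ha2⟩ := stab_exists_pow_ne_one (F := F) 2 hq23
      have ha2' : a ^ 2 - 1 ≠ 0 := sub_ne_zero.mpr ha2
      set c' : F := c / (a ^ 2 - 1) with hc'
      set D := diag2n (F := F) hij a ha with hD
      refine ⟨D, transvection hij c', ⟨1, one_ne_zero, ?_, ?_⟩,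
        stabN_transvection i₀ i₁ hij hj0 hj1 c', ?_⟩
      · rw [hD, stab_diag_smul]
        have h1 : stabD i j a i₀ = 1 := by
          unfold stabD
          rw [if_neg (Ne.symm hi0), if_neg (Ne.symm hj0)]
        rw [h1]
      · rw [hD, stab_diag_smul]
        have h1 : stabD i j a i₁ = 1 := by
          unfold stabD
          rw [if_neg (Ne.symm hi1), if_neg (Ne.symm hj1)]
        rw [h1]
      · have h1 : D * transvection hij c' = transvection hij (a * c' * a) * D := by
          rw [hD, stab_diag_tv hij a ha hij c']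
          have e1 : stabD i j a i = a := by
            unfold stabD
            rw [if_pos rfl]
          have e2 : stabD i j a j = a⁻¹ := by
            unfold stabD
            rw [if_neg (Ne.symm hij), if_pos rfl]
          rw [e1, e2, inv_inv]
        rw [stab_comm_of_mul_eq h1, transvection_inv, ← transvection_add]
        congr 1
        rw [hc']
        field_simp
        ring

/-- PIECE STAB, with the generation lemma GEN as a hypothesis. -/
theorem stab_trivial_on_wt_of_gen [Fintype F] {V : Type*} [AddCommGroup V] [Module ℂ V]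
    (hgen : ∀ (S : Set ι) (g : Matrix.SpecialLinearGroup ι F),
      (∀ j ∈ S, g • (Pi.single j 1 : ι → F) = Pi.single j 1) →
      g ∈ Subgroup.closure {x : Matrix.SpecialLinearGroup ι F | ∃ (i j : ι) (hij : i ≠ j) (c : F),
        j ∉ S ∧ x = Matrix.SpecialLinearGroup.transvection hij c})
    (hι : 3 ≤ Fintype.card ι)
    (hex : (Fintype.card ι, Fintype.card F) ≠ (3, 2) ∧ (Fintype.card ι, Fintype.card F) ≠ (3, 4) ∧
      (Fintype.card ι, Fintype.card F) ≠ (4, 2) ∧ (Fintype.card ι, Fintype.card F) ≠ (4, 3))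
    (R : Matrix.SpecialLinearGroup ι F →* Module.End ℂ V) (ψ : AddChar F ℂ) (i₀ i₁ : ι)
    (h01 : i₀ ≠ i₁)
    (hdim : Module.finrank ℂ (wtSpace R ψ i₀ (Pi.single i₁ 1)) = 1)
    (g : Matrix.SpecialLinearGroup ι F)
    (hg0 : g • (Pi.single i₀ 1 : ι → F) = Pi.single i₀ 1)
    (hg1 : g • (Pi.single i₁ 1 : ι → F) = Pi.single i₁ 1)
    (w : V) (hw : w ∈ wtSpace R ψ i₀ (Pi.single i₁ 1)) : R g w = w := by
  -- the subgroup acting trivially on the weight space
  let T : Subgroup (Matrix.SpecialLinearGroup ι F) :=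
    { carrier := {x | ∀ w ∈ wtSpace R ψ i₀ (Pi.single i₁ 1), R x w = w}
      mul_mem' := by
        intro x y hx hy w hw
        rw [map_mul, Module.End.mul_apply, hy w hw, hx w hw]
      one_mem' := by
        intro w _
        rw [map_one]
        rfl
      inv_mem' := by
        intro x hx w hw
        have := stab_R_inv_apply R x w
        rwa [hx w hw] at this }
  have hmem := hgen ({i₀, i₁} : Set ι) g (by
    intro j hj
    rcases hj with rfl | hj
    · exact hg0
    · rw [Set.mem_singleton_iff] at hj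
      subst hj
      exact hg1)
  have hle : Subgroup.closure {x : Matrix.SpecialLinearGroup ι F | ∃ (i j : ι) (hij : i ≠ j)
      (c : F), j ∉ ({i₀, i₁} : Set ι) ∧ x = Matrix.SpecialLinearGroup.transvection hij c} ≤ T := by
    rw [Subgroup.closure_le]
    rintro x ⟨i, j, hij, c, hjS, rfl⟩
    have hj0 : j ≠ i₀ := fun h => hjS (by rw [h]; exact Set.mem_insert _ _)
    have hj1 : j ≠ i₁ := fun h => hjS (by rw [h]; exact Set.mem_insert_of_mem _ rfl)
    intro w hw
    by_cases hi0 : i = i₀
    · subst hi0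
      obtain ⟨φ, hφ1, hφ2⟩ := transvection_eq_xPhi (F := F) hij c
      rw [hφ1, mem_wtSpace_iff.mp hw φ, hφ2, smul_dotProduct, single_dotProduct,
        Pi.single_eq_of_ne hj1, mul_zero, smul_zero, AddChar.map_zero_eq_one, one_smul]
    · obtain ⟨g', h', hg', hh', heq⟩ := stab_tv_comm hι hex i₀ i₁ h01 hij hi0 hj0 hj1 c
      rw [heq]
      exact stabN_comm_trivial hdim g' h' hg' hh' w hw
  exact hle hmem w hw

end Cfsg.Agent.Helper12.LSL
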