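import Mathlib
import Cfsg.Agent.Lib.Helper12.LSLDefs
import Cfsg.Agent.Lib.Helper19.LSLGEN
import Cfsg.Agent.Lib.Helper6.LSLSTABCore

/-!
# S2332, PIECE STAB (helper6 for helper12): exact skeleton signature
-/

set_option autoImplicit false

namespace Cfsg.Agent.Helper12.LSL

open Matrix Cfsg.Agent.Helper12

variable {F : Type*} [Field F] {ι : Type*} [Fintype ι] [DecidableEq ι]

/-- PIECE STAB: the elements fixing `e_{i₀}` and `e_{i₁}` act trivially on the one dimensional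
weight space of `e_{i₁}`, outside the four exceptions. -/
theorem stab_trivial_on_wt [Fintype F] {V : Type*} [AddCommGroup V] [Module ℂ V]
    (hι : 3 ≤ Fintype.card ι)
    (hex : (Fintype.card ι, Fintype.card F) ≠ (3, 2) ∧ (Fintype.card ι, Fintype.card F) ≠ (3, 4) ∧
      (Fintype.card ι, Fintype.card F) ≠ (4, 2) ∧ (Fintype.card ι, Fintype.card F) ≠ (4, 3))
    (R : Matrix.SpecialLinearGroup ι F →* Module.End ℂ V) (ψ : AddChar F ℂ) (i₀ i₁ : ι)
    (h01 : i₀ ≠ i₁)
    (hdim : Module.finrank ℂ (wtSpace R ψ i₀ (Pi.single i₁ 1)) = 1)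
    (g : Matrix.SpecialLinearGroup ι F)
    (hg0 : g • (Pi.single i₀ 1 : ι → F) = Pi.single i₀ 1)
    (hg1 : g • (Pi.single i₁ 1 : ι → F) = Pi.single i₁ 1)
    (w : V) (hw : w ∈ wtSpace R ψ i₀ (Pi.single i₁ 1)) : R g w = w :=
  stab_trivial_on_wt_of_gen (fun S g hg => mem_closure_of_fix S g hg) hι hex R ψ i₀ i₁ h01 hdim g
    hg0 hg1 w hw

end Cfsg.Agent.Helper12.LSL
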