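import Mathlib

/-!
Rank one: in a group with two "root subgroups" `x`, `y` parametrised by a finite field and the
conjugation formulas for `n(t) = x(t) y(-t⁻¹) x(t)`, if the elements
`h(t) h(u) h(tu)⁻¹` are central then `h` is multiplicative (Steinberg, Theorem 9).
-/

set_option autoImplicit false

namespace Cfsg.Agent.Helper6.R1S

section fin

variable {K : Type*} [Field K] [Fintype K] [DecidableEq K]

/-- in a finite field of odd characteristic there are non-squares `a`, `1 - a` -/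
theorem exists_nonsquare_pair (h2 : ringChar K ≠ 2) : ∃ a : K, ¬ IsSquare a ∧ ¬ IsSquare (1 - a) := by
  by_contra hcon
  push Not at hcon
  have hz : ∀ a : K, (1 - quadraticChar K a) * (1 - quadraticChar K (1 - a)) = 0 := by
    intro a
    by_cases ha : IsSquare a
    · by_cases ha0 : a = 0
      · subst ha0
        simp
      · rw [(quadraticChar_one_iff_isSquare ha0).2 ha]
        simp
    · have h1 := hcon a ha
      have h10 : 1 - a ≠ 0 := by
        intro h
        apply ha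
        have e : a = 1 := by linear_combination -h
        rw [e]
        exact IsSquare.one
      rw [(quadraticChar_one_iff_isSquare h10).2 h1]
      simp
  have hsum : ∑ a : K, (1 - quadraticChar K a) * (1 - quadraticChar K (1 - a)) = 0 :=
    Finset.sum_eq_zero (fun a _ => hz a)
  have hJ : jacobiSum (quadraticChar K) (quadraticChar K) = - quadraticChar K (-1) := by
    have := jacobiSum_nontrivial_inv (quadraticChar_ne_one h2)
    rwa [(quadraticChar_isQuadratic K).inv] at this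
  have hs1 : ∑ a : K, quadraticChar K (1 - a) = 0 := by
    rw [← quadraticChar_sum_zero h2]
    exact Equiv.sum_comp (Equiv.subLeft (1 : K)) _
  have hexp : ∑ a : K, (1 - quadraticChar K a) * (1 - quadraticChar K (1 - a)) =
      (Fintype.card K : ℤ) - quadraticChar K (-1) := by
    have e : ∀ a : K, (1 - quadraticChar K a) * (1 - quadraticChar K (1 - a)) =
        1 - quadraticChar K a - quadraticChar K (1 - a) + quadraticChar K a * quadraticChar K (1 - a) := by
      intro a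
      ring
    simp_rw [e]
    rw [Finset.sum_add_distrib, Finset.sum_sub_distrib, Finset.sum_sub_distrib, hs1,
      quadraticChar_sum_zero h2]
    have : ∑ a : K, quadraticChar K a * quadraticChar K (1 - a) =
        jacobiSum (quadraticChar K) (quadraticChar K) := rfl
    rw [this, hJ]
    simp
    ring
  rw [hexp] at hsum
  have hc : 1 < Fintype.card K := Fintype.one_lt_card
  rcases quadraticChar_dichotomy (F := K) (a := -1) (by simp) with h | h <;> rw [h] at hsum <;> omega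

end fin

variable {K : Type*} [Field K] {Γ : Type*} [Group Γ]

/-- `n(t) = x(t) y(-t⁻¹) x(t)` -/
def nn (x y : K → Γ) (t : K) : Γ := x t * y (-t⁻¹) * x t

/-- `h(t) = n(t) n(-1)` -/
def hh (x y : K → Γ) (t : K) : Γ := nn x y t * nn x y (-1)

structure RankOne (x y : K → Γ) : Prop where
  xadd : ∀ a b, x a * x b = x (a + b)
  yadd : ∀ a b, y a * y b = y (a + b)
  conjx : ∀ t, t ≠ 0 → ∀ u, nn x y t * x u * (nn x y t)⁻¹ = y (-(t ^ 2)⁻¹ * u)
  conjy : ∀ t, t ≠ 0 → ∀ u, nn x y t * y u * (nn x y t)⁻¹ = x (-(t ^ 2) * u)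

namespace RankOne

variable {x y : K → Γ} (R : RankOne x y)
include R

theorem x_zero : x 0 = 1 := by
  have h := R.xadd 0 0
  rw [add_zero] at h
  exact mul_eq_left.1 h

theorem y_zero : y 0 = 1 := by
  have h := R.yadd 0 0
  rw [add_zero] at h
  exact mul_eq_left.1 h

theorem x_neg (a : K) : x (-a) = (x a)⁻¹ := by
  rw [eq_inv_iff_mul_eq_one, R.xadd, neg_add_cancel, R.x_zero]

theorem y_neg (a : K) : y (-a) = (y a)⁻¹ := by
  rw [eq_inv_iff_mul_eq_one, R.yadd, neg_add_cancel, R.y_zero]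

theorem nn_neg (t : K) : nn x y (-t) = (nn x y t)⁻¹ := by
  unfold nn
  rw [mul_inv_rev, mul_inv_rev, R.x_neg, inv_neg, neg_neg, ← R.y_neg, neg_neg, mul_assoc]

/-- `n(a) = y(-a⁻¹) x(a) y(-a⁻¹)` -/
theorem nn_eq (a : K) (ha : a ≠ 0) : nn x y a = y (-a⁻¹) * x a * y (-a⁻¹) := by
  have h := R.conjx a ha a
  have e : -(a ^ 2)⁻¹ * a = -a⁻¹ := by
    field_simp
  rw [e, mul_inv_eq_iff_eq_mul] at h
  -- h : nn a * x a = y(-a⁻¹) * nn a
  have h2 : nn x y a * x a = y (-a⁻¹) * x a * y (-a⁻¹) * x a := by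
    rw [h]
    unfold nn
    simp only [mul_assoc]
  exact mul_right_cancel h2

theorem nn_conj (a b : K) (ha : a ≠ 0) (hb : b ≠ 0) :
    nn x y a * nn x y b * (nn x y a)⁻¹ = nn x y (a ^ 2 * b⁻¹) := by
  have hc : a ^ 2 * b⁻¹ ≠ 0 := mul_ne_zero (pow_ne_zero _ ha) (inv_ne_zero hb)
  rw [R.nn_eq _ hc]
  have e : nn x y a * nn x y b * (nn x y a)⁻¹ =
      (nn x y a * x b * (nn x y a)⁻¹) * (nn x y a * y (-b⁻¹) * (nn x y a)⁻¹) *
        (nn x y a * x b * (nn x y a)⁻¹) := by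
    conv_lhs => rw [show nn x y b = x b * y (-b⁻¹) * x b from rfl]
    group
  rw [e, R.conjx a ha, R.conjy a ha]
  have e1 : -(a ^ 2)⁻¹ * b = -(a ^ 2 * b⁻¹)⁻¹ := by
    field_simp
  have e2 : -(a ^ 2) * -b⁻¹ = a ^ 2 * b⁻¹ := by ring
  rw [e1, e2]

theorem hh_conj_nn (t u : K) (ht : t ≠ 0) (hu : u ≠ 0) :
    hh x y t * nn x y u * (hh x y t)⁻¹ = nn x y (t ^ 2 * u) := by
  have h1 := R.nn_conj (-1) u (by simp) hu
  have h2 := R.nn_conj t u⁻¹ ht (inv_ne_zero hu)
  have e : hh x y t * nn x y u * (hh x y t)⁻¹ =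
      nn x y t * (nn x y (-1) * nn x y u * (nn x y (-1))⁻¹) * (nn x y t)⁻¹ := by
    unfold hh
    group
  rw [e, h1]
  have e1 : (-1 : K) ^ 2 * u⁻¹ = u⁻¹ := by ring
  rw [e1, h2, inv_inv]

theorem hh_one : hh x y 1 = 1 := by
  unfold hh
  rw [R.nn_neg, mul_inv_cancel]

theorem hh_conj_hh (t u : K) (ht : t ≠ 0) (hu : u ≠ 0) :
    hh x y t * hh x y u * (hh x y t)⁻¹ = hh x y (t ^ 2 * u) * (hh x y (t ^ 2))⁻¹ := by
  have h1 := R.hh_conj_nn t u ht hu
  have h2 := R.hh_conj_nn t (-1) ht (by simp)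
  have e : hh x y t * hh x y u * (hh x y t)⁻¹ =
      (hh x y t * nn x y u * (hh x y t)⁻¹) * (hh x y t * nn x y (-1) * (hh x y t)⁻¹) := by
    conv_lhs => rw [show hh x y u = nn x y u * nn x y (-1) from rfl]
    group
  rw [e, h1, h2]
  have e1 : t ^ 2 * (-1 : K) = -(t ^ 2) := by ring
  rw [e1, R.nn_neg]
  unfold hh
  group

/-- `y(s) = x(s⁻¹) n(-s⁻¹) x(s⁻¹)` -/
theorem y_eq (s : K) (_hs : s ≠ 0) : y s = x s⁻¹ * nn x y (-s⁻¹) * x s⁻¹ := by
  unfold nn
  rw [R.x_neg, inv_neg, neg_neg, inv_inv]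
  group

/-- `x(a) = y(a⁻¹) n(a) y(a⁻¹)` -/
theorem x_eq (a : K) (ha : a ≠ 0) : x a = y a⁻¹ * nn x y a * y a⁻¹ := by
  rw [R.nn_eq a ha, R.y_neg]
  group

/-- the key identity: `n(a) n(-(a+b)) n(b) = n(ab/(a+b))` -/
theorem nn_mul_nn_mul_nn (a b : K) (ha : a ≠ 0) (hb : b ≠ 0) (hab : a + b ≠ 0) :
    nn x y a * nn x y (-(a + b)) * nn x y b = nn x y (a * b / (a + b)) := by
  set c := a * b / (a + b) with hc
  have hc0 : c ≠ 0 := div_ne_zero (mul_ne_zero ha hb) hab
  have hd0 : -(a + b) ≠ 0 := neg_ne_zero.2 hab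
  -- additivity of `y` at `-a⁻¹`, `-b⁻¹`
  have h1 := R.yadd (-a⁻¹) (-b⁻¹)
  have es : -a⁻¹ + -b⁻¹ = -c⁻¹ := by
    rw [hc]
    field_simp
    ring
  rw [es, R.y_eq _ (neg_ne_zero.2 (inv_ne_zero ha)), R.y_eq _ (neg_ne_zero.2 (inv_ne_zero hb)),
    R.y_eq _ (neg_ne_zero.2 (inv_ne_zero hc0))] at h1
  simp only [inv_neg, inv_inv, neg_neg] at h1
  -- h1 : x(-a) n(a) x(-a) * (x(-b) n(b) x(-b)) = x(-c) n(c) x(-c)
  have h2 : nn x y a * x (-(a + b)) * nn x y b = x (a - c) * nn x y c * x (b - c) := by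
    have e1 : x (-(a + b)) = x (-a) * x (-b) := by
      rw [R.xadd]
      congr 1
      ring
    have e2 : x (a - c) = x a * x (-c) := by
      rw [R.xadd]
      congr 1
      ring
    have e3 : x (b - c) = x (-c) * x b := by
      rw [R.xadd]
      congr 1
      ring
    rw [e1, e2, e3]
    have h3 : x (-a) * nn x y a * (x (-a) * x (-b)) * nn x y b * x (-b) =
        x (-c) * nn x y c * x (-c) := by
      rw [← h1]
      group
    have h4 : nn x y a * (x (-a) * x (-b)) * nn x y b =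
        (x (-a))⁻¹ * (x (-a) * nn x y a * (x (-a) * x (-b)) * nn x y b * x (-b)) * (x (-b))⁻¹ := by
      group
    rw [h4, h3, R.x_neg a, R.x_neg b, inv_inv, inv_inv]
    group
  -- expand the middle `x`
  rw [R.x_eq _ hd0] at h2
  have h5 : nn x y a * y (-(a + b))⁻¹ = x (-(a ^ 2) * (-(a + b))⁻¹) * nn x y a := by
    rw [← R.conjy a ha]
    group
  have h6 : y (-(a + b))⁻¹ * nn x y b = nn x y b * x (-(b ^ 2) * (-(a + b))⁻¹) := by
    have := R.conjy (-b) (neg_ne_zero.2 hb) (-(a + b))⁻¹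
    rw [R.nn_neg, inv_inv] at this
    have e : (-b) ^ 2 = b ^ 2 := by ring
    rw [e] at this
    rw [← this]
    group
  have h7 : nn x y a * (y (-(a + b))⁻¹ * nn x y (-(a + b)) * y (-(a + b))⁻¹) * nn x y b =
      x (-(a ^ 2) * (-(a + b))⁻¹) * (nn x y a * nn x y (-(a + b)) * nn x y b) *
        x (-(b ^ 2) * (-(a + b))⁻¹) := by
    calc nn x y a * (y (-(a + b))⁻¹ * nn x y (-(a + b)) * y (-(a + b))⁻¹) * nn x y b
        = (nn x y a * y (-(a + b))⁻¹) * nn x y (-(a + b)) * (y (-(a + b))⁻¹ * nn x y b) := by group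
      _ = _ := by
        rw [h5, h6]
        group
  rw [h7] at h2
  have e4 : -(a ^ 2) * (-(a + b))⁻¹ = a - c := by
    rw [hc]
    field_simp
    ring
  have e5 : -(b ^ 2) * (-(a + b))⁻¹ = b - c := by
    rw [hc]
    field_simp
    ring
  rw [e4, e5] at h2
  exact mul_left_cancel (mul_right_cancel h2)

theorem hh_mul_of_add_eq_one (t u : K) (ht : t ≠ 0) (hu : u ≠ 0) (h1 : t + u = 1) :
    hh x y t * hh x y u = hh x y (t * u) := by
  have h := R.nn_mul_nn_mul_nn t u ht hu (by rw [h1]; exact one_ne_zero)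
  rw [h1, div_one] at h
  unfold hh
  rw [← h]
  group

/-- over a finite field: if the elements `h(t) h(u) h(tu)⁻¹` are central, all `h(t)` commute -/
theorem hh_commute [Finite K]
    (hcen : ∀ t u : K, t ≠ 0 → u ≠ 0 → hh x y t * hh x y u * (hh x y (t * u))⁻¹ ∈ Subgroup.center Γ)
    (t u : K) (ht : t ≠ 0) (hu : u ≠ 0) : Commute (hh x y t) (hh x y u) := by
  obtain ⟨v, hv⟩ := IsCyclic.exists_generator (α := Kˣ)
  have hv0 : (v : K) ≠ 0 := v.ne_zero
  have key : ∀ n : ℕ, ∃ z ∈ Subgroup.center Γ, hh x y ((v : K) ^ n) = z * (hh x y (v : K)) ^ n := by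
    intro n
    induction n with
    | zero => exact ⟨1, one_mem _, by rw [pow_zero, pow_zero, R.hh_one, mul_one]⟩
    | succ n ih =>
      obtain ⟨z, hz, he⟩ := ih
      have hf := hcen (v : K) ((v : K) ^ n) hv0 (pow_ne_zero _ hv0)
      refine ⟨(hh x y (v : K) * hh x y ((v : K) ^ n) * (hh x y ((v : K) * (v : K) ^ n))⁻¹)⁻¹ * z,
        mul_mem (inv_mem hf) hz, ?_⟩
      rw [Subgroup.mem_center_iff] at hz
      rw [pow_succ' (v : K), pow_succ' (hh x y (v : K)), he]
      have := hz (hh x y (v : K))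
      calc hh x y ((v : K) * (v : K) ^ n)
          = (hh x y (v : K) * (z * hh x y (v : K) ^ n) * (hh x y ((v : K) * (v : K) ^ n))⁻¹)⁻¹ *
              (hh x y (v : K) * (z * hh x y (v : K) ^ n)) := by group
        _ = _ := by
          rw [show hh x y (v : K) * (z * hh x y (v : K) ^ n) = z * (hh x y (v : K) * hh x y (v : K) ^ n) from by
            rw [← mul_assoc, this, mul_assoc]]
          simp only [mul_assoc]
  have hpow : ∀ s : K, s ≠ 0 → ∃ n : ℕ, s = (v : K) ^ n := by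
    intro s hs
    have h1 := hv (Units.mk0 s hs)
    rw [← mem_powers_iff_mem_zpowers] at h1
    obtain ⟨n, hn⟩ := h1
    refine ⟨n, ?_⟩
    have := congrArg (fun w : Kˣ => (w : K)) hn
    simp only [Units.val_pow_eq_pow_val, Units.val_mk0] at this
    exact this.symm
  obtain ⟨n, rfl⟩ := hpow t ht
  obtain ⟨m, rfl⟩ := hpow u hu
  obtain ⟨z₁, hz₁, e₁⟩ := key n
  obtain ⟨z₂, hz₂, e₂⟩ := key m
  rw [e₁, e₂]
  rw [Subgroup.mem_center_iff] at hz₁ hz₂
  have c1 : Commute z₁ (hh x y (v : K) ^ m) := (hz₁ _).symm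
  have c2 : Commute z₂ (hh x y (v : K) ^ n) := (hz₂ _).symm
  have c3 : Commute z₁ z₂ := (hz₁ _).symm
  have c4 : Commute (hh x y (v : K) ^ n) (hh x y (v : K) ^ m) := (Commute.refl _).pow_pow n m
  exact Commute.mul_left (Commute.mul_right c3 c1) (Commute.mul_right c2.symm c4)

/-- multiplicativity when the first argument is a square -/
theorem hh_sq_mul [Finite K]
    (hcen : ∀ t u : K, t ≠ 0 → u ≠ 0 → hh x y t * hh x y u * (hh x y (t * u))⁻¹ ∈ Subgroup.center Γ)
    (s w : K) (hs : s ≠ 0) (hw : w ≠ 0) : hh x y (s ^ 2 * w) = hh x y (s ^ 2) * hh x y w := by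
  have h1 := R.hh_conj_hh s w hs hw
  have h2 := R.hh_commute hcen s w hs hw
  have h3 := R.hh_commute hcen (s ^ 2) w (pow_ne_zero _ hs) hw
  have h4 : hh x y s * hh x y w * (hh x y s)⁻¹ = hh x y w := by
    rw [h2.eq, mul_inv_cancel_right]
  rw [h4] at h1
  rw [h3.eq, h1, inv_mul_cancel_right]

/-- **Steinberg's Theorem 9 in rank one**: over a finite field, `h` is multiplicative -/
theorem hh_mul [Finite K]
    (hcen : ∀ t u : K, t ≠ 0 → u ≠ 0 → hh x y t * hh x y u * (hh x y (t * u))⁻¹ ∈ Subgroup.center Γ)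
    (t u : K) (ht : t ≠ 0) (hu : u ≠ 0) : hh x y t * hh x y u = hh x y (t * u) := by
  classical
  have := Fintype.ofFinite K
  by_cases hts : IsSquare t
  · obtain ⟨s, rfl⟩ := hts
    have hs : s ≠ 0 := fun h => ht (by rw [h, mul_zero])
    rw [← pow_two, R.hh_sq_mul hcen s u hs hu]
  by_cases hus : IsSquare u
  · obtain ⟨s, rfl⟩ := hus
    have hs : s ≠ 0 := fun h => hu (by rw [h, mul_zero])
    rw [(R.hh_commute hcen t (s * s) ht hu).eq, ← pow_two, mul_comm t, R.hh_sq_mul hcen s t hs ht]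
  have h2 : ringChar K ≠ 2 := by
    intro h
    exact hts (FiniteField.isSquare_of_char_two h t)
  obtain ⟨a, ha1, ha2⟩ := exists_nonsquare_pair h2
  have ha0 : a ≠ 0 := fun h => ha1 (by rw [h]; exact IsSquare.zero)
  have hb0 : 1 - a ≠ 0 := fun h => ha2 (by rw [h]; exact IsSquare.zero)
  have hsq : ∀ c d : K, c ≠ 0 → d ≠ 0 → ¬ IsSquare c → ¬ IsSquare d → ∃ p : K, p ≠ 0 ∧ c = p ^ 2 * d := by
    intro c d hc hd hc1 hd1
    have h1 : quadraticChar K (c * d) = 1 := by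
      rw [map_mul, quadraticChar_neg_one_iff_not_isSquare.2 hc1, quadraticChar_neg_one_iff_not_isSquare.2 hd1]
      norm_num
    obtain ⟨p, hp⟩ := (quadraticChar_one_iff_isSquare (mul_ne_zero hc hd)).1 h1
    have hp0 : p ≠ 0 := fun h => (mul_ne_zero hc hd) (by rw [hp, h, mul_zero])
    refine ⟨p / d, div_ne_zero hp0 hd, ?_⟩
    field_simp
    rw [pow_two, ← hp]
  obtain ⟨p, hp0, rfl⟩ := hsq t a ht ha0 hts ha1
  obtain ⟨r, hr0, rfl⟩ := hsq u (1 - a) hu hb0 hus ha2
  have h3 := R.hh_mul_of_add_eq_one a (1 - a) ha0 hb0 (by ring)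
  rw [R.hh_sq_mul hcen p a hp0 ha0, R.hh_sq_mul hcen r (1 - a) hr0 hb0]
  have e : p ^ 2 * a * (r ^ 2 * (1 - a)) = p ^ 2 * (r ^ 2 * (a * (1 - a))) := by ring
  rw [e, R.hh_sq_mul hcen p _ hp0 (mul_ne_zero (pow_ne_zero _ hr0) (mul_ne_zero ha0 hb0)),
    R.hh_sq_mul hcen r _ hr0 (mul_ne_zero ha0 hb0), ← h3]
  have c1 := R.hh_commute hcen a (r ^ 2) ha0 (pow_ne_zero _ hr0)
  rw [mul_assoc]
  congr 1
  rw [← mul_assoc, c1.eq, mul_assoc]

end RankOne

end Cfsg.Agent.Helper6.R1S
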