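import Mathlib
import Cfsg.Agent.Lib.Helper6.RankOneSym

/-!
Steinberg relations of type `A` for a family `X i j t` in an abstract group: the conjugation formulas of
`w_ij(t) = x_ij(t) x_ji(-t⁻¹) x_ij(t)` on all root elements.
-/

set_option autoImplicit false
set_option linter.unusedSectionVars false
set_option linter.unusedVariables false

namespace Cfsg.Agent.Helper6.SLn

open Cfsg.Agent.Helper6

variable {I : Type*} {K : Type*} [Field K] {Γ : Type*} [Group Γ]

/-- conjugation `a b a⁻¹` -/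
def cj (a b : Γ) : Γ := a * b * a⁻¹

theorem cj_mul_left (a b c : Γ) : cj (a * b) c = cj a (cj b c) := by
  unfold cj; group

theorem cj_mul_right (a b c : Γ) : cj a (b * c) = cj a b * cj a c := by
  unfold cj; group

theorem cj_inv_right (a b : Γ) : cj a b⁻¹ = (cj a b)⁻¹ := by
  unfold cj; group

theorem cj_one_right (a : Γ) : cj a 1 = 1 := by
  unfold cj; group

theorem cj_of_commute {a b : Γ} (h : Commute a b) : cj a b = b := by
  unfold cj
  rw [h.eq, mul_inv_cancel_right]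

/-- conjugation of a commutator -/
theorem cj_comm4 (a x y : Γ) : cj a (x * y * x⁻¹ * y⁻¹) = cj a x * cj a y * (cj a x)⁻¹ * (cj a y)⁻¹ := by
  unfold cj; group

/-- the Steinberg relations of type `A` -/
structure StRel (X : I → I → K → Γ) : Prop where
  add : ∀ i j, i ≠ j → ∀ t u, X i j t * X i j u = X i j (t + u)
  comm : ∀ i j k l, i ≠ j → k ≠ l → i ≠ l → j ≠ k → ∀ t u, Commute (X i j t) (X k l u)
  comm3 : ∀ i j l, i ≠ j → j ≠ l → i ≠ l → ∀ t u,
    X i j t * X j l u * (X i j t)⁻¹ * (X j l u)⁻¹ = X i l (t * u)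

/-- `w_ij(t)` -/
def ww (X : I → I → K → Γ) (i j : I) (t : K) : Γ := X i j t * X j i (-t⁻¹) * X i j t

/-- `h_ij(t)` -/
def hh (X : I → I → K → Γ) (i j : I) (t : K) : Γ := ww X i j t * ww X i j (-1)

theorem ww_eq_nn (X : I → I → K → Γ) (i j : I) (t : K) :
    ww X i j t = R1S.nn (X i j) (X j i) t := rfl

theorem hh_eq_hh (X : I → I → K → Γ) (i j : I) (t : K) :
    hh X i j t = R1S.hh (X i j) (X j i) t := rfl

namespace StRel

variable {X : I → I → K → Γ} (S : StRel X)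
include S

theorem zero {i j : I} (h : i ≠ j) : X i j 0 = 1 := by
  have := S.add i j h 0 0
  rw [add_zero] at this
  exact mul_eq_left.1 this

theorem neg {i j : I} (h : i ≠ j) (t : K) : X i j (-t) = (X i j t)⁻¹ := by
  rw [eq_inv_iff_mul_eq_one, S.add i j h, neg_add_cancel, S.zero h]

/-- `x_ij(t) x_jl(u) x_ij(t)⁻¹ = x_il(tu) x_jl(u)` -/
theorem cj1 {i j l : I} (hij : i ≠ j) (hjl : j ≠ l) (hil : i ≠ l) (t u : K) :
    cj (X i j t) (X j l u) = X i l (t * u) * X j l u := by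
  have := S.comm3 i j l hij hjl hil t u
  unfold cj
  rw [← this]; group

/-- `x_jl(u) x_ij(t) x_jl(u)⁻¹ = x_il(-tu) x_ij(t)` -/
theorem cj2 {i j l : I} (hij : i ≠ j) (hjl : j ≠ l) (hil : i ≠ l) (t u : K) :
    cj (X j l u) (X i j t) = X i l (-(t * u)) * X i j t := by
  have := S.comm3 i j l hij hjl hil t u
  unfold cj
  rw [S.neg hil, ← this]; group

theorem cj_comm {i j k l : I} (hij : i ≠ j) (hkl : k ≠ l) (hil : i ≠ l) (hjk : j ≠ k) (t u : K) :
    cj (X i j t) (X k l u) = X k l u :=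
  cj_of_commute (S.comm i j k l hij hkl hil hjk t u)

/-- (A) `w_ij(t) x_il(u) w_ij(t)⁻¹ = x_jl(-t⁻¹ u)` -/
theorem ww_cj_A {i j l : I} (hij : i ≠ j) (hil : i ≠ l) (hjl : j ≠ l) (t : K) (ht : t ≠ 0) (u : K) :
    cj (ww X i j t) (X i l u) = X j l (-t⁻¹ * u) := by
  unfold ww
  rw [cj_mul_left, cj_mul_left, S.cj_comm hij hil hil hij.symm, S.cj1 hij.symm hil hjl, cj_mul_right,
    S.cj1 hij hjl hil, S.cj_comm hij hil hil hij.symm]
  have e : t * (-t⁻¹ * u) = -u := by field_simp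
  rw [e, S.neg hil, (S.comm i l j l hil hjl hil hjl.symm u (-t⁻¹ * u)).inv_left.eq, mul_assoc,
    inv_mul_cancel, mul_one]

/-- (B) `w_ij(t) x_jl(u) w_ij(t)⁻¹ = x_il(t u)` -/
theorem ww_cj_B {i j l : I} (hij : i ≠ j) (hil : i ≠ l) (hjl : j ≠ l) (t : K) (ht : t ≠ 0) (u : K) :
    cj (ww X i j t) (X j l u) = X i l (t * u) := by
  unfold ww
  rw [cj_mul_left, cj_mul_left, S.cj1 hij hjl hil, cj_mul_right, S.cj1 hij.symm hil hjl,
    S.cj_comm hij.symm hjl hjl hij]
  have e : -t⁻¹ * (t * u) = -u := by field_simp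
  rw [e, S.neg hjl,
    (S.comm j l i l hjl hil hjl hil.symm u (t * u)).inv_mul_cancel,
    S.cj_comm hij hil hil hij.symm]

/-- (C) `w_ij(t) x_ki(u) w_ij(t)⁻¹ = x_kj(-t u)` -/
theorem ww_cj_C {i j k : I} (hij : i ≠ j) (hki : k ≠ i) (hkj : k ≠ j) (t : K) (ht : t ≠ 0) (u : K) :
    cj (ww X i j t) (X k i u) = X k j (-t * u) := by
  unfold ww
  have h1 : cj (X i j t) (X k i u) = X k j (-(u * t)) * X k i u := S.cj2 hki hij hkj u t
  have h2 : cj (X j i (-t⁻¹)) (X k j (-(u * t))) = X k i (-u) * X k j (-(u * t)) := by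
    rw [S.cj2 hkj hij.symm hki]
    congr 2
    field_simp
  have h3 : cj (X j i (-t⁻¹)) (X k i u) = X k i u := S.cj_comm hij.symm hki hij.symm hki.symm _ _
  have h4 : cj (X i j t) (X k j (-(u * t))) = X k j (-(u * t)) := S.cj_comm hij hkj hij hkj.symm _ _
  have h5 : X k i (-u) * X k j (-(u * t)) * X k i u = X k j (-(u * t)) := by
    rw [(S.comm k i k j hki hkj hkj hki.symm (-u) (-(u * t))).eq, mul_assoc, S.add k i hki,
      neg_add_cancel, S.zero hki, mul_one]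
  rw [cj_mul_left, cj_mul_left, h1, cj_mul_right, h2, h3, h5, h4]
  congr 1
  ring

/-- (D) `w_ij(t) x_kj(u) w_ij(t)⁻¹ = x_ki(t⁻¹ u)` -/
theorem ww_cj_D {i j k : I} (hij : i ≠ j) (hki : k ≠ i) (hkj : k ≠ j) (t : K) (ht : t ≠ 0) (u : K) :
    cj (ww X i j t) (X k j u) = X k i (t⁻¹ * u) := by
  unfold ww
  have h1 : cj (X i j t) (X k j u) = X k j u := S.cj_comm hij hkj hij hkj.symm _ _
  have h2 : cj (X j i (-t⁻¹)) (X k j u) = X k i (t⁻¹ * u) * X k j u := by
    rw [S.cj2 hkj hij.symm hki]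
    congr 2
    ring
  have h3 : cj (X i j t) (X k i (t⁻¹ * u)) = X k j (-u) * X k i (t⁻¹ * u) := by
    rw [S.cj2 hki hij hkj]
    congr 2
    field_simp
  have h5 : X k j (-u) * X k i (t⁻¹ * u) * X k j u = X k i (t⁻¹ * u) := by
    rw [(S.comm k j k i hkj hki hki hkj.symm (-u) (t⁻¹ * u)).eq, mul_assoc, S.add k j hkj,
      neg_add_cancel, S.zero hkj, mul_one]
  rw [cj_mul_left, cj_mul_left, h1, h2, cj_mul_right, h3, h1, h5]

/-- (E) `w_ij(t) x_ij(u) w_ij(t)⁻¹ = x_ji(-t⁻² u)` -/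
theorem ww_cj_E {i j m : I} (hij : i ≠ j) (hmi : m ≠ i) (hmj : m ≠ j) (t : K) (ht : t ≠ 0) (u : K) :
    cj (ww X i j t) (X i j u) = X j i (-(t ^ 2)⁻¹ * u) := by
  have e1 : X i j u = X i m u * X m j 1 * (X i m u)⁻¹ * (X m j 1)⁻¹ := by
    rw [S.comm3 i m j hmi.symm hmj hij, mul_one]
  rw [e1, cj_comm4, S.ww_cj_A hij hmi.symm hmj.symm t ht, S.ww_cj_D hij hmi hmj t ht,
    S.comm3 j m i hmj.symm hmi hij.symm]
  congr 1
  field_simp

/-- (F) `w_ij(t) x_ji(u) w_ij(t)⁻¹ = x_ij(-t² u)` -/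
theorem ww_cj_F {i j m : I} (hij : i ≠ j) (hmi : m ≠ i) (hmj : m ≠ j) (t : K) (ht : t ≠ 0) (u : K) :
    cj (ww X i j t) (X j i u) = X i j (-(t ^ 2) * u) := by
  have e1 : X j i u = X j m u * X m i 1 * (X j m u)⁻¹ * (X m i 1)⁻¹ := by
    rw [S.comm3 j m i hmj.symm hmi hij.symm, mul_one]
  rw [e1, cj_comm4, S.ww_cj_B hij hmi.symm hmj.symm t ht, S.ww_cj_C hij hmi hmj t ht,
    S.comm3 i m j hmi.symm hmj hij]
  congr 1
  ring

/-- (G) `w_ij(t)` commutes with `x_kl(u)` for `{k,l}` disjoint from `{i,j}` -/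
theorem ww_cj_G {i j k l : I} (hij : i ≠ j) (hkl : k ≠ l) (hki : k ≠ i) (hkj : k ≠ j) (hli : l ≠ i)
    (hlj : l ≠ j) (t : K) (u : K) :
    cj (ww X i j t) (X k l u) = X k l u := by
  unfold ww
  rw [cj_mul_left, cj_mul_left, S.cj_comm hij hkl hli.symm hkj.symm,
    S.cj_comm hij.symm hkl hlj.symm hki.symm, S.cj_comm hij hkl hli.symm hkj.symm]

theorem hh_cj_il {i j l : I} (hij : i ≠ j) (hil : i ≠ l) (hjl : j ≠ l) (t : K) (ht : t ≠ 0) (u : K) :
    cj (hh X i j t) (X i l u) = X i l (t * u) := by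
  unfold hh
  rw [cj_mul_left, S.ww_cj_A hij hil hjl (-1) (by simp), S.ww_cj_B hij hil hjl t ht]
  congr 1
  simp

theorem hh_cj_jl {i j l : I} (hij : i ≠ j) (hil : i ≠ l) (hjl : j ≠ l) (t : K) (ht : t ≠ 0) (u : K) :
    cj (hh X i j t) (X j l u) = X j l (t⁻¹ * u) := by
  unfold hh
  rw [cj_mul_left, S.ww_cj_B hij hil hjl (-1) (by simp), S.ww_cj_A hij hil hjl t ht]
  congr 1
  ring

theorem hh_cj_ki {i j k : I} (hij : i ≠ j) (hki : k ≠ i) (hkj : k ≠ j) (t : K) (ht : t ≠ 0) (u : K) :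
    cj (hh X i j t) (X k i u) = X k i (t⁻¹ * u) := by
  unfold hh
  rw [cj_mul_left, S.ww_cj_C hij hki hkj (-1) (by simp), S.ww_cj_D hij hki hkj t ht]
  congr 1
  simp

theorem hh_cj_kj {i j k : I} (hij : i ≠ j) (hki : k ≠ i) (hkj : k ≠ j) (t : K) (ht : t ≠ 0) (u : K) :
    cj (hh X i j t) (X k j u) = X k j (t * u) := by
  unfold hh
  rw [cj_mul_left, S.ww_cj_D hij hki hkj (-1) (by simp), S.ww_cj_C hij hki hkj t ht]
  congr 1
  rw [inv_neg, inv_one]
  ring

theorem hh_cj_ij {i j m : I} (hij : i ≠ j) (hmi : m ≠ i) (hmj : m ≠ j) (t : K) (ht : t ≠ 0) (u : K) :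
    cj (hh X i j t) (X i j u) = X i j (t ^ 2 * u) := by
  unfold hh
  rw [cj_mul_left, S.ww_cj_E hij hmi hmj (-1) (by simp), S.ww_cj_F hij hmi hmj t ht]
  congr 1
  simp

theorem hh_cj_ji {i j m : I} (hij : i ≠ j) (hmi : m ≠ i) (hmj : m ≠ j) (t : K) (ht : t ≠ 0) (u : K) :
    cj (hh X i j t) (X j i u) = X j i ((t ^ 2)⁻¹ * u) := by
  unfold hh
  rw [cj_mul_left, S.ww_cj_F hij hmi hmj (-1) (by simp), S.ww_cj_E hij hmi hmj t ht]
  congr 1
  simp

theorem hh_cj_kl {i j k l : I} (hij : i ≠ j) (hkl : k ≠ l) (hki : k ≠ i) (hkj : k ≠ j) (hli : l ≠ i)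
    (hlj : l ≠ j) (t : K) (u : K) :
    cj (hh X i j t) (X k l u) = X k l u := by
  unfold hh
  rw [cj_mul_left, S.ww_cj_G hij hkl hki hkj hli hlj, S.ww_cj_G hij hkl hki hkj hli hlj]

end StRel

/-- the character by which `h_ij(t)` acts on `x_kl` -/
def chi [DecidableEq I] (i j k l : I) (t : K) : K :=
  (if k = i then t else 1) * (if k = j then t⁻¹ else 1) * (if l = i then t⁻¹ else 1) *
    (if l = j then t else 1)

theorem chi_mul [DecidableEq I] (i j k l : I) (t u : K) :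
    chi i j k l (t * u) = chi i j k l t * chi i j k l u := by
  unfold chi
  rw [mul_inv]
  split_ifs <;> ring

theorem chi_one [DecidableEq I] (i j k l : I) : chi i j k l (1 : K) = 1 := by
  unfold chi
  simp

theorem chi_ne_zero [DecidableEq I] (i j k l : I) (t : K) (ht : t ≠ 0) : chi i j k l t ≠ 0 := by
  unfold chi
  split_ifs <;> simp [ht]

namespace StRel

variable {X : I → I → K → Γ} (S : StRel X)
include S

/-- `h_ij(t)` acts on `x_kl(u)` by the character `chi` -/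
theorem hh_cj [DecidableEq I] {i j k l : I} (hij : i ≠ j) (hkl : k ≠ l) (hm : ∃ m : I, m ≠ i ∧ m ≠ j)
    (t : K) (ht : t ≠ 0) (u : K) :
    cj (hh X i j t) (X k l u) = X k l (chi i j k l t * u) := by
  obtain ⟨m, hmi, hmj⟩ := hm
  unfold chi
  by_cases hki : k = i
  · subst hki
    have hkj : ¬ k = j := hij
    have hlk : ¬ l = k := fun h => hkl h.symm
    by_cases hlj : l = j
    · subst hlj
      rw [S.hh_cj_ij hij hmi hmj t ht]
      congr 1
      rw [if_pos rfl, if_neg hkj, if_neg hlk, if_pos rfl]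
      ring
    · rw [S.hh_cj_il hij hkl (fun h => hlj h.symm) t ht]
      congr 1
      simp [hkj, hlk, hlj]
  · by_cases hkj : k = j
    · subst hkj
      have hlk : ¬ l = k := fun h => hkl h.symm
      by_cases hli : l = i
      · subst hli
        rw [S.hh_cj_ji hij hmi hmj t ht]
        congr 1
        rw [if_neg hki, if_pos rfl, if_pos rfl, if_neg hlk, pow_two, mul_inv]
        ring
      · rw [S.hh_cj_jl hij (fun h => hli h.symm) hkl t ht]
        congr 1
        simp [hki, hlk, hli]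
    · by_cases hli : l = i
      · subst hli
        have hlj : ¬ l = j := hij
        rw [S.hh_cj_ki hij hki hkj t ht]
        congr 1
        simp [hki, hkj, hlj]
      · by_cases hlj : l = j
        · subst hlj
          rw [S.hh_cj_kj hij hki hkj t ht]
          congr 1
          simp [hki, hkj, hli]
        · rw [S.hh_cj_kl hij hkl hki hkj hli hlj]
          congr 1
          simp [hki, hkj, hli, hlj]

end StRel

end Cfsg.Agent.Helper6.SLn
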