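import Mathlib
import Cfsg.Agent.Lib.Helper6.SLnA
import Cfsg.Agent.Lib.Helper6.SL2Hom

/-!
Steinberg relations of type `A` over a finite field: the elements `h_ij(t)` are multiplicative and every pair of
opposite root subgroups is the image of `SL₂`.
-/

set_option autoImplicit false
set_option linter.unusedSectionVars false
set_option linter.unusedVariables false

namespace Cfsg.Agent.Helper6.SLn

open Cfsg.Agent.Helper6

variable {I : Type*} {K : Type*} [Field K] {Γ : Type*} [Group Γ]

/-- from the symmetric form of the rank one relations, with `h` multiplicative, to the form used for the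
homomorphism out of `SL₂` -/
theorem rankOne_bridge {x y : K → Γ} (R : R1S.RankOne x y)
    (hm : ∀ t u : K, t ≠ 0 → u ≠ 0 → R1S.hh x y t * R1S.hh x y u = R1S.hh x y (t * u)) :
    SL2Hom.RankOne x y := by
  have hn : SL2Hom.nn x y = R1S.nn x y 1 := by
    unfold SL2Hom.nn R1S.nn
    rw [inv_one]
  have hh' : ∀ s, SL2Hom.hh x y s = R1S.hh x y s := by
    intro s
    unfold SL2Hom.hh R1S.hh
    rw [hn, ← R.nn_neg]
    rfl
  refine ⟨R.xadd, R.yadd, ?_, ?_, ?_⟩
  · intro u
    rw [hn, R.conjx 1 one_ne_zero]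
    congr 1
    simp
  · intro s hs v
    rw [hh']
    unfold R1S.hh
    have h1 := R.conjx (-1) (by simp) v
    have h2 := R.conjy s hs (-((-1 : K) ^ 2)⁻¹ * v)
    have e : R1S.nn x y s * R1S.nn x y (-1) * x v * (R1S.nn x y s * R1S.nn x y (-1))⁻¹ =
        R1S.nn x y s * (R1S.nn x y (-1) * x v * (R1S.nn x y (-1))⁻¹) * (R1S.nn x y s)⁻¹ := by
      group
    rw [e, h1, h2]
    congr 1
    simp
  · intro s s' hs hs'
    rw [hh', hh', hh', hm s s' hs hs']

theorem cj_inv_left {a x y : Γ} (h : cj a x = y) : cj a⁻¹ y = x := by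
  rw [← h]
  unfold cj
  group

namespace StRel

variable [DecidableEq I] {X : I → I → K → Γ} (S : StRel X)
include S

/-- the symmetric rank one relations for `x_ij`, `x_ji` -/
theorem rankOneSym {i j : I} (hij : i ≠ j) (hm : ∃ m : I, m ≠ i ∧ m ≠ j) :
    R1S.RankOne (X i j) (X j i) := by
  obtain ⟨m, hmi, hmj⟩ := hm
  exact ⟨S.add i j hij, S.add j i hij.symm, fun t ht u => S.ww_cj_E hij hmi hmj t ht u,
    fun t ht u => S.ww_cj_F hij hmi hmj t ht u⟩

/-- the set of all root elements -/
def gens (X : I → I → K → Γ) : Set Γ := {g | ∃ i j t, i ≠ j ∧ g = X i j t}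

omit S in
theorem mem_center_of_gens (hgen : Subgroup.closure (gens X) = ⊤) (z : Γ)
    (hz : ∀ k l : I, k ≠ l → ∀ v : K, cj z (X k l v) = X k l v) : z ∈ Subgroup.center Γ := by
  have hle : Subgroup.closure (gens X) ≤ Subgroup.centralizer {z} := by
    rw [Subgroup.closure_le]
    rintro _ ⟨k, l, v, hkl, rfl⟩
    rw [SetLike.mem_coe, Subgroup.mem_centralizer_iff]
    intro y hy
    rw [Set.mem_singleton_iff] at hy
    subst hy
    have := hz k l hkl v
    unfold cj at this
    rw [mul_inv_eq_iff_eq_mul] at this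
    exact this
  rw [hgen] at hle
  rw [Subgroup.mem_center_iff]
  intro g
  have := hle (Subgroup.mem_top g)
  rw [Subgroup.mem_centralizer_iff] at this
  exact (this z rfl).symm

/-- the symbols `h(t) h(u) h(tu)⁻¹` are central -/
theorem symbol_central (hgen : Subgroup.closure (gens X) = ⊤) {i j : I} (hij : i ≠ j)
    (hm : ∃ m : I, m ≠ i ∧ m ≠ j) (t u : K) (ht : t ≠ 0) (hu : u ≠ 0) :
    hh X i j t * hh X i j u * (hh X i j (t * u))⁻¹ ∈ Subgroup.center Γ := by
  apply mem_center_of_gens hgen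
  intro k l hkl v
  have htu : t * u ≠ 0 := mul_ne_zero ht hu
  have hc := chi_ne_zero i j k l (t * u) htu
  have h1 : cj (hh X i j (t * u))⁻¹ (X k l v) = X k l ((chi i j k l (t * u))⁻¹ * v) := by
    apply cj_inv_left
    rw [S.hh_cj hij hkl hm (t * u) htu]
    congr 1
    field_simp
  rw [cj_mul_left, cj_mul_left, h1, S.hh_cj hij hkl hm u hu, S.hh_cj hij hkl hm t ht]
  congr 1
  rw [chi_mul] at hc ⊢
  have hc1 := chi_ne_zero i j k l t ht
  have hc2 := chi_ne_zero i j k l u hu
  field_simp

/-- `h_ij` is multiplicative over a finite field -/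
theorem hh_mul [Finite K] (hgen : Subgroup.closure (gens X) = ⊤) {i j : I} (hij : i ≠ j)
    (hm : ∃ m : I, m ≠ i ∧ m ≠ j) (t u : K) (ht : t ≠ 0) (hu : u ≠ 0) :
    hh X i j t * hh X i j u = hh X i j (t * u) :=
  (S.rankOneSym hij hm).hh_mul (fun a b ha hb => S.symbol_central hgen hij hm a b ha hb) t u ht hu

/-- the relations needed for the homomorphism out of `SL₂` -/
theorem rankOne [Finite K] (hgen : Subgroup.closure (gens X) = ⊤) {i j : I} (hij : i ≠ j)
    (hm : ∃ m : I, m ≠ i ∧ m ≠ j) : SL2Hom.RankOne (X i j) (X j i) :=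
  rankOne_bridge (S.rankOneSym hij hm) (fun t u ht hu => S.hh_mul hgen hij hm t u ht hu)

end StRel

end Cfsg.Agent.Helper6.SLn
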