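import Mathlib
import Cfsg.Agent.Lib.Helper6.SLnB
import Cfsg.Agent.Lib.Helper12.SLGen

/-!
Matrices with a prescribed pattern of entries, subgroups generated by root elements, and the images of such
subgroups under a homomorphism to `SL` sending root elements to transvections.
-/

set_option autoImplicit false
set_option linter.unusedSectionVars false
set_option linter.unusedVariables false

namespace Cfsg.Agent.Helper6.SLn

open Cfsg.Agent.Helper6 Matrix

section mat

variable {I : Type*} [Fintype I] [DecidableEq I] {K : Type*} [Field K]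

/-- matrices vanishing outside the positions in `Z` -/
def Supp (Z : I → I → Prop) (M : Matrix I I K) : Prop := ∀ k l, ¬ Z k l → M k l = 0

theorem supp_add {Z : I → I → Prop} {M N : Matrix I I K} (hM : Supp Z M) (hN : Supp Z N) :
    Supp Z (M + N) := by
  intro k l h
  rw [Matrix.add_apply, hM k l h, hN k l h, add_zero]

theorem supp_mul {Z : I → I → Prop} (hZ : ∀ k m l, Z k m → Z m l → Z k l) {M N : Matrix I I K}
    (hM : Supp Z M) (hN : Supp Z N) : Supp Z (M * N) := by
  intro k l h
  rw [Matrix.mul_apply]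
  apply Finset.sum_eq_zero
  intro m _
  by_cases h1 : Z k m
  · have h2 : ¬ Z m l := fun h2 => h (hZ k m l h1 h2)
    rw [hN m l h2, mul_zero]
  · rw [hM k m h1, zero_mul]

/-- elements of `SL` equal to the identity outside the positions in `Z` -/
def Pat (Z : I → I → Prop) (g : SpecialLinearGroup I K) : Prop := Supp Z ((g : Matrix I I K) - 1)

theorem pat_one (Z : I → I → Prop) : Pat Z (1 : SpecialLinearGroup I K) := by
  intro k l _
  simp

theorem pat_mul {Z : I → I → Prop} (hZ : ∀ k m l, Z k m → Z m l → Z k l)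
    {g g' : SpecialLinearGroup I K} (h : Pat Z g) (h' : Pat Z g') : Pat Z (g * g') := by
  unfold Pat at *
  have e : ((g * g' : SpecialLinearGroup I K) : Matrix I I K) - 1 =
      ((g : Matrix I I K) - 1) + ((g' : Matrix I I K) - 1) +
        ((g : Matrix I I K) - 1) * ((g' : Matrix I I K) - 1) := by
    simp only [Matrix.SpecialLinearGroup.coe_mul]
    noncomm_ring
  rw [e]
  exact supp_add (supp_add h h') (supp_mul hZ h h')

theorem pat_transvection {Z : I → I → Prop} {i j : I} (hij : i ≠ j) (hZ : Z i j) (t : K) :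
    Pat Z (SpecialLinearGroup.transvection hij t) := by
  intro k l h
  simp only [Matrix.SpecialLinearGroup.transvection_coe]
  show ((1 + Matrix.single i j t : Matrix I I K) - 1) k l = 0
  rw [add_sub_cancel_left, Matrix.single_apply, if_neg]
  rintro ⟨rfl, rfl⟩
  exact h hZ

theorem Pat.apply {Z : I → I → Prop} {g : SpecialLinearGroup I K} (h : Pat Z g) {k l : I}
    (hn : ¬ Z k l) : (g : Matrix I I K) k l = if k = l then 1 else 0 := by
  have := h k l hn
  rw [Matrix.sub_apply, sub_eq_zero] at this
  rw [this, Matrix.one_apply]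

theorem Pat.apply_same {Z : I → I → Prop} {g : SpecialLinearGroup I K} (h : Pat Z g) {k : I}
    (hn : ¬ Z k k) : (g : Matrix I I K) k k = 1 := by
  rw [h.apply hn, if_pos rfl]

theorem Pat.apply_ne {Z : I → I → Prop} {g : SpecialLinearGroup I K} (h : Pat Z g) {k l : I}
    (hn : ¬ Z k l) (hkl : k ≠ l) : (g : Matrix I I K) k l = 0 := by
  rw [h.apply hn, if_neg hkl]

/-- the image of `w_ij(1)` has entry `0` at `(i, i)` -/
theorem ww_apply_zero {i j : I} (hij : i ≠ j) :
    ((SpecialLinearGroup.transvection hij (1 : K) * SpecialLinearGroup.transvection hij.symm (-1) *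
      SpecialLinearGroup.transvection hij 1 : SpecialLinearGroup I K) : Matrix I I K) i i = 0 := by
  simp only [Matrix.SpecialLinearGroup.coe_mul, Matrix.SpecialLinearGroup.transvection_coe]
  rw [Matrix.mul_assoc]
  change ((Matrix.transvection i j (1 : K) * (Matrix.transvection j i (-1) * Matrix.transvection i j 1) :
    Matrix I I K)) i i = 0
  rw [transvection_mul_apply_same, transvection_mul_apply_same]
  have h := transvection_mul_apply_of_ne (i := j) (j := i) i i hij (-1 : K) (Matrix.transvection i j 1)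
  rw [h]
  simp [Matrix.transvection, hij, hij.symm]

end mat

section grp

variable {I : Type*} {K : Type*} [Field K] {Γ : Type*} [Group Γ]

/-- the root elements with index pair in `Z` -/
def genZ (X : I → I → K → Γ) (Z : I → I → Prop) : Set Γ :=
  {g | ∃ i j t, i ≠ j ∧ Z i j ∧ g = X i j t}

/-- the subgroup generated by the root elements with index pair in `Z` -/
def GZ (X : I → I → K → Γ) (Z : I → I → Prop) : Subgroup Γ := Subgroup.closure (genZ X Z)

theorem X_mem_GZ {X : I → I → K → Γ} {Z : I → I → Prop} {i j : I} (hij : i ≠ j) (hZ : Z i j) (t : K) :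
    X i j t ∈ GZ X Z :=
  Subgroup.subset_closure ⟨i, j, t, hij, hZ, rfl⟩

theorem GZ_mono {X : I → I → K → Γ} {Z Z' : I → I → Prop} (h : ∀ i j, i ≠ j → Z i j → Z' i j) :
    GZ X Z ≤ GZ X Z' := by
  apply Subgroup.closure_mono
  rintro _ ⟨i, j, t, hij, hZ, rfl⟩
  exact ⟨i, j, t, hij, h i j hij hZ, rfl⟩

theorem GZ_le {X : I → I → K → Γ} {Z : I → I → Prop} {H : Subgroup Γ}
    (h : ∀ i j, i ≠ j → Z i j → ∀ t, X i j t ∈ H) : GZ X Z ≤ H := by
  unfold GZ
  rw [Subgroup.closure_le]
  rintro _ ⟨i, j, t, hij, hZ, rfl⟩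
  exact h i j hij hZ t

/-- induction by left multiplication with root elements -/
theorem GZ_induction {X : I → I → K → Γ} (S : StRel X) {Z : I → I → Prop} {p : Γ → Prop} (h1 : p 1)
    (hmul : ∀ i j, i ≠ j → Z i j → ∀ t g, g ∈ GZ X Z → p g → p (X i j t * g)) :
    ∀ g ∈ GZ X Z, p g := by
  intro g hg
  unfold GZ at hg
  induction hg using Subgroup.closure_induction_left with
  | one => exact h1
  | mul_left x hx y hy ih =>
    obtain ⟨i, j, t, hij, hZ, rfl⟩ := hx
    exact hmul i j hij hZ t y hy ih
  | inv_mul_cancel x hx y hy ih =>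
    obtain ⟨i, j, t, hij, hZ, rfl⟩ := hx
    rw [← S.neg hij]
    exact hmul i j hij hZ (-t) y hy ih

theorem mem_sup_of_normalizer {N H : Subgroup Γ} (h : H ≤ Subgroup.normalizer (N : Set Γ)) {g : Γ} (hg : g ∈ N ⊔ H) :
    ∃ n ∈ N, ∃ x ∈ H, g = n * x := by
  have := Subgroup.coe_mul_of_right_le_normalizer_left N H h
  have hg' : g ∈ ((N ⊔ H : Subgroup Γ) : Set Γ) := hg
  rw [this] at hg'
  obtain ⟨n, hn, x, hx, rfl⟩ := hg'
  exact ⟨n, hn, x, hx, rfl⟩

/-- conjugation by `a` maps a subgroup generated by a set into `H` if it does so on the generators -/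
theorem cj_mem_of_gens {B : Set Γ} {H : Subgroup Γ} (a : Γ) (h : ∀ b ∈ B, cj a b ∈ H) :
    ∀ g ∈ Subgroup.closure B, cj a g ∈ H := by
  intro g hg
  induction hg using Subgroup.closure_induction with
  | mem x hx => exact h x hx
  | one => rw [cj_one_right]; exact one_mem _
  | mul x y _ _ hx hy => rw [cj_mul_right]; exact mul_mem hx hy
  | inv x _ hx => rw [cj_inv_right]; exact inv_mem hx

/-- an element and its inverse conjugating the generators of a subgroup into it normalise it -/
theorem mem_normalizer_of_gens {B : Set Γ} (a : Γ) (h : ∀ b ∈ B, cj a b ∈ Subgroup.closure B)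
    (h' : ∀ b ∈ B, cj a⁻¹ b ∈ Subgroup.closure B) : a ∈ Subgroup.normalizer ((Subgroup.closure B : Subgroup Γ) : Set Γ) := by
  rw [Subgroup.mem_normalizer_iff]
  intro g
  constructor
  · intro hg
    exact cj_mem_of_gens a h g hg
  · intro hg
    have := cj_mem_of_gens a⁻¹ h' _ hg
    have e : cj a⁻¹ (a * g * a⁻¹) = g := by
      unfold cj
      group
    rwa [e] at this

end grp

end Cfsg.Agent.Helper6.SLn
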