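import Mathlib
import Cfsg.Agent.Lib.Helper6.SLnC

/-!
Normalisation between subgroups generated by root elements, decompositions, and an injectivity criterion for
commuting families of one-parameter subgroups.
-/

set_option autoImplicit false
set_option linter.unusedSectionVars false
set_option linter.unusedVariables false

namespace Cfsg.Agent.Helper6.SLn

open Cfsg.Agent.Helper6

variable {I : Type*} {K : Type*} [Field K] {Γ : Type*} [Group Γ]

namespace StRel

variable {X : I → I → K → Γ} (S : StRel X)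
include S

/-- the conjugate of a root element by a root element, in terms of index conditions -/
theorem cj_X_mem {R : I → I → Prop} {i j k l : I} (hij : i ≠ j) (hkl : k ≠ l) (hR : R k l)
    (h1 : ¬ (j = k ∧ i = l)) (h2 : j = k → R i l) (h3 : i = l → R k j) (t u : K) :
    cj (X i j t) (X k l u) ∈ GZ X R := by
  by_cases hjk : j = k
  · subst hjk
    have hil : i ≠ l := fun h => h1 ⟨rfl, h⟩
    rw [S.cj1 hij hkl hil]
    exact mul_mem (X_mem_GZ hil (h2 rfl) _) (X_mem_GZ hkl hR _)
  · by_cases hil : i = l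
    · subst hil
      have hkj : k ≠ j := fun h => hjk h.symm
      rw [S.cj2 hkl hij hkj]
      exact mul_mem (X_mem_GZ hkj (h3 rfl) _) (X_mem_GZ hkl hR _)
    · rw [S.cj_comm hij hkl hil hjk]
      exact X_mem_GZ hkl hR _

theorem X_mem_normalizer {R : I → I → Prop} {i j : I} (hij : i ≠ j)
    (h : ∀ k l, k ≠ l → R k l → ¬ (j = k ∧ i = l) ∧ (j = k → R i l) ∧ (i = l → R k j)) (t : K) :
    X i j t ∈ Subgroup.normalizer (GZ X R : Set Γ) := by
  apply mem_normalizer_of_gens
  · rintro _ ⟨k, l, u, hkl, hR, rfl⟩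
    obtain ⟨h1, h2, h3⟩ := h k l hkl hR
    exact S.cj_X_mem hij hkl hR h1 h2 h3 t u
  · rintro _ ⟨k, l, u, hkl, hR, rfl⟩
    obtain ⟨h1, h2, h3⟩ := h k l hkl hR
    rw [← S.neg hij]
    exact S.cj_X_mem hij hkl hR h1 h2 h3 (-t) u

theorem GZ_le_normalizer {P R : I → I → Prop}
    (h : ∀ i j k l, i ≠ j → k ≠ l → P i j → R k l →
      ¬ (j = k ∧ i = l) ∧ (j = k → R i l) ∧ (i = l → R k j)) :
    GZ X P ≤ Subgroup.normalizer (GZ X R : Set Γ) := by
  apply GZ_le
  intro i j hij hP t
  exact S.X_mem_normalizer hij (fun k l hkl hR => h i j k l hij hkl hP hR) t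

/-- the elements `h_ij(t)` normalise every subgroup generated by root elements -/
theorem hh_mem_normalizer [DecidableEq I] {R : I → I → Prop} {i j : I} (hij : i ≠ j)
    (hm : ∃ m : I, m ≠ i ∧ m ≠ j) (t : K) (ht : t ≠ 0) :
    hh X i j t ∈ Subgroup.normalizer (GZ X R : Set Γ) := by
  apply mem_normalizer_of_gens
  · rintro _ ⟨k, l, u, hkl, hR, rfl⟩
    rw [S.hh_cj hij hkl hm t ht]
    exact X_mem_GZ hkl hR _
  · rintro _ ⟨k, l, u, hkl, hR, rfl⟩
    have hc := chi_ne_zero i j k l t ht
    have : cj (hh X i j t)⁻¹ (X k l u) = X k l ((chi i j k l t)⁻¹ * u) := by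
      apply cj_inv_left
      rw [S.hh_cj hij hkl hm t ht]
      congr 1
      field_simp
    rw [this]
    exact X_mem_GZ hkl hR _

/-- splitting off one root subgroup commuting with the others -/
theorem GZ_decomp {Z Z' : I → I → Prop} {a b : I} (hab : a ≠ b)
    (hZ : ∀ i j, i ≠ j → Z i j → (i = a ∧ j = b) ∨ Z' i j)
    (hcomm : ∀ i j, i ≠ j → Z' i j → i ≠ b ∧ j ≠ a) :
    ∀ g ∈ GZ X Z, ∃ t, ∃ g' ∈ GZ X Z', g = X a b t * g' := by
  refine GZ_induction S (p := fun g => ∃ t, ∃ g' ∈ GZ X Z', g = X a b t * g') ?_ ?_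
  · exact ⟨0, 1, one_mem _, by rw [S.zero hab, one_mul]⟩
  · intro i j hij hZij u g _ ih
    obtain ⟨t, g', hg', rfl⟩ := ih
    rcases hZ i j hij hZij with ⟨rfl, rfl⟩ | h'
    · exact ⟨u + t, g', hg', by rw [← mul_assoc, S.add i j hij]⟩
    · obtain ⟨h1, h2⟩ := hcomm i j hij h'
      refine ⟨t, X i j u * g', mul_mem (X_mem_GZ hij h' _) hg', ?_⟩
      rw [← mul_assoc, ← mul_assoc, (S.comm i j a b hij hab h1 h2 u t).eq]

end StRel

section fam

variable {ι : Type*} [DecidableEq ι]

/-- the union of the one-parameter subgroups `x b`, `b ∈ A` -/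
def famSet (x : ι → K → Γ) (A : Finset ι) : Set Γ := {y | ∃ b ∈ A, ∃ t, y = x b t}

theorem fam_induction {x : ι → K → Γ} {A : Finset ι}
    (hadd : ∀ a ∈ A, ∀ t u, x a t * x a u = x a (t + u)) {p : Γ → Prop} (h1 : p 1)
    (hmul : ∀ b ∈ A, ∀ t g, g ∈ Subgroup.closure (famSet x A) → p g → p (x b t * g)) :
    ∀ g ∈ Subgroup.closure (famSet x A), p g := by
  have hzero : ∀ a ∈ A, x a 0 = 1 := by
    intro a ha
    have := hadd a ha 0 0
    rw [add_zero] at this
    exact mul_eq_left.1 this
  have hneg : ∀ a ∈ A, ∀ t, (x a t)⁻¹ = x a (-t) := by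
    intro a ha t
    rw [inv_eq_iff_mul_eq_one, hadd a ha, add_neg_cancel, hzero a ha]
  intro g hg
  induction hg using Subgroup.closure_induction_left with
  | one => exact h1
  | mul_left y hy z hz ih =>
    obtain ⟨b, hb, t, rfl⟩ := hy
    exact hmul b hb t z hz ih
  | inv_mul_cancel y hy z hz ih =>
    obtain ⟨b, hb, t, rfl⟩ := hy
    rw [hneg b hb]
    exact hmul b hb (-t) z hz ih

/-- a commuting family of one-parameter subgroups with coordinate functions generates their direct product:
an element all of whose coordinates vanish is trivial -/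
theorem fam_inj {x : ι → K → Γ} {A : Finset ι}
    (hadd : ∀ a ∈ A, ∀ t u, x a t * x a u = x a (t + u))
    (hcomm : ∀ a ∈ A, ∀ b ∈ A, ∀ t u, Commute (x a t) (x b u))
    (c : ι → Γ → K) (hc1 : ∀ a ∈ A, c a 1 = 0)
    (hc : ∀ a ∈ A, ∀ b ∈ A, ∀ t g, g ∈ Subgroup.closure (famSet x A) →
      c a (x b t * g) = c a g + if a = b then t else 0) :
    ∀ g ∈ Subgroup.closure (famSet x A), (∀ a ∈ A, c a g = 0) → g = 1 := by
  have hzero : ∀ a ∈ A, x a 0 = 1 := by
    intro a ha
    have := hadd a ha 0 0
    rw [add_zero] at this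
    exact mul_eq_left.1 this
  have key : ∀ A' : Finset ι, A' ⊆ A → ∀ g ∈ Subgroup.closure (famSet x A'),
      (∀ a ∈ A', c a g = 0) → g = 1 := by
    intro A'
    induction A' using Finset.induction_on with
    | empty =>
      intro _ g hg _
      have : famSet x (∅ : Finset ι) = ∅ := by
        ext y
        simp [famSet]
      rw [this, Subgroup.closure_empty, Subgroup.mem_bot] at hg
      exact hg
    | insert b A'' hb ih =>
      intro hsub g hg hcg
      have hbA : b ∈ A := hsub (Finset.mem_insert_self b A'')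
      have hsub'' : A'' ⊆ A := fun a ha => hsub (Finset.mem_insert_of_mem ha)
      have hmono : Subgroup.closure (famSet x A'') ≤ Subgroup.closure (famSet x A) := by
        apply Subgroup.closure_mono
        rintro _ ⟨a, ha, t, rfl⟩
        exact ⟨a, hsub'' ha, t, rfl⟩
      -- decomposition
      have hdec : ∀ g ∈ Subgroup.closure (famSet x (insert b A'')),
          ∃ t, ∃ g'' ∈ Subgroup.closure (famSet x A''), g = x b t * g'' := by
        refine fam_induction (fun a ha => hadd a (hsub ha))
          (p := fun g => ∃ t, ∃ g'' ∈ Subgroup.closure (famSet x A''), g = x b t * g'') ?_ ?_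
        · exact ⟨0, 1, one_mem _, by rw [hzero b hbA, one_mul]⟩
        · intro b' hb' u g _ ihg
          obtain ⟨t, g'', hg'', rfl⟩ := ihg
          rcases Finset.mem_insert.1 hb' with rfl | hb'
          · exact ⟨u + t, g'', hg'', by rw [← mul_assoc, hadd _ hbA]⟩
          · refine ⟨t, x b' u * g'', mul_mem (Subgroup.subset_closure ⟨b', hb', u, rfl⟩) hg'', ?_⟩
            rw [← mul_assoc, ← mul_assoc, (hcomm b' (hsub'' hb') b hbA u t).eq]
      obtain ⟨t, g'', hg'', rfl⟩ := hdec g hg
      -- the coordinate at `b` vanishes on the smaller group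
      have hcb : ∀ g ∈ Subgroup.closure (famSet x A''), c b g = 0 := by
        refine fam_induction (fun a ha => hadd a (hsub'' ha)) (p := fun g => c b g = 0) ?_ ?_
        · exact hc1 b hbA
        · intro b' hb' u g hg ihg
          rw [hc b hbA b' (hsub'' hb') u g (hmono hg), ihg, if_neg, add_zero]
          rintro rfl
          exact hb hb'
      have ht : t = 0 := by
        have := hcg b (Finset.mem_insert_self b A'')
        rw [hc b hbA b hbA t g'' (hmono hg''), hcb g'' hg'', if_pos rfl, zero_add] at this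
        exact this
      subst ht
      rw [hzero b hbA, one_mul]
      apply ih hsub'' g'' hg''
      intro a ha
      have := hcg a (Finset.mem_insert_of_mem ha)
      rw [hc a (hsub'' ha) b hbA 0 g'' (hmono hg''), if_neg, add_zero] at this
      · exact this
      · rintro rfl
        exact hb ha
  exact key A (Finset.Subset.refl A)

end fam

end Cfsg.Agent.Helper6.SLn
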