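import Mathlib
import Cfsg.Agent.Lib.Helper6.SL2Hom

/-!
The factorisations of the elements of `SL₂(F)` relative to the lower triangular big cell.
-/

set_option autoImplicit false
set_option linter.unusedSectionVars false
set_option linter.unusedVariables false

namespace Cfsg.Agent.Helper6.SLn

open Cfsg.Agent.Helper6 Cfsg.Agent.Helper6.SL2Hom Matrix

variable {F : Type*} [Field F]

/-- the diagonal element as a word in the unipotent elements -/
def dS (s : F) : SpecialLinearGroup (Fin 2) F :=
  xS s * yS (-s⁻¹) * xS s * (xS (-1) * yS 1 * xS (-1))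

/-- the Weyl element as a word in the unipotent elements -/
def wS (F : Type*) [Field F] : SpecialLinearGroup (Fin 2) F := xS 1 * yS (-1) * xS 1

theorem dS_coe (s : F) (hs : s ≠ 0) : (dS s : Matrix (Fin 2) (Fin 2) F) = !![s, 0; 0, s⁻¹] := by
  unfold dS
  ext i j
  fin_cases i <;> fin_cases j
  · simp only [Matrix.SpecialLinearGroup.coe_mul, xS_coe, yS_coe]
    simp [Matrix.mul_apply, Fin.sum_univ_two]
    field_simp
    simp
  · simp only [Matrix.SpecialLinearGroup.coe_mul, xS_coe, yS_coe]
    simp [Matrix.mul_apply, Fin.sum_univ_two]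
    field_simp
    ring
  · simp only [Matrix.SpecialLinearGroup.coe_mul, xS_coe, yS_coe]
    simp [Matrix.mul_apply, Fin.sum_univ_two]
    field_simp
    ring
  · simp only [Matrix.SpecialLinearGroup.coe_mul, xS_coe, yS_coe]
    simp [Matrix.mul_apply, Fin.sum_univ_two]

theorem wS_coe : (wS F : Matrix (Fin 2) (Fin 2) F) = !![0, 1; -1, 0] := by
  unfold wS
  ext i j
  fin_cases i <;> fin_cases j <;>
    simp [xS_coe, yS_coe, Matrix.mul_apply, Fin.sum_univ_two]

/-- the big cell -/
theorem eq_of_ne_zero (g : SpecialLinearGroup (Fin 2) F) (h : g 0 0 ≠ 0) :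
    g = yS (g 1 0 / g 0 0) * dS (g 0 0) * xS (g 0 1 / g 0 0) := by
  have hd := det_eq g
  apply Matrix.SpecialLinearGroup.ext
  intro i j
  simp only [Matrix.SpecialLinearGroup.coe_mul, dS_coe _ h]
  fin_cases i <;> fin_cases j
  · simp [xS_coe, yS_coe, Matrix.mul_apply, Fin.sum_univ_two]
  · simp [xS_coe, yS_coe, Matrix.mul_apply, Fin.sum_univ_two]
    field_simp
  · simp [xS_coe, yS_coe, Matrix.mul_apply, Fin.sum_univ_two]
    field_simp
  · simp [xS_coe, yS_coe, Matrix.mul_apply, Fin.sum_univ_two]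
    field_simp
    linear_combination hd

/-- the small cell -/
theorem eq_of_eq_zero (g : SpecialLinearGroup (Fin 2) F) (h : g 0 0 = 0) :
    g 1 0 ≠ 0 ∧ g = wS F * dS (-(g 1 0)) * xS (g 1 1 / g 1 0) := by
  have hd := det_eq g
  rw [h] at hd
  have h10 : g 1 0 ≠ 0 := by
    intro h0
    rw [h0] at hd
    simp at hd
  refine ⟨h10, ?_⟩
  apply Matrix.SpecialLinearGroup.ext
  intro i j
  simp only [Matrix.SpecialLinearGroup.coe_mul, dS_coe _ (neg_ne_zero.2 h10), wS_coe]
  fin_cases i <;> fin_cases j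
  · simp [xS_coe, yS_coe, Matrix.mul_apply, Fin.sum_univ_two, h]
  · simp [xS_coe, yS_coe, Matrix.mul_apply, Fin.sum_univ_two]
    field_simp
    linear_combination -hd
  · simp [xS_coe, yS_coe, Matrix.mul_apply, Fin.sum_univ_two]
  · simp [xS_coe, yS_coe, Matrix.mul_apply, Fin.sum_univ_two]
    field_simp

end Cfsg.Agent.Helper6.SLn
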