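import Mathlib
import Cfsg.Agent.Lib.Helper6.SLnD
import Cfsg.Agent.Lib.Helper6.SLnR

/-!
One step of the induction: the subgroup generated by the root elements with indices in `insert o J'` is the union
of `V⁻ Q` and `Γ' w Q`, where `Q` is generated by the root elements `x_oj`, the group `Γ'` belonging to `J'`, and
the torus elements `h_oe(s)`.
-/

set_option autoImplicit false
set_option linter.unusedSectionVars false
set_option linter.unusedVariables false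

namespace Cfsg.Agent.Helper6.SLn

open Cfsg.Agent.Helper6

variable {I : Type*} [DecidableEq I] {K : Type*} [Field K] {Γ : Type*} [Group Γ]

/-- index pairs `(k, o)`, `k ∈ J'` -/
def Zm (o : I) (J' : Finset I) (k l : I) : Prop := k ∈ J' ∧ l = o
/-- index pairs `(o, l)`, `l ∈ J'` -/
def Zp (o : I) (J' : Finset I) (k l : I) : Prop := k = o ∧ l ∈ J'
/-- index pairs in `J'` -/
def Zg (J' : Finset I) (k l : I) : Prop := k ∈ J' ∧ l ∈ J'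
/-- index pairs in `insert o J'` -/
def ZJ (o : I) (J' : Finset I) (k l : I) : Prop := (k = o ∨ k ∈ J') ∧ (l = o ∨ l ∈ J')
/-- index pairs `(k, o)`, `k ∈ J'`, `k ≠ e` -/
def Zm2 (o e : I) (J' : Finset I) (k l : I) : Prop := k ∈ J' ∧ k ≠ e ∧ l = o
/-- index pairs `(o, l)`, `l ∈ J'`, `l ≠ e` -/
def Zp2 (o e : I) (J' : Finset I) (k l : I) : Prop := k = o ∧ l ∈ J' ∧ l ≠ e
/-- index pairs `(k, e)`, `k ∈ J'`, `k ≠ e` -/
def Z12 (e : I) (J' : Finset I) (k l : I) : Prop := k ∈ J' ∧ k ≠ e ∧ l = e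
/-- index pairs `(k, o)` and `(k, e)`, `k ∈ J'`, `k ≠ e` -/
def ZM (o e : I) (J' : Finset I) (k l : I) : Prop := k ∈ J' ∧ k ≠ e ∧ (l = o ∨ l = e)

/-- the torus elements `h_oe(s)` -/
def T1 (X : I → I → K → Γ) (o e : I) : Subgroup Γ :=
  Subgroup.closure {h | ∃ s : K, s ≠ 0 ∧ h = hh X o e s}

/-- the Levi part -/
def LL (X : I → I → K → Γ) (o e : I) (J' : Finset I) : Subgroup Γ := GZ X (Zg J') ⊔ T1 X o e

/-- the parabolic subgroup -/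
def QQ (X : I → I → K → Γ) (o e : I) (J' : Finset I) : Subgroup Γ := GZ X (Zp o J') ⊔ LL X o e J'

/-- the hypotheses of one step -/
structure Step (X : I → I → K → Γ) (o e : I) (J' : Finset I) : Prop where
  S : StRel X
  hgen : Subgroup.closure (StRel.gens X) = ⊤
  hoe : o ≠ e
  he : e ∈ J'
  ho : o ∉ J'
  hm : ∃ m : I, m ≠ o ∧ m ≠ e

namespace Step

variable {X : I → I → K → Γ} {o e : I} {J' : Finset I} (H : Step X o e J')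
include H

theorem ne_o {k : I} (hk : k ∈ J') : k ≠ o := fun h => H.ho (h ▸ hk)

section torus

variable [Finite K]

theorem hh_one : hh X o e (1 : K) = 1 := (H.S.rankOneSym H.hoe H.hm).hh_one

theorem mem_T1 {h : Γ} (hh' : h ∈ T1 X o e) : ∃ s : K, s ≠ 0 ∧ h = hh X o e s := by
  unfold T1 at hh'
  induction hh' using Subgroup.closure_induction with
  | mem x hx => exact hx
  | one => exact ⟨1, one_ne_zero, H.hh_one.symm⟩
  | mul x y _ _ hx hy =>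
    obtain ⟨s, hs, rfl⟩ := hx
    obtain ⟨s', hs', rfl⟩ := hy
    exact ⟨s * s', mul_ne_zero hs hs', H.S.hh_mul H.hgen H.hoe H.hm s s' hs hs'⟩
  | inv x _ hx =>
    obtain ⟨s, hs, rfl⟩ := hx
    refine ⟨s⁻¹, inv_ne_zero hs, ?_⟩
    rw [inv_eq_iff_mul_eq_one, H.S.hh_mul H.hgen H.hoe H.hm s s⁻¹ hs (inv_ne_zero hs),
      mul_inv_cancel₀ hs, H.hh_one]

end torus

theorem hh_mem_T1 (s : K) (hs : s ≠ 0) : hh X o e s ∈ T1 X o e :=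
  Subgroup.subset_closure ⟨s, hs, rfl⟩

theorem T1_le_normalizer (R : I → I → Prop) : T1 X o e ≤ Subgroup.normalizer (GZ X R : Set Γ) := by
  unfold T1
  rw [Subgroup.closure_le]
  rintro _ ⟨s, hs, rfl⟩
  exact H.S.hh_mem_normalizer H.hoe H.hm s hs

/-- `Γ'` normalises `V⁻` -/
theorem Zg_le_normalizer_Zm : GZ X (Zg J') ≤ Subgroup.normalizer (GZ X (Zm o J') : Set Γ) := by
  apply H.S.GZ_le_normalizer
  rintro i j k l hij hkl ⟨hi, hj⟩ ⟨hk, rfl⟩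
  refine ⟨?_, ?_, ?_⟩
  · rintro ⟨_, rfl⟩
    exact H.ho hi
  · intro _
    exact ⟨hi, rfl⟩
  · rintro rfl
    exact absurd hi H.ho

/-- `Γ'` normalises `V⁺` -/
theorem Zg_le_normalizer_Zp : GZ X (Zg J') ≤ Subgroup.normalizer (GZ X (Zp o J') : Set Γ) := by
  apply H.S.GZ_le_normalizer
  rintro i j k l hij hkl ⟨hi, hj⟩ ⟨rfl, hl⟩
  refine ⟨?_, ?_, ?_⟩
  · rintro ⟨rfl, _⟩
    exact H.ho hj
  · rintro rfl
    exact absurd hj H.ho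
  · intro _
    exact ⟨rfl, hj⟩

theorem LL_le_normalizer_Zp : LL X o e J' ≤ Subgroup.normalizer (GZ X (Zp o J') : Set Γ) :=
  sup_le H.Zg_le_normalizer_Zp (H.T1_le_normalizer _)

theorem Zg_le_QQ : GZ X (Zg J') ≤ QQ X o e J' := le_trans le_sup_left le_sup_right

theorem T1_le_QQ : T1 X o e ≤ QQ X o e J' := le_trans le_sup_right le_sup_right

theorem Zp_le_QQ : GZ X (Zp o J') ≤ QQ X o e J' := le_sup_left

theorem Zm2_le_Zm : GZ X (Zm2 o e J') ≤ GZ X (Zm o J') :=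
  GZ_mono (fun i j _ h => ⟨h.1, h.2.2⟩)

theorem Zm2_le_ZM : GZ X (Zm2 o e J') ≤ GZ X (ZM o e J') :=
  GZ_mono (fun i j _ h => ⟨h.1, h.2.1, Or.inl h.2.2⟩)

theorem Z12_le_Zg : GZ X (Z12 e J') ≤ GZ X (Zg J') :=
  GZ_mono (fun i j _ h => ⟨h.1, h.2.2 ▸ H.he⟩)

theorem Xeo_mem_Zm (c : K) : X e o c ∈ GZ X (Zm o J') := X_mem_GZ H.hoe.symm ⟨H.he, rfl⟩ c

theorem Xoe_mem_Zp (c : K) : X o e c ∈ GZ X (Zp o J') := X_mem_GZ H.hoe ⟨rfl, H.he⟩ c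

theorem ww_inv : (ww X o e (1 : K))⁻¹ = ww X o e (-1) :=
  ((H.S.rankOneSym H.hoe H.hm).nn_neg 1).symm

/-- `w⁻¹ V⁻ w ≤ Q` -/
theorem cj_winv_Zm : ∀ v ∈ GZ X (Zm o J'), cj (ww X o e (1 : K))⁻¹ v ∈ QQ X o e J' := by
  rw [H.ww_inv]
  apply cj_mem_of_gens
  rintro _ ⟨k, l, u, hkl, ⟨hk, rfl⟩, rfl⟩
  obtain ⟨m, hmo, hme⟩ := H.hm
  by_cases hke : k = e
  · subst hke
    rw [H.S.ww_cj_F H.hoe hmo hme (-1) (by simp)]
    exact H.Zp_le_QQ (H.Xoe_mem_Zp _)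
  · rw [H.S.ww_cj_C H.hoe hkl hke (-1) (by simp)]
    exact H.Zg_le_QQ (X_mem_GZ hke ⟨hk, H.he⟩ _)

/-- `w⁻¹ V⁺'' w ≤ Γ'` -/
theorem cj_winv_Zp2 : ∀ v ∈ GZ X (Zp2 o e J'), cj (ww X o e (1 : K))⁻¹ v ∈ GZ X (Zg J') := by
  rw [H.ww_inv]
  apply cj_mem_of_gens
  rintro _ ⟨k, l, u, hkl, ⟨rfl, hl, hle⟩, rfl⟩
  rw [H.S.ww_cj_A H.hoe hkl (fun h => hle h.symm) (-1) (by simp)]
  exact X_mem_GZ (fun h => hle h.symm) ⟨H.he, hl⟩ _

/-- `w M w⁻¹ ≤ M` -/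
theorem cj_w_ZM : ∀ v ∈ GZ X (ZM o e J'), cj (ww X o e (1 : K)) v ∈ GZ X (ZM o e J') := by
  apply cj_mem_of_gens
  rintro _ ⟨k, l, u, hkl, ⟨hk, hke, hl⟩, rfl⟩
  rcases hl with rfl | rfl
  · rw [H.S.ww_cj_C H.hoe hkl hke 1 one_ne_zero]
    exact X_mem_GZ hke ⟨hk, hke, Or.inr rfl⟩ _
  · rw [H.S.ww_cj_D H.hoe (H.ne_o hk) hkl 1 one_ne_zero]
    exact X_mem_GZ (H.ne_o hk) ⟨hk, hke, Or.inl rfl⟩ _

theorem Z12_le_normalizer_Zm2 :
    GZ X (Z12 e J') ≤ Subgroup.normalizer (GZ X (Zm2 o e J') : Set Γ) := by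
  apply H.S.GZ_le_normalizer
  rintro i j k l hij hkl ⟨hi, hie, rfl⟩ ⟨hk, hke, rfl⟩
  refine ⟨?_, ?_, ?_⟩
  · rintro ⟨rfl, _⟩
    exact hke rfl
  · rintro rfl
    exact absurd rfl hke
  · rintro rfl
    exact absurd hi H.ho

/-- `M = V⁻'' Y''` -/
theorem ZM_decomp : ∀ m ∈ GZ X (ZM o e J'),
    ∃ v ∈ GZ X (Zm2 o e J'), ∃ y ∈ GZ X (Z12 e J'), m = v * y := by
  intro m hm
  have hle : GZ X (ZM o e J') ≤ GZ X (Zm2 o e J') ⊔ GZ X (Z12 e J') := by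
    apply GZ_le
    rintro i j hij ⟨hi, hie, hj⟩ t
    rcases hj with rfl | rfl
    · exact Subgroup.mem_sup_left (X_mem_GZ hij ⟨hi, hie, rfl⟩ t)
    · exact Subgroup.mem_sup_right (X_mem_GZ hij ⟨hi, hie, rfl⟩ t)
  exact mem_sup_of_normalizer H.Z12_le_normalizer_Zm2 (hle hm)

theorem Xoe_mem_normalizer_ZM (a : K) :
    X o e a ∈ Subgroup.normalizer (GZ X (ZM o e J') : Set Γ) := by
  apply H.S.X_mem_normalizer H.hoe
  rintro k l hkl ⟨hk, hke, hl⟩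
  refine ⟨?_, ?_, ?_⟩
  · rintro ⟨rfl, _⟩
    exact hke rfl
  · rintro rfl
    exact absurd rfl hke
  · intro _
    exact ⟨hk, hke, Or.inr rfl⟩

/-- `V⁻ = x_eo(K) V⁻''` -/
theorem Zm_decomp : ∀ v ∈ GZ X (Zm o J'), ∃ c, ∃ v' ∈ GZ X (Zm2 o e J'), v = X e o c * v' := by
  apply H.S.GZ_decomp H.hoe.symm
  · rintro i j hij ⟨hi, rfl⟩
    by_cases hie : i = e
    · exact Or.inl ⟨hie, rfl⟩
    · exact Or.inr ⟨hi, hie, rfl⟩
  · rintro i j hij ⟨hi, hie, rfl⟩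
    exact ⟨H.ne_o hi, H.hoe⟩

/-- `V⁺ = x_oe(K) V⁺''` -/
theorem Zp_decomp : ∀ v ∈ GZ X (Zp o J'), ∃ c, ∃ v' ∈ GZ X (Zp2 o e J'), v = X o e c * v' := by
  apply H.S.GZ_decomp H.hoe
  · rintro i j hij ⟨rfl, hj⟩
    by_cases hje : j = e
    · exact Or.inl ⟨rfl, hje⟩
    · exact Or.inr ⟨rfl, hj, hje⟩
  · rintro i j hij ⟨rfl, hj, hje⟩
    exact ⟨H.hoe, H.ne_o hj⟩

end Step

end Cfsg.Agent.Helper6.SLn
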