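import Mathlib
import Cfsg.Agent.Lib.Helper6.SLnE

/-!
One step of the induction, continued: the set `V⁻ Q ∪ Γ' w Q` is stable under left multiplication by the root
elements with indices in `insert o J'`.
-/

set_option autoImplicit false
set_option linter.unusedSectionVars false
set_option linter.unusedVariables false

namespace Cfsg.Agent.Helper6.SLn

open Cfsg.Agent.Helper6 Cfsg.Agent.Helper6.SL2Hom

variable {I : Type*} [DecidableEq I] {K : Type*} [Field K] [Finite K] {Γ : Type*} [Group Γ]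

/-- the union of the two double cosets -/
def SS (X : I → I → K → Γ) (o e : I) (J' : Finset I) : Set Γ :=
  {g | ∃ v ∈ GZ X (Zm o J'), ∃ q ∈ QQ X o e J', g = v * q} ∪
    {g | ∃ γ ∈ GZ X (Zg J'), ∃ q ∈ QQ X o e J', g = γ * ww X o e 1 * q}

theorem cj_mul_self (a b : Γ) : cj a b * a = a * b := by
  unfold cj
  group

theorem mul_cj_inv (a b : Γ) : a * cj a⁻¹ b = b * a := by
  unfold cj
  group

theorem cj_mem_of_mem_normalizer {N : Subgroup Γ} {a : Γ} (ha : a ∈ Subgroup.normalizer (N : Set Γ))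
    {b : Γ} (hb : b ∈ N) : cj a b ∈ N :=
  (Subgroup.mem_normalizer_iff.1 ha b).1 hb

namespace Step

variable {X : I → I → K → Γ} {o e : I} {J' : Finset I} (H : Step X o e J')
include H

/-- the homomorphism from `SL₂` onto the rank one group of `o`, `e` -/
noncomputable def psi : Matrix.SpecialLinearGroup (Fin 2) K →* Γ :=
  (H.S.rankOne H.hgen H.hoe H.hm).hom

theorem psi_xS (t : K) : H.psi (xS t) = X o e t := (H.S.rankOne H.hgen H.hoe H.hm).hom_xS t

theorem psi_yS (t : K) : H.psi (yS t) = X e o t := (H.S.rankOne H.hgen H.hoe H.hm).hom_yS t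

theorem psi_wS : H.psi (wS K) = ww X o e 1 := by
  unfold wS ww
  rw [map_mul, map_mul, H.psi_xS, H.psi_yS, inv_one]

theorem psi_dS (s : K) : H.psi (dS s) = hh X o e s := by
  unfold dS hh ww
  rw [map_mul, map_mul, map_mul, map_mul, map_mul, H.psi_xS, H.psi_yS, H.psi_xS, H.psi_yS]
  have e1 : -(-1 : K)⁻¹ = 1 := by
    rw [inv_neg, inv_one, neg_neg]
  rw [e1]

/-- the two cells of the rank one group -/
theorem bruhat1 (g : Matrix.SpecialLinearGroup (Fin 2) K) :
    (∃ c s d, s ≠ 0 ∧ H.psi g = X e o c * hh X o e s * X o e d) ∨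
      (∃ s d, s ≠ 0 ∧ H.psi g = ww X o e 1 * hh X o e s * X o e d) := by
  by_cases h : g 0 0 = 0
  · obtain ⟨h10, hg⟩ := eq_of_eq_zero g h
    right
    refine ⟨-(g 1 0), g 1 1 / g 1 0, neg_ne_zero.2 h10, ?_⟩
    conv_lhs => rw [hg]
    rw [map_mul, map_mul, H.psi_wS, H.psi_dS, H.psi_xS]
  · left
    refine ⟨g 1 0 / g 0 0, g 0 0, g 0 1 / g 0 0, h, ?_⟩
    conv_lhs => rw [eq_of_ne_zero g h]
    rw [map_mul, map_mul, H.psi_yS, H.psi_dS, H.psi_xS]

theorem hh_X_mem_QQ (s : K) (hs : s ≠ 0) (d : K) : hh X o e s * X o e d ∈ QQ X o e J' :=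
  mul_mem (H.T1_le_QQ (H.hh_mem_T1 s hs)) (H.Zp_le_QQ (H.Xoe_mem_Zp d))

theorem hh_X_mem_normalizer_ZM (s : K) (hs : s ≠ 0) (d : K) :
    hh X o e s * X o e d ∈ Subgroup.normalizer (GZ X (ZM o e J') : Set Γ) :=
  mul_mem (H.S.hh_mem_normalizer H.hoe H.hm s hs) (H.Xoe_mem_normalizer_ZM d)

theorem mem_SS_left {v q : Γ} (hv : v ∈ GZ X (Zm o J')) (hq : q ∈ QQ X o e J') :
    v * q ∈ SS X o e J' := Or.inl ⟨v, hv, q, hq, rfl⟩

theorem mem_SS_right {γ q : Γ} (hγ : γ ∈ GZ X (Zg J')) (hq : q ∈ QQ X o e J') :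
    γ * ww X o e 1 * q ∈ SS X o e J' := Or.inr ⟨γ, hγ, q, hq, rfl⟩

theorem one_mem_SS : (1 : Γ) ∈ SS X o e J' := by
  have := H.mem_SS_left (one_mem (GZ X (Zm o J'))) (one_mem (QQ X o e J'))
  rwa [one_mul] at this

/-- stability under right multiplication by `Q` -/
theorem SS_mul_QQ {g q : Γ} (hg : g ∈ SS X o e J') (hq : q ∈ QQ X o e J') : g * q ∈ SS X o e J' := by
  rcases hg with ⟨v, hv, q', hq', rfl⟩ | ⟨γ, hγ, q', hq', rfl⟩
  · rw [mul_assoc]
    exact H.mem_SS_left hv (mul_mem hq' hq)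
  · rw [mul_assoc]
    exact H.mem_SS_right hγ (mul_mem hq' hq)

/-- stability under left multiplication by `Γ'` -/
theorem Zg_mul_SS {γ₀ g : Γ} (hγ₀ : γ₀ ∈ GZ X (Zg J')) (hg : g ∈ SS X o e J') :
    γ₀ * g ∈ SS X o e J' := by
  rcases hg with ⟨v, hv, q, hq, rfl⟩ | ⟨γ, hγ, q, hq, rfl⟩
  · have : γ₀ * (v * q) = cj γ₀ v * (γ₀ * q) := by
      unfold cj
      group
    rw [this]
    exact H.mem_SS_left (cj_mem_of_mem_normalizer (H.Zg_le_normalizer_Zm hγ₀) hv)
      (mul_mem (H.Zg_le_QQ hγ₀) hq)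
  · have : γ₀ * (γ * ww X o e 1 * q) = (γ₀ * γ) * ww X o e 1 * q := by
      group
    rw [this]
    exact H.mem_SS_right (mul_mem hγ₀ hγ) hq

/-- `V⁻ w Q = w Q` -/
theorem Zm_mul_w {v q : Γ} (hv : v ∈ GZ X (Zm o J')) (hq : q ∈ QQ X o e J') :
    ∃ q' ∈ QQ X o e J', v * ww X o e 1 * q = ww X o e 1 * q' := by
  refine ⟨cj (ww X o e (1 : K))⁻¹ v * q, mul_mem (H.cj_winv_Zm v hv) hq, ?_⟩
  rw [← mul_assoc, mul_cj_inv]

/-- stability under left multiplication by `x_eo` -/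
theorem Xeo_mul_SS (a : K) {g : Γ} (hg : g ∈ SS X o e J') : X e o a * g ∈ SS X o e J' := by
  rcases hg with ⟨v, hv, q, hq, rfl⟩ | ⟨γ, hγ, q, hq, rfl⟩
  · rw [← mul_assoc]
    exact H.mem_SS_left (mul_mem (H.Xeo_mem_Zm a) hv) hq
  · have hv' : cj γ⁻¹ (X e o a) ∈ GZ X (Zm o J') :=
      cj_mem_of_mem_normalizer (H.Zg_le_normalizer_Zm (inv_mem hγ)) (H.Xeo_mem_Zm a)
    obtain ⟨q', hq', e1⟩ := H.Zm_mul_w hv' hq
    have : X e o a * (γ * ww X o e 1 * q) = γ * (cj γ⁻¹ (X e o a) * ww X o e 1 * q) := by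
      unfold cj
      group
    rw [this, e1, ← mul_assoc]
    exact H.mem_SS_right hγ hq'

/-- the rank one group lies in the union of the two double cosets -/
theorem psi_mem_SS (g : Matrix.SpecialLinearGroup (Fin 2) K) : H.psi g ∈ SS X o e J' := by
  rcases H.bruhat1 g with ⟨c, s, d, hs, hg⟩ | ⟨s, d, hs, hg⟩
  · rw [hg, mul_assoc]
    exact H.mem_SS_left (H.Xeo_mem_Zm c) (H.hh_X_mem_QQ s hs d)
  · rw [hg, mul_assoc]
    have := H.mem_SS_right (one_mem (GZ X (Zg J'))) (H.hh_X_mem_QQ s hs d)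
    rwa [one_mul] at this

/-- stability under left multiplication by `x_oe` -/
theorem Xoe_mul_SS (a : K) {g : Γ} (hg : g ∈ SS X o e J') : X o e a * g ∈ SS X o e J' := by
  rcases hg with ⟨v, hv, q, hq, rfl⟩ | ⟨γ, hγ, q, hq, rfl⟩
  · obtain ⟨c, v2, hv2, rfl⟩ := H.Zm_decomp v hv
    have e0 : X o e a * (X e o c * v2 * q) = H.psi (xS a * yS c) * v2 * q := by
      rw [map_mul, H.psi_xS, H.psi_yS]
      group
    rw [e0]
    rcases H.bruhat1 (xS a * yS c) with ⟨c', s, d, hs, hg⟩ | ⟨s, d, hs, hg⟩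
    · rw [hg]
      have hbN := H.hh_X_mem_normalizer_ZM s hs d
      have hbQ := H.hh_X_mem_QQ s hs d
      have hm : cj (hh X o e s * X o e d) v2 ∈ GZ X (ZM o e J') :=
        cj_mem_of_mem_normalizer hbN (H.Zm2_le_ZM hv2)
      obtain ⟨v1, hv1, y1, hy1, e1⟩ := H.ZM_decomp _ hm
      have e2 : X e o c' * hh X o e s * X o e d * v2 * q =
          (X e o c' * v1) * (y1 * ((hh X o e s * X o e d) * q)) := by
        have : X e o c' * hh X o e s * X o e d * v2 * q =
            X e o c' * cj (hh X o e s * X o e d) v2 * ((hh X o e s * X o e d) * q) := by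
          unfold cj
          group
        rw [this, e1]
        group
      rw [e2]
      exact H.mem_SS_left (mul_mem (H.Xeo_mem_Zm c') (H.Zm2_le_Zm hv1))
        (mul_mem (H.Zg_le_QQ (H.Z12_le_Zg hy1)) (mul_mem hbQ hq))
    · rw [hg]
      have hbN := H.hh_X_mem_normalizer_ZM s hs d
      have hbQ := H.hh_X_mem_QQ s hs d
      have hm : cj (hh X o e s * X o e d) v2 ∈ GZ X (ZM o e J') :=
        cj_mem_of_mem_normalizer hbN (H.Zm2_le_ZM hv2)
      have hm' := H.cj_w_ZM _ hm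
      obtain ⟨v1, hv1, y1, hy1, e1⟩ := H.ZM_decomp _ hm'
      have hv1' : cj y1⁻¹ v1 ∈ GZ X (Zm o J') :=
        cj_mem_of_mem_normalizer (H.Zg_le_normalizer_Zm (inv_mem (H.Z12_le_Zg hy1)))
          (H.Zm2_le_Zm hv1)
      obtain ⟨q', hq', e3⟩ := H.Zm_mul_w hv1' (mul_mem hbQ hq)
      have e2 : ww X o e 1 * hh X o e s * X o e d * v2 * q =
          y1 * (cj y1⁻¹ v1 * ww X o e 1 * ((hh X o e s * X o e d) * q)) := by
        have : ww X o e 1 * hh X o e s * X o e d * v2 * q =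
            cj (ww X o e 1) (cj (hh X o e s * X o e d) v2) * ww X o e 1 *
              ((hh X o e s * X o e d) * q) := by
          unfold cj
          group
        rw [this, e1]
        unfold cj
        group
      rw [e2, e3, ← mul_assoc]
      exact H.mem_SS_right (H.Z12_le_Zg hy1) hq'
  · have hvp : cj γ⁻¹ (X o e a) ∈ GZ X (Zp o J') :=
      cj_mem_of_mem_normalizer (H.Zg_le_normalizer_Zp (inv_mem hγ)) (H.Xoe_mem_Zp a)
    obtain ⟨b, vp2, hvp2, e1⟩ := H.Zp_decomp _ hvp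
    have hq' : cj (ww X o e (1 : K))⁻¹ vp2 * q ∈ QQ X o e J' :=
      mul_mem (H.Zg_le_QQ (H.cj_winv_Zp2 vp2 hvp2)) hq
    have e2 : X o e a * (γ * ww X o e 1 * q) =
        γ * (H.psi (xS b * wS K) * (cj (ww X o e (1 : K))⁻¹ vp2 * q)) := by
      rw [map_mul, H.psi_xS, H.psi_wS]
      have h1 : X o e a * γ = γ * (X o e b * vp2) := by
        rw [← e1]
        unfold cj
        group
      calc X o e a * (γ * ww X o e 1 * q) = (X o e a * γ) * ww X o e 1 * q := by group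
        _ = γ * (X o e b * vp2) * ww X o e 1 * q := by rw [h1]
        _ = γ * (X o e b * ww X o e 1 * (cj (ww X o e (1 : K))⁻¹ vp2 * q)) := by
          unfold cj
          group
    rw [e2]
    exact H.Zg_mul_SS hγ (H.SS_mul_QQ (H.psi_mem_SS _) hq')

/-- left multiplication by `x` preserves the union of the two double cosets -/
def LS (X : I → I → K → Γ) (o e : I) (J' : Finset I) (x : Γ) : Prop :=
  ∀ g ∈ SS X o e J', x * g ∈ SS X o e J'

omit H in
theorem LS_mul {x y : Γ} (hx : LS X o e J' x) (hy : LS X o e J' y) : LS X o e J' (x * y) := by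
  intro g hg
  rw [mul_assoc]
  exact hx _ (hy g hg)

theorem LS_Xoe (t : K) : LS X o e J' (X o e t) := fun g hg => H.Xoe_mul_SS t hg

theorem LS_Xeo (t : K) : LS X o e J' (X e o t) := fun g hg => H.Xeo_mul_SS t hg

theorem LS_Zg {i j : I} (hij : i ≠ j) (hi : i ∈ J') (hj : j ∈ J') (t : K) : LS X o e J' (X i j t) :=
  fun g hg => H.Zg_mul_SS (X_mem_GZ hij ⟨hi, hj⟩ t) hg

theorem LS_gen {i j : I} (hij : i ≠ j) (hZ : ZJ o J' i j) (t : K) : LS X o e J' (X i j t) := by
  obtain ⟨hi, hj⟩ := hZ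
  rcases hi with rfl | hi
  · rcases hj with rfl | hj
    · exact absurd rfl hij
    · by_cases hje : j = e
      · subst hje
        exact H.LS_Xoe t
      · have e1 : X i j t = X i e t * X e j 1 * (X i e t)⁻¹ * (X e j 1)⁻¹ := by
          rw [H.S.comm3 i e j H.hoe (Ne.symm hje) hij, mul_one]
        rw [e1, ← H.S.neg H.hoe, ← H.S.neg (Ne.symm hje)]
        exact LS_mul (LS_mul (LS_mul (H.LS_Xoe t) (H.LS_Zg (Ne.symm hje) H.he hj 1)) (H.LS_Xoe (-t)))
          (H.LS_Zg (Ne.symm hje) H.he hj (-1))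
  · rcases hj with rfl | hj
    · by_cases hie : i = e
      · subst hie
        exact H.LS_Xeo t
      · have e1 : X i j t = X i e t * X e j 1 * (X i e t)⁻¹ * (X e j 1)⁻¹ := by
          rw [H.S.comm3 i e j hie H.hoe.symm hij, mul_one]
        rw [e1, ← H.S.neg hie, ← H.S.neg H.hoe.symm]
        exact LS_mul (LS_mul (LS_mul (H.LS_Zg hie hi H.he t) (H.LS_Xeo 1)) (H.LS_Zg hie hi H.he (-t)))
          (H.LS_Xeo (-1))
    · exact H.LS_Zg hij hi hj t

/-- the group generated by the root elements with indices in `insert o J'` is the union of the two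
double cosets -/
theorem GZJ_subset_SS : ∀ g ∈ GZ X (ZJ o J'), g ∈ SS X o e J' := by
  have key : ∀ g ∈ GZ X (ZJ o J'), ∀ x ∈ SS X o e J', g * x ∈ SS X o e J' := by
    refine GZ_induction H.S (p := fun g => ∀ x ∈ SS X o e J', g * x ∈ SS X o e J') ?_ ?_
    · intro x hx
      rwa [one_mul]
    · intro i j hij hZ t g _ ih x hx
      rw [mul_assoc]
      exact H.LS_gen hij hZ t _ (ih x hx)
  intro g hg
  have := key g hg 1 H.one_mem_SS
  rwa [mul_one] at this

end Step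

end Cfsg.Agent.Helper6.SLn
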