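import Mathlib
import Cfsg.Agent.Lib.Helper6.SLnF

/-!
One step of the induction, concluded: a homomorphism to `SL` sending root elements to transvections which is
injective on the group belonging to `J'` is injective on the group belonging to `insert o J'`.
-/

set_option autoImplicit false
set_option linter.unusedSectionVars false
set_option linter.unusedVariables false

namespace Cfsg.Agent.Helper6.SLn

open Cfsg.Agent.Helper6 Matrix

section mat

variable {I : Type*} [Fintype I] [DecidableEq I] {K : Type*} [Field K]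

theorem pat_mono {Z Z' : I → I → Prop} (h : ∀ k l, Z k l → Z' k l) {g : SpecialLinearGroup I K}
    (hg : Pat Z g) : Pat Z' g := fun k l hn => hg k l (fun hz => hn (h k l hz))

theorem mul_apply_col {M N : Matrix I I K} {o : I} (hN : ∀ m, m ≠ o → N m o = 0) (a : I) :
    (M * N) a o = M a o * N o o := by
  rw [Matrix.mul_apply]
  apply Finset.sum_eq_single o
  · intro m _ hm
    rw [hN m hm, mul_zero]
  · intro h
    exact absurd (Finset.mem_univ o) h

theorem mul_apply_row {M N : Matrix I I K} {o : I} (hM : ∀ m, m ≠ o → M o m = 0) (b : I) :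
    (M * N) o b = M o o * N o b := by
  rw [Matrix.mul_apply]
  apply Finset.sum_eq_single o
  · intro m _ hm
    rw [hM m hm, zero_mul]
  · intro h
    exact absurd (Finset.mem_univ o) h

theorem pat_diag2n {i j : I} (hij : i ≠ j) (a : K) (ha : a ≠ 0) :
    Pat (fun k l => k = l) (SpecialLinearGroup.diag2n hij a ha) := by
  intro k l hkl
  rw [SpecialLinearGroup.diag2n_coe, Matrix.sub_apply, Matrix.diagonal_apply_ne _ hkl,
    Matrix.one_apply_ne hkl, sub_zero]

theorem diag2n_apply_same {i j : I} (hij : i ≠ j) (a : K) (ha : a ≠ 0) :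
    (SpecialLinearGroup.diag2n hij a ha : Matrix I I K) i i = a := by
  rw [SpecialLinearGroup.diag2n_coe, Matrix.diagonal_apply_eq, if_pos rfl]

end mat

variable {I : Type*} [Fintype I] [DecidableEq I] {K : Type*} [Field K] {Γ : Type*} [Group Γ]

/-- the positions of the parabolic subgroup -/
def ZQ (o : I) (k l : I) : Prop := k = o ∨ l ≠ o

/-- the positions of the Levi subgroup -/
def ZL (o : I) (k l : I) : Prop := (k ≠ o ∧ l ≠ o) ∨ k = l

theorem ZQ_trans (o : I) : ∀ k m l, ZQ o k m → ZQ o m l → ZQ o k l := by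
  intro k m l h1 h2
  unfold ZQ at *
  by_cases hk : k = o
  · exact Or.inl hk
  · right
    rcases h1 with h1 | h1
    · exact absurd h1 hk
    · rcases h2 with h2 | h2
      · exact absurd h2 h1
      · exact h2

theorem ZL_trans (o : I) : ∀ k m l, ZL o k m → ZL o m l → ZL o k l := by
  intro k m l h1 h2
  unfold ZL at *
  rcases h1 with ⟨h1, h1'⟩ | rfl
  · rcases h2 with ⟨h2, h2'⟩ | rfl
    · exact Or.inl ⟨h1, h2'⟩
    · exact Or.inl ⟨h1, h1'⟩
  · exact h2

theorem Zg_trans (J' : Finset I) : ∀ k m l, Zg J' k m → Zg J' m l → Zg J' k l :=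
  fun k m l h1 h2 => ⟨h1.1, h2.2⟩

/-- a homomorphism to `SL` sending root elements to transvections -/
def IsTv (X : I → I → K → Γ) (φ : Γ →* SpecialLinearGroup I K) : Prop :=
  ∀ i j (h : i ≠ j) (t : K), φ (X i j t) = SpecialLinearGroup.transvection h t

theorem pat_of_mem_GZ {X : I → I → K → Γ} (S : StRel X) {φ : Γ →* SpecialLinearGroup I K}
    (hφ : IsTv X φ) {Z : I → I → Prop} (hZ : ∀ k m l, Z k m → Z m l → Z k l) :
    ∀ g ∈ GZ X Z, Pat Z (φ g) := by
  refine GZ_induction S (p := fun g => Pat Z (φ g)) ?_ ?_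
  · rw [map_one]
    exact pat_one Z
  · intro i j hij hZij t g _ ih
    rw [map_mul, hφ i j hij]
    exact pat_mul hZ (pat_transvection hij hZij t) ih

theorem phi_hh {X : I → I → K → Γ} {φ : Γ →* SpecialLinearGroup I K} (hφ : IsTv X φ) {i j : I}
    (hij : i ≠ j) (s : K) (hs : s ≠ 0) : φ (hh X i j s) = SpecialLinearGroup.diag2n hij s hs := by
  rw [Cfsg.Agent.Helper12.diag2n_eq]
  unfold hh ww
  have e1 : -(-1 : K)⁻¹ = 1 := by
    rw [inv_neg, inv_one, neg_neg]
  rw [e1]
  simp only [map_mul, hφ i j hij, hφ j i hij.symm, mul_assoc]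

theorem phi_ww_apply {X : I → I → K → Γ} {φ : Γ →* SpecialLinearGroup I K} (hφ : IsTv X φ) {i j : I}
    (hij : i ≠ j) : (φ (ww X i j 1) : Matrix I I K) i i = 0 := by
  unfold ww
  rw [inv_one]
  simp only [map_mul, hφ i j hij, hφ j i hij.symm]
  exact ww_apply_zero hij

end Cfsg.Agent.Helper6.SLn
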