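import Mathlib
import Cfsg.Agent.Lib.Helper6.SLnG

/-!
The unipotent radicals embed, and the induction step for injectivity.
-/

set_option autoImplicit false
set_option linter.unusedSectionVars false
set_option linter.unusedVariables false

namespace Cfsg.Agent.Helper6.SLn

open Cfsg.Agent.Helper6 Matrix

variable {I : Type*} [Fintype I] [DecidableEq I] {K : Type*} [Field K] {Γ : Type*} [Group Γ]

theorem Zm_trans (o : I) (J' : Finset I) (ho : o ∉ J') :
    ∀ k m l, Zm o J' k m → Zm o J' m l → Zm o J' k l := by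
  rintro k m l ⟨_, rfl⟩ ⟨h, _⟩
  exact absurd h ho

theorem Zp_trans (o : I) (J' : Finset I) (ho : o ∉ J') :
    ∀ k m l, Zp o J' k m → Zp o J' m l → Zp o J' k l := by
  rintro k m l ⟨_, h⟩ ⟨rfl, _⟩
  exact absurd h ho

namespace Step

variable {X : I → I → K → Γ} {o e : I} {J' : Finset I} (H : Step X o e J')
  {φ : Γ →* SpecialLinearGroup I K} (hφ : IsTv X φ)
include H hφ

/-- `φ` is injective on `V⁻` -/
theorem Zm_inj : ∀ v ∈ GZ X (Zm o J'), (∀ a ∈ J', (φ v : Matrix I I K) a o = 0) → v = 1 := by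
  have hle : GZ X (Zm o J') ≤ Subgroup.closure (famSet (fun a t => X a o t) J') := by
    apply GZ_le
    rintro i j hij ⟨hi, rfl⟩ t
    exact Subgroup.subset_closure ⟨i, hi, t, rfl⟩
  have hge : Subgroup.closure (famSet (fun a t => X a o t) J') ≤ GZ X (Zm o J') := by
    rw [Subgroup.closure_le]
    rintro _ ⟨b, hb, t, rfl⟩
    exact X_mem_GZ (H.ne_o hb) ⟨hb, rfl⟩ t
  intro v hv hcoord
  refine fam_inj (x := fun a t => X a o t) (A := J') ?_ ?_
    (fun a g => (φ g : Matrix I I K) a o) ?_ ?_ v (hle hv) hcoord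
  · intro a ha t u
    exact H.S.add a o (H.ne_o ha) t u
  · intro a ha b hb t u
    exact H.S.comm a o b o (H.ne_o ha) (H.ne_o hb) (H.ne_o ha) (H.ne_o hb).symm t u
  · intro a ha
    show (φ 1 : Matrix I I K) a o = 0
    rw [map_one]
    exact Matrix.one_apply_ne (H.ne_o ha)
  · intro a ha b hb t g hg
    have hp := pat_of_mem_GZ H.S hφ (Zm_trans o J' H.ho) g (hge hg)
    have hoo : (φ g : Matrix I I K) o o = 1 := hp.apply_same (fun h => H.ho h.1)
    show (φ (X b o t * g) : Matrix I I K) a o = _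
    rw [map_mul, hφ b o (H.ne_o hb)]
    simp only [Matrix.SpecialLinearGroup.coe_mul, Matrix.SpecialLinearGroup.transvection_coe]
    by_cases hab : a = b
    · subst hab
      change (Matrix.transvection a o t * (φ g : Matrix I I K)) a o = _
      rw [transvection_mul_apply_same, hoo, mul_one, if_pos rfl]
    · change (Matrix.transvection b o t * (φ g : Matrix I I K)) a o = _
      rw [transvection_mul_apply_of_ne b o a o hab, if_neg hab, add_zero]

/-- `φ` is injective on `V⁺` -/
theorem Zp_inj : ∀ v ∈ GZ X (Zp o J'), (∀ a ∈ J', (φ v : Matrix I I K) o a = 0) → v = 1 := by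
  have hle : GZ X (Zp o J') ≤ Subgroup.closure (famSet (fun a t => X o a t) J') := by
    apply GZ_le
    rintro i j hij ⟨rfl, hj⟩ t
    exact Subgroup.subset_closure ⟨j, hj, t, rfl⟩
  have hge : Subgroup.closure (famSet (fun a t => X o a t) J') ≤ GZ X (Zp o J') := by
    rw [Subgroup.closure_le]
    rintro _ ⟨b, hb, t, rfl⟩
    exact X_mem_GZ (H.ne_o hb).symm ⟨rfl, hb⟩ t
  intro v hv hcoord
  refine fam_inj (x := fun a t => X o a t) (A := J') ?_ ?_
    (fun a g => (φ g : Matrix I I K) o a) ?_ ?_ v (hle hv) hcoord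
  · intro a ha t u
    exact H.S.add o a (H.ne_o ha).symm t u
  · intro a ha b hb t u
    exact H.S.comm o a o b (H.ne_o ha).symm (H.ne_o hb).symm (H.ne_o hb).symm (H.ne_o ha) t u
  · intro a ha
    show (φ 1 : Matrix I I K) o a = 0
    rw [map_one]
    exact Matrix.one_apply_ne (H.ne_o ha).symm
  · intro a ha b hb t g hg
    have hp := pat_of_mem_GZ H.S hφ (Zp_trans o J' H.ho) g (hge hg)
    have hba : (φ g : Matrix I I K) b a = if b = a then 1 else 0 :=
      hp.apply (fun h => H.ne_o hb h.1)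
    show (φ (X o b t * g) : Matrix I I K) o a = _
    rw [map_mul, hφ o b (H.ne_o hb).symm]
    simp only [Matrix.SpecialLinearGroup.coe_mul, Matrix.SpecialLinearGroup.transvection_coe]
    change (Matrix.transvection o b t * (φ g : Matrix I I K)) o a = _
    rw [transvection_mul_apply_same, hba]
    by_cases hab : a = b
    · subst hab
      rw [if_pos rfl, if_pos rfl, mul_one]
    · rw [if_neg hab, if_neg (fun h => hab h.symm), mul_zero]

section main

variable [Finite K]

omit hφ in
theorem LL_decomp {l : Γ} (hl : l ∈ LL X o e J') :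
    ∃ γ ∈ GZ X (Zg J'), ∃ s : K, s ≠ 0 ∧ l = γ * hh X o e s := by
  obtain ⟨γ, hγ, x, hx, rfl⟩ := mem_sup_of_normalizer (H.T1_le_normalizer (Zg J')) hl
  obtain ⟨s, hs, rfl⟩ := H.mem_T1 hx
  exact ⟨γ, hγ, s, hs, rfl⟩

theorem pat_LL {l : Γ} (hl : l ∈ LL X o e J') : Pat (ZL o) (φ l) := by
  obtain ⟨γ, hγ, s, hs, rfl⟩ := H.LL_decomp hl
  rw [map_mul, phi_hh hφ H.hoe s hs]
  refine pat_mul (ZL_trans o) (pat_mono ?_ (pat_of_mem_GZ H.S hφ (Zg_trans J') γ hγ))
    (pat_mono ?_ (pat_diag2n H.hoe s hs))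
  · intro k l h
    exact Or.inl ⟨H.ne_o h.1, H.ne_o h.2⟩
  · intro k l h
    exact Or.inr h

theorem pat_QQ {q : Γ} (hq : q ∈ QQ X o e J') : Pat (ZQ o) (φ q) := by
  obtain ⟨vp, hvp, l, hl, rfl⟩ := mem_sup_of_normalizer H.LL_le_normalizer_Zp hq
  rw [map_mul]
  refine pat_mul (ZQ_trans o) (pat_mono ?_ (pat_of_mem_GZ H.S hφ (Zp_trans o J' H.ho) vp hvp))
    (pat_mono ?_ (H.pat_LL hφ hl))
  · intro k l h
    exact Or.inl h.1
  · intro k l h
    rcases h with ⟨_, h⟩ | rfl
    · exact Or.inr h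
    · by_cases hk : k = o
      · exact Or.inl hk
      · exact Or.inr hk

/-- **the induction step**: injectivity on the group of `J'` gives injectivity on the group of
`insert o J'` -/
theorem step_inj (IH : ∀ γ ∈ GZ X (Zg J'), φ γ = 1 → γ = 1) :
    ∀ g ∈ GZ X (ZJ o J'), φ g = 1 → g = 1 := by
  intro g hg hφg
  rcases H.GZJ_subset_SS g hg with ⟨v, hv, q, hq, rfl⟩ | ⟨γ, hγ, q, hq, rfl⟩
  · have hpv := pat_of_mem_GZ H.S hφ (Zm_trans o J' H.ho) v hv
    have hpq := H.pat_QQ hφ hq
    have hcol : ∀ m, m ≠ o → (φ q : Matrix I I K) m o = 0 := by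
      intro m hm
      apply hpq.apply_ne _ hm
      rintro (h | h)
      · exact hm h
      · exact h rfl
    have hmat : (φ v : Matrix I I K) * (φ q : Matrix I I K) = 1 := by
      rw [← Matrix.SpecialLinearGroup.coe_mul, ← map_mul, hφg]
      rfl
    have hoo : (φ q : Matrix I I K) o o = 1 := by
      have := congrFun (congrFun hmat o) o
      rw [mul_apply_col hcol, hpv.apply_same (fun h => H.ho h.1), one_mul, Matrix.one_apply_eq] at this
      exact this
    have hv1 : v = 1 := by
      apply H.Zm_inj hφ v hv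
      intro a ha
      have := congrFun (congrFun hmat a) o
      rw [mul_apply_col hcol, hoo, mul_one, Matrix.one_apply_ne (H.ne_o ha)] at this
      exact this
    subst hv1
    rw [one_mul] at hφg ⊢
    obtain ⟨vp, hvp, l, hl, rfl⟩ := mem_sup_of_normalizer H.LL_le_normalizer_Zp hq
    have hl' := H.pat_LL hφ (inv_mem hl)
    have e1 : φ vp = φ l⁻¹ := by
      rw [map_inv, eq_inv_iff_mul_eq_one, ← map_mul, hφg]
    have hvp1 : vp = 1 := by
      apply H.Zp_inj hφ vp hvp
      intro a ha
      rw [e1]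
      apply hl'.apply_ne _ (H.ne_o ha).symm
      rintro (⟨h, _⟩ | h)
      · exact h rfl
      · exact H.ne_o ha h.symm
    subst hvp1
    rw [one_mul] at hφg ⊢
    obtain ⟨γ, hγ, s, hs, rfl⟩ := H.LL_decomp hl
    have hpγ := pat_of_mem_GZ H.S hφ (Zg_trans J') γ hγ
    have hs1 : s = 1 := by
      have h2 : (φ γ : Matrix I I K) * (SpecialLinearGroup.diag2n H.hoe s hs : Matrix I I K) = 1 := by
        rw [← Matrix.SpecialLinearGroup.coe_mul, ← phi_hh hφ H.hoe s hs, ← map_mul, hφg]
        rfl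
      have := congrFun (congrFun h2 o) o
      rw [mul_apply_col, hpγ.apply_same (fun h => H.ho h.1), one_mul, diag2n_apply_same,
        Matrix.one_apply_eq] at this
      · exact this
      · intro m hm
        exact (pat_diag2n H.hoe s hs).apply_ne hm hm
    subst hs1
    rw [H.hh_one, mul_one] at hφg ⊢
    exact IH γ hγ hφg
  · exfalso
    have hpγ := pat_of_mem_GZ H.S hφ (Zg_trans J') γ hγ
    have hpq := H.pat_QQ hφ hq
    have hcol : ∀ m, m ≠ o → (φ q : Matrix I I K) m o = 0 := by
      intro m hm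
      apply hpq.apply_ne _ hm
      rintro (h | h)
      · exact hm h
      · exact h rfl
    have hrow : ∀ m, m ≠ o → (φ γ : Matrix I I K) o m = 0 := by
      intro m hm
      exact hpγ.apply_ne (fun h => H.ho h.1) hm.symm
    have h0 : (φ (γ * ww X o e 1 * q) : Matrix I I K) o o = 0 := by
      rw [map_mul, map_mul]
      simp only [Matrix.SpecialLinearGroup.coe_mul]
      rw [mul_apply_col hcol, mul_apply_row hrow, phi_ww_apply hφ H.hoe, mul_zero, zero_mul]
    rw [hφg] at h0
    have h1 : ((1 : SpecialLinearGroup I K) : Matrix I I K) o o = 1 := by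
      show (1 : Matrix I I K) o o = 1
      exact Matrix.one_apply_eq o
    rw [h1] at h0
    exact one_ne_zero h0

end main

end Step

end Cfsg.Agent.Helper6.SLn
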