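import Mathlib
import Cfsg.Agent.Lib.Helper6.SLnH

/-!
Injectivity of a homomorphism to `SL` sending root elements to transvections, from a group generated by root
elements subject to Steinberg's relations, over a finite field.
-/

set_option autoImplicit false
set_option linter.unusedSectionVars false
set_option linter.unusedVariables false

namespace Cfsg.Agent.Helper6.SLn

open Cfsg.Agent.Helper6 Matrix

variable {I : Type*} [Fintype I] [DecidableEq I] {K : Type*} [Field K] [Finite K] {Γ : Type*} [Group Γ]

theorem inj_on_GZ {X : I → I → K → Γ} (S : StRel X) (hgen : Subgroup.closure (StRel.gens X) = ⊤)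
    (h3 : ∀ i j : I, ∃ m : I, m ≠ i ∧ m ≠ j) {φ : Γ →* SpecialLinearGroup I K} (hφ : IsTv X φ)
    (J : Finset I) : ∀ g ∈ GZ X (Zg J), φ g = 1 → g = 1 := by
  induction J using Finset.induction_on with
  | empty =>
    intro g hg _
    have : genZ X (Zg (∅ : Finset I)) = ∅ := by
      ext y
      simp [genZ, Zg]
    unfold GZ at hg
    rw [this, Subgroup.closure_empty, Subgroup.mem_bot] at hg
    exact hg
  | insert o J' ho ih =>
    intro g hg hφg
    by_cases hJ' : J' = ∅
    · subst hJ'
      have : genZ X (Zg (insert o (∅ : Finset I))) = ∅ := by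
        ext y
        simp only [genZ, Zg, Set.mem_setOf_eq, Set.mem_empty_iff_false, iff_false]
        rintro ⟨i, j, t, hij, ⟨hi, hj⟩, _⟩
        simp only [Finset.insert_empty, Finset.mem_singleton] at hi hj
        exact hij (hi.trans hj.symm)
      unfold GZ at hg
      rw [this, Subgroup.closure_empty, Subgroup.mem_bot] at hg
      exact hg
    · obtain ⟨e, he⟩ := Finset.nonempty_iff_ne_empty.2 hJ'
      have hoe : o ≠ e := fun h => ho (h ▸ he)
      have H : Step X o e J' := ⟨S, hgen, hoe, he, ho, h3 o e⟩
      have hle : GZ X (Zg (insert o J')) ≤ GZ X (ZJ o J') := by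
        apply GZ_mono
        rintro i j _ ⟨hi, hj⟩
        exact ⟨Finset.mem_insert.1 hi, Finset.mem_insert.1 hj⟩
      exact H.step_inj hφ ih g (hle hg) hφg

/-- **injectivity** -/
theorem injective_of_stRel {X : I → I → K → Γ} (S : StRel X)
    (hgen : Subgroup.closure (StRel.gens X) = ⊤)
    (h3 : ∀ i j : I, ∃ m : I, m ≠ i ∧ m ≠ j) {φ : Γ →* SpecialLinearGroup I K} (hφ : IsTv X φ) :
    Function.Injective φ := by
  rw [injective_iff_map_eq_one]
  intro g hg
  apply inj_on_GZ S hgen h3 hφ Finset.univ g _ hg
  have hle : Subgroup.closure (StRel.gens X) ≤ GZ X (Zg (Finset.univ : Finset I)) := by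
    rw [Subgroup.closure_le]
    rintro _ ⟨i, j, t, hij, rfl⟩
    exact X_mem_GZ hij ⟨Finset.mem_univ _, Finset.mem_univ _⟩ t
  rw [hgen] at hle
  exact hle (Subgroup.mem_top g)

end Cfsg.Agent.Helper6.SLn
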