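import Mathlib
import Cfsg.Agent.Lib.Helper6.SLnI

/-!
The group presented by Steinberg's relations of type `A_{n-1}` over a finite field is `SL_n`, for `n ≥ 3`.
-/

set_option autoImplicit false
set_option linter.unusedSectionVars false
set_option linter.unusedVariables false

namespace Cfsg.Agent.Helper6.SLn

open Cfsg.Agent.Helper6 Matrix

variable (n : ℕ) (K : Type*) [Field K]

/-- the relators -/
def stRels : Set (FreeGroup ({ij : Fin n × Fin n // ij.1 ≠ ij.2} × K)) :=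
  {g : FreeGroup ({ij : Fin n × Fin n // ij.1 ≠ ij.2} × K) | ∃ (a : {ij : Fin n × Fin n // ij.1 ≠ ij.2}) (t u : K),
      g = FreeGroup.of (a, t) * FreeGroup.of (a, u) * (FreeGroup.of (a, t + u))⁻¹} ∪
    {g | ∃ (a b : {ij : Fin n × Fin n // ij.1 ≠ ij.2}) (t u : K), a.1.1 ≠ b.1.2 ∧ a.1.2 ≠ b.1.1 ∧
      g = FreeGroup.of (a, t) * FreeGroup.of (b, u) * (FreeGroup.of (a, t))⁻¹ * (FreeGroup.of (b, u))⁻¹} ∪
    {g | ∃ (a b : {ij : Fin n × Fin n // ij.1 ≠ ij.2}) (h : a.1.1 ≠ b.1.2) (t u : K), a.1.2 = b.1.1 ∧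
      g = FreeGroup.of (a, t) * FreeGroup.of (b, u) * (FreeGroup.of (a, t))⁻¹ * (FreeGroup.of (b, u))⁻¹ *
        (FreeGroup.of (⟨(a.1.1, b.1.2), h⟩, t * u))⁻¹}

variable {n K}

/-- the root elements of the presented group -/
noncomputable def XP (i j : Fin n) (t : K) : PresentedGroup (stRels n K) :=
  if h : i ≠ j then PresentedGroup.of (⟨(i, j), h⟩, t) else 1

theorem XP_of_ne {i j : Fin n} (h : i ≠ j) (t : K) :
    XP i j t = PresentedGroup.of (⟨(i, j), h⟩, t) := by
  unfold XP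
  rw [dif_pos h]

theorem stRel_XP : StRel (XP (n := n) (K := K)) := by
  refine ⟨?_, ?_, ?_⟩
  · intro i j hij t u
    rw [XP_of_ne hij, XP_of_ne hij, XP_of_ne hij]
    have hmem : FreeGroup.of ((⟨(i, j), hij⟩ : {ij : Fin n × Fin n // ij.1 ≠ ij.2}), t) *
        FreeGroup.of (⟨(i, j), hij⟩, u) * (FreeGroup.of (⟨(i, j), hij⟩, t + u))⁻¹ ∈ stRels n K :=
      Or.inl (Or.inl ⟨⟨(i, j), hij⟩, t, u, rfl⟩)
    have h1 := PresentedGroup.one_of_mem hmem
    rw [map_mul, map_mul, map_inv, mul_inv_eq_one] at h1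
    exact h1
  · intro i j k l hij hkl hil hjk t u
    rw [XP_of_ne hij, XP_of_ne hkl]
    have hmem : FreeGroup.of ((⟨(i, j), hij⟩ : {ij : Fin n × Fin n // ij.1 ≠ ij.2}), t) *
        FreeGroup.of (⟨(k, l), hkl⟩, u) * (FreeGroup.of (⟨(i, j), hij⟩, t))⁻¹ *
          (FreeGroup.of (⟨(k, l), hkl⟩, u))⁻¹ ∈ stRels n K :=
      Or.inl (Or.inr ⟨⟨(i, j), hij⟩, ⟨(k, l), hkl⟩, t, u, hil, hjk, rfl⟩)
    have h1 := PresentedGroup.one_of_mem hmem
    rw [map_mul, map_mul, map_mul, map_inv, map_inv, mul_inv_eq_one, mul_inv_eq_iff_eq_mul] at h1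
    exact h1
  · intro i j l hij hjl hil t u
    rw [XP_of_ne hij, XP_of_ne hjl, XP_of_ne hil]
    have hmem : FreeGroup.of ((⟨(i, j), hij⟩ : {ij : Fin n × Fin n // ij.1 ≠ ij.2}), t) *
        FreeGroup.of (⟨(j, l), hjl⟩, u) * (FreeGroup.of (⟨(i, j), hij⟩, t))⁻¹ *
          (FreeGroup.of (⟨(j, l), hjl⟩, u))⁻¹ * (FreeGroup.of (⟨(i, l), hil⟩, t * u))⁻¹ ∈ stRels n K :=
      Or.inr ⟨⟨(i, j), hij⟩, ⟨(j, l), hjl⟩, hil, t, u, rfl, rfl⟩
    have h1 := PresentedGroup.one_of_mem hmem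
    rw [map_mul, map_mul, map_mul, map_mul, map_inv, map_inv, map_inv, mul_inv_eq_one] at h1
    exact h1

theorem gens_XP : Subgroup.closure (StRel.gens (XP (n := n) (K := K))) = ⊤ := by
  rw [eq_top_iff, ← PresentedGroup.closure_range_of (stRels n K)]
  apply Subgroup.closure_mono
  rintro _ ⟨⟨a, t⟩, rfl⟩
  refine ⟨a.1.1, a.1.2, t, a.2, ?_⟩
  rw [XP_of_ne a.2]

/-- the images of the generators -/
def tvF (x : {ij : Fin n × Fin n // ij.1 ≠ ij.2} × K) : SpecialLinearGroup (Fin n) K :=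
  SpecialLinearGroup.transvection x.1.2 x.2

theorem tv_commute {i j k l : Fin n} (hij : i ≠ j) (hkl : k ≠ l) (hil : i ≠ l) (hjk : j ≠ k) (t u : K) :
    SpecialLinearGroup.transvection hij t * SpecialLinearGroup.transvection hkl u =
      SpecialLinearGroup.transvection hkl u * SpecialLinearGroup.transvection hij t := by
  apply Subtype.ext
  simp only [Matrix.SpecialLinearGroup.coe_mul, Matrix.SpecialLinearGroup.transvection_coe]
  simp [mul_add, add_mul, single_mul_single_of_ne _ _ _ _ hjk, single_mul_single_of_ne _ _ _ _ hil.symm]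
  abel

theorem lift_rels : ∀ r ∈ stRels n K, FreeGroup.lift (tvF (n := n) (K := K)) r = 1 := by
  rintro r ((⟨a, t, u, rfl⟩ | ⟨a, b, t, u, h1, h2, rfl⟩) | ⟨a, b, h, t, u, h1, rfl⟩)
  · simp only [map_mul, map_inv, FreeGroup.lift_apply_of, tvF]
    rw [mul_inv_eq_one, ← SpecialLinearGroup.transvection_add]
  · simp only [map_mul, map_inv, FreeGroup.lift_apply_of, tvF]
    rw [mul_inv_eq_one, mul_inv_eq_iff_eq_mul]
    exact tv_commute a.2 b.2 h1 h2 t u
  · simp only [map_mul, map_inv, FreeGroup.lift_apply_of, tvF]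
    obtain ⟨⟨i, j⟩, hij⟩ := a
    obtain ⟨⟨k, l⟩, hkl⟩ := b
    simp only at h h1 hij hkl
    subst h1
    rw [mul_inv_eq_one, SpecialLinearGroup.transvection_inv, SpecialLinearGroup.transvection_inv]
    exact Cfsg.Agent.Helper12.tv_comm_rel hij hkl h t u

/-- the homomorphism to `SL_n` -/
noncomputable def phiP : PresentedGroup (stRels n K) →* SpecialLinearGroup (Fin n) K :=
  PresentedGroup.toGroup lift_rels

theorem phiP_of (x : {ij : Fin n × Fin n // ij.1 ≠ ij.2} × K) :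
    phiP (PresentedGroup.of x) = SpecialLinearGroup.transvection x.1.2 x.2 :=
  PresentedGroup.toGroup.of lift_rels

theorem isTv_phiP : IsTv (XP (n := n) (K := K)) phiP := by
  intro i j h t
  rw [XP_of_ne h, phiP_of]

theorem exists_third (hn : 3 ≤ n) (i j : Fin n) : ∃ m : Fin n, m ≠ i ∧ m ≠ j := by
  by_contra hcon
  push Not at hcon
  have hsub : (Finset.univ : Finset (Fin n)) ⊆ {i, j} := by
    intro m _
    by_cases h : m = i
    · simp [h]
    · simp [hcon m h]
  have := Finset.card_le_card hsub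
  rw [Finset.card_univ, Fintype.card_fin] at this
  have h2 : ({i, j} : Finset (Fin n)).card ≤ 2 := Finset.card_le_two
  omega

theorem phiP_surjective (hn : 3 ≤ n) : Function.Surjective (phiP (n := n) (K := K)) := by
  have : Nontrivial (Fin n) := Fin.nontrivial_iff_two_le.2 (by omega)
  rw [← MonoidHom.range_eq_top]
  apply Cfsg.Agent.Helper12.eq_top_of_forall_transvection
  intro i j hij c
  exact ⟨PresentedGroup.of (⟨(i, j), hij⟩, c), phiP_of _⟩

/-- **Steinberg's presentation of `SL_n` over a finite field** -/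
theorem steinberg_presentation [Finite K] (hn : 3 ≤ n) :
    ∃ e : PresentedGroup (stRels n K) ≃* SpecialLinearGroup (Fin n) K,
      ∀ (a : {ij : Fin n × Fin n // ij.1 ≠ ij.2}) (t : K),
        ((e (PresentedGroup.of (a, t)) : Matrix (Fin n) (Fin n) K)) = Matrix.transvection a.1.1 a.1.2 t := by
  have hinj : Function.Injective (phiP (n := n) (K := K)) :=
    injective_of_stRel stRel_XP gens_XP (exists_third hn) isTv_phiP
  refine ⟨MulEquiv.ofBijective phiP ⟨hinj, phiP_surjective hn⟩, ?_⟩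
  intro a t
  show ((phiP (PresentedGroup.of (a, t)) : SpecialLinearGroup (Fin n) K) : Matrix (Fin n) (Fin n) K) = _
  rw [phiP_of]
  exact SpecialLinearGroup.transvection_coe a.2 t

end Cfsg.Agent.Helper6.SLn
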