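import Mathlib

/-!
# Central extensions: commutators of lifts
-/

set_option autoImplicit false
set_option linter.unusedSectionVars false
set_option linter.unusedVariables false

namespace Cfsg.Agent.Helper6.CExt

variable {E G : Type*} [Group E] [Group G] (ρ : E →* G) (hc : ρ.ker ≤ Subgroup.center E)

include hc in
theorem central_of_map_one (z : E) (hz : ρ z = 1) (x : E) : x * z = z * x :=
  Subgroup.mem_center_iff.1 (hc (MonoidHom.mem_ker.2 hz)) x

include hc in
/-- elements with the same image differ by a central element -/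
theorem exists_central_of_map_eq (x x' : E) (h : ρ x = ρ x') :
    ∃ z : E, ρ z = 1 ∧ x' = x * z ∧ ∀ y : E, y * z = z * y := by
  refine ⟨x⁻¹ * x', ?_, by group, ?_⟩
  · rw [map_mul, map_inv, h, inv_mul_cancel]
  · intro y
    apply central_of_map_one ρ hc
    rw [map_mul, map_inv, h, inv_mul_cancel]

include hc in
/-- the commutator of two elements depends only on their images -/
theorem comm_eq (x x' y y' : E) (hx : ρ x = ρ x') (hy : ρ y = ρ y') :
    x * y * x⁻¹ * y⁻¹ = x' * y' * x'⁻¹ * y'⁻¹ := by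
  obtain ⟨c, -, rfl, hcc⟩ := exists_central_of_map_eq ρ hc x x' hx
  obtain ⟨d, -, rfl, hdd⟩ := exists_central_of_map_eq ρ hc y y' hy
  have e1 : c * y = y * c := (hcc y).symm
  have e2 : c * d = d * c := (hcc d).symm
  have e3 : d * x⁻¹ = x⁻¹ * d := (hdd x⁻¹).symm
  symm
  calc x * c * (y * d) * (x * c)⁻¹ * (y * d)⁻¹
      = x * (c * y) * d * c⁻¹ * x⁻¹ * d⁻¹ * y⁻¹ := by group
    _ = x * (y * c) * d * c⁻¹ * x⁻¹ * d⁻¹ * y⁻¹ := by rw [e1]
    _ = x * y * (c * d) * c⁻¹ * x⁻¹ * d⁻¹ * y⁻¹ := by group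
    _ = x * y * (d * c) * c⁻¹ * x⁻¹ * d⁻¹ * y⁻¹ := by rw [e2]
    _ = x * y * (d * x⁻¹) * d⁻¹ * y⁻¹ := by group
    _ = x * y * (x⁻¹ * d) * d⁻¹ * y⁻¹ := by rw [e3]
    _ = x * y * x⁻¹ * y⁻¹ := by group

include hc in
/-- conjugation depends only on the image of the conjugating element -/
theorem conj_eq (x x' y : E) (hx : ρ x = ρ x') : x * y * x⁻¹ = x' * y * x'⁻¹ := by
  obtain ⟨c, -, rfl, hcc⟩ := exists_central_of_map_eq ρ hc x x' hx
  have : x * c * y * (x * c)⁻¹ = x * ((c * y) * c⁻¹) * x⁻¹ := by group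
  rw [this, ← hcc y]
  group

include hc in
/-- the commutator is multiplicative in the first variable when the second factor commutes with the other
element modulo the kernel -/
theorem comm_mul_left (x x' y : E) (h : Commute (ρ x') (ρ y)) :
    (x * x') * y * (x * x')⁻¹ * y⁻¹ = (x * y * x⁻¹ * y⁻¹) * (x' * y * x'⁻¹ * y⁻¹) := by
  have hz : ρ (x' * y * x'⁻¹ * y⁻¹) = 1 := by
    simp only [map_mul, map_inv]
    rw [h.eq]
    group
  have hcz := central_of_map_one ρ hc _ hz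
  calc (x * x') * y * (x * x')⁻¹ * y⁻¹ = x * (x' * y * x'⁻¹ * y⁻¹) * (y * x⁻¹ * y⁻¹) := by group
    _ = (x' * y * x'⁻¹ * y⁻¹) * x * (y * x⁻¹ * y⁻¹) := by rw [hcz x]
    _ = (x' * y * x'⁻¹ * y⁻¹) * (x * y * x⁻¹ * y⁻¹) := by group
    _ = (x * y * x⁻¹ * y⁻¹) * (x' * y * x'⁻¹ * y⁻¹) := (hcz _).symm

include hc in
/-- the commutator is multiplicative in the second variable when the second factor commutes with the other
element modulo the kernel -/
theorem comm_mul_right (x y y' : E) (h : Commute (ρ x) (ρ y')) :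
    x * (y * y') * x⁻¹ * (y * y')⁻¹ = (x * y * x⁻¹ * y⁻¹) * (x * y' * x⁻¹ * y'⁻¹) := by
  have hz : ρ (x * y' * x⁻¹ * y'⁻¹) = 1 := by
    simp only [map_mul, map_inv]
    rw [h.eq]
    group
  have hcz := central_of_map_one ρ hc _ hz
  calc x * (y * y') * x⁻¹ * (y * y')⁻¹
      = (x * y * x⁻¹ * y⁻¹) * (y * (x * y' * x⁻¹ * y'⁻¹)) * y⁻¹ := by group
    _ = (x * y * x⁻¹ * y⁻¹) * ((x * y' * x⁻¹ * y'⁻¹) * y) * y⁻¹ := by rw [hcz y]
    _ = (x * y * x⁻¹ * y⁻¹) * (x * y' * x⁻¹ * y'⁻¹) := by group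

/-- pure algebra: a biadditive map invariant under the scalings by `ν` and `1 + ν` vanishes -/
theorem biadd_zero {K A : Type*} [Field K] [AddCommGroup A] (b : K → K → A)
    (hl : ∀ t t' u, b (t + t') u = b t u + b t' u) (hr : ∀ t u u', b t (u + u') = b t u + b t u')
    (ν : K) (hν : ν ≠ 0) (hν2 : ν * ν + ν + 1 ≠ 0)
    (h1 : ∀ t u, b (ν * t) (ν * u) = b t u) (h2 : ∀ t u, b ((1 + ν) * t) ((1 + ν) * u) = b t u) :
    ∀ t u, b t u = 0 := by
  have key : ∀ t u, b t (ν * u) + b (ν * t) u + b t u = 0 := by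
    intro t u
    have h := h2 t u
    rw [add_mul, add_mul, one_mul, one_mul, hl, hr, hr, h1] at h
    calc b t (ν * u) + b (ν * t) u + b t u
        = (b t u + b t (ν * u) + (b (ν * t) u + b t u)) - b t u := by abel
      _ = 0 := by rw [h]; abel
  have key2 : ∀ t u, b ((ν⁻¹ + ν + 1) * t) u = 0 := by
    intro t u
    have e : b t (ν * u) = b (ν⁻¹ * t) u := by
      rw [← h1 (ν⁻¹ * t) u, ← mul_assoc, mul_inv_cancel₀ hν, one_mul]
    rw [add_mul, add_mul, one_mul, hl, hl, ← e]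
    exact key t u
  intro t u
  have hne : ν⁻¹ + ν + 1 ≠ 0 := by
    intro h
    apply hν2
    have h' : ν * (ν⁻¹ + ν + 1) = 0 := by rw [h, mul_zero]
    rw [mul_add, mul_add, mul_inv_cancel₀ hν, mul_one] at h'
    rw [← h']
    ring
  have := key2 ((ν⁻¹ + ν + 1)⁻¹ * t) u
  rwa [← mul_assoc, mul_inv_cancel₀ hne, one_mul] at this

end Cfsg.Agent.Helper6.CExt
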