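import Mathlib
import Cfsg.Agent.Lib.Helper6.SLnB
import Cfsg.Agent.Lib.Helper6.CExtBasic

/-!
Central extensions of a group generated by root elements subject to Steinberg's relations of type `A`:
commutator calculus with lifts, and the lifts of commuting root elements commute when there is a further index.
-/

set_option autoImplicit false
set_option linter.unusedSectionVars false
set_option linter.unusedVariables false

namespace Cfsg.Agent.Helper6.SLn

open Cfsg.Agent.Helper6 Cfsg.Agent.Helper6.CExt

section basic

variable {E Γ : Type*} [Group E] [Group Γ]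

/-- the commutator `a b a⁻¹ b⁻¹` -/
def cm {G : Type*} [Group G] (a b : G) : G := a * b * a⁻¹ * b⁻¹

theorem map_cm (π : E →* Γ) (a b : E) : π (cm a b) = cm (π a) (π b) := by
  unfold cm
  simp only [map_mul, map_inv]

theorem cm_conj {G : Type*} [Group G] (g a b : G) :
    g * cm a b * g⁻¹ = cm (g * a * g⁻¹) (g * b * g⁻¹) := by
  unfold cm
  group

theorem cm_of_commute {G : Type*} [Group G] {a b : G} (h : Commute a b) : cm a b = 1 := by
  unfold cm
  rw [h.eq, mul_assoc, mul_assoc, mul_inv_cancel_left, mul_inv_cancel]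

theorem commute_of_cm {G : Type*} [Group G] {a b : G} (h : cm a b = 1) : Commute a b := by
  unfold cm at h
  rw [mul_inv_eq_one, mul_inv_eq_iff_eq_mul] at h
  exact h

theorem cm_mul_right' {G : Type*} [Group G] (a b b' : G) (h : Commute b (cm a b')) :
    cm a (b * b') = cm a b * cm a b' := by
  have e : cm a (b * b') = cm a b * (b * cm a b' * b⁻¹) := by
    unfold cm
    group
  rw [e, h.eq, mul_inv_cancel_right]

theorem cm_mul_left' {G : Type*} [Group G] (a a' b : G) (h : Commute a (cm a' b)) :
    cm (a * a') b = cm a' b * cm a b := by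
  have e : cm (a * a') b = (a * cm a' b * a⁻¹) * cm a b := by
    unfold cm
    group
  rw [e, h.eq, mul_inv_cancel_right]

theorem cm_inv_swap {G : Type*} [Group G] (a b : G) : (cm a b)⁻¹ = cm b a := by
  unfold cm
  group

/-- Milnor's identity -/
theorem milnor_id {G : Type*} [Group G] (u v w : G) (h1 : Commute u w)
    (h3 : Commute (cm u v) (cm v w)) (h4 : Commute (cm (cm u v) w) (cm v w)) :
    cm u (cm v w) = cm (cm u v) w := by
  -- `u r u⁻¹ = (p r p⁻¹) q'` with `p = [u, v]`, `r = [v, w]`, `q' = [p, w]`
  have e1 : u * cm v w * u⁻¹ = cm (cm u v * v) (u * w * u⁻¹) := by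
    rw [cm_conj]
    congr 1
    unfold cm
    group
  have e2 : u * w * u⁻¹ = w := by
    rw [h1.eq, mul_inv_cancel_right]
  have e3 : cm (cm u v * v) w = (cm u v * cm v w * (cm u v)⁻¹) * cm (cm u v) w := by
    unfold cm
    group
  have e4 : u * cm v w * u⁻¹ = cm v w * cm (cm u v) w := by
    rw [e1, e2, e3, h3.eq, mul_inv_cancel_right]
  have e5 : cm u (cm v w) = (u * cm v w * u⁻¹) * (cm v w)⁻¹ := by
    unfold cm
    group
  rw [e5, e4, ← h4.eq, mul_inv_cancel_right]

variable (π : E →* Γ) (hc : π.ker ≤ Subgroup.center E)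
include hc

theorem cm_eq (a a' b b' : E) (ha : π a = π a') (hb : π b = π b') : cm a b = cm a' b' :=
  comm_eq π hc a a' b b' ha hb

/-- two elements with the same image commute with the same elements -/
theorem commute_of_map_eq {a a' c : E} (h : π a = π a') (hcm : Commute c a) : Commute c a' := by
  obtain ⟨z, _, rfl, hz⟩ := exists_central_of_map_eq π hc a a' h
  exact Commute.mul_right hcm (hz c)

/-- an element whose image commutes with `g₁` and `g₂` commutes with the lifts of `[g₁, g₂]` -/
theorem commute_of_decomp {a a1 a2 c : E} (h1 : Commute (π c) (π a1)) (h2 : Commute (π c) (π a2))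
    (ha : π a = cm (π a1) (π a2)) : Commute c a := by
  have hcm : Commute c (cm a1 a2) := by
    have e : c * cm a1 a2 * c⁻¹ = cm a1 a2 := by
      rw [cm_conj]
      apply cm_eq π hc
      · rw [map_mul, map_mul, map_inv, h1.eq, mul_inv_cancel_right]
      · rw [map_mul, map_mul, map_inv, h2.eq, mul_inv_cancel_right]
    exact mul_inv_eq_iff_eq_mul.1 e
  exact commute_of_map_eq π hc (by rw [map_cm, ha]) hcm

end basic

section st

variable {I : Type*} {K : Type*} [Field K] {E Γ : Type*} [Group E] [Group Γ]
  {X : I → I → K → Γ} (S : StRel X) (π : E →* Γ) (hc : π.ker ≤ Subgroup.center E)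
  (hs : Function.Surjective π)
include S hc hs

/-- lifts of commuting root elements commute when there is an index away from the four indices involved -/
theorem commute_lifts_of_index {i j k l h : I} (hij : i ≠ j) (hkl : k ≠ l) (hil : i ≠ l) (hjk : j ≠ k)
    (hhi : h ≠ i) (hhj : h ≠ j) (hhk : h ≠ k) (hhl : h ≠ l) (t u : K) {a b : E}
    (ha : π a = X i j t) (hb : π b = X k l u) : Commute a b := by
  obtain ⟨a1, ha1⟩ := hs (X i h t)
  obtain ⟨a2, ha2⟩ := hs (X h j 1)
  have e : π a = cm (π a1) (π a2) := by
    rw [ha, ha1, ha2]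
    unfold cm
    rw [S.comm3 i h j hhi.symm hhj hij, mul_one]
  refine (commute_of_decomp π hc ?_ ?_ e).symm
  · rw [hb, ha1]
    exact S.comm k l i h hkl hhi.symm hhk.symm hil.symm u t
  · rw [hb, ha2]
    exact S.comm k l h j hkl hhj hjk.symm hhl.symm u 1

end st

end Cfsg.Agent.Helper6.SLn
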