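import Mathlib
import Cfsg.Agent.Lib.Helper6.SLnK

/-!
Central extensions of a group generated by root elements subject to Steinberg's relations of type `A`: from the
commutation of lifts and the independence of the commutator of lifts to a family of lifts satisfying the relations.
-/

set_option autoImplicit false
set_option linter.unusedSectionVars false
set_option linter.unusedVariables false

namespace Cfsg.Agent.Helper6.SLn

open Cfsg.Agent.Helper6 Cfsg.Agent.Helper6.CExt

variable {I : Type*} {K : Type*} [Field K] {E Γ : Type*} [Group E] [Group Γ]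

/-- the two facts about lifts from which the relations lift -/
structure LiftHyp (X : I → I → K → Γ) (π : E →* Γ) : Prop where
  comm : ∀ i j k l, i ≠ j → k ≠ l → i ≠ l → j ≠ k → ∀ (t u : K) (a b : E),
    π a = X i j t → π b = X k l u → Commute a b
  prod : ∀ i j l m, i ≠ j → j ≠ l → i ≠ l → m ≠ i → m ≠ l → ∀ (c d : K) (p w u r : E),
    π p = X i j c → π w = X j l d → π u = X i m 1 → π r = X m l (c * d) → cm p w = cm u r

/-- the canonical lifts -/
noncomputable def liftY (X : I → I → K → Γ) (π : E →* Γ) (hs : Function.Surjective π)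
    (h3 : ∀ i j : I, ∃ m : I, m ≠ i ∧ m ≠ j) (i j : I) (t : K) : E :=
  cm (Function.surjInv hs (X i (h3 i j).choose 1)) (Function.surjInv hs (X (h3 i j).choose j t))

section

variable {X : I → I → K → Γ} (S : StRel X) {π : E →* Γ} (hc : π.ker ≤ Subgroup.center E)
  (hs : Function.Surjective π) (h3 : ∀ i j : I, ∃ m : I, m ≠ i ∧ m ≠ j)
include S

theorem map_liftY {i j : I} (hij : i ≠ j) (t : K) : π (liftY X π hs h3 i j t) = X i j t := by
  unfold liftY
  obtain ⟨hmi, hmj⟩ := (h3 i j).choose_spec
  rw [map_cm, Function.surjInv_eq hs, Function.surjInv_eq hs]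
  unfold cm
  rw [S.comm3 i _ j hmi.symm hmj hij, one_mul]

include hc in
theorem stRel_liftY (H : LiftHyp X π) : StRel (liftY X π hs h3) := by
  refine ⟨?_, ?_, ?_⟩
  · intro i j hij t u
    obtain ⟨hmi, hmj⟩ := (h3 i j).choose_spec
    unfold liftY
    set m := (h3 i j).choose with hm
    have hb : π (Function.surjInv hs (X m j t)) = X m j t := Function.surjInv_eq hs _
    have hb' : π (Function.surjInv hs (X m j u)) = X m j u := Function.surjInv_eq hs _
    have ha : π (Function.surjInv hs (X i m 1)) = X i m 1 := Function.surjInv_eq hs _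
    have hcomm : Commute (Function.surjInv hs (X m j t))
        (cm (Function.surjInv hs (X i m 1)) (Function.surjInv hs (X m j u))) := by
      apply H.comm m j i j hmj hij hmj hij.symm t u _ _ hb
      rw [map_cm, ha, hb']
      unfold cm
      rw [S.comm3 i m j hmi.symm hmj hij, one_mul]
    rw [← cm_mul_right' _ _ _ hcomm]
    apply cm_eq π hc
    · rfl
    · rw [map_mul, hb, hb', S.add m j hmj, Function.surjInv_eq hs]
  · intro i j k l hij hkl hil hjk t u
    exact H.comm i j k l hij hkl hil hjk t u _ _ (map_liftY S hs h3 hij t) (map_liftY S hs h3 hkl u)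
  · intro i j l hij hjl hil t u
    obtain ⟨hmi, hml⟩ := (h3 i l).choose_spec
    show cm (liftY X π hs h3 i j t) (liftY X π hs h3 j l u) = liftY X π hs h3 i l (t * u)
    conv_rhs => unfold liftY
    exact H.prod i j l _ hij hjl hil hmi hml t u _ _ _ _ (map_liftY S hs h3 hij t)
      (map_liftY S hs h3 hjl u) (Function.surjInv_eq hs _) (Function.surjInv_eq hs _)

end

/-- with a fourth index, the independence of the commutator of lifts follows from the commutation of lifts -/
theorem liftHyp_of_comm {X : I → I → K → Γ} (S : StRel X) {π : E →* Γ}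
    (hc : π.ker ≤ Subgroup.center E) (hs : Function.Surjective π)
    (h4 : ∀ i j l : I, ∃ m : I, m ≠ i ∧ m ≠ j ∧ m ≠ l)
    (hcomm : ∀ i j k l, i ≠ j → k ≠ l → i ≠ l → j ≠ k → ∀ (t u : K) (a b : E),
      π a = X i j t → π b = X k l u → Commute a b) : LiftHyp X π := by
  -- the case of a different intermediate index
  have key : ∀ i j l m, i ≠ j → j ≠ l → i ≠ l → m ≠ i → m ≠ l → m ≠ j → ∀ (c d : K) (p w u r : E),
      π p = X i j c → π w = X j l d → π u = X i m 1 → π r = X m l (c * d) → cm p w = cm u r := by
    intro i j l m hij hjl hil hmi hml hmj c d p w u r hp hw hu hr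
    obtain ⟨v, hv⟩ := hs (X m j c)
    have huv : π (cm u v) = X i j c := by
      rw [map_cm, hu, hv]
      unfold cm
      rw [S.comm3 i m j hmi.symm hmj hij, one_mul]
    have hvw : π (cm v w) = X m l (c * d) := by
      rw [map_cm, hv, hw]
      unfold cm
      rw [S.comm3 m j l hmj hjl hml]
    have huvw : π (cm (cm u v) w) = X i l (c * d) := by
      rw [map_cm, huv, hw]
      unfold cm
      rw [S.comm3 i j l hij hjl hil]
    have h1 : Commute u w := hcomm i m j l hmi.symm hjl hil hmj 1 d u w hu hw
    have h3' : Commute (cm u v) (cm v w) := hcomm i j m l hij hml hil hmj.symm c (c * d) _ _ huv hvw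
    have h4' : Commute (cm (cm u v) w) (cm v w) :=
      hcomm i l m l hil hml hil hml.symm (c * d) (c * d) _ _ huvw hvw
    have e := milnor_id u v w h1 h3' h4'
    rw [cm_eq π hc p (cm u v) w w (by rw [hp, huv]) rfl, ← e]
    exact cm_eq π hc u u (cm v w) r rfl (by rw [hvw, hr])
  refine ⟨hcomm, ?_⟩
  intro i j l m hij hjl hil hmi hml c d p w u r hp hw hu hr
  by_cases hmj : m = j
  · subst hmj
    obtain ⟨m', hm'i, hm'j, hm'l⟩ := h4 i m l
    obtain ⟨u', hu'⟩ := hs (X i m' 1)
    obtain ⟨r', hr'⟩ := hs (X m' l (c * d))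
    rw [key i m l m' hij hjl hil hm'i hm'l hm'j c d p w u' r' hp hw hu' hr']
    symm
    apply key i m l m' hij hjl hil hm'i hm'l hm'j 1 (c * d) u r u' r' hu hr hu'
    rw [one_mul, hr']
  · exact key i j l m hij hjl hil hmi hml hmj c d p w u r hp hw hu hr

end Cfsg.Agent.Helper6.SLn
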