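import Mathlib
import Cfsg.Agent.Lib.Helper6.CExtBasic

/-!
Central extensions: lifts of commuting root elements commute, by the Hall–Witt identity applied to two
configurations of type `A₃` with the same product of signs (valid when `2 ≠ 0`).  Self-contained copy, with the
commutator `a⁻¹ b⁻¹ a b` written `Kq`.
-/

set_option autoImplicit false
set_option linter.unusedSectionVars false
set_option linter.unusedVariables false

namespace Cfsg.Agent.Helper6.SLn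

open Cfsg.Agent.Helper6.CExt

/-- the commutator `a⁻¹ b⁻¹ a b` -/
def Kq {E : Type*} [Group E] (a b : E) : E := a⁻¹ * b⁻¹ * a * b

section basic

variable {E G : Type*} [Group E] [Group G] (ρ : E →* G) (hc : ρ.ker ≤ Subgroup.center E)

include hc in
theorem Kq_eq (a a' b b' : E) (ha : ρ a = ρ a') (hb : ρ b = ρ b') : Kq a b = Kq a' b' := by
  have h := comm_eq ρ hc a⁻¹ a'⁻¹ b⁻¹ b'⁻¹ (by rw [map_inv, map_inv, ha]) (by rw [map_inv, map_inv, hb])
  rw [inv_inv, inv_inv, inv_inv, inv_inv] at h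
  exact h

theorem Kq_inv (a b : E) : (Kq a b)⁻¹ = Kq b a := by
  unfold Kq
  group

theorem Kq_conj (g a b : E) : g * Kq a b * g⁻¹ = Kq (g * a * g⁻¹) (g * b * g⁻¹) := by
  unfold Kq
  group

theorem Kq_mul_left (a a' b : E) : Kq (a * a') b = a'⁻¹ * Kq a b * a' * Kq a' b := by
  unfold Kq
  group

theorem Kq_one_left (b : E) : Kq 1 b = 1 := by
  unfold Kq
  group

theorem map_Kq (a b : E) : ρ (Kq a b) = Kq (ρ a) (ρ b) := by
  unfold Kq
  simp only [map_mul, map_inv]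

/-- the Hall–Witt identity -/
theorem hall_witt_q (x y z : E) :
    (y⁻¹ * Kq (Kq x y⁻¹) z * y) * (z⁻¹ * Kq (Kq y z⁻¹) x * z) * (x⁻¹ * Kq (Kq z x⁻¹) y * x) = 1 := by
  unfold Kq
  group

end basic

variable {K : Type*} [Field K] {E Γ : Type*} [Group E] [Group Γ]

theorem Kq_of_comm {G : Type*} [Group G] (a b : G) (h : a * b = b * a) : Kq a b = 1 := by
  unfold Kq
  rw [mul_assoc, h]
  group

theorem comm_of_Kq {G : Type*} [Group G] (a b : G) (h : Kq a b = 1) : a * b = b * a := by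
  have e : a * b = b * a * Kq a b := by
    unfold Kq
    group
  rw [e, h, mul_one]

section hw

variable (ρ : E →* Γ) (hc : ρ.ker ≤ Subgroup.center E)

include hc in
/-- the commutator of two elements whose images commute is central -/
theorem Kq_central (R C : E) (h : ρ R * ρ C = ρ C * ρ R) (y : E) : y * Kq R C = Kq R C * y := by
  apply central_of_map_one ρ hc
  rw [map_Kq]
  exact Kq_of_comm _ _ h

include hc in
/-- the Hall–Witt identity for lifts of `y₁(a)`, `y₂(b)`, `y_s(c)` where `[y₁, y₂] ⊆ y_r`, `[y₂, y_s] ⊆ y_g` and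
the pairs `(y_r, y_s)`, `(y_s, y₁)`, `(y_g, y₁)` commute -/
theorem hw_three_q (y1 y2 ys yg yr : K → Γ) (e1 e2 : K)
    (hinv2 : ∀ t, (y2 t)⁻¹ = y2 (-t)) (hinvs : ∀ t, (ys t)⁻¹ = ys (-t))
    (C1 : ∀ t u : K, Kq (y1 u) (y2 t) = yr (e1 * (-t) * u))
    (C2 : ∀ t u : K, Kq (y2 u) (ys t) = yg (e2 * (-t) * u))
    (hrs : ∀ t u : K, yr t * ys u = ys u * yr t)
    (hs1 : ∀ t u : K, ys t * y1 u = y1 u * ys t)
    (hg1 : ∀ t u : K, yg t * y1 u = y1 u * yg t)
    (a b c : K) (A B C R G : E) (hA : ρ A = y1 a) (hB : ρ B = y2 b) (hC : ρ C = ys c)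
    (hR : ρ R = yr (e1 * b * a)) (hG : ρ G = yg (e2 * c * b)) :
    Kq R C * Kq G A = 1 := by
  have HW := hall_witt_q A B C
  have f1 : Kq (Kq A B⁻¹) C = Kq R C := by
    apply Kq_eq ρ hc
    · rw [map_Kq, map_inv, hA, hB, hinv2, C1, neg_neg, hR]
    · rfl
  have f2 : Kq (Kq B C⁻¹) A = Kq G A := by
    apply Kq_eq ρ hc
    · rw [map_Kq, map_inv, hB, hC, hinvs, C2, neg_neg, hG]
    · rfl
  have f3 : Kq (Kq C A⁻¹) B = 1 := by
    have hz : ρ (Kq C A⁻¹) = 1 := by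
      rw [map_Kq, map_inv, hC, hA]
      apply Kq_of_comm
      exact ((show Commute (ys c) (y1 a) from hs1 c a).inv_right).eq
    have hcz := central_of_map_one ρ hc _ hz
    exact Kq_of_comm _ _ (hcz B).symm
  have g1 : B⁻¹ * Kq R C * B = Kq R C := by
    have := Kq_central ρ hc R C (by rw [hR, hC]; exact hrs _ _) B⁻¹
    rw [this]
    group
  have g2 : C⁻¹ * Kq G A * C = Kq G A := by
    have := Kq_central ρ hc G A (by rw [hG, hA]; exact hg1 _ _) C⁻¹
    rw [this]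
    group
  rw [f1, f2, f3, g1, g2, mul_one, inv_mul_cancel, mul_one] at HW
  exact HW

end hw

section sign

variable (ρ : E →* Γ) (hc : ρ.ker ≤ Subgroup.center E) (hs : Function.Surjective ρ)

include hc hs in
/-- lifts of commuting root elements commute: the certificate by two configurations of type `A₃` with
the same product of signs, when `2 ≠ 0` -/
theorem lifts_comm_sign_q (xr xs x1 x2 xg x2' : K → Γ)
    (haddg : ∀ t u : K, xg t * xg u = xg (t + u))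
    (hinv2 : ∀ t, (x2 t)⁻¹ = x2 (-t)) (hinv2' : ∀ t, (x2' t)⁻¹ = x2' (-t))
    (hinvs : ∀ t, (xs t)⁻¹ = xs (-t))
    (e1 e2 e1' e2' : K) (he1 : e1 * e1 = 1) (he2 : e2 * e2 = 1) (he1' : e1' * e1' = 1)
    (he2' : e2' * e2' = 1) (hee : e1 * e2 = e1' * e2')
    (C1 : ∀ t u : K, Kq (x1 u) (x2 t) = xr (e1 * (-t) * u))
    (C2 : ∀ t u : K, Kq (x2 u) (xs t) = xg (e2 * (-t) * u))
    (C1' : ∀ t u : K, Kq (xg u) (x2' t) = xr (e1' * (-t) * u))
    (C2' : ∀ t u : K, Kq (x2' u) (xs t) = x1 (e2' * (-t) * u))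
    (hrs : ∀ t u : K, xr t * xs u = xs u * xr t)
    (hs1 : ∀ t u : K, xs t * x1 u = x1 u * xs t)
    (hsg : ∀ t u : K, xs t * xg u = xg u * xs t)
    (hg1 : ∀ t u : K, xg t * x1 u = x1 u * xg t)
    (h2 : (2 : K) ≠ 0)
    (a b : E) (t u : K) (ha : ρ a = xr t) (hb : ρ b = xs u) : a * b = b * a := by
  obtain ⟨L1, hL1⟩ : ∃ L : K → E, ∀ t, ρ (L t) = x1 t :=
    ⟨fun t => (hs (x1 t)).choose, fun t => (hs (x1 t)).choose_spec⟩
  obtain ⟨L2, hL2⟩ : ∃ L : K → E, ∀ t, ρ (L t) = x2 t :=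
    ⟨fun t => (hs (x2 t)).choose, fun t => (hs (x2 t)).choose_spec⟩
  obtain ⟨L2', hL2'⟩ : ∃ L : K → E, ∀ t, ρ (L t) = x2' t :=
    ⟨fun t => (hs (x2' t)).choose, fun t => (hs (x2' t)).choose_spec⟩
  obtain ⟨Ls, hLs⟩ : ∃ L : K → E, ∀ t, ρ (L t) = xs t :=
    ⟨fun t => (hs (xs t)).choose, fun t => (hs (xs t)).choose_spec⟩
  obtain ⟨Lg, hLg⟩ : ∃ L : K → E, ∀ t, ρ (L t) = xg t :=
    ⟨fun t => (hs (xg t)).choose, fun t => (hs (xg t)).choose_spec⟩
  obtain ⟨Lr, hLr⟩ : ∃ L : K → E, ∀ t, ρ (L t) = xr t :=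
    ⟨fun t => (hs (xr t)).choose, fun t => (hs (xr t)).choose_spec⟩
  -- the two identities
  have I1 : ∀ a b c : K, Kq (Lr (e1 * b * a)) (Ls c) * Kq (Lg (e2 * c * b)) (L1 a) = 1 := by
    intro a b c
    exact hw_three_q ρ hc x1 x2 xs xg xr e1 e2 hinv2 hinvs C1 C2 hrs hs1 hg1 a b c _ _ _ _ _
      (hL1 a) (hL2 b) (hLs c) (hLr _) (hLg _)
  have I2 : ∀ a b c : K, Kq (Lr (e1' * b * a)) (Ls c) * Kq (L1 (e2' * c * b)) (Lg a) = 1 := by
    intro a b c
    exact hw_three_q ρ hc xg x2' xs x1 xr e1' e2' hinv2' hinvs C1' C2' hrs hsg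
      (fun t u => (hg1 u t).symm) a b c _ _ _ _ _ (hLg a) (hL2' b) (hLs c) (hLr _) (hL1 _)
  -- normal forms
  have hee1 : (e1 * e2) * (e1 * e2) = 1 := by
    calc (e1 * e2) * (e1 * e2) = (e1 * e1) * (e2 * e2) := by ring
      _ = 1 := by rw [he1, he2, one_mul]
  have J1 : ∀ a b c : K, Kq (Lr (b * a)) (Ls c) = (Kq (Lg (e1 * e2 * c * b)) (L1 a))⁻¹ := by
    intro a b c
    have h := I1 a (e1 * b) c
    have g1 : e1 * (e1 * b) * a = b * a := by rw [← mul_assoc, he1, one_mul]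
    have g2 : e2 * c * (e1 * b) = e1 * e2 * c * b := by ring
    rw [g1, g2] at h
    exact eq_inv_of_mul_eq_one_left h
  have J2 : ∀ a b c : K, Kq (Lr (b * a)) (Ls c) = Kq (Lg a) (L1 (e1 * e2 * c * b)) := by
    intro a b c
    have h := I2 a (e1' * b) c
    have g1 : e1' * (e1' * b) * a = b * a := by rw [← mul_assoc, he1', one_mul]
    have g2 : e2' * c * (e1' * b) = e1 * e2 * c * b := by rw [hee]; ring
    rw [g1, g2] at h
    rw [eq_inv_of_mul_eq_one_left h, Kq_inv]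
  -- `P w a = Kq (Lg w) (L1 a)`
  have hP3 : ∀ w a : K, (Kq (Lg w) (L1 a))⁻¹ = Kq (Lg a) (L1 w) := by
    intro w a
    have h1 := J1 a 1 (e1 * e2 * w)
    have h2 := J2 a 1 (e1 * e2 * w)
    have g : e1 * e2 * (e1 * e2 * w) * 1 = w := by
      rw [mul_one, ← mul_assoc, hee1, one_mul]
    rw [g] at h1 h2
    rw [← h1, h2]
  have hP4 : ∀ w t : K, Kq (Lg (w * t)) (L1 1) = Kq (Lg w) (L1 t) := by
    intro w t
    have h1 := J1 1 t (e1 * e2 * w)
    have h2 := J1 t 1 (e1 * e2 * w)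
    have g1 : e1 * e2 * (e1 * e2 * w) * t = w * t := by
      rw [← mul_assoc (e1 * e2), hee1, one_mul]
    have g2 : e1 * e2 * (e1 * e2 * w) * 1 = w := by
      rw [mul_one, ← mul_assoc, hee1, one_mul]
    rw [g1, mul_one] at h1
    rw [g2, one_mul] at h2
    rw [h1] at h2
    exact inv_injective h2
  have hP5 : ∀ x : K, (Kq (Lg x) (L1 1))⁻¹ = Kq (Lg x) (L1 1) := by
    intro x
    rw [hP3 x 1, ← hP4 1 x, one_mul]
  have hPadd : ∀ w w' : K, Kq (Lg (w + w')) (L1 1) = Kq (Lg w) (L1 1) * Kq (Lg w') (L1 1) := by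
    intro w w'
    have e : Kq (Lg (w + w')) (L1 1) = Kq (Lg w * Lg w') (L1 1) := by
      apply Kq_eq ρ hc
      · rw [map_mul, hLg, hLg, hLg, haddg]
      · rfl
    rw [e, Kq_mul_left]
    have hcen := Kq_central ρ hc (Lg w) (L1 1) (by rw [hLg, hL1]; exact hg1 _ _) (Lg w')⁻¹
    rw [hcen]
    group
  have hP6 : ∀ y : K, Kq (Lg y) (L1 1) = 1 := by
    intro y
    have e : y = y / 2 + y / 2 := by
      field_simp
      ring
    rw [e, hPadd]
    nth_rewrite 1 [← hP5 (y / 2)]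
    rw [inv_mul_cancel]
  have hD : ∀ t c : K, Kq (Lr t) (Ls c) = 1 := by
    intro t c
    have h := J1 1 t c
    rw [mul_one, hP4, ← hP4, hP6, inv_one] at h
    exact h
  apply comm_of_Kq
  rw [← hD t u]
  apply Kq_eq ρ hc
  · rw [ha, hLr]
  · rw [hb, hLs]

end sign

end Cfsg.Agent.Helper6.SLn
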