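import Mathlib
import Cfsg.Agent.Lib.Helper6.SLnL
import Cfsg.Agent.Lib.Helper6.SLnSign

/-!
Central extensions of a group generated by root elements subject to Steinberg's relations of type `A`: the lifts
of commuting root elements commute, for at least five indices, and for four indices over a field with more than
two elements.
-/

set_option autoImplicit false
set_option linter.unusedSectionVars false
set_option linter.unusedVariables false

namespace Cfsg.Agent.Helper6.SLn

open Cfsg.Agent.Helper6 Cfsg.Agent.Helper6.CExt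

variable {I : Type*} {K : Type*} [Field K] {E Γ : Type*} [Group E] [Group Γ]

/-- if an element `D` fixes `g` and scales the additive family `y` commuting with `g` by a factor `β ≠ 1`, then
the lifts of `g` and of the `y v` commute -/
theorem commute_lifts_of_scaling (π : E →* Γ) (hc : π.ker ≤ Subgroup.center E)
    (hs : Function.Surjective π) (g : Γ) (y : K → Γ) (hadd : ∀ u v, y u * y v = y (u + v))
    (hgy : ∀ v, Commute g (y v)) (D : Γ) (β : K) (hβ : β ≠ 1) (hDg : D * g * D⁻¹ = g)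
    (hDy : ∀ v, D * y v * D⁻¹ = y (β * v)) {a b : E} (v : K) (ha : π a = g) (hb : π b = y v) :
    Commute a b := by
  obtain ⟨d, hd⟩ := hs D
  have hy0 : y 0 = 1 := by
    have := hadd 0 0
    rw [add_zero] at this
    exact mul_eq_left.1 this
  have hyneg : ∀ u, (y u)⁻¹ = y (-u) := by
    intro u
    rw [inv_eq_iff_mul_eq_one, hadd, add_neg_cancel, hy0]
  have hβ1 : β - 1 ≠ 0 := sub_ne_zero.2 hβ
  -- a lift of `y u` for `u = v / (β - 1)`
  obtain ⟨b0, hb0⟩ := hs (y (v / (β - 1)))
  -- invariance under conjugation by `d`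
  have hinv : cm a (d * b0 * d⁻¹) = cm a b0 := by
    have hcen : π (cm a b0) = 1 := by
      rw [map_cm, ha, hb0]
      exact cm_of_commute (hgy _)
    have h1 : d * cm a b0 * d⁻¹ = cm a b0 := by
      rw [central_of_map_one π hc _ hcen d, mul_inv_cancel_right]
    rw [← h1, cm_conj]
    apply cm_eq π hc
    · rw [map_mul, map_mul, map_inv, hd, ha, hDg]
    · rfl
  -- the commutator with `(d b0 d⁻¹) b0⁻¹`
  have hprod : cm a ((d * b0 * d⁻¹) * b0⁻¹) = 1 := by
    have e1 := comm_mul_right π hc a (d * b0 * d⁻¹) b0⁻¹ (by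
      rw [ha, map_inv, hb0]
      exact (hgy _).inv_right)
    have e2 := comm_mul_right π hc a b0 b0⁻¹ (by
      rw [ha, map_inv, hb0]
      exact (hgy _).inv_right)
    have e3 : a * (b0 * b0⁻¹) * a⁻¹ * (b0 * b0⁻¹)⁻¹ = 1 := by group
    rw [e3] at e2
    show a * ((d * b0 * d⁻¹) * b0⁻¹) * a⁻¹ * ((d * b0 * d⁻¹) * b0⁻¹)⁻¹ = 1
    rw [e1]
    have hinv' : a * (d * b0 * d⁻¹) * a⁻¹ * (d * b0 * d⁻¹)⁻¹ = a * b0 * a⁻¹ * b0⁻¹ := hinv
    rw [hinv', ← e2]
  have hmap : π ((d * b0 * d⁻¹) * b0⁻¹) = y v := by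
    rw [map_mul, map_mul, map_mul, map_inv, map_inv, hd, hb0, hDy, hyneg, hadd]
    congr 1
    field_simp
    ring
  have := commute_of_cm hprod
  exact commute_of_map_eq π hc (by rw [hmap, hb]) this

variable {X : I → I → K → Γ} (S : StRel X) {π : E →* Γ} (hc : π.ker ≤ Subgroup.center E)
  (hs : Function.Surjective π)
include S hc hs

/-- at least five indices -/
theorem comm_of_five (h5 : ∀ i j k l : I, ∃ h : I, h ≠ i ∧ h ≠ j ∧ h ≠ k ∧ h ≠ l) :
    ∀ i j k l, i ≠ j → k ≠ l → i ≠ l → j ≠ k → ∀ (t u : K) (a b : E),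
      π a = X i j t → π b = X k l u → Commute a b := by
  intro i j k l hij hkl hil hjk t u a b ha hb
  obtain ⟨h, hhi, hhj, hhk, hhl⟩ := h5 i j k l
  exact commute_lifts_of_index S π hc hs hij hkl hil hjk hhi hhj hhk hhl t u ha hb

/-- four indices, `2 ≠ 0` or an element with square different from `1` -/
theorem comm_of_four [DecidableEq I] (h4 : ∀ i j l : I, ∃ m : I, m ≠ i ∧ m ≠ j ∧ m ≠ l)
    (hK : (2 : K) ≠ 0 ∨ ∃ s : K, s ≠ 0 ∧ s ^ 2 ≠ 1) :
    ∀ i j k l, i ≠ j → k ≠ l → i ≠ l → j ≠ k → ∀ (t u : K) (a b : E),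
      π a = X i j t → π b = X k l u → Commute a b := by
  intro i j k l hij hkl hil hjk t u a b ha hb
  by_cases hik : i = k
  · subst hik
    obtain ⟨h, hhi, hhj, hhl⟩ := h4 i j l
    exact commute_lifts_of_index S π hc hs hij hkl hil hjk hhi hhj hhi hhl t u ha hb
  by_cases hjl : j = l
  · subst hjl
    obtain ⟨h, hhi, hhj, hhk⟩ := h4 i j k
    exact commute_lifts_of_index S π hc hs hij hkl hil hjk hhi hhj hhk hhj t u ha hb
  rcases hK with h2 | ⟨s, hs0, hs2⟩
  · -- two configurations of type `A₃`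
    have hneg : ∀ (p q : I), p ≠ q → ∀ v : K, (X p q v)⁻¹ = X p q (-v) :=
      fun p q hpq v => (S.neg hpq v).symm
    have hKq : ∀ (p q r : I), p ≠ q → q ≠ r → p ≠ r → ∀ c d : K,
        Kq (X p q c) (X q r d) = X p r (c * d) := by
      intro p q r hpq hqr hpr c d
      unfold Kq
      rw [hneg p q hpq, hneg q r hqr]
      have := S.comm3 p q r hpq hqr hpr (-c) (-d)
      rw [hneg p q hpq, hneg q r hqr, neg_neg, neg_neg, neg_mul_neg] at this
      exact this
    have hKq' : ∀ (p q r : I), p ≠ q → q ≠ r → p ≠ r → ∀ c d : K,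
        Kq (X q r d) (X p q c) = X p r (-(c * d)) := by
      intro p q r hpq hqr hpr c d
      rw [← Kq_inv, hKq p q r hpq hqr hpr, S.neg hpr]
    exact lifts_comm_sign_q π hc hs (X i j) (X k l) (X i l) (X l j) (X k j) (X i k)
      (S.add k j (Ne.symm hjk)) (hneg l j (Ne.symm hjl)) (hneg i k hik) (hneg k l hkl)
      (-1) 1 1 (-1) (by ring) (by ring) (by ring) (by ring) (by ring)
      (fun t u => by rw [hKq i l j hil (Ne.symm hjl) hij]; congr 1; ring)
      (fun t u => by rw [hKq' k l j hkl (Ne.symm hjl) (Ne.symm hjk)]; congr 1; ring)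
      (fun t u => by rw [hKq' i k j hik (Ne.symm hjk) hij]; congr 1; ring)
      (fun t u => by rw [hKq i k l hik hkl hil]; congr 1; ring)
      (fun t u => (S.comm i j k l hij hkl hil hjk t u).eq)
      (fun t u => (S.comm k l i l hkl hil hkl hil.symm t u).eq)
      (fun t u => (S.comm k l k j hkl (Ne.symm hjk) (Ne.symm hjk) hkl.symm t u).eq)
      (fun t u => (S.comm k j i l (Ne.symm hjk) hil hkl hij.symm t u).eq)
      h2 a b t u ha hb
  · -- the torus element `h_kl(s)`
    obtain ⟨m, hmk, hml, _⟩ := h4 k l k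
    have hDg : hh X k l s * X i j t * (hh X k l s)⁻¹ = X i j t :=
      S.hh_cj_kl hkl hij hik hil hjk hjl s t
    have hDy : ∀ v, hh X k l s * X k l v * (hh X k l s)⁻¹ = X k l (s ^ 2 * v) :=
      fun v => S.hh_cj_ij hkl hmk hml s hs0 v
    exact commute_lifts_of_scaling π hc hs (X i j t) (X k l) (S.add k l hkl)
      (fun v => S.comm i j k l hij hkl hil hjk t v) (hh X k l s) (s ^ 2) hs2 hDg hDy u ha hb

end Cfsg.Agent.Helper6.SLn
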