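import Mathlib
import Cfsg.Agent.Lib.Helper6.SLnM

/-!
Central extensions of a group generated by root elements subject to Steinberg's relations of type `A₂`, over a
field containing an element whose cube is not `1`.
-/

set_option autoImplicit false
set_option linter.unusedSectionVars false
set_option linter.unusedVariables false

namespace Cfsg.Agent.Helper6.SLn

open Cfsg.Agent.Helper6 Cfsg.Agent.Helper6.CExt

variable {I : Type*} [DecidableEq I] {K : Type*} [Field K] {E Γ : Type*} [Group E] [Group Γ]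
  {X : I → I → K → Γ}

namespace StRel

variable (S : StRel X)
include S

/-- the element `diag(c, c, c⁻²)` (entries at `i`, `j`, `l`) fixes `x_ij` -/
theorem dd_cj_ij {i j l : I} (hij : i ≠ j) (hil : i ≠ l) (hjl : j ≠ l) (c : K) (hc0 : c ≠ 0) (t : K) :
    cj (hh X i l c * hh X j l c) (X i j t) = X i j t := by
  rw [cj_mul_left, S.hh_cj_ki hjl hij hil c hc0, S.hh_cj_il hil hij hjl.symm c hc0]
  congr 1
  field_simp

/-- the element `diag(c, c, c⁻²)` scales `x_il` by `c³` -/
theorem dd_cj_il {i j l : I} (hij : i ≠ j) (hil : i ≠ l) (hjl : j ≠ l) (c : K) (hc0 : c ≠ 0) (t : K) :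
    cj (hh X i l c * hh X j l c) (X i l t) = X i l (c ^ 3 * t) := by
  rw [cj_mul_left, S.hh_cj_kj hjl hij hil c hc0, S.hh_cj_ij hil hij.symm hjl c hc0]
  congr 1
  ring

/-- the element `diag(c, c, c⁻²)` scales `x_jl` by `c³` -/
theorem dd_cj_jl {i j l : I} (hij : i ≠ j) (hil : i ≠ l) (hjl : j ≠ l) (c : K) (hc0 : c ≠ 0) (t : K) :
    cj (hh X i l c * hh X j l c) (X j l t) = X j l (c ^ 3 * t) := by
  rw [cj_mul_left, S.hh_cj_ij hjl hij hil c hc0, S.hh_cj_kj hil hij.symm hjl c hc0]
  congr 1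
  ring

/-- the element `diag(c, c⁻², c)` (entries at `i`, `k`, `j`) fixes `x_ij` -/
theorem ee_cj_ij {i j k : I} (hij : i ≠ j) (hik : i ≠ k) (hjk : j ≠ k) (c : K) (hc0 : c ≠ 0) (t : K) :
    cj (hh X i k c * hh X j k c) (X i j t) = X i j t :=
  S.dd_cj_ij hij hik hjk c hc0 t

/-- the element `diag(c, c⁻², c)` scales `x_kj` by `c⁻³` -/
theorem ee_cj_kj {i j k : I} (hij : i ≠ j) (hik : i ≠ k) (hjk : j ≠ k) (c : K) (hc0 : c ≠ 0) (t : K) :
    cj (hh X i k c * hh X j k c) (X k j t) = X k j ((c ^ 3)⁻¹ * t) := by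
  rw [cj_mul_left, S.hh_cj_ji hjk hij hik c hc0, S.hh_cj_jl hik hij hjk.symm c hc0]
  congr 1
  field_simp

end StRel

variable (S : StRel X) {π : E →* Γ} (hc : π.ker ≤ Subgroup.center E) (hs : Function.Surjective π)
include S hc hs

/-- three indices -/
theorem liftHyp_of_three (h3 : ∀ i j : I, ∃ m : I, m ≠ i ∧ m ≠ j)
    (h3u : ∀ i j m m' : I, i ≠ j → m ≠ i → m ≠ j → m' ≠ i → m' ≠ j → m = m')
    (hK : ∃ c : K, c ≠ 0 ∧ c ^ 3 ≠ 1) : LiftHyp X π := by
  obtain ⟨c0, hc0, hc3⟩ := hK
  have hcomm : ∀ i j k l, i ≠ j → k ≠ l → i ≠ l → j ≠ k → ∀ (t u : K) (a b : E),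
      π a = X i j t → π b = X k l u → Commute a b := by
    intro i j k l hij hkl hil hjk t u a b ha hb
    by_cases hik : i = k
    · subst hik
      by_cases hjl : j = l
      · subst hjl
        obtain ⟨h, hhi, hhj⟩ := h3 i j
        exact commute_lifts_of_index S π hc hs hij hkl hil hjk hhi hhj hhi hhj t u ha hb
      · -- same row
        exact commute_lifts_of_scaling π hc hs (X i j t) (X i l) (S.add i l hil)
          (fun v => S.comm i j i l hij hil hil hij.symm t v) (hh X i l c0 * hh X j l c0) (c0 ^ 3) hc3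
          (S.dd_cj_ij hij hil hjl c0 hc0 t) (fun v => S.dd_cj_il hij hil hjl c0 hc0 v) u ha hb
    · by_cases hjl : j = l
      · subst hjl
        -- same column
        have hc3' : (c0 ^ 3)⁻¹ ≠ 1 := by
          rw [ne_eq, inv_eq_one]
          exact hc3
        exact commute_lifts_of_scaling π hc hs (X i j t) (X k j) (S.add k j hkl)
          (fun v => S.comm i j k j hij hkl hij hjk t v) (hh X i k c0 * hh X j k c0) (c0 ^ 3)⁻¹ hc3'
          (S.ee_cj_ij hij hik hjk c0 hc0 t) (fun v => S.ee_cj_kj hij hik hjk c0 hc0 v) u ha hb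
      · exfalso
        exact hkl (h3u i j k l hij (Ne.symm hik) (Ne.symm hjk) (Ne.symm hil) (Ne.symm hjl))
  refine ⟨hcomm, ?_⟩
  intro i j l m hij hjl hil hmi hml c d p w u r hp hw hu hr
  have hmj : m = j := h3u i l m j hil hmi hml hij.symm hjl
  subst hmj
  set β : K := c0 ^ 3 with hβ
  have hβ1 : β - 1 ≠ 0 := sub_ne_zero.2 hc3
  obtain ⟨dt, hdt⟩ := hs (hh X i l c0 * hh X m l c0)
  -- the key identity
  have key : ∀ (t v : K) (a b₁ y : E), π a = X i m t → π b₁ = X m l ((β - 1) * v) →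
      π y = X i l (t * v) → cm a b₁ = cm dt y := by
    intro t v a b₁ y ha hb₁ hy
    obtain ⟨b, hb⟩ := hs (X m l v)
    have hab : π (cm a b) = X i l (t * v) := by
      rw [map_cm, ha, hb]
      unfold cm
      rw [S.comm3 i m l hij hjl hil]
    -- additivity in the second variable
    have hadd : ∀ (b' b'' : E) (v' v'' : K), π b' = X m l v' → π b'' = X m l v'' →
        cm a (b' * b'') = cm a b' * cm a b'' := by
      intro b' b'' v' v'' hb' hb''
      apply cm_mul_right'
      apply hcomm m l i l hjl hil hjl hil.symm v' (t * v'') b' _ hb'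
      rw [map_cm, ha, hb'']
      unfold cm
      rw [S.comm3 i m l hij hjl hil]
    have hinvb : cm a b⁻¹ = (cm a b)⁻¹ := by
      have h1 := hadd b b⁻¹ v (-v) hb (by rw [map_inv, hb, S.neg hjl])
      have h2 : cm a (b * b⁻¹) = 1 := by
        unfold cm
        group
      rw [h2] at h1
      exact (inv_eq_of_mul_eq_one_right h1.symm).symm
    have hconj : dt * cm a b * dt⁻¹ = cm a (dt * b * dt⁻¹) := by
      rw [cm_conj]
      apply cm_eq π hc
      · rw [map_mul, map_mul, map_inv, hdt, ha]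
        exact S.dd_cj_ij hij hil hjl c0 hc0 t
      · rfl
    have hdb : π (dt * b * dt⁻¹) = X m l (β * v) := by
      rw [map_mul, map_mul, map_inv, hdt, hb]
      exact S.dd_cj_jl hij hil hjl c0 hc0 v
    have e1 : cm dt (cm a b) = cm a ((dt * b * dt⁻¹) * b⁻¹) := by
      rw [hadd _ _ (β * v) (-v) hdb (by rw [map_inv, hb, S.neg hjl]), hinvb, ← hconj]
      unfold cm
      group
    rw [cm_eq π hc dt dt y (cm a b) rfl (by rw [hy, hab]), e1]
    apply cm_eq π hc _ _ _ _ rfl
    rw [hb₁, map_mul, hdb, map_inv, hb, ← S.neg hjl, S.add m l hjl]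
    congr 1
    ring
  obtain ⟨y, hy⟩ := hs (X i l (c * (d / (β - 1))))
  rw [key c (d / (β - 1)) p w y hp (by rw [hw]; congr 1; field_simp) hy]
  symm
  apply key 1 (c * d / (β - 1)) u r y hu
  · rw [hr]
    congr 1
    field_simp
  · rw [hy]
    congr 1
    ring

end Cfsg.Agent.Helper6.SLn
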