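import Mathlib
import Cfsg.Agent.Lib.Helper6.SLnN
import Cfsg.Agent.Lib.Helper6.SLnJ

/-!
Every central extension of the group presented by Steinberg's relations of type `A_{n-1}` splits, for `n ≥ 5` over
any field, for `n = 4` over a field with more than two elements, and for `n = 3` over a field containing an element
whose cube is not `1`.
-/

set_option autoImplicit false
set_option linter.unusedSectionVars false
set_option linter.unusedVariables false

namespace Cfsg.Agent.Helper6.SLn

open Cfsg.Agent.Helper6 Cfsg.Agent.Helper6.CExt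

variable {n : ℕ} {K : Type*} [Field K]

/-- a family of elements of a group satisfying the relations kills the relators -/
theorem lift_rels_of_stRel {G : Type*} [Group G] {Y : Fin n → Fin n → K → G} (SY : StRel Y) :
    ∀ r ∈ stRels n K, FreeGroup.lift
      (fun x : {ij : Fin n × Fin n // ij.1 ≠ ij.2} × K => Y x.1.1.1 x.1.1.2 x.2) r = 1 := by
  rintro r ((⟨a, t, u, rfl⟩ | ⟨a, b, t, u, h1, h2, rfl⟩) | ⟨a, b, h, t, u, h1, rfl⟩)
  · simp only [map_mul, map_inv, FreeGroup.lift_apply_of]
    rw [mul_inv_eq_one]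
    exact SY.add a.1.1 a.1.2 a.2 t u
  · simp only [map_mul, map_inv, FreeGroup.lift_apply_of]
    rw [mul_inv_eq_one, mul_inv_eq_iff_eq_mul]
    exact (SY.comm a.1.1 a.1.2 b.1.1 b.1.2 a.2 b.2 h1 h2 t u).eq
  · simp only [map_mul, map_inv, FreeGroup.lift_apply_of]
    obtain ⟨⟨i, j⟩, hij⟩ := a
    obtain ⟨⟨k, l⟩, hkl⟩ := b
    simp only at h h1 hij hkl
    subst h1
    rw [mul_inv_eq_one]
    exact SY.comm3 i j l hij hkl h t u

/-- from the two facts about lifts to a section -/
theorem exists_section_of_liftHyp {E : Type*} [Group E] (π : E →* PresentedGroup (stRels n K))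
    (hc : π.ker ≤ Subgroup.center E) (hs : Function.Surjective π)
    (h3 : ∀ i j : Fin n, ∃ m : Fin n, m ≠ i ∧ m ≠ j) (H : LiftHyp (XP (n := n) (K := K)) π) :
    ∃ s : PresentedGroup (stRels n K) →* E, π.comp s = MonoidHom.id _ := by
  have SY := stRel_liftY stRel_XP hc hs h3 H
  refine ⟨PresentedGroup.toGroup (lift_rels_of_stRel SY), ?_⟩
  apply PresentedGroup.ext
  rintro ⟨a, t⟩
  rw [MonoidHom.comp_apply, PresentedGroup.toGroup.of, MonoidHom.id_apply]
  show π (liftY XP π hs h3 a.1.1 a.1.2 t) = _
  rw [map_liftY stRel_XP hs h3 a.2, XP_of_ne a.2]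

theorem exists_four (hn : 4 ≤ n) (i j l : Fin n) : ∃ m : Fin n, m ≠ i ∧ m ≠ j ∧ m ≠ l := by
  by_contra hcon
  push Not at hcon
  have hsub : (Finset.univ : Finset (Fin n)) ⊆ {i, j, l} := by
    intro m _
    by_cases h : m = i
    · simp [h]
    · by_cases h' : m = j
      · simp [h']
      · simp [hcon m h h']
  have := Finset.card_le_card hsub
  rw [Finset.card_univ, Fintype.card_fin] at this
  have h2 : ({i, j, l} : Finset (Fin n)).card ≤ 3 := Finset.card_le_three
  omega

theorem exists_five (hn : 5 ≤ n) (i j k l : Fin n) :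
    ∃ m : Fin n, m ≠ i ∧ m ≠ j ∧ m ≠ k ∧ m ≠ l := by
  by_contra hcon
  push Not at hcon
  have hsub : (Finset.univ : Finset (Fin n)) ⊆ {i, j, k, l} := by
    intro m _
    by_cases h : m = i
    · simp [h]
    · by_cases h' : m = j
      · simp [h']
      · by_cases h'' : m = k
        · simp [h'']
        · simp [hcon m h h' h'']
  have := Finset.card_le_card hsub
  rw [Finset.card_univ, Fintype.card_fin] at this
  have h2 : ({i, j, k, l} : Finset (Fin n)).card ≤ 4 := Finset.card_le_four
  omega

theorem unique_third (i j m m' : Fin 3) (hij : i ≠ j) (hmi : m ≠ i) (hmj : m ≠ j) (hm'i : m' ≠ i)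
    (hm'j : m' ≠ j) : m = m' := by
  revert i j m m'
  decide

/-- **central extensions of the presented group split** -/
theorem exists_section {E : Type*} [Group E] (π : E →* PresentedGroup (stRels n K))
    (hc : π.ker ≤ Subgroup.center E) (hs : Function.Surjective π) (hn : 3 ≤ n)
    (h3K : n = 3 → ∃ c : K, c ≠ 0 ∧ c ^ 3 ≠ 1)
    (h4K : n = 4 → ((2 : K) ≠ 0 ∨ ∃ s : K, s ≠ 0 ∧ s ^ 2 ≠ 1)) :
    ∃ s : PresentedGroup (stRels n K) →* E, π.comp s = MonoidHom.id _ := by
  apply exists_section_of_liftHyp π hc hs (exists_third hn)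
  by_cases h3 : n = 3
  · subst h3
    exact liftHyp_of_three stRel_XP hc hs (exists_third hn) unique_third (h3K rfl)
  have hn4 : 4 ≤ n := by omega
  apply liftHyp_of_comm stRel_XP hc hs (exists_four hn4)
  by_cases h4 : n = 4
  · exact comm_of_four stRel_XP hc hs (exists_four hn4) (h4K h4)
  · exact comm_of_five stRel_XP hc hs (exists_five (by omega))

end Cfsg.Agent.Helper6.SLn
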