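import Mathlib
import Cfsg.Prelude.Def_KGroupFacts
import Cfsg.Agent.Lib.Helper6.CExtBasic

/-!
The Schur multiplier (in the sense of stem extensions) of the quotient of a finite perfect group by its centre,
when every finite central extension of the group splits.
-/

set_option autoImplicit false
set_option linter.unusedSectionVars false
set_option linter.unusedVariables false

universe u

namespace Cfsg.Agent.Helper6.SLn

open Cfsg Cfsg.Agent.Helper6.CExt

/-- every finite central extension of `C` splits -/
def SplitsCentral (C : Type u) [Group C] : Prop :=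
  ∀ (P : Type u) [Group P] [Finite P] (σ : P →* C), Function.Surjective σ →
    σ.ker ≤ Subgroup.center P → ∃ s : C →* P, σ.comp s = MonoidHom.id C

open scoped commutatorElement

theorem commutatorElement_mul_central_left {G : Type*} [Group G] (t k y : G)
    (hk : ∀ g : G, g * k = k * g) : ⁅t * k, y⁆ = ⁅t, y⁆ := by
  rw [commutatorElement_def, commutatorElement_def]
  have h : k * y * k⁻¹ = y := by
    rw [← hk y, mul_inv_cancel_right]
  calc t * k * y * (t * k)⁻¹ * y⁻¹ = t * (k * y * k⁻¹) * t⁻¹ * y⁻¹ := by group
    _ = t * y * t⁻¹ * y⁻¹ := by rw [h]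

theorem commutatorElement_mul_central_right {G : Type*} [Group G] (t y k : G)
    (hk : ∀ g : G, g * k = k * g) : ⁅t, y * k⁆ = ⁅t, y⁆ := by
  rw [commutatorElement_def, commutatorElement_def]
  have h : k * t⁻¹ * k⁻¹ = t⁻¹ := by
    rw [← hk t⁻¹, mul_inv_cancel_right]
  calc t * (y * k) * t⁻¹ * (y * k)⁻¹ = t * y * (k * t⁻¹ * k⁻¹) * y⁻¹ := by group
    _ = t * y * t⁻¹ * y⁻¹ := by rw [h]

/-- the commutator subgroup of a group which is generated by a subgroup `T` and central elements lies in `T` -/
theorem commutator_le_of_central {G : Type*} [Group G] (T : Subgroup G)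
    (h : ∀ g : G, ∃ t ∈ T, ∃ k ∈ Subgroup.center G, g = t * k) : commutator G ≤ T := by
  rw [commutator_eq_closure, Subgroup.closure_le]
  rintro _ ⟨a, b, rfl⟩
  obtain ⟨t, ht, k, hk, rfl⟩ := h a
  obtain ⟨t', ht', k', hk', rfl⟩ := h b
  rw [Subgroup.mem_center_iff] at hk hk'
  rw [SetLike.mem_coe, commutatorElement_mul_central_left _ _ _ hk,
    commutatorElement_mul_central_right _ _ _ hk', commutatorElement_def]
  exact T.mul_mem (T.mul_mem (T.mul_mem ht ht') (T.inv_mem ht)) (T.inv_mem ht')

/-- **the multiplier of the central quotient**: if every finite central extension of the finite perfect group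
`C` splits and the centre of `C` is cyclic of order `d`, then the Schur multiplier of `C / Z(C)` is cyclic of
order `d` -/
theorem hasCyclicSchurMultiplier_quotient_center {C : Type u} [Group C] [Finite C]
    (hperf : commutator C = ⊤) (hsplit : SplitsCentral C) (d : ℕ)
    (hcyc : IsCyclic (Subgroup.center C)) (hcard : Nat.card (Subgroup.center C) = d) :
    HasCyclicSchurMultiplier (C ⧸ Subgroup.center C) d := by
  subst hcard
  have e2 : Multiplicative (ZMod (Nat.card (Subgroup.center C))) ≃* Subgroup.center C :=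
    zmodCyclicMulEquiv hcyc
  constructor
  · refine ⟨C, inferInstance, inferInstance, QuotientGroup.mk' (Subgroup.center C),
      ⟨QuotientGroup.mk'_surjective _, ?_, ?_⟩, ⟨?_⟩⟩
    · rw [QuotientGroup.ker_mk']
    · rw [hperf]
      exact le_top
    · exact (MulEquiv.subgroupCongr (QuotientGroup.ker_mk' (Subgroup.center C))).trans e2.symm
  · intro Γ' _ _ σ hσ
    obtain ⟨hsurj, hker, hstem⟩ := hσ
    -- the pull-back
    let P : Subgroup (C × Γ') :=
      ((QuotientGroup.mk' (Subgroup.center C)).comp (MonoidHom.fst C Γ')).eqLocus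
        (σ.comp (MonoidHom.snd C Γ'))
    have hP : ∀ p : P, (QuotientGroup.mk' (Subgroup.center C)) p.1.1 = σ p.1.2 := fun p => p.2
    let pr1 : P →* C := (MonoidHom.fst C Γ').comp P.subtype
    have hpr1 : ∀ p : P, pr1 p = p.1.1 := fun p => rfl
    have hsurj1 : Function.Surjective pr1 := by
      intro c
      obtain ⟨x, hx⟩ := hsurj (QuotientGroup.mk' (Subgroup.center C) c)
      exact ⟨⟨(c, x), hx.symm⟩, rfl⟩
    have hker1 : pr1.ker ≤ Subgroup.center P := by
      intro p hp
      rw [MonoidHom.mem_ker, hpr1] at hp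
      have h2 : p.1.2 ∈ σ.ker := by
        rw [MonoidHom.mem_ker, ← hP p, hp, map_one]
      have h3 := Subgroup.mem_center_iff.1 (hker h2)
      rw [Subgroup.mem_center_iff]
      intro g
      apply Subtype.ext
      apply Prod.ext
      · show g.1.1 * p.1.1 = p.1.1 * g.1.1
        rw [hp, mul_one, one_mul]
      · show g.1.2 * p.1.2 = p.1.2 * g.1.2
        exact h3 g.1.2
    obtain ⟨s, hs⟩ := hsplit P pr1 hsurj1 hker1
    let τ : C →* Γ' := (MonoidHom.snd C Γ').comp (P.subtype.comp s)
    have hτ : ∀ c : C, σ (τ c) = QuotientGroup.mk' (Subgroup.center C) c := by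
      intro c
      have h1 := hP (s c)
      have h2 : (s c).1.1 = c := by
        have := congrArg (fun f : C →* C => f c) hs
        exact this
      rw [h2] at h1
      exact h1.symm
    -- the kernel is the image of the centre
    have hcomm : commutator Γ' ≤ τ.range := by
      apply commutator_le_of_central
      intro g
      obtain ⟨c, hc⟩ := QuotientGroup.mk'_surjective (Subgroup.center C) (σ g)
      refine ⟨τ c, ⟨c, rfl⟩, (τ c)⁻¹ * g, hker ?_, by group⟩
      rw [MonoidHom.mem_ker, map_mul, map_inv, hτ, hc, inv_mul_cancel]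
    have hτz : ∀ z : Subgroup.center C, τ z.1 ∈ σ.ker := by
      intro z
      rw [MonoidHom.mem_ker, hτ]
      exact (QuotientGroup.eq_one_iff _).2 z.2
    let ρ : Subgroup.center C →* σ.ker :=
      (τ.comp (Subgroup.center C).subtype).codRestrict σ.ker hτz
    refine ⟨ρ.comp e2.toMonoidHom, ?_⟩
    have hρ : Function.Surjective ρ := by
      intro k
      obtain ⟨c, hc⟩ := hcomm (hstem k.2)
      have hcz : c ∈ Subgroup.center C := by
        rw [← QuotientGroup.eq_one_iff, ← QuotientGroup.mk'_apply, ← hτ, hc]
        exact MonoidHom.mem_ker.1 k.2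
      exact ⟨⟨c, hcz⟩, Subtype.ext hc⟩
    intro k
    obtain ⟨z, hz⟩ := hρ k
    obtain ⟨a, ha⟩ := e2.surjective z
    exact ⟨a, by rw [MonoidHom.comp_apply, MulEquiv.coe_toMonoidHom, ha, hz]⟩

/-- a finite perfect group all of whose finite stem extensions are isomorphisms is such that all its finite
central extensions split -/
theorem splitsCentral_of_multiplier_one {C : Type u} [Group C] [Finite C] (hperf : commutator C = ⊤)
    (hM : HasCyclicSchurMultiplier C 1) : SplitsCentral C := by
  intro P _ _ σ hsurj hker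
  -- the commutator subgroup of `P`
  let P' : Subgroup P := commutator P
  let σ' : P' →* C := σ.comp P'.subtype
  have hσ' : ∀ x : P', σ' x = σ x.1 := fun x => rfl
  have hsurj' : Function.Surjective σ' := by
    intro c
    have hc : c ∈ commutator C := by
      rw [hperf]
      exact Subgroup.mem_top c
    have hmap : commutator C = (commutator P).map σ := by
      rw [commutator_def, commutator_def, Subgroup.map_commutator, ← MonoidHom.range_eq_map,
        MonoidHom.range_eq_top.2 hsurj]
    rw [hmap] at hc
    obtain ⟨x, hx, rfl⟩ := hc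
    exact ⟨⟨x, hx⟩, rfl⟩
  have hker' : σ'.ker ≤ Subgroup.center P' := by
    intro x hx
    rw [MonoidHom.mem_ker, hσ'] at hx
    have := Subgroup.mem_center_iff.1 (hker (MonoidHom.mem_ker.2 hx))
    rw [Subgroup.mem_center_iff]
    intro g
    exact Subtype.ext (this g.1)
  -- `P = P' · ker σ`, hence `P'` is perfect
  have hdec : ∀ g : P, ∃ t ∈ P', ∃ k ∈ Subgroup.center P, g = t * k := by
    intro g
    obtain ⟨x, hx⟩ := hsurj' (σ g)
    refine ⟨x.1, x.2, x.1⁻¹ * g, hker ?_, by group⟩
    rw [MonoidHom.mem_ker, map_mul, map_inv, ← hσ', hx, inv_mul_cancel]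
  have hperf' : commutator P' = ⊤ := by
    rw [eq_top_iff]
    -- every element of `P' = [P, P]` is a product of commutators of elements of `P'`
    have hle : commutator P ≤ (commutator P').map P'.subtype := by
      rw [commutator_eq_closure, Subgroup.closure_le]
      rintro _ ⟨a, b, rfl⟩
      obtain ⟨t, ht, k, hk, rfl⟩ := hdec a
      obtain ⟨t', ht', k', hk', rfl⟩ := hdec b
      rw [Subgroup.mem_center_iff] at hk hk'
      rw [SetLike.mem_coe, commutatorElement_mul_central_left _ _ _ hk,
        commutatorElement_mul_central_right _ _ _ hk']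
      refine ⟨⁅(⟨t, ht⟩ : P'), ⟨t', ht'⟩⁆, ?_, rfl⟩
      exact Subgroup.commutator_mem_commutator (Subgroup.mem_top _) (Subgroup.mem_top _)
    intro x _
    obtain ⟨y, hy, hyx⟩ := hle x.2
    have : y = x := Subtype.ext hyx
    rw [← this]
    exact hy
  have hstem : IsStemExtension σ' := ⟨hsurj', hker', by rw [hperf']; exact le_top⟩
  obtain ⟨π, hπ⟩ := hM.2 P' σ' hstem
  have hinj : Function.Injective σ' := by
    rw [injective_iff_map_eq_one]
    intro x hx
    obtain ⟨a, ha⟩ := hπ ⟨x, MonoidHom.mem_ker.2 hx⟩
    have ha1 : a = 1 := Subsingleton.elim (α := ZMod 1) _ _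
    rw [ha1, map_one] at ha
    have := congrArg (fun z : σ'.ker => (z : P')) ha
    exact this.symm
  let eq' : P' ≃* C := MulEquiv.ofBijective σ' ⟨hinj, hsurj'⟩
  refine ⟨P'.subtype.comp eq'.symm.toMonoidHom, ?_⟩
  ext c
  show σ ((eq'.symm c : P') : P) = c
  rw [← hσ']
  exact eq'.apply_symm_apply c

end Cfsg.Agent.Helper6.SLn
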