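import Mathlib
import Cfsg.Agent.Lib.Helper6.SLnO
import Cfsg.Agent.Lib.Helper6.SLnP

/-!
The special linear groups over finite fields: perfectness, the centre, and the splitting of central extensions.
-/

set_option autoImplicit false
set_option linter.unusedSectionVars false
set_option linter.unusedVariables false

universe u

namespace Cfsg.Agent.Helper6.SLn

open Cfsg Cfsg.Agent.Helper6 Matrix

section field

variable {F : Type*} [Field F] [Fintype F]

/-- an element of a finite field whose `k`-th power is not `1`, when `q - 1` does not divide `k` -/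
theorem exists_pow_ne_one (k : ℕ) (h : ¬ (Fintype.card F - 1) ∣ k) : ∃ c : F, c ≠ 0 ∧ c ^ k ≠ 1 := by
  classical
  obtain ⟨g, hg⟩ := IsCyclic.exists_generator (α := Fˣ)
  refine ⟨(g : F), g.ne_zero, ?_⟩
  intro hk
  apply h
  have h1 : g ^ k = 1 := by
    apply Units.ext
    rw [Units.val_pow_eq_pow_val, hk, Units.val_one]
  have h2 := orderOf_dvd_of_pow_eq_one h1
  rwa [orderOf_eq_card_of_forall_mem_zpowers hg, Nat.card_eq_fintype_card, Fintype.card_units] at h2

theorem exists_ne_zero_one (h : 2 < Fintype.card F) : ∃ s : F, s ≠ 0 ∧ s ≠ 1 := by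
  classical
  obtain ⟨a, b, c, hab, hac, hbc⟩ := Fintype.two_lt_card_iff.1 h
  by_cases ha : a ≠ 0 ∧ a ≠ 1
  · exact ⟨a, ha⟩
  by_cases hb : b ≠ 0 ∧ b ≠ 1
  · exact ⟨b, hb⟩
  refine ⟨c, ?_, ?_⟩
  · rintro rfl
    rw [not_and_or, not_not, not_not] at ha hb
    rcases ha with ha | ha
    · exact hac ha
    · rcases hb with hb | hb
      · exact hbc hb
      · exact hab (ha.trans hb.symm)
  · rintro rfl
    rw [not_and_or, not_not, not_not] at ha hb
    rcases ha with ha | ha
    · rcases hb with hb | hb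
      · exact hab (ha.trans hb.symm)
      · exact hbc hb
    · exact hac ha

/-- the condition used for four indices -/
theorem two_ne_zero_or_sq (h : 2 < Fintype.card F) : (2 : F) ≠ 0 ∨ ∃ s : F, s ≠ 0 ∧ s ^ 2 ≠ 1 := by
  by_cases h2 : (2 : F) = 0
  · right
    obtain ⟨s, hs0, hs1⟩ := exists_ne_zero_one h
    refine ⟨s, hs0, ?_⟩
    intro hsq
    apply hs1
    have : (s - 1) ^ 2 = 0 := by
      have e : (s - 1) ^ 2 = s ^ 2 - 2 * s + 1 := by ring
      rw [e, hsq, h2, zero_mul, sub_zero]
      have : (1 : F) + 1 = 2 := by norm_num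
      rw [this, h2]
    exact sub_eq_zero.1 ((pow_eq_zero_iff (two_ne_zero)).1 this)
  · exact Or.inl h2

end field

section sl

variable {F : Type u} [Field F] [Fintype F] {n : ℕ}

/-- `SL_n` is perfect for `n ≥ 3` -/
theorem commutator_SL_eq_top (hn : 3 ≤ n) : commutator (SpecialLinearGroup (Fin n) F) = ⊤ := by
  have : Nontrivial (Fin n) := Fin.nontrivial_iff_two_le.2 (by omega)
  apply Cfsg.Agent.Helper12.eq_top_of_forall_transvection
  intro i j hij c
  obtain ⟨m, hmi, hmj⟩ := exists_third hn i j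
  have := Cfsg.Agent.Helper12.tv_comm_rel hmi.symm hmj hij c (1 : F)
  rw [mul_one] at this
  rw [← this, ← SpecialLinearGroup.transvection_inv, ← SpecialLinearGroup.transvection_inv,
    ← commutatorElement_def]
  exact Subgroup.commutator_mem_commutator (Subgroup.mem_top _) (Subgroup.mem_top _)

/-- the centre of `SL_n(F)` is cyclic -/
theorem isCyclic_center_SL (hn : 1 ≤ n) : IsCyclic (Subgroup.center (SpecialLinearGroup (Fin n) F)) := by
  have e := SpecialLinearGroup.center_equiv_rootsOfUnity (n := Fin n) (R := F)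
  exact isCyclic_of_surjective e.symm.toMonoidHom e.symm.surjective

/-- the centre of `SL_n(F)` has order `gcd(n, q - 1)` -/
theorem card_center_SL (hn : 1 ≤ n) :
    Nat.card (Subgroup.center (SpecialLinearGroup (Fin n) F)) = Nat.gcd n (Fintype.card F - 1) := by
  classical
  have e := SpecialLinearGroup.center_equiv_rootsOfUnity (n := Fin n) (R := F)
  rw [Nat.card_congr e.toEquiv, Fintype.card_fin, max_eq_left hn, rootsOfUnity_eq_ker,
    IsCyclic.card_powMonoidHom_ker, Nat.card_eq_fintype_card, Fintype.card_units, Nat.gcd_comm]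

/-- central extensions of `SL_n(F)` split, `n ≥ 3` -/
theorem splitsCentral_SL (hn : 3 ≤ n) (h3K : n = 3 → ∃ c : F, c ≠ 0 ∧ c ^ 3 ≠ 1)
    (h4K : n = 4 → ((2 : F) ≠ 0 ∨ ∃ s : F, s ≠ 0 ∧ s ^ 2 ≠ 1)) :
    SplitsCentral (SpecialLinearGroup (Fin n) F) := by
  intro P _ _ σ hsurj hker
  obtain ⟨e, -⟩ := steinberg_presentation (n := n) (K := F) hn
  let σ' : P →* PresentedGroup (stRels n F) := e.symm.toMonoidHom.comp σ
  have hσ' : ∀ p, σ' p = e.symm (σ p) := fun p => rfl
  have hsurj' : Function.Surjective σ' := e.symm.surjective.comp hsurj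
  have hker' : σ'.ker ≤ Subgroup.center P := by
    intro p hp
    apply hker
    rw [MonoidHom.mem_ker] at hp ⊢
    rw [hσ'] at hp
    exact (MulEquiv.map_eq_one_iff e.symm).1 hp
  obtain ⟨s', hs'⟩ := exists_section σ' hker' hsurj' hn h3K h4K
  refine ⟨s'.comp e.symm.toMonoidHom, ?_⟩
  ext1 c
  have := congrArg (fun f : PresentedGroup (stRels n F) →* PresentedGroup (stRels n F) => f (e.symm c)) hs'
  simp only [MonoidHom.comp_apply, MonoidHom.id_apply] at this
  rw [hσ'] at this
  show σ (s' (e.symm c)) = c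
  exact e.symm.injective this

end sl

end Cfsg.Agent.Helper6.SLn
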