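import Mathlib
import Cfsg.Agent.Lib.Helper15.S74Defs

/-!
# S2474 piece S74-CNT (helper6)
-/

set_option autoImplicit false

namespace Cfsg.Agent.Helper15.S74

universe u

variable {F : Type u} [Field F]

theorem dvd_card_pow_sub_one [Fintype F] {U : Type u} [AddCommGroup U] [Module F U]
    [FiniteDimensional F U] (y : Module.End F U) (t : ℕ) (ht : t.Prime) (htF : (t : F) ≠ 0)
    (hsum : ∑ i ∈ Finset.range t, y ^ i = 0) :
    t ∣ Fintype.card F ^ Module.finrank F U - 1 := by
  classical
  have _ : Fact t.Prime := ⟨ht⟩
  have _ : Finite U := Module.finite_of_finite F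
  let _ : Fintype U := Fintype.ofFinite U
  -- y ^ t = 1
  have hyt : y ^ t = 1 := by
    have h := mul_geom_sum y t
    rw [hsum, mul_zero] at h
    exact (sub_eq_zero.mp h.symm)
  -- no nonzero fixed vectors
  have hfix : ∀ v : U, y v = v → v = 0 := by
    intro v hv
    have hpow : ∀ i : ℕ, (y ^ i) v = v := by
      intro i
      induction i with
      | zero => simp
      | succ k ih => rw [pow_succ, Module.End.mul_apply, hv, ih]
    have h1 : (∑ i ∈ Finset.range t, y ^ i) v = (t : F) • v := by
      rw [LinearMap.sum_apply]
      simp only [hpow, Finset.sum_const, Finset.card_range]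
      rw [Nat.cast_smul_eq_nsmul]
    rw [hsum, LinearMap.zero_apply] at h1
    rcases smul_eq_zero.mp h1.symm with h | h
    · exact absurd h htF
    · exact h
  let f : Function.End U := fun v => y v
  have hfpow : ∀ k : ℕ, ∀ v : U, (f ^ k) v = (y ^ k) v := by
    intro k
    induction k with
    | zero => intro v; rfl
    | succ k ih =>
      intro v
      rw [pow_succ, pow_succ, Module.End.mul_apply]
      show (f ^ k) (f v) = _
      rw [ih]
  have hft : f ^ t ^ 1 = 1 := by
    rw [pow_one]
    funext v
    rw [hfpow, hyt]
    rfl
  have hmod := Equiv.Perm.card_fixedPoints_modEq (p := t) (n := 1) hft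
  have hcardU : Fintype.card U = Fintype.card F ^ Module.finrank F U := by
    rw [← Nat.card_eq_fintype_card, ← Nat.card_eq_fintype_card]
    exact Module.natCard_eq_pow_finrank
  have hfpset : Function.fixedPoints f = {0} := by
    ext v
    rw [Function.mem_fixedPoints, Set.mem_singleton_iff]
    constructor
    · intro hv
      exact hfix v hv
    · rintro rfl
      show y 0 = 0
      exact map_zero y
  have hfp : Fintype.card ↑(Function.fixedPoints f) = 1 := by
    rw [← Nat.card_eq_fintype_card, hfpset]
    simp
  rw [hfp, hcardU] at hmod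
  exact (Nat.modEq_iff_dvd' (Nat.one_le_pow _ _ Fintype.card_pos)).mp hmod.symm

end Cfsg.Agent.Helper15.S74
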