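import Mathlib
import Cfsg.Prelude
import Cfsg.Agent.Lib.Helper13.SylODefs

/-!
# S4613 / SylO piece SYLO-ORB (helper6), cores: the statements of `Data.big_cell` (BIG), `Data.mem_U_of_pow`
(BSPLIT) and `card_cell_lt` (CARD) are hypotheses.
-/

set_option autoImplicit false
set_option linter.unusedSectionVars false
set_option linter.unusedVariables false

namespace Cfsg.Agent.Helper13.SylO

open Cfsg Cfsg.Agent.Helper2.WordLen Cfsg.Agent.Helper2.BN Cfsg.Agent.Helper17.BNCox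

section data
variable {H : Type*} [Group H] {P : Cfsg.BNPair H} {p : ℕ} [Fact p.Prime] (D : Data P p)

theorem sylo_orb_card_big_le_core [Finite H]
    (hbig : ∀ g : H, g ∈ C P (π P D.n₀) → ∃ u ∈ D.U, ∃ b ∈ P.B, g = u * (D.n₀ : H) * b) :
    Nat.card {c : H ⧸ P.B // cellQ P c = π P D.n₀} ≤ Nat.card D.U := by
  have hcell : ∀ u : D.U, cellQ P (((u : H) * (D.n₀ : H) : H) : H ⧸ P.B) = π P D.n₀ := by
    intro u
    rw [cellQ_mk, cell_B_mul P (D.hUB u.2), cell_coe]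
  refine Nat.card_le_card_of_surjective
    (fun u : D.U => (⟨(((u : H) * (D.n₀ : H) : H) : H ⧸ P.B), hcell u⟩ :
      {c : H ⧸ P.B // cellQ P c = π P D.n₀})) ?_
  rintro ⟨c, hc⟩
  induction c using QuotientGroup.induction_on with | H g => ?_
  rw [cellQ_mk] at hc
  have hg : g ∈ C P (π P D.n₀) := by
    rw [← hc]
    exact mem_C_cell P g
  obtain ⟨u, hu, b, hb, rfl⟩ := hbig g hg
  refine ⟨⟨u, hu⟩, ?_⟩
  apply Subtype.ext
  show ((u * (D.n₀ : H) : H) : H ⧸ P.B) = ((u * (D.n₀ : H) * b : H) : H ⧸ P.B)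
  rw [QuotientGroup.eq]
  have : (u * (D.n₀ : H))⁻¹ * (u * (D.n₀ : H) * b) = b := by group
  rw [this]
  exact hb

theorem sylo_orb_card_le_of_opp_core [Finite H]
    (hpow : ∀ x : H, x ∈ P.B → ∀ k : ℕ, x ^ p ^ k = 1 → x ∈ D.U)
    (g : H) (hg : D.Opp g) :
    Nat.card D.U ≤ Nat.card {c : H ⧸ P.B // cellQ P c = cell P g} := by
  have hcell : ∀ u : D.U, cellQ P (((u : H) * g : H) : H ⧸ P.B) = cell P g := by
    intro u
    rw [cellQ_mk, cell_B_mul P (D.hUB u.2)]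
  refine Nat.card_le_card_of_injective
    (fun u : D.U => (⟨(((u : H) * g : H) : H ⧸ P.B), hcell u⟩ :
      {c : H ⧸ P.B // cellQ P c = cell P g})) ?_
  intro u u' huu'
  have h1 : ((((u : H) * g : H)) : H ⧸ P.B) = ((((u' : H) * g : H)) : H ⧸ P.B) :=
    congrArg Subtype.val huu'
  rw [QuotientGroup.eq] at h1
  have e : ((u : H) * g)⁻¹ * ((u' : H) * g) = g⁻¹ * ((u : H)⁻¹ * (u' : H)) * g := by group
  rw [e] at h1
  have hxU : (u : H)⁻¹ * (u' : H) ∈ D.U := D.U.mul_mem (D.U.inv_mem u.2) u'.2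
  obtain ⟨k, hk⟩ := D.hUp ⟨(u : H)⁻¹ * (u' : H), hxU⟩
  have hk' : ((u : H)⁻¹ * (u' : H)) ^ p ^ k = 1 := by
    have := congrArg Subtype.val hk
    simpa using this
  have hz : (g⁻¹ * ((u : H)⁻¹ * (u' : H)) * g) ^ p ^ k = 1 := by
    have : ∀ (y : H) (m : ℕ), (g⁻¹ * y * g) ^ m = g⁻¹ * y ^ m * g := by
      intro y m
      induction m with
      | zero => simp
      | succ m ih => rw [pow_succ, ih, pow_succ]; group
    rw [this, hk']
    group
  have hzU := hpow _ h1 k hz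
  have h2 := hg _ hxU hzU
  apply Subtype.ext
  have : (u : H) = (u : H) * ((u : H)⁻¹ * (u' : H)) := by rw [h2, mul_one]
  rw [this]
  group

theorem sylo_orb_mem_of_opp_core [Finite H]
    (hbig : ∀ g : H, g ∈ C P (π P D.n₀) → ∃ u ∈ D.U, ∃ b ∈ P.B, g = u * (D.n₀ : H) * b)
    (hpow : ∀ x : H, x ∈ P.B → ∀ k : ℕ, x ^ p ^ k = 1 → x ∈ D.U)
    (hcard : ∀ (w₀ : W P), (∀ t : P.S, ℓ P (w₀ * σ P t) < ℓ P w₀) → ∀ w : W P, w ≠ w₀ →
      Nat.card {c : H ⧸ P.B // cellQ P c = w} < Nat.card {c : H ⧸ P.B // cellQ P c = w₀})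
    (g : H) (hg : D.Opp g) : g ∈ C P (π P D.n₀) := by
  have h1 := sylo_orb_card_le_of_opp_core D hpow g hg
  have h2 := sylo_orb_card_big_le_core D hbig
  by_cases hne : cell P g = π P D.n₀
  · rw [← hne]
    exact mem_C_cell P g
  · exfalso
    have h3 := hcard (π P D.n₀) D.hn₀ (cell P g) hne
    omega

end data

end Cfsg.Agent.Helper13.SylO
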