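import Mathlib
import Cfsg.Prelude
import Cfsg.Agent.Lib.Helper13.SylODefs
import Cfsg.Agent.Lib.Helper6.SYLOORBCore
import Cfsg.Agent.Lib.Helper12.SylOBIG
import Cfsg.Agent.Lib.Helper11.SylOTWOW
import Cfsg.Agent.Lib.Helper24.SylOCARDCore

/-!
# S4613 / SylO piece SYLO-ORB (helper6): exact-name wrappers `Data.card_big_le`, `Data.card_le_of_opp`,
`Data.mem_of_opp`.  Self-contained: own copies `sylo_orb_exists_mul`, `sylo_orb_eq_one_of_mem`,
`sylo_orb_mem_U_of_pow` of the BSPLIT statements (prefixed names, no clash), helper12's BIG core, helper11's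
`two_mul_card_cell_le` and helper24's CARD core.
-/

set_option autoImplicit false
set_option linter.unusedSectionVars false
set_option linter.unusedVariables false

namespace Cfsg.Agent.Helper13.SylO

open Cfsg Cfsg.Agent.Helper2.WordLen Cfsg.Agent.Helper2.BN Cfsg.Agent.Helper17.BNCox

section data
variable {H : Type*} [Group H] {P : Cfsg.BNPair H} {p : ℕ} [Fact p.Prime] (D : Data P p)

/-- own copy of BSPLIT (2) -/
theorem sylo_orb_eq_one_of_mem [Finite H] (x : H) (hU : x ∈ D.U) (hT : x ∈ D.T) : x = 1 := by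
  have hp : p.Prime := Fact.out
  obtain ⟨k, hk⟩ := D.hUp ⟨x, hU⟩
  have hk' : x ^ p ^ k = 1 := by
    have := congrArg Subtype.val hk
    simpa using this
  have h1 : orderOf x ∣ p ^ k := orderOf_dvd_of_pow_eq_one hk'
  have h2 : orderOf x ∣ Nat.card D.T := by
    have : orderOf (⟨x, hT⟩ : D.T) ∣ Nat.card D.T := orderOf_dvd_natCard _
    rwa [← Subgroup.orderOf_coe] at this
  have hcop : Nat.Coprime (p ^ k) (Nat.card D.T) :=
    Nat.Coprime.pow_left k ((Nat.Prime.coprime_iff_not_dvd hp).mpr D.hTp)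
  exact orderOf_eq_one_iff.mp (Nat.eq_one_of_dvd_coprimes hcop h1 h2)

/-- own copy of BSPLIT (1) -/
theorem sylo_orb_exists_mul [Finite H] (b : H) (hb : b ∈ P.B) :
    ∃ u ∈ D.U, ∃ t ∈ D.T, b = u * t := by
  let f : D.U × D.T → P.B := fun x => ⟨(x.1 : H) * (x.2 : H), P.B.mul_mem (D.hUB x.1.2) (D.hTB x.2.2)⟩
  have hinj : Function.Injective f := by
    rintro ⟨u, t⟩ ⟨u', t'⟩ h
    have h1 : (u : H) * (t : H) = (u' : H) * (t' : H) := congrArg Subtype.val h
    have h2 : (u' : H)⁻¹ * (u : H) = (t' : H) * (t : H)⁻¹ := by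
      calc (u' : H)⁻¹ * (u : H) = (u' : H)⁻¹ * ((u : H) * (t : H)) * (t : H)⁻¹ := by group
        _ = (t' : H) * (t : H)⁻¹ := by rw [h1]; group
    have h3 : (u' : H)⁻¹ * (u : H) = 1 := by
      apply sylo_orb_eq_one_of_mem D _ (D.U.mul_mem (D.U.inv_mem u'.2) u.2)
      rw [h2]
      exact D.T.mul_mem t'.2 (D.T.inv_mem t.2)
    have hu : (u : H) = (u' : H) := by
      have := inv_mul_eq_one.mp h3
      exact this.symm
    have ht : (t : H) = (t' : H) := by
      rw [hu] at h1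
      exact mul_left_cancel h1
    exact Prod.ext (Subtype.ext hu) (Subtype.ext ht)
  have hcard : Nat.card (D.U × D.T) = Nat.card P.B := by
    rw [Nat.card_prod, D.hcard, mul_comm]
  have hbij : Function.Bijective f := by
    rw [Nat.bijective_iff_injective_and_card]
    exact ⟨hinj, hcard⟩
  obtain ⟨⟨u, t⟩, hut⟩ := hbij.2 ⟨b, hb⟩
  exact ⟨u, u.2, t, t.2, (congrArg Subtype.val hut).symm⟩

/-- own copy of BSPLIT (3) -/
theorem sylo_orb_mem_U_of_pow [Finite H] (x : H) (hx : x ∈ P.B) (k : ℕ) (hk : x ^ p ^ k = 1) :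
    x ∈ D.U := by
  have hp : p.Prime := Fact.out
  have hnorm : (D.U.subgroupOf P.B).Normal := by
    constructor
    intro n hn g
    rw [Subgroup.mem_subgroupOf] at hn ⊢
    have := D.hUn g g.2 n hn
    simpa using this
  have hcardU : Nat.card (D.U.subgroupOf P.B) = Nat.card D.U :=
    Nat.card_congr (Subgroup.subgroupOfEquivOfLe D.hUB).toEquiv
  have hq : Nat.card (↥P.B ⧸ D.U.subgroupOf P.B) * Nat.card D.U = Nat.card P.B := by
    rw [← hcardU, ← Subgroup.index_eq_card, mul_comm]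
    exact Subgroup.card_mul_index _
  have hUpos : 0 < Nat.card D.U := Nat.card_pos
  have hqT : Nat.card (↥P.B ⧸ D.U.subgroupOf P.B) = Nat.card D.T := by
    have h1 : Nat.card (↥P.B ⧸ D.U.subgroupOf P.B) * Nat.card D.U = Nat.card D.T * Nat.card D.U := by
      rw [hq, D.hcard]
    exact Nat.eq_of_mul_eq_mul_right hUpos h1
  let xB : P.B := ⟨x, hx⟩
  have hxk : xB ^ p ^ k = 1 := Subtype.ext (by simpa using hk)
  have h1 : orderOf (QuotientGroup.mk xB : ↥P.B ⧸ D.U.subgroupOf P.B) ∣ p ^ k := by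
    apply orderOf_dvd_of_pow_eq_one
    rw [← QuotientGroup.mk_pow, hxk]
    rfl
  have h2 : orderOf (QuotientGroup.mk xB : ↥P.B ⧸ D.U.subgroupOf P.B) ∣ Nat.card D.T := by
    rw [← hqT]
    exact orderOf_dvd_natCard _
  have hcop : Nat.Coprime (p ^ k) (Nat.card D.T) :=
    Nat.Coprime.pow_left k ((Nat.Prime.coprime_iff_not_dvd hp).mpr D.hTp)
  have h3 : orderOf (QuotientGroup.mk xB : ↥P.B ⧸ D.U.subgroupOf P.B) = 1 :=
    Nat.eq_one_of_dvd_coprimes hcop h1 h2
  have h4 : (QuotientGroup.mk xB : ↥P.B ⧸ D.U.subgroupOf P.B) = 1 := orderOf_eq_one_iff.mp h3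
  have h5 : xB ∈ D.U.subgroupOf P.B := (QuotientGroup.eq_one_iff xB).mp h4
  exact Subgroup.mem_subgroupOf.mp h5

/-- PIECE SYLO-ORB (1). -/
theorem Data.card_big_le [Finite H] :
    Nat.card {c : H ⧸ P.B // cellQ P c = π P D.n₀} ≤ Nat.card D.U :=
  sylo_orb_card_big_le_core D
    (fun g hg => sylo_big_big_cell_core D (sylo_orb_exists_mul D) g hg)

/-- PIECE SYLO-ORB (2). -/
theorem Data.card_le_of_opp [Finite H] (g : H) (hg : D.Opp g) :
    Nat.card D.U ≤ Nat.card {c : H ⧸ P.B // cellQ P c = cell P g} :=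
  sylo_orb_card_le_of_opp_core D (sylo_orb_mem_U_of_pow D) g hg

/-- PIECE SYLO-ORB (3). -/
theorem Data.mem_of_opp [Finite H] (g : H) (hg : D.Opp g) : g ∈ C P (π P D.n₀) :=
  sylo_orb_mem_of_opp_core D
    (fun g hg => sylo_big_big_cell_core D (sylo_orb_exists_mul D) g hg)
    (sylo_orb_mem_U_of_pow D)
    (fun w₀ hw₀ w hw => card_cell_lt_core P (fun w t hlt => two_mul_card_cell_le P w t hlt) w₀ hw₀ w hw)
    g hg

end data

end Cfsg.Agent.Helper13.SylO
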