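import Mathlib
import Cfsg.Agent.Lib.Helper6.StTorus
import Cfsg.Agent.Lib.Lead.ChevHCard
import Cfsg.Agent.Lib.Lead.ChevHCardData

/-!
With the relations (R3) the subgroup `H̄₀` is the image of a torus `(Kˣ)^l`; when the Cartan matrix is
unimodular the map `H̄₀ → H` is injective.
-/

set_option autoImplicit false
set_option linter.unusedSectionVars false
set_option linter.unusedVariables false

namespace Cfsg.Agent.Helper6.StC

open Cfsg Cfsg.Lie Cfsg.Agent.Lead.Chev Cfsg.Agent.Helper6.ChevL Cfsg.Agent.Lead.ZPM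

variable {K : Type*} [Field K] {Γ : Type*} [Group Γ]

/-- the relations (R3) for the fundamental roots -/
def R3 (D : ChevalleyDatum) (X : ℕ → K → Γ) : Prop :=
  ∀ i < D.rank, ∀ t₁ t₂ : K, t₁ ≠ 0 → t₂ ≠ 0 →
    hG D X (D.simple i) t₁ * hG D X (D.simple i) t₂ = hG D X (D.simple i) (t₁ * t₂)

namespace Setup

variable {D : ChevalleyDatum} {X : ℕ → K → Γ} {θ : Γ →* GL D.Idx K} (S : Setup D X θ)
include S

theorem hG_one (i : ℕ) (hi : i < D.rank) : hG D X (D.simple i) 1 = 1 := by
  have hF := S.facts
  unfold hG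
  rw [← S.rel.nG_inv _ (hF.simple_lt i hi) (hF.neg_simple_lt i hi), mul_inv_cancel]

/-- the homomorphism `t ↦ h̄_i(t)` -/
def hHom (h3 : R3 D X) (i : Fin D.rank) : Kˣ →* Γ where
  toFun t := hG D X (D.simple i.val) (t : K)
  map_one' := by
    rw [Units.val_one]
    exact S.hG_one i.val i.2
  map_mul' a b := by
    rw [Units.val_mul]
    exact (h3 i.val i.2 _ _ a.ne_zero b.ne_zero).symm

theorem hG_commute (hd : StData D) (h3 : R3 D X) (i j : ℕ) (hi : i < D.rank) (hj : j < D.rank) (t u : K)
    (ht : t ≠ 0) (hu : u ≠ 0) : Commute (hG D X (D.simple i) t) (hG D X (D.simple j) u) := by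
  have hF := S.facts
  have hpj := hF.simple_lt j hj
  have hnpj := hF.neg_simple_lt j hj
  have hw : hG D X (D.simple i) t = nWordP D X [(i, t), (i, -1)] := by
    unfold hG
    rw [nWordP_cons, nWordP_cons, nWordP_nil, mul_one]
  obtain ⟨c, hc, hconj⟩ := S.nWordP_conj_nG hd [(i, t), (i, -1)] (by
    intro q hq
    simp only [List.mem_cons, List.not_mem_nil, or_false] at hq
    rcases hq with rfl | rfl
    · exact ⟨hi, ht⟩
    · exact ⟨hi, neg_ne_zero.2 one_ne_zero⟩) (D.simple j) hpj
  rw [← hw] at hconj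
  have hrefl : reflWord D ([(i, t), (i, (-1 : K))].map Prod.fst) (D.simple j) = D.simple j := by
    show D.reflectRoot i (D.reflectRoot i (D.simple j)) = D.simple j
    exact (hF.facts i hi).winv _ hpj
  rw [hrefl] at hconj
  -- `h h̄_j(u) h⁻¹ = h̄_j(u)`
  have h1 : hG D X (D.simple i) t * hG D X (D.simple j) u * (hG D X (D.simple i) t)⁻¹ =
      hG D X (D.simple j) u := by
    have e1 : hG D X (D.simple i) t * hG D X (D.simple j) u * (hG D X (D.simple i) t)⁻¹ =
        (hG D X (D.simple i) t * nG D X (D.simple j) u * (hG D X (D.simple i) t)⁻¹) *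
          (hG D X (D.simple i) t * nG D X (D.simple j) (-1) * (hG D X (D.simple i) t)⁻¹) := by
      conv_lhs => rw [show hG D X (D.simple j) u = nG D X (D.simple j) u * nG D X (D.simple j) (-1) from rfl]
      group
    rw [e1, hconj, hconj]
    have e2 : nG D X (D.simple j) (c * u) * nG D X (D.simple j) (c * -1) =
        hG D X (D.simple j) (c * u) * (hG D X (D.simple j) c)⁻¹ := by
      unfold hG
      rw [mul_inv_rev, S.rel.nG_inv _ hpj hnpj, S.rel.nG_inv _ hpj hnpj, neg_neg, mul_neg_one]
      have e3 : nG D X (D.simple j) (-1) * nG D X (D.simple j) 1 = 1 := by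
        rw [← S.rel.nG_inv _ hpj hnpj, inv_mul_cancel]
      calc nG D X (D.simple j) (c * u) * nG D X (D.simple j) (-c) =
          nG D X (D.simple j) (c * u) * 1 * nG D X (D.simple j) (-c) := by group
        _ = _ := by rw [← e3]; group
    rw [e2, mul_comm c u, ← h3 j hj u c hu hc]
    group
  show hG D X (D.simple i) t * hG D X (D.simple j) u = hG D X (D.simple j) u * hG D X (D.simple i) t
  calc hG D X (D.simple i) t * hG D X (D.simple j) u =
      hG D X (D.simple i) t * hG D X (D.simple j) u * (hG D X (D.simple i) t)⁻¹ *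
        hG D X (D.simple i) t := by group
    _ = _ := by rw [h1]

theorem hHom_commute (hd : StData D) (h3 : R3 D X) :
    Pairwise fun i j : Fin D.rank => ∀ x y : Kˣ, Commute (S.hHom h3 i x) (S.hHom h3 j y) :=
  fun i j _ x y => S.hG_commute hd h3 i.val j.val i.2 j.2 _ _ x.ne_zero y.ne_zero

/-- the torus `(Kˣ)^l → Γ` -/
noncomputable def torusG (hd : StData D) (h3 : R3 D X) : (Fin D.rank → Kˣ) →* Γ :=
  MonoidHom.noncommPiCoprod (S.hHom h3) (S.hHom_commute hd h3)

theorem torusG_range (hd : StData D) (h3 : R3 D X) : (S.torusG hd h3).range = subH D X := by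
  unfold torusG
  rw [MonoidHom.noncommPiCoprod_range]
  apply le_antisymm
  · apply iSup_le
    rintro i _ ⟨t, rfl⟩
    exact S.hG_mem_subH i.val i.2 _ t.ne_zero
  · unfold subH
    rw [Subgroup.closure_le]
    rintro y ⟨i, hi, t, ht, rfl⟩
    exact Subgroup.mem_iSup_of_mem ⟨i, hi⟩ ⟨Units.mk0 t ht, rfl⟩

theorem map_torusG (hd : StData D) (h3 : R3 D X) : θ.comp (S.torusG hd h3) = torusHom D K := by
  have hF := S.facts
  apply MonoidHom.pi_ext
  intro i t
  rw [MonoidHom.comp_apply]
  unfold torusG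
  rw [MonoidHom.noncommPiCoprod_mulSingle]
  have hp := hF.simple_lt i.val i.2
  show θ (hG D X (D.simple i.val) (t : K)) = _
  unfold hG
  rw [map_mul, S.map_nG _ hp, S.map_nG _ hp, ← hGLt_eq]
  apply Units.ext
  rw [hGLt_simple_val hF i.val i.2 _ t.ne_zero, torusHom_val]
  unfold Tmat
  congr 1
  funext idx
  rcases idx with j | v
  · rfl
  · simp only [Sum.elim_inr]
    rw [chi_eq_finprod, Finset.prod_eq_single i]
    · rw [extC_lt D _ i.val i.2]
      simp
    · intro b _ hb
      rw [extC_lt D _ b.val b.2]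
      have : (Pi.mulSingle i t : Fin D.rank → Kˣ) b = 1 := by
        rw [Pi.mulSingle_apply, if_neg hb]
      simp [this]
    · intro h
      exact absurd (Finset.mem_univ i) h

/-- if the torus of the Chevalley group is parametrised injectively, `H̄₀ ∩ ker θ = 1` -/
theorem eq_one_of_mem_subH (hd : StData D) (h3 : R3 D X) (hinj : Function.Injective (torusHom D K))
    (z : Γ) (hz : z ∈ subH D X) (hθ : θ z = 1) : z = 1 := by
  rw [← S.torusG_range hd h3] at hz
  obtain ⟨c, rfl⟩ := hz
  have h1 : torusHom D K c = 1 := by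
    rw [← S.map_torusG hd h3, MonoidHom.comp_apply, hθ]
  have h2 : c = 1 := hinj (by rw [h1, map_one])
  rw [h2, map_one]

end Setup

/-- unimodular Cartan matrix: the torus is parametrised injectively -/
theorem torusHom_injective (D : ChevalleyDatum) (m : ℕ → Fin D.rank → ℤ) (hm : RootCoef D m)
    (hsl : ∀ i < D.rank, D.simple i < D.nroots) (B : Matrix (Fin D.rank) (Fin D.rank) ℤ)
    (hB : B * cartanMat D = 1) : Function.Injective (torusHom D K) := by
  rw [injective_iff_map_eq_one]
  intro c hc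
  have h1 : c ∈ (torusHom D K).ker := hc
  rw [mem_ker_torusHom_iff D m hm hsl] at h1
  have h2 : zpv (B * cartanMat D) c = 1 := by
    rw [zpv_mul, h1, zpv_const_one]
  rwa [hB, zpv_one] at h2

theorem inv_G2 : matOfL chevG2.rank smithV_G2 * matOfL chevG2.rank smithU_G2 * cartanMat chevG2 = 1 := by
  decide +kernel
theorem inv_F4 : matOfL chevF4.rank smithV_F4 * matOfL chevF4.rank smithU_F4 * cartanMat chevF4 = 1 := by
  decide +kernel
theorem inv_E8 : matOfL chevE8.rank smithV_E8 * matOfL chevE8.rank smithU_E8 * cartanMat chevE8 = 1 := by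
  decide +kernel

theorem torusHom_injective_of_mem (D : ChevalleyDatum) (hD : D ∈ [chevG2, chevF4, chevE8]) :
    Function.Injective (torusHom D K) := by
  simp only [List.mem_cons, List.mem_nil_iff, or_false] at hD
  rcases hD with rfl | rfl | rfl
  · exact torusHom_injective _ _ rootCoef_G2 (chevFacts_of_mem (F := K) _ (by simp)).simple_lt _ inv_G2
  · exact torusHom_injective _ _ rootCoef_F4 (chevFacts_of_mem (F := K) _ (by simp)).simple_lt _ inv_F4
  · exact torusHom_injective _ _ rootCoef_E8 (chevFacts_of_mem (F := K) _ (by simp)).simple_lt _ inv_E8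

end Cfsg.Agent.Helper6.StC
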