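import Mathlib
import Cfsg.Agent.Lib.Helper13.InvNDefsC

/-!
# INVN piece WORDS (helper6): `reflWord_eq_of_simple` (WSIMPLE), `reflWord_neg_of_simple` (WNEG),
`reflWord_trivial_of_pos` (WPOS).
-/

set_option autoImplicit false
set_option linter.unusedSectionVars false
set_option linter.unusedVariables false

namespace Cfsg.Agent.Helper13.InvN

open Cfsg Cfsg.Lie Cfsg.Agent.Lead.Chev Cfsg.Agent.Helper6.ChevL

variable {F : Type*} [Field F] {D : ChevalleyDatum} (hF : ChevFacts D F) (hS : CorSize D) (hI : CorInj D)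
include hF hS hI

/-- PIECE WSIMPLE: two words which agree on the fundamental roots agree on all roots -/
theorem reflWord_eq_of_simple (w w' : List ℕ) (hw : WOK D w) (hw' : WOK D w')
    (h : ∀ k < D.rank, reflWord D w (D.simple k) = reflWord D w' (D.simple k)) :
    ∀ r < D.nroots, reflWord D w r = reflWord D w' r := by
  intro r hr
  have h1 : reflWord D w r < D.nroots := reflWord_lt D (etaOf D) hF.facts w hw r hr
  have h2 : reflWord D w' r < D.nroots := reflWord_lt D (etaOf D) hF.facts w' hw' r hr
  apply hI _ h1 _ h2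
  intro k hk
  rw [cv_reflWord D (etaOf D) hF.facts hF.refl hF.simple_lt w hw r hr k hk,
    cv_reflWord D (etaOf D) hF.facts hF.refl hF.simple_lt w' hw' r hr k hk]
  apply Finset.sum_congr rfl
  intro j hj
  rw [h j (Finset.mem_range.1 hj)]

/-- PIECE WNEG: a word making every fundamental root negative makes every positive root negative -/
theorem reflWord_neg_of_simple (w : List ℕ) (hw : WOK D w)
    (h : ∀ k < D.rank, D.IsNegRoot (reflWord D w (D.simple k))) (r : ℕ) (hr : D.IsPosRoot r) :
    D.IsNegRoot (reflWord D w r) := by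
  have hrlt : r < D.nroots := hr.1
  have hcr : reflWord D w r < D.nroots := reflWord_lt D (etaOf D) hF.facts w hw r hrlt
  apply isNegRoot_of_cv D hS _ hcr
  intro k hk
  rw [cv_reflWord D (etaOf D) hF.facts hF.refl hF.simple_lt w hw r hrlt k hk]
  apply Finset.sum_nonpos
  intro j hj
  have hjr := Finset.mem_range.1 hj
  exact mul_nonpos_of_nonneg_of_nonpos (cv_nonneg D r hr j) (cv_nonpos D _ (h j hjr) k)

/-- PIECE WPOS: a word preserving the positive roots acts trivially -/
theorem reflWord_trivial_of_pos (w : List ℕ) (hw : WOK D w)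
    (h : ∀ r, D.IsPosRoot r → D.IsPosRoot (reflWord D w r)) : ∀ r < D.nroots, reflWord D w r = r := by
  classical
  set P : Finset ℕ := (Finset.range D.nroots).filter fun r => D.IsPosRoot r with hP
  have hmemP : ∀ r, r ∈ P ↔ D.IsPosRoot r := by
    intro r
    rw [hP, Finset.mem_filter, Finset.mem_range]
    exact ⟨fun h => h.2, fun h => ⟨h.1, h⟩⟩
  have hmaps : Set.MapsTo (reflWord D w) (P : Set ℕ) (P : Set ℕ) := by
    intro r hr
    exact (hmemP _).2 (h r ((hmemP r).1 hr))
  have hinj : Set.InjOn (reflWord D w) (P : Set ℕ) := by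
    intro a ha b hb hab
    have ha' : a < D.nroots := ((hmemP a).1 ha).1
    have hb' : b < D.nroots := ((hmemP b).1 hb).1
    have e1 := reflWord_reverse_cancel' D (etaOf D) hF.facts w hw a ha'
    have e2 := reflWord_reverse_cancel' D (etaOf D) hF.facts w hw b hb'
    have hab' : reflWord D w a = reflWord D w b := hab
    rw [← e1, ← e2, hab']
  have hsurj : Set.SurjOn (reflWord D w) (P : Set ℕ) (P : Set ℕ) :=
    Finset.surjOn_of_injOn_of_card_le _ hmaps hinj le_rfl
  apply hF.reflWord_eq_of_pos w hw h
  intro r hr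
  obtain ⟨s, hs, e⟩ := hsurj ((hmemP r).2 hr)
  have hs' : D.IsPosRoot s := (hmemP s).1 hs
  rw [← e, reflWord_reverse_cancel' D (etaOf D) hF.facts w hw s hs'.1]
  exact hs'

end Cfsg.Agent.Helper13.InvN
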