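import Mathlib
import Cfsg.Agent.Lib.Helper13.OInvDefs3
import Cfsg.Agent.Lib.Helper28.OInvFIXN
import Cfsg.Agent.Lib.Lead.ChevOrderAll
import Cfsg.Agent.Lib.Lead.WeylCert

/-!
# ODDINV piece CONJH (helper6): conjugating `T(c)` by `n_w`
-/

set_option autoImplicit false
set_option linter.unusedSectionVars false
set_option linter.unusedVariables false

namespace Cfsg.Agent.Helper13.OInv

open Cfsg Cfsg.Lie Cfsg.Agent.Lead.Chev Cfsg.Agent.Lead.Tw

variable {F : Type*} [Field F] {D : ChevalleyDatum}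

theorem nWordGL_conj_diag_iff (hF : ChevFacts D F) (c c' : ℕ → F) (hc : ∀ i < D.rank, c i ≠ 0)
    (hc' : ∀ i < D.rank, c' i ≠ 0) (s s' : GL D.Idx F)
    (hsc : (s : Matrix D.Idx D.Idx F) = Tmat D c) (hsc' : (s' : Matrix D.Idx D.Idx F) = Tmat D c')
    (w : List ℕ) (hw : ∀ i ∈ w, i < D.rank) :
    (nWordGL D hF.xadd w)⁻¹ * s * nWordGL D hF.xadd w = s' ↔
      ∀ r < D.nroots, chi D c (reflWord D w r) = chi D c' r := by
  obtain ⟨c'', hc'', hval, hchi⟩ := oinvfixn_conj hF c hc s hsc w hw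
  constructor
  · intro h r hr
    rw [← hchi r hr]
    have hm : Tmat D c'' = Tmat D c' := by rw [← hval, h, hsc']
    have := congrFun (congrFun hm (Sum.inr ⟨r, hr⟩)) (Sum.inr ⟨r, hr⟩)
    simpa [Tmat, Matrix.diagonal_apply_eq] using this
  · intro h
    apply Units.ext
    rw [hval, hsc']
    unfold Tmat
    congr 1
    funext idx
    rcases idx with j | v
    · rfl
    · simp only [Sum.elim_inr]
      rw [hchi v.val v.2, h v.val v.2]

end Cfsg.Agent.Helper13.OInv
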