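import Mathlib
import Cfsg.Agent.Lib.Helper13.OInvDefs3
import Cfsg.Agent.Lib.Lead.ChevOrderAll
import Cfsg.Agent.Lib.Lead.WeylCert

/-!
# ODDINV piece HINV (helper6): the elements of square 1 of `H` are the sign elements
-/

set_option autoImplicit false
set_option linter.unusedSectionVars false
set_option linter.unusedVariables false

namespace Cfsg.Agent.Helper13.OInv

open Cfsg Cfsg.Lie Cfsg.Agent.Lead.Chev Cfsg.Agent.Lead.Tw

variable {F : Type*} [Field F] {D : ChevalleyDatum}

theorem diag_sq_one (hF : ChevFacts D F) [Fintype F]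
    (hH : Nat.card ↥(D.diagonalSubgroup F) = (Fintype.card F - 1) ^ D.rank)
    (u : GL D.Idx F) (hu : u ∈ D.diagonalSubgroup F) (huu : u * u = 1) :
    ∃ I : List ℕ, I.Nodup ∧ (∀ i ∈ I, i < D.rank) ∧ u = sgnElt D F I := by
  classical
  have hrange := torusHom_range D hF.xadd hF.hsimple hF.hall hF.simple_lt
  have hcardG : Nat.card (Fin D.rank → Fˣ) = (Fintype.card F - 1) ^ D.rank := by
    rw [Nat.card_eq_fintype_card, Fintype.card_fun, Fintype.card_fin, Fintype.card_units]
  have hinj : Function.Injective (torusHom D F) := by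
    rw [← MonoidHom.ker_eq_bot_iff]
    have h1 := Subgroup.card_mul_index (torusHom D F).ker
    rw [Subgroup.index_ker, hrange, hH, hcardG] at h1
    have hpos : 0 < (Fintype.card F - 1) ^ D.rank := by
      apply pow_pos
      have := Fintype.one_lt_card (α := F)
      omega
    have h2 : Nat.card (torusHom D F).ker = 1 :=
      Nat.eq_of_mul_eq_mul_right hpos (h1.trans (one_mul _).symm)
    exact Subgroup.card_eq_one.mp h2
  rw [← hrange] at hu
  obtain ⟨c, rfl⟩ := hu
  have hcc : c * c = 1 := hinj (by rw [map_mul, huu, map_one])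
  have hci : ∀ i, c i = 1 ∨ c i = -1 := by
    intro i
    have h := congrFun hcc i
    simp only [Pi.mul_apply, Pi.one_apply] at h
    have h' : (c i : F) * (c i : F) = 1 := by rw [← Units.val_mul, h, Units.val_one]
    rcases mul_self_eq_one_iff.mp h' with h1 | h1
    · left; exact Units.ext h1
    · right; apply Units.ext; rw [h1]; simp
  refine ⟨(List.range D.rank).filter (fun i => ∃ h : i < D.rank, c ⟨i, h⟩ = -1),
    (List.nodup_range).filter _, ?_, ?_⟩
  · intro i hi
    exact List.mem_range.mp (List.mem_filter.mp hi).1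
  · unfold sgnElt
    congr 1
    funext i
    by_cases h : c i = -1
    · rw [if_pos, h]
      rw [List.mem_filter]
      exact ⟨List.mem_range.mpr i.2, by rw [decide_eq_true_eq]; exact ⟨i.2, h⟩⟩
    · rw [if_neg]
      · exact (hci i).resolve_right h
      · rw [List.mem_filter]
        rintro ⟨-, h2⟩
        simp only [decide_eq_true_eq] at h2
        obtain ⟨_, h3⟩ := h2
        exact h h3

end Cfsg.Agent.Helper13.OInv
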