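import Mathlib
import Cfsg.Agent.Lib.Helper6.SLnK

/-!
Steinberg relations of type `C` for families `T a b t` (short roots `e_a - e_b`) and `L a t` (long roots `2 e_a`)
indexed by signed indices `a, b : I ⊕ I` in an abstract group: basic consequences.
-/

set_option autoImplicit false
set_option linter.unusedSectionVars false
set_option linter.unusedVariables false

namespace Cfsg.Agent.Helper6.SpN

open Cfsg.Agent.Helper6 Cfsg.Agent.Helper6.SLn

variable {I : Type*} {K : Type*} [Field K] {Γ : Type*} [Group Γ]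

/-- the opposite signed index -/
def ng (a : I ⊕ I) : I ⊕ I := a.swap

@[simp] theorem ng_ng (a : I ⊕ I) : ng (ng a) = a := Sum.swap_swap a

theorem ng_ne (a : I ⊕ I) : ng a ≠ a := by
  cases a <;> simp [ng]

theorem ne_ng (a : I ⊕ I) : a ≠ ng a := fun h => ng_ne a h.symm

theorem ng_inj {a b : I ⊕ I} : ng a = ng b ↔ a = b := by
  constructor
  · intro h
    have := congrArg ng h
    rwa [ng_ng, ng_ng] at this
  · intro h
    rw [h]

theorem ng_eq_iff {a b : I ⊕ I} : ng a = b ↔ a = ng b := by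
  constructor
  · intro h
    rw [← h, ng_ng]
  · intro h
    rw [h, ng_ng]

theorem ng_ne_iff {a b : I ⊕ I} : ng a ≠ b ↔ a ≠ ng b := not_congr ng_eq_iff

theorem ng_ne_ng {a b : I ⊕ I} : ng a ≠ ng b ↔ a ≠ b := not_congr ng_inj

/-- the underlying index -/
def av (a : I ⊕ I) : I := Sum.elim id id a

@[simp] theorem av_ng (a : I ⊕ I) : av (ng a) = av a := by
  cases a <;> rfl

theorem eq_or_eq_ng_of_av {a b : I ⊕ I} (h : av a = av b) : a = b ∨ a = ng b := by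
  cases a <;> cases b <;> simp_all [av, ng]

theorem ne_of_av_ne {a b : I ⊕ I} (h : av a ≠ av b) : a ≠ b := fun e => h (by rw [e])

theorem ne_ng_of_av_ne {a b : I ⊕ I} (h : av a ≠ av b) : a ≠ ng b := fun e => h (by rw [e, av_ng])

theorem av_ne_iff {a b : I ⊕ I} : av a ≠ av b ↔ a ≠ b ∧ a ≠ ng b := by
  constructor
  · intro h
    exact ⟨ne_of_av_ne h, ne_ng_of_av_ne h⟩
  · rintro ⟨h1, h2⟩ h
    rcases eq_or_eq_ng_of_av h with e | e
    · exact h1 e
    · exact h2 e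

variable (K) in
/-- the sign of a signed index -/
def sg (a : I ⊕ I) : K := Sum.elim (fun _ => (1 : K)) (fun _ => (-1 : K)) a

theorem sg_ng (a : I ⊕ I) : sg K (ng a) = - sg K a := by
  cases a <;> simp [sg, ng]

theorem sg_mul_self (a : I ⊕ I) : sg K a * sg K a = 1 := by
  cases a <;> simp [sg]

theorem sg_ne_zero (a : I ⊕ I) : sg K a ≠ 0 := by
  cases a <;> simp [sg]

theorem sg_inv (a : I ⊕ I) : (sg K a)⁻¹ = sg K a := by
  cases a <;> simp [sg]

theorem sg_sq (a : I ⊕ I) : sg K a ^ 2 = 1 := by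
  rw [pow_two, sg_mul_self]

/-- the Steinberg relations of type `C` -/
structure SpRel (T : I ⊕ I → I ⊕ I → K → Γ) (L : I ⊕ I → K → Γ) : Prop where
  addT : ∀ a b, a ≠ b → a ≠ ng b → ∀ t u, T a b t * T a b u = T a b (t + u)
  addL : ∀ a t u, L a t * L a u = L a (t + u)
  symT : ∀ a b, a ≠ b → a ≠ ng b → ∀ t, T a b t = T (ng b) (ng a) (-(sg K a * sg K b * t))
  commTT : ∀ a b c d, a ≠ b → a ≠ ng b → c ≠ d → c ≠ ng d → c ≠ b → c ≠ ng a → d ≠ a → d ≠ ng b →
    ∀ t u, Commute (T a b t) (T c d u)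
  commTL : ∀ a b c, a ≠ b → a ≠ ng b → c ≠ b → c ≠ ng a → ∀ t u, Commute (T a b t) (L c u)
  commLL : ∀ a c, c ≠ ng a → ∀ t u, Commute (L a t) (L c u)
  r3 : ∀ a b c, a ≠ b → a ≠ ng b → b ≠ c → b ≠ ng c → a ≠ c → a ≠ ng c → ∀ t u,
    T a b t * T b c u * (T a b t)⁻¹ * (T b c u)⁻¹ = T a c (t * u)
  r4 : ∀ a b, a ≠ b → a ≠ ng b → ∀ t u,
    T a b t * L b u * (T a b t)⁻¹ * (L b u)⁻¹ = T a (ng b) (t * u) * L a (sg K a * sg K b * t ^ 2 * u)
  r5 : ∀ a b, a ≠ b → a ≠ ng b → ∀ t u,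
    T a b t * T b (ng a) u * (T a b t)⁻¹ * (T b (ng a) u)⁻¹ = L a (2 * t * u)

/-- the Weyl element of the short root `e_a - e_b` -/
def wS (T : I ⊕ I → I ⊕ I → K → Γ) (a b : I ⊕ I) (t : K) : Γ := T a b t * T b a (-t⁻¹) * T a b t

/-- the Weyl element of the long root `2 e_a` -/
def wL (L : I ⊕ I → K → Γ) (a : I ⊕ I) (t : K) : Γ := L a t * L (ng a) (-t⁻¹) * L a t

/-- the torus element of the short root `e_a - e_b` -/
def hS (T : I ⊕ I → I ⊕ I → K → Γ) (a b : I ⊕ I) (t : K) : Γ := wS T a b t * wS T a b (-1)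

/-- the torus element of the long root `2 e_a` -/
def hL (L : I ⊕ I → K → Γ) (a : I ⊕ I) (t : K) : Γ := wL L a t * wL L a (-1)

theorem wS_eq_ww (T : I ⊕ I → I ⊕ I → K → Γ) (a b : I ⊕ I) (t : K) : wS T a b t = ww T a b t := rfl

theorem wS_eq_nn (T : I ⊕ I → I ⊕ I → K → Γ) (a b : I ⊕ I) (t : K) :
    wS T a b t = R1S.nn (T a b) (T b a) t := rfl

theorem hS_eq_hh (T : I ⊕ I → I ⊕ I → K → Γ) (a b : I ⊕ I) (t : K) :
    hS T a b t = R1S.hh (T a b) (T b a) t := rfl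

theorem wL_eq_nn (L : I ⊕ I → K → Γ) (a : I ⊕ I) (t : K) :
    wL L a t = R1S.nn (L a) (L (ng a)) t := rfl

theorem hL_eq_hh (L : I ⊕ I → K → Γ) (a : I ⊕ I) (t : K) :
    hL L a t = R1S.hh (L a) (L (ng a)) t := rfl

namespace SpRel

variable {T : I ⊕ I → I ⊕ I → K → Γ} {L : I ⊕ I → K → Γ} (S : SpRel T L)
include S

theorem zeroT {a b : I ⊕ I} (h : a ≠ b) (h' : a ≠ ng b) : T a b 0 = 1 := by
  have := S.addT a b h h' 0 0
  rw [add_zero] at this
  exact mul_eq_left.1 this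

theorem negT {a b : I ⊕ I} (h : a ≠ b) (h' : a ≠ ng b) (t : K) : T a b (-t) = (T a b t)⁻¹ := by
  rw [eq_inv_iff_mul_eq_one, S.addT a b h h', neg_add_cancel, S.zeroT h h']

theorem zeroL (a : I ⊕ I) : L a 0 = 1 := by
  have := S.addL a 0 0
  rw [add_zero] at this
  exact mul_eq_left.1 this

theorem negL (a : I ⊕ I) (t : K) : L a (-t) = (L a t)⁻¹ := by
  rw [eq_inv_iff_mul_eq_one, S.addL a, neg_add_cancel, S.zeroL]

/-- the symmetric name of a short root element, solved for the other side -/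
theorem symT' {a b : I ⊕ I} (h : a ≠ b) (h' : a ≠ ng b) (t : K) :
    T (ng b) (ng a) t = T a b (-(sg K a * sg K b * t)) := by
  rw [S.symT a b h h']
  congr 1
  have h1 := sg_mul_self (K := K) a
  have h2 := sg_mul_self (K := K) b
  linear_combination (-t * sg K b * sg K b) * h1 + (-t) * h2

/-- `T a (-b)` in terms of `T b (-a)` -/
theorem symT_ng {a b : I ⊕ I} (h : a ≠ b) (h' : a ≠ ng b) (t : K) :
    T a (ng b) t = T b (ng a) (sg K a * sg K b * t) := by
  rw [S.symT a (ng b) h' (by rw [ng_ng]; exact h), ng_ng, sg_ng]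
  congr 1
  ring

/-- `x_ab(t) x_bc(u) x_ab(t)⁻¹ = x_ac(tu) x_bc(u)` -/
theorem cj3a {a b c : I ⊕ I} (hab : a ≠ b) (hab' : a ≠ ng b) (hbc : b ≠ c) (hbc' : b ≠ ng c) (hac : a ≠ c)
    (hac' : a ≠ ng c) (t u : K) : cj (T a b t) (T b c u) = T a c (t * u) * T b c u := by
  have := S.r3 a b c hab hab' hbc hbc' hac hac' t u
  unfold cj
  rw [← this]; group

/-- `x_bc(u) x_ab(t) x_bc(u)⁻¹ = x_ac(-tu) x_ab(t)` -/
theorem cj3b {a b c : I ⊕ I} (hab : a ≠ b) (hab' : a ≠ ng b) (hbc : b ≠ c) (hbc' : b ≠ ng c) (hac : a ≠ c)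
    (hac' : a ≠ ng c) (t u : K) : cj (T b c u) (T a b t) = T a c (-(t * u)) * T a b t := by
  have := S.r3 a b c hab hab' hbc hbc' hac hac' t u
  unfold cj
  rw [S.negT hac hac', ← this]; group

/-- `x_ab(t) l_b(u) x_ab(t)⁻¹ = x_{a,-b}(tu) l_a(± t² u) l_b(u)` -/
theorem cj4a {a b : I ⊕ I} (hab : a ≠ b) (hab' : a ≠ ng b) (t u : K) :
    cj (T a b t) (L b u) = T a (ng b) (t * u) * L a (sg K a * sg K b * t ^ 2 * u) * L b u := by
  have := S.r4 a b hab hab' t u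
  unfold cj
  rw [← this]; group

/-- `l_b(u) x_ab(t) l_b(u)⁻¹ = l_a(∓ t² u) x_{a,-b}(-tu) x_ab(t)` -/
theorem cj4b {a b : I ⊕ I} (hab : a ≠ b) (hab' : a ≠ ng b) (t u : K) :
    cj (L b u) (T a b t) = L a (-(sg K a * sg K b * t ^ 2 * u)) * T a (ng b) (-(t * u)) * T a b t := by
  have := S.r4 a b hab hab' t u
  unfold cj
  rw [S.negL, S.negT hab' (by rw [ng_ng]; exact hab), ← mul_inv_rev, ← this]; group

/-- `x_ab(t) x_{b,-a}(u) x_ab(t)⁻¹ = l_a(2tu) x_{b,-a}(u)` -/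
theorem cj5a {a b : I ⊕ I} (hab : a ≠ b) (hab' : a ≠ ng b) (t u : K) :
    cj (T a b t) (T b (ng a) u) = L a (2 * t * u) * T b (ng a) u := by
  have := S.r5 a b hab hab' t u
  unfold cj
  rw [← this]; group

/-- `x_{b,-a}(u) x_ab(t) x_{b,-a}(u)⁻¹ = l_a(-2tu) x_ab(t)` -/
theorem cj5b {a b : I ⊕ I} (hab : a ≠ b) (hab' : a ≠ ng b) (t u : K) :
    cj (T b (ng a) u) (T a b t) = L a (-(2 * t * u)) * T a b t := by
  have := S.r5 a b hab hab' t u
  unfold cj
  rw [S.negL, ← this]; group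

theorem cjTT {a b c d : I ⊕ I} (hab : a ≠ b) (hab' : a ≠ ng b) (hcd : c ≠ d) (hcd' : c ≠ ng d) (hcb : c ≠ b)
    (hca : c ≠ ng a) (hda : d ≠ a) (hdb : d ≠ ng b) (t u : K) : cj (T a b t) (T c d u) = T c d u :=
  cj_of_commute (S.commTT a b c d hab hab' hcd hcd' hcb hca hda hdb t u)

theorem cjTL {a b c : I ⊕ I} (hab : a ≠ b) (hab' : a ≠ ng b) (hcb : c ≠ b) (hca : c ≠ ng a) (t u : K) :
    cj (T a b t) (L c u) = L c u :=
  cj_of_commute (S.commTL a b c hab hab' hcb hca t u)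

theorem cjLT {a b c : I ⊕ I} (hab : a ≠ b) (hab' : a ≠ ng b) (hcb : c ≠ b) (hca : c ≠ ng a) (t u : K) :
    cj (L c u) (T a b t) = T a b t :=
  cj_of_commute (S.commTL a b c hab hab' hcb hca t u).symm

theorem cjLL {a c : I ⊕ I} (hca : c ≠ ng a) (t u : K) : cj (L a t) (L c u) = L c u :=
  cj_of_commute (S.commLL a c hca t u)

/-- a family of signed indices no two of which are opposite gives Steinberg relations of type `A` -/
theorem toStRel {J : Type*} (s : J → I ⊕ I) (hs : Function.Injective s) (hs' : ∀ i j, s i ≠ ng (s j)) :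
    StRel (fun i j t => T (s i) (s j) t) := by
  refine ⟨?_, ?_, ?_⟩
  · intro i j hij t u
    exact S.addT _ _ (fun h => hij (hs h)) (hs' i j) t u
  · intro i j k l hij hkl hil hjk t u
    exact S.commTT _ _ _ _ (fun h => hij (hs h)) (hs' i j) (fun h => hkl (hs h)) (hs' k l)
      (fun h => hjk (hs h).symm) (hs' k i) (fun h => hil (hs h).symm) (hs' l j) t u
  · intro i j l hij hjl hil t u
    exact S.r3 _ _ _ (fun h => hij (hs h)) (hs' i j) (fun h => hjl (hs h)) (hs' j l)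
      (fun h => hil (hs h)) (hs' i l) t u

/-- the Weyl element of a short root under the symmetric name -/
theorem wS_sym {a b : I ⊕ I} (hab : a ≠ b) (hab' : a ≠ ng b) (t : K) (ht : t ≠ 0) :
    wS T a b t = wS T (ng b) (ng a) (-(sg K a * sg K b * t)) := by
  unfold wS
  have hba : b ≠ a := hab.symm
  have hba' : b ≠ ng a := fun h => hab' (by rw [h, ng_ng])
  rw [S.symT a b hab hab' t, S.symT b a hba hba' (-t⁻¹)]
  congr 3
  have h1 := sg_mul_self (K := K) a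
  have h2 := sg_mul_self (K := K) b
  have ha := sg_ne_zero (K := K) a
  have hb := sg_ne_zero (K := K) b
  have ea : (sg K a)⁻¹ = sg K a := sg_inv a
  have eb : (sg K b)⁻¹ = sg K b := sg_inv b
  have e : (-(sg K a * sg K b * t))⁻¹ = -(sg K a * sg K b * t⁻¹) := by
    rw [inv_neg, mul_inv, mul_inv, ea, eb]
  rw [e]
  ring

end SpRel

end Cfsg.Agent.Helper6.SpN
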