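import Mathlib
import Cfsg.Agent.Lib.Helper6.SpA

/-!
The elementary symplectic matrices `T_ab(t) = 1 + t E_ab - ε_a ε_b t E_{-b,-a}` and `L_a(t) = 1 + t E_{a,-a}` as elements
of Mathlib's symplectic group (definitions only).
-/

set_option autoImplicit false

namespace Cfsg.Agent.Helper6.SpN

open Matrix

variable {I : Type*} [Fintype I] [DecidableEq I] {K : Type*} [Field K]

/-- the matrix of the short root element `x_{e_a - e_b}(t)` -/
def TmM (a b : I ⊕ I) (t : K) : Matrix (I ⊕ I) (I ⊕ I) K :=
  1 + Matrix.single a b t - Matrix.single (ng b) (ng a) (sg K a * sg K b * t)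

/-- the matrix of the long root element `x_{2 e_a}(t)` -/
def LmM (a : I ⊕ I) (t : K) : Matrix (I ⊕ I) (I ⊕ I) K := 1 + Matrix.single a (ng a) t

/-- the short root element of the symplectic group (the matrix `TmM a b t` when `a ≠ ± b`) -/
noncomputable def Tm (a b : I ⊕ I) (t : K) : symplecticGroup I K := by
  classical
  exact if h : TmM a b t ∈ symplecticGroup I K then ⟨TmM a b t, h⟩ else 1

/-- the long root element of the symplectic group (the matrix `LmM a t`) -/
noncomputable def Lm (a : I ⊕ I) (t : K) : symplecticGroup I K := by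
  classical
  exact if h : LmM a t ∈ symplecticGroup I K then ⟨LmM a t, h⟩ else 1

/-- the set of all elementary symplectic matrices -/
def elemSet (I : Type*) [Fintype I] [DecidableEq I] (K : Type*) [Field K] : Set (symplecticGroup I K) :=
  {g | ∃ (a b : I ⊕ I) (t : K), a ≠ b ∧ a ≠ ng b ∧ g = Tm a b t} ∪ {g | ∃ (a : I ⊕ I) (t : K), g = Lm a t}

end Cfsg.Agent.Helper6.SpN
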