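import Mathlib
import Cfsg.Prelude
import Cfsg.Agent.Lib.Helper13.SylODefs

/-!
# S4613 / SylO piece SYLO-SUB (helper6): `SylOpp` passes to a normal subgroup of index prime to `p`.
-/

set_option autoImplicit false
set_option linter.unusedSectionVars false
set_option linter.unusedVariables false

namespace Cfsg.Agent.Helper13.SylO

section grp

/-- a `p`-element lies in a normal subgroup of index prime to `p` -/
theorem sylo_sub_mem {H : Type*} [Group H] [Finite H] (p : ℕ) [Fact p.Prime]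
    (K : Subgroup H) [K.Normal] (hK : ¬ p ∣ K.index) (x : H) (k : ℕ) (hx : x ^ p ^ k = 1) :
    x ∈ K := by
  have hp : p.Prime := Fact.out
  have h1 : orderOf (QuotientGroup.mk x : H ⧸ K) ∣ p ^ k := by
    apply orderOf_dvd_of_pow_eq_one
    rw [← QuotientGroup.mk_pow, hx]
    rfl
  have h2 : orderOf (QuotientGroup.mk x : H ⧸ K) ∣ K.index := by
    rw [Subgroup.index_eq_card]
    exact orderOf_dvd_natCard _
  have hcop : Nat.Coprime (p ^ k) K.index :=
    Nat.Coprime.pow_left k ((Nat.Prime.coprime_iff_not_dvd hp).mpr hK)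
  have h3 : orderOf (QuotientGroup.mk x : H ⧸ K) = 1 :=
    Nat.eq_one_of_dvd_coprimes hcop h1 h2
  have h4 : (QuotientGroup.mk x : H ⧸ K) = 1 := orderOf_eq_one_iff.mp h3
  exact (QuotientGroup.eq_one_iff x).mp h4

/-- every `p`-subgroup lies in `K` -/
theorem sylo_sub_le {H : Type*} [Group H] [Finite H] (p : ℕ) [Fact p.Prime]
    (K : Subgroup H) [K.Normal] (hK : ¬ p ∣ K.index) (Q : Subgroup H) (hQ : IsPGroup p Q) :
    Q ≤ K := by
  intro x hx
  obtain ⟨k, hk⟩ := hQ ⟨x, hx⟩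
  have hk' : x ^ p ^ k = 1 := by
    have := congrArg Subtype.val hk
    simpa using this
  exact sylo_sub_mem p K hK x k hk'

/-- every Sylow subgroup of `K` is the trace of a Sylow subgroup of `H` -/
theorem sylo_sub_lift {H : Type*} [Group H] [Finite H] (p : ℕ) [Fact p.Prime]
    (K : Subgroup H) [K.Normal] (hK : ¬ p ∣ K.index) (V : Sylow p K) :
    ∃ Q : Sylow p H, ∀ x : K, x ∈ (V : Subgroup K) ↔ (x : H) ∈ (Q : Subgroup H) := by
  have hVp : IsPGroup p ((V : Subgroup K).map K.subtype) := V.isPGroup'.map K.subtype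
  obtain ⟨Q, hQ⟩ := hVp.exists_le_sylow
  refine ⟨Q, ?_⟩
  have hQK : (Q : Subgroup H) ≤ K := sylo_sub_le p K hK Q Q.isPGroup'
  have hle : (V : Subgroup K) ≤ (Q : Subgroup H).subgroupOf K := by
    intro x hx
    rw [Subgroup.mem_subgroupOf]
    exact hQ (Subgroup.mem_map_of_mem K.subtype hx)
  have hp2 : IsPGroup p ((Q : Subgroup H).subgroupOf K) :=
    Q.isPGroup'.comap_of_injective K.subtype K.subtype_injective
  have heq : (Q : Subgroup H).subgroupOf K = (V : Subgroup K) := V.is_maximal' hp2 hle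
  intro x
  rw [← heq, Subgroup.mem_subgroupOf]

/-- PIECE SYLO-SUB. -/
theorem SylOpp.of_normal {H : Type*} [Group H] [Finite H] (p : ℕ) [Fact p.Prime]
    (K : Subgroup H) [K.Normal] (hK : ¬ p ∣ K.index) (h : SylOpp p H) : SylOpp p K := by
  obtain ⟨⟨U₀, hU₀⟩, hO2, hO3⟩ := h
  have hle : ∀ Q : Sylow p H, (Q : Subgroup H) ≤ K := fun Q => sylo_sub_le p K hK Q Q.isPGroup'
  refine ⟨?_, ?_, ?_⟩
  · -- (O1)
    refine ⟨U₀.subtype (hle U₀), ?_⟩
    rw [Sylow.coe_subtype]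
    intro hbot
    apply hU₀
    rw [eq_bot_iff]
    intro x hx
    have hxK : x ∈ K := hle U₀ hx
    have : (⟨x, hxK⟩ : K) ∈ (U₀ : Subgroup H).subgroupOf K := by
      rw [Subgroup.mem_subgroupOf]
      exact hx
    rw [hbot, Subgroup.mem_bot] at this
    rw [Subgroup.mem_bot]
    exact congrArg Subtype.val this
  · -- (O2)
    intro U W W' hUW hUW'
    obtain ⟨UH, hUH⟩ := sylo_sub_lift p K hK U
    obtain ⟨WH, hWH⟩ := sylo_sub_lift p K hK W
    obtain ⟨WH', hWH'⟩ := sylo_sub_lift p K hK W'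
    have hinf : ∀ (A B : Sylow p K) (AH BH : Sylow p H),
        (∀ x : K, x ∈ (A : Subgroup K) ↔ (x : H) ∈ (AH : Subgroup H)) →
        (∀ x : K, x ∈ (B : Subgroup K) ↔ (x : H) ∈ (BH : Subgroup H)) →
        (A : Subgroup K) ⊓ (B : Subgroup K) = ⊥ →
        (AH : Subgroup H) ⊓ (BH : Subgroup H) = ⊥ := by
      intro A B AH BH hA hB hAB
      rw [eq_bot_iff]
      rintro x ⟨hxA, hxB⟩
      have hxK : x ∈ K := hle AH hxA
      have : (⟨x, hxK⟩ : K) ∈ (A : Subgroup K) ⊓ (B : Subgroup K) :=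
        ⟨(hA ⟨x, hxK⟩).2 hxA, (hB ⟨x, hxK⟩).2 hxB⟩
      rw [hAB, Subgroup.mem_bot] at this
      rw [Subgroup.mem_bot]
      exact congrArg Subtype.val this
    obtain ⟨u, hu, huW⟩ := hO2 UH WH WH' (hinf U W UH WH hUH hWH hUW) (hinf U W' UH WH' hUH hWH' hUW')
    have huK : u ∈ K := hle UH hu
    refine ⟨⟨u, huK⟩, (hUH ⟨u, huK⟩).2 hu, ?_⟩
    intro x
    rw [hWH' x, huW (x : H), hWH]
    rfl
  · -- (O3)
    intro W W'
    obtain ⟨WH, hWH⟩ := sylo_sub_lift p K hK W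
    obtain ⟨WH', hWH'⟩ := sylo_sub_lift p K hK W'
    obtain ⟨EH, hE1, hE2⟩ := hO3 WH WH'
    refine ⟨EH.subtype (hle EH), ?_, ?_⟩
    · rw [Sylow.coe_subtype, eq_bot_iff]
      rintro x ⟨hxE, hxW⟩
      have hxE' : (x : H) ∈ (EH : Subgroup H) := Subgroup.mem_subgroupOf.mp hxE
      have : (x : H) ∈ (EH : Subgroup H) ⊓ (WH : Subgroup H) := ⟨hxE', (hWH x).1 hxW⟩
      rw [hE1, Subgroup.mem_bot] at this
      rw [Subgroup.mem_bot]
      exact Subtype.ext this
    · rw [Sylow.coe_subtype, eq_bot_iff]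
      rintro x ⟨hxE, hxW⟩
      have hxE' : (x : H) ∈ (EH : Subgroup H) := Subgroup.mem_subgroupOf.mp hxE
      have : (x : H) ∈ (EH : Subgroup H) ⊓ (WH' : Subgroup H) := ⟨hxE', (hWH' x).1 hxW⟩
      rw [hE2, Subgroup.mem_bot] at this
      rw [Subgroup.mem_bot]
      exact Subtype.ext this

end grp

end Cfsg.Agent.Helper13.SylO
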