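import Mathlib
import Cfsg.Agent.Lib.Helper14.StGLDefs

/-!
# S2425 piece SPLIT (helper6): `split_sum`.

Primary splitting of the invariant subspaces: `W ↦ (W ⊓ K₁, W ⊓ K₂)`, `K₁ = ker f(g)`, `K₂ = ker p'(g)`,
`p' = ∏_{f' ≠ f} f'`, with inverse `(W₁, W₂) ↦ W₁ ⊔ W₂`; the function `Gfun` is multiplicative for it.
-/

set_option autoImplicit false
set_option linter.unusedSectionVars false
set_option linter.unusedVariables false

namespace Cfsg.Agent.Helper14.StGL

open Module Polynomial Cfsg.Agent.Helper13.SS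

open scoped Classical MatrixGroups

section aux

variable {F : Type*} [Field F] {V : Type*} [AddCommGroup V] [Module F V]

theorem stglsplit_pow_mem (g : Module.End F V) (W : Submodule F V) (hW : Inv g W) (n : ℕ) :
    ∀ v ∈ W, (g ^ n) v ∈ W := by
  induction n with
  | zero => intro v hv; simpa using hv
  | succ n ih =>
    intro v hv
    rw [pow_succ', Module.End.mul_apply]
    exact hW _ (ih v hv)

/-- an invariant subspace is stable under the polynomials in `g` -/
theorem stglsplit_aeval_mem (g : Module.End F V) (W : Submodule F V) (hW : Inv g W) (r : F[X]) :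
    ∀ v ∈ W, aeval g r v ∈ W := by
  intro v hv
  induction r using Polynomial.induction_on' with
  | add p q hp hq =>
    rw [map_add, LinearMap.add_apply]
    exact W.add_mem hp hq
  | monomial n a =>
    rw [aeval_monomial, Module.End.mul_apply, Module.algebraMap_end_apply]
    exact W.smul_mem _ (stglsplit_pow_mem g W hW n v hv)

/-- the kernel of a polynomial in `g` is invariant -/
theorem stglsplit_inv_ker (g : Module.End F V) (r : F[X]) : Inv g (Kf g r) := by
  intro v hv
  have h0 : aeval g r v = 0 := LinearMap.mem_ker.1 hv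
  show g v ∈ LinearMap.ker (aeval g r)
  rw [LinearMap.mem_ker]
  have e : aeval g r * g = g * aeval g r :=
    calc aeval g r * g = aeval g r * aeval g (X : F[X]) := by rw [aeval_X]
      _ = aeval g (r * X) := (map_mul _ _ _).symm
      _ = aeval g (X * r) := by rw [mul_comm]
      _ = aeval g (X : F[X]) * aeval g r := map_mul _ _ _
      _ = g * aeval g r := by rw [aeval_X]
  have : aeval g r (g v) = (aeval g r * g) v := rfl
  rw [this, e, Module.End.mul_apply, h0, map_zero]

theorem stglsplit_inv_inf (g : Module.End F V) (W W' : Submodule F V) (h : Inv g W) (h' : Inv g W') :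
    Inv g (W ⊓ W') := fun v hv => ⟨h v hv.1, h' v hv.2⟩

theorem stglsplit_inv_sup (g : Module.End F V) (W W' : Submodule F V) (h : Inv g W) (h' : Inv g W') :
    Inv g (W ⊔ W') := by
  intro v hv
  obtain ⟨y, hy, z, hz, rfl⟩ := Submodule.mem_sup.1 hv
  rw [map_add]
  exact Submodule.add_mem_sup (h y hy) (h' z hz)

/-- divisibility gives an inclusion of kernels -/
theorem stglsplit_ker_le_of_dvd (g : Module.End F V) (r s : F[X]) (h : r ∣ s) : Kf g r ≤ Kf g s := by
  obtain ⟨c, rfl⟩ := h
  intro v hv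
  have h0 : aeval g r v = 0 := LinearMap.mem_ker.1 hv
  show v ∈ LinearMap.ker (aeval g (r * c))
  rw [LinearMap.mem_ker, mul_comm, map_mul, Module.End.mul_apply, h0, map_zero]

theorem stglsplit_gam_zero (Q : ℕ) : gam Q 0 = 1 := by simp [gam]

end aux

section mod

variable {F : Type*} [Field F] [Fintype F] {V : Type*} [AddCommGroup V] [Module F V] [Fintype V]

/-- **PIECE SPLIT** -/
theorem split_sum (q : ℕ) (g : Module.End F V) (S : Finset F[X]) (hirr : ∀ f ∈ S, Irreducible f)
    (hmon : ∀ f ∈ S, f.Monic) (hg : aeval g (∏ f ∈ S, f) = 0) (f : F[X]) (hf : f ∈ S)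
    (U : Submodule F V) (hU : Inv g U) :
    ∑ W ∈ Finset.univ.filter (fun W : Submodule F V => Inv g W ∧ W ≤ U), Gfun q g S W =
      (∑ W ∈ Finset.univ.filter (fun W : Submodule F V => Inv g W ∧ W ≤ U ⊓ Kf g f), Gfun q g S W) *
      (∑ W ∈ Finset.univ.filter
        (fun W : Submodule F V => Inv g W ∧ W ≤ U ⊓ Kf g (∏ f' ∈ S.erase f, f')), Gfun q g S W) := by
  set p' : F[X] := ∏ f' ∈ S.erase f, f' with hp'
  -- coprimality
  have hcop : IsCoprime f p' := by
    rw [hp']
    apply IsCoprime.prod_right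
    intro f' hf'
    have hf'S : f' ∈ S := Finset.mem_of_mem_erase hf'
    have hne : f' ≠ f := Finset.ne_of_mem_erase hf'
    rw [(hirr f hf).coprime_iff_not_dvd]
    intro hdvd
    have hass : Associated f f' := (hirr f hf).associated_of_dvd (hirr f' hf'S) hdvd
    exact hne (eq_of_monic_of_associated (hmon f hf) (hmon f' hf'S) hass).symm
  obtain ⟨a, b, hab⟩ := hcop
  have hfp : f * p' = ∏ f ∈ S, f := Finset.mul_prod_erase S _ hf
  have hkill1 : ∀ (c : F[X]) (v : V), aeval g f (aeval g (c * p') v) = 0 := by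
    intro c v
    have e : aeval g f (aeval g (c * p') v) = (aeval g (c * (f * p'))) v := by
      have : c * (f * p') = f * (c * p') := by ring
      rw [this, map_mul (aeval g) f, Module.End.mul_apply]
    rw [e, hfp, map_mul, hg, mul_zero, LinearMap.zero_apply]
  have hkill2 : ∀ (c : F[X]) (v : V), aeval g p' (aeval g (c * f) v) = 0 := by
    intro c v
    have e : aeval g p' (aeval g (c * f) v) = (aeval g (c * (f * p'))) v := by
      have : c * (f * p') = p' * (c * f) := by ring
      rw [this, map_mul (aeval g) p', Module.End.mul_apply]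
    rw [e, hfp, map_mul, hg, mul_zero, LinearMap.zero_apply]
  have hdecomp : ∀ v : V, v = aeval g (a * f) v + aeval g (b * p') v := by
    intro v
    rw [← LinearMap.add_apply, ← map_add, hab, map_one, Module.End.one_apply]
  set K1 : Submodule F V := Kf g f with hK1
  set K2 : Submodule F V := Kf g p' with hK2
  have hmemK1 : ∀ v, v ∈ K1 ↔ aeval g f v = 0 := fun v => LinearMap.mem_ker
  have hmemK2 : ∀ v, v ∈ K2 ↔ aeval g p' v = 0 := fun v => LinearMap.mem_ker
  have hK12 : K1 ⊓ K2 = ⊥ := by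
    rw [eq_bot_iff]
    rintro v ⟨h1, h2⟩
    have h1' := (hmemK1 v).1 h1
    have h2' := (hmemK2 v).1 h2
    rw [Submodule.mem_bot, hdecomp v, map_mul, map_mul, Module.End.mul_apply, Module.End.mul_apply,
      h1', h2', map_zero, map_zero, add_zero]
  have hinvK1 : Inv g K1 := stglsplit_inv_ker g f
  have hinvK2 : Inv g K2 := stglsplit_inv_ker g p'
  -- A: an invariant subspace is the sum of its two parts
  have hA : ∀ W : Submodule F V, Inv g W → (W ⊓ K1) ⊔ (W ⊓ K2) = W := by
    intro W hW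
    apply le_antisymm (sup_le inf_le_left inf_le_left)
    intro v hv
    rw [hdecomp v, add_comm]
    apply Submodule.add_mem_sup
    · exact ⟨stglsplit_aeval_mem g W hW _ v hv, (hmemK1 _).2 (hkill1 b v)⟩
    · exact ⟨stglsplit_aeval_mem g W hW _ v hv, (hmemK2 _).2 (hkill2 a v)⟩
  -- B: the parts of a sum
  have hB1 : ∀ W1 W2 : Submodule F V, W1 ≤ K1 → W2 ≤ K2 → (W1 ⊔ W2) ⊓ K1 = W1 := by
    intro W1 W2 h1 h2
    apply le_antisymm
    · rintro v ⟨hv, hvK⟩
      obtain ⟨y, hy, z, hz, rfl⟩ := Submodule.mem_sup.1 hv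
      have hz1 : z ∈ K1 := by
        have : z = (y + z) - y := by abel
        rw [this]
        exact K1.sub_mem hvK (h1 hy)
      have hz0 : z ∈ K1 ⊓ K2 := ⟨hz1, h2 hz⟩
      rw [hK12, Submodule.mem_bot] at hz0
      rw [hz0, add_zero]
      exact hy
    · exact le_inf le_sup_left h1
  have hB2 : ∀ W1 W2 : Submodule F V, W1 ≤ K1 → W2 ≤ K2 → (W1 ⊔ W2) ⊓ K2 = W2 := by
    intro W1 W2 h1 h2
    apply le_antisymm
    · rintro v ⟨hv, hvK⟩
      obtain ⟨y, hy, z, hz, rfl⟩ := Submodule.mem_sup.1 hv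
      have hy2 : y ∈ K2 := by
        have : y = (y + z) - z := by abel
        rw [this]
        exact K2.sub_mem hvK (h2 hz)
      have hy0 : y ∈ K1 ⊓ K2 := ⟨h1 hy, hy2⟩
      rw [hK12, Submodule.mem_bot] at hy0
      rw [hy0, zero_add]
      exact hz
    · exact le_inf le_sup_right h2
  -- C: multiplicativity
  have hKf' : ∀ f' ∈ S.erase f, Kf g f' ≤ K2 := by
    intro f' hf'
    exact stglsplit_ker_le_of_dvd g f' p' (Finset.dvd_prod_of_mem _ hf')
  have hC : ∀ W : Submodule F V, Gfun q g S W = Gfun q g S (W ⊓ K1) * Gfun q g S (W ⊓ K2) := by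
    intro W
    unfold Gfun
    rw [← Finset.mul_prod_erase S _ hf, ← Finset.mul_prod_erase S _ hf, ← Finset.mul_prod_erase S _ hf]
    have e1 : (W ⊓ K1) ⊓ Kf g f = W ⊓ Kf g f := by
      rw [hK1, inf_assoc, inf_idem]
    have e2 : ∏ f' ∈ S.erase f,
        gam (q ^ f'.natDegree) (finrank F ↥((W ⊓ K1) ⊓ Kf g f') / f'.natDegree) = 1 := by
      apply Finset.prod_eq_one
      intro f' hf'
      have : (W ⊓ K1) ⊓ Kf g f' = ⊥ := by
        rw [eq_bot_iff, ← hK12]
        exact le_inf (inf_le_left.trans inf_le_right) (inf_le_right.trans (hKf' f' hf'))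
      rw [this, finrank_bot, Nat.zero_div, stglsplit_gam_zero]
    have e3 : (W ⊓ K2) ⊓ Kf g f = ⊥ := by
      rw [eq_bot_iff, ← hK12]
      exact le_inf inf_le_right (inf_le_left.trans inf_le_right)
    have e4 : ∏ f' ∈ S.erase f,
        gam (q ^ f'.natDegree) (finrank F ↥((W ⊓ K2) ⊓ Kf g f') / f'.natDegree) =
        ∏ f' ∈ S.erase f, gam (q ^ f'.natDegree) (finrank F ↥(W ⊓ Kf g f') / f'.natDegree) := by
      apply Finset.prod_congr rfl
      intro f' hf'
      have : (W ⊓ K2) ⊓ Kf g f' = W ⊓ Kf g f' := by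
        rw [inf_assoc, inf_eq_right.2 (hKf' f' hf')]
      rw [this]
    rw [e1, e2, e3, e4, finrank_bot, Nat.zero_div, stglsplit_gam_zero, mul_one, one_mul]
  -- the sum
  rw [Finset.sum_mul_sum, ← Finset.sum_product']
  apply Finset.sum_nbij' (fun W => (W ⊓ K1, W ⊓ K2)) (fun p => p.1 ⊔ p.2)
  · intro W hW
    rw [Finset.mem_filter] at hW
    obtain ⟨-, hWi, hWU⟩ := hW
    rw [Finset.mem_product, Finset.mem_filter, Finset.mem_filter]
    exact ⟨⟨Finset.mem_univ _, stglsplit_inv_inf g W K1 hWi hinvK1, inf_le_inf_right _ hWU⟩,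
      ⟨Finset.mem_univ _, stglsplit_inv_inf g W K2 hWi hinvK2, inf_le_inf_right _ hWU⟩⟩
  · intro p hp
    rw [Finset.mem_product, Finset.mem_filter, Finset.mem_filter] at hp
    obtain ⟨⟨-, h1i, h1U⟩, ⟨-, h2i, h2U⟩⟩ := hp
    rw [Finset.mem_filter]
    exact ⟨Finset.mem_univ _, stglsplit_inv_sup g _ _ h1i h2i,
      sup_le (h1U.trans inf_le_left) (h2U.trans inf_le_left)⟩
  · intro W hW
    rw [Finset.mem_filter] at hW
    exact hA W hW.2.1
  · intro p hp
    rw [Finset.mem_product, Finset.mem_filter, Finset.mem_filter] at hp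
    obtain ⟨⟨-, h1i, h1U⟩, ⟨-, h2i, h2U⟩⟩ := hp
    have h1K : p.1 ≤ K1 := h1U.trans inf_le_right
    have h2K : p.2 ≤ K2 := h2U.trans inf_le_right
    show ((p.1 ⊔ p.2) ⊓ K1, (p.1 ⊔ p.2) ⊓ K2) = p
    rw [hB1 p.1 p.2 h1K h2K, hB2 p.1 p.2 h1K h2K]
  · intro W hW
    exact hC W

end mod

end Cfsg.Agent.Helper14.StGL
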