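import Mathlib

set_option autoImplicit false

namespace Cfsg.Agent.Helper6

/-- Two finite sets related by a relation which is total and injective in both directions have the
same cardinality. -/
theorem card_eq_of_rel {α β : Type*} (A : Set α) (B : Set β) [Finite A] [Finite B]
    (R : α → β → Prop)
    (hab : ∀ x ∈ A, ∃ y ∈ B, R x y) (hba : ∀ y ∈ B, ∃ x ∈ A, R x y)
    (hinj1 : ∀ x₁ ∈ A, ∀ x₂ ∈ A, ∀ y ∈ B, R x₁ y → R x₂ y → x₁ = x₂)
    (hinj2 : ∀ x ∈ A, ∀ y₁ ∈ B, ∀ y₂ ∈ B, R x y₁ → R x y₂ → y₁ = y₂) :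
    Nat.card A = Nat.card B := by
  apply le_antisymm
  · have hex : ∀ x : A, ∃ y : B, R x.1 y.1 := by
      rintro ⟨x, hx⟩
      obtain ⟨y, hy, hR⟩ := hab x hx
      exact ⟨⟨y, hy⟩, hR⟩
    choose f hf using hex
    apply Nat.card_le_card_of_injective f
    intro x₁ x₂ h
    apply Subtype.ext
    apply hinj1 x₁.1 x₁.2 x₂.1 x₂.2 (f x₁).1 (f x₁).2 (hf x₁)
    rw [h]
    exact hf x₂
  · have hex : ∀ y : B, ∃ x : A, R x.1 y.1 := by
      rintro ⟨y, hy⟩
      obtain ⟨x, hx, hR⟩ := hba y hy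
      exact ⟨⟨x, hx⟩, hR⟩
    choose f hf using hex
    apply Nat.card_le_card_of_injective f
    intro y₁ y₂ h
    apply Subtype.ext
    apply hinj2 (f y₁).1 (f y₁).2 y₁.1 y₁.2 y₂.1 y₂.2 (hf y₁)
    rw [h]
    exact hf y₂

/-- A functional, surjective relation between finite sets with `|A| ≤ |B|` is injective. -/
theorem rel_inj_of_card {α β : Type*} (A : Set α) (B : Set β) [Finite A] [Finite B]
    (R : α → β → Prop)
    (hfun : ∀ x ∈ A, ∃ y ∈ B, R x y)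
    (huniq : ∀ x ∈ A, ∀ y₁ ∈ B, ∀ y₂ ∈ B, R x y₁ → R x y₂ → y₁ = y₂)
    (hsurj : ∀ y ∈ B, ∃ x ∈ A, R x y) (hcard : Nat.card A ≤ Nat.card B) :
    ∀ x₁ ∈ A, ∀ x₂ ∈ A, ∀ y ∈ B, R x₁ y → R x₂ y → x₁ = x₂ := by
  have hex : ∀ x : A, ∃ y : B, R x.1 y.1 := by
    rintro ⟨x, hx⟩
    obtain ⟨y, hy, hR⟩ := hfun x hx
    exact ⟨⟨y, hy⟩, hR⟩
  choose f hf using hex
  have hfs : Function.Surjective f := by
    rintro ⟨y, hy⟩
    obtain ⟨x, hx, hR⟩ := hsurj y hy
    refine ⟨⟨x, hx⟩, ?_⟩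
    apply Subtype.ext
    exact huniq x hx _ (f ⟨x, hx⟩).2 y hy (hf ⟨x, hx⟩) hR
  have hfb := hfs.bijective_of_nat_card_le hcard
  intro x₁ hx₁ x₂ hx₂ y hy h1 h2
  have e1 : (f ⟨x₁, hx₁⟩).1 = y := huniq x₁ hx₁ _ (f ⟨x₁, hx₁⟩).2 y hy (hf ⟨x₁, hx₁⟩) h1
  have e2 : (f ⟨x₂, hx₂⟩).1 = y := huniq x₂ hx₂ _ (f ⟨x₂, hx₂⟩).2 y hy (hf ⟨x₂, hx₂⟩) h2
  have e3 : f ⟨x₁, hx₁⟩ = f ⟨x₂, hx₂⟩ := Subtype.ext (e1.trans e2.symm)
  exact congrArg Subtype.val (hfb.1 e3)

/-- If all fibres of `f : A → B` have `c` elements then `|A| = |B| * c`. -/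
theorem card_eq_mul_of_fibres {α β : Type*} (A : Set α) (B : Set β) [Finite A] [Finite B]
    (f : α → β) (c : ℕ) (hf : ∀ a ∈ A, f a ∈ B)
    (hfib : ∀ b ∈ B, Nat.card {a // a ∈ A ∧ f a = b} = c) :
    Nat.card A = Nat.card B * c := by
  classical
  let f' : A → B := fun a => ⟨f a.1, hf a.1 a.2⟩
  have e := Equiv.sigmaFiberEquiv f'
  rw [← Nat.card_congr e]
  have : Fintype B := Fintype.ofFinite B
  rw [Nat.card_sigma]
  have key : ∀ b : B, Nat.card {a : A // f' a = b} = c := by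
    intro b
    rw [← hfib b.1 b.2]
    apply Nat.card_congr
    exact
      { toFun := fun a => ⟨a.1.1, a.1.2, congrArg Subtype.val a.2⟩
        invFun := fun a => ⟨⟨a.1, a.2.1⟩, Subtype.ext a.2.2⟩
        left_inv := fun a => rfl
        right_inv := fun a => rfl }
  simp only [key, Finset.sum_const, Finset.card_univ, smul_eq_mul, Nat.card_eq_fintype_card]

/-- If all fibres of `f` on `A` have at least `c` elements and `|A| = |β| * c`, then all
fibres have exactly `c` elements. -/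
theorem fibres_eq_of_le {α β : Type*} (A : Set α) [Finite A] [Finite β] (f : α → β) (c : ℕ)
    (hle : ∀ b : β, c ≤ Nat.card {a // a ∈ A ∧ f a = b}) (hcard : Nat.card A = Nat.card β * c) :
    ∀ b : β, Nat.card {a // a ∈ A ∧ f a = b} = c := by
  classical
  have : Fintype β := Fintype.ofFinite β
  let f' : A → β := fun a => f a.1
  have e := Equiv.sigmaFiberEquiv f'
  have h1 : Nat.card A = ∑ b : β, Nat.card {a : A // f' a = b} := by
    rw [← Nat.card_congr e, Nat.card_sigma]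
  have key : ∀ b : β, Nat.card {a : A // f' a = b} = Nat.card {a // a ∈ A ∧ f a = b} := by
    intro b
    apply Nat.card_congr
    exact
      { toFun := fun a => ⟨a.1.1, a.1.2, a.2⟩
        invFun := fun a => ⟨⟨a.1, a.2.1⟩, a.2.2⟩
        left_inv := fun a => rfl
        right_inv := fun a => rfl }
  have h2 : ∑ b : β, c = ∑ b : β, Nat.card {a // a ∈ A ∧ f a = b} := by
    rw [Finset.sum_const, Finset.card_univ, smul_eq_mul, ← Nat.card_eq_fintype_card, ← hcard, h1]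
    exact Finset.sum_congr rfl (fun b _ => key b)
  have h3 := (Finset.sum_eq_sum_iff_of_le (fun b _ => hle b)).mp h2
  intro b
  exact (h3 b (Finset.mem_univ b)).symm

end Cfsg.Agent.Helper6
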