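import Mathlib
import Cfsg.Agent.Lib.Helper6.Dihedral
import Cfsg.Agent.Lib.Helper6.Count
import Cfsg.Agent.S1186

/-!
Groups acting on a set such that every involution fixes at most one point
(the situation of a strongly embedded subgroup).
-/

set_option autoImplicit false

namespace Cfsg.Agent.Helper6.UniqueFix

open Cfsg.Agent.Helper6 Cfsg.Agent.S1186

variable {G Ω : Type*} [Group G] [MulAction G Ω]

/-- every involution fixes at most one point -/
def AtMostOneFix (G Ω : Type*) [Group G] [MulAction G Ω] : Prop :=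
  ∀ u : G, u ≠ 1 → u * u = 1 → ∀ c c' : Ω, u • c = c → u • c' = c' → c = c'

/-- if the involution `u` fixes `c` and the involution `v` does not, then `u v` has odd order -/
theorem odd_of_not_fix [Finite G] (h : AtMostOneFix G Ω) (u v : G) (hu1 : u ≠ 1) (huu : u * u = 1)
    (hvv : v * v = 1) (c : Ω) (hc : u • c = c) (hvc : v • c ≠ c) :
    Odd (orderOf (u * v)) := by
  rcases Nat.even_or_odd (orderOf (u * v)) with he | ho
  · exfalso
    obtain ⟨k, hk⟩ := he
    have hpos : 0 < orderOf (u * v) := orderOf_pos _
    set z := (u * v) ^ k with hz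
    have hz1 : z ≠ 1 := pow_ne_one_of_lt_orderOf (by omega) (by omega)
    have hzz : z * z = 1 := by rw [hz, ← pow_add, ← hk, pow_orderOf_eq_one]
    have hzi : z⁻¹ = z := inv_eq_self_of_mul_self hzz
    have huz : u * z = z * u := by
      have := mul_pow_eq u v huu hvv k
      rw [← hz, hzi] at this
      exact this
    have hrz : (u * v) * z = z * (u * v) := by
      rw [hz, ← pow_succ', ← pow_succ]
    have hvz : v * z = z * v := by
      have hv' : v = u * (u * v) := by rw [← mul_assoc, huu, one_mul]
      calc v * z = u * ((u * v) * z) := by rw [← mul_assoc, ← hv']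
        _ = u * (z * (u * v)) := by rw [hrz]
        _ = (u * z) * (u * v) := by group
        _ = (z * u) * (u * v) := by rw [huz]
        _ = z * (u * (u * v)) := by group
        _ = z * v := by rw [← hv']
    have hzc : z • c = c := by
      apply h u hu1 huu _ _ _ hc
      rw [← mul_smul, huz, mul_smul, hc]
    have hzvc : z • v • c = v • c := by
      rw [← mul_smul, ← hvz, mul_smul, hzc]
    exact hvc (h z hz1 hzz _ _ hzvc hzc)
  · exact ho

/-- the midpoint involution of two involutions `u`, `v`, where `u` fixes `c` and `v` fixes `d ≠ c` -/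
theorem mid_props [Finite G] (h : AtMostOneFix G Ω) (u v : G) (hu1 : u ≠ 1) (huu : u * u = 1)
    (hv1 : v ≠ 1) (hvv : v * v = 1) (c d : Ω) (hc : u • c = c) (hd : v • d = d) (hcd : c ≠ d) :
    mid (orderOf (u * v) / 2) u v ≠ 1 ∧
      mid (orderOf (u * v) / 2) u v * mid (orderOf (u * v) / 2) u v = 1 ∧
      mid (orderOf (u * v) / 2) u v * u * mid (orderOf (u * v) / 2) u v = v ∧
      mid (orderOf (u * v) / 2) u v • c = d ∧ mid (orderOf (u * v) / 2) u v • d = c := by
  have hvc : v • c ≠ c := fun e => hcd (h v hv1 hvv _ _ e hd)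
  obtain ⟨j, hj⟩ := odd_of_not_fix h u v hu1 huu hvv c hc hvc
  have hj2 : orderOf (u * v) / 2 = j := by omega
  rw [hj2]
  have hpow : (u * v) ^ (2 * j + 1) = 1 := by rw [← hj]; exact pow_orderOf_eq_one _
  have hww := mid_mul_self u v huu hvv j
  have hwuw := mid_conj u v huu hvv j hpow
  set w := mid j u v with hw
  have hwc : w • c = d := by
    apply h v hv1 hvv _ _ _ hd
    rw [← hwuw, ← mul_smul]
    have : w * u * w * w = w * u * (w * w) := by group
    rw [this, hww, mul_one, mul_smul, hc]
  have hwd : w • d = c := by rw [← hwc, ← mul_smul, hww, one_smul]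
  refine ⟨?_, hww, hwuw, hwc, hwd⟩
  intro e
  rw [e, one_smul] at hwc
  exact hcd hwc

/-- an involution moving the fixed point `c` of the involution `u` is conjugate to `u`, hence has a fixed point -/
theorem exists_fix_of_not_fix [Finite G] (h : AtMostOneFix G Ω) (u v : G) (hu1 : u ≠ 1) (huu : u * u = 1)
    (hvv : v * v = 1) (c : Ω) (hc : u • c = c) (hvc : v • c ≠ c) :
    ∃ g : G, g * u * g⁻¹ = v ∧ v • (g • c) = g • c := by
  obtain ⟨j, hj⟩ := odd_of_not_fix h u v hu1 huu hvv c hc hvc
  have hpow : (u * v) ^ (2 * j + 1) = 1 := by rw [← hj]; exact pow_orderOf_eq_one _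
  have hconj := conj_of_odd_order u v huu hvv j hpow
  refine ⟨(u * v) ^ j, hconj, ?_⟩
  have e : v * (u * v) ^ j = (u * v) ^ j * u := by
    generalize (u * v) ^ j = g at hconj
    calc v * g = (g * u * g⁻¹) * g := by rw [hconj]
      _ = g * u := by group
  rw [← mul_smul, e, mul_smul, hc]

end Cfsg.Agent.Helper6.UniqueFix
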