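import Mathlib
import Cfsg.Prelude.Def_Involutions
import Cfsg.Agent.Lib.Helper6.UniqueFix

/-!
Basic consequences of a strongly embedded subgroup `H` of a finite group `G`,
phrased through the action of `G` on `G ⧸ H`.
-/

set_option autoImplicit false

namespace Cfsg.Agent.Helper6.SE

open Cfsg.Agent.Helper6 Cfsg.Agent.Helper6.UniqueFix

variable {G : Type*} [Group G]

theorem smul_mk_eq_iff (H : Subgroup G) (i g : G) :
    i • (QuotientGroup.mk g : G ⧸ H) = QuotientGroup.mk g ↔ g⁻¹ * i * g ∈ H := by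
  rw [MulAction.Quotient.smul_mk, QuotientGroup.eq]
  constructor
  · intro h
    have := H.inv_mem h
    have e : ((i • g)⁻¹ * g)⁻¹ = g⁻¹ * i * g := by
      rw [smul_eq_mul]; group
    rwa [e] at this
  · intro h
    have := H.inv_mem h
    have e : (g⁻¹ * i * g)⁻¹ = (i • g)⁻¹ * g := by
      rw [smul_eq_mul]; group
    rwa [e] at this

theorem mk_ne_iff (H : Subgroup G) (g₁ g₂ : G) :
    (QuotientGroup.mk g₁ : G ⧸ H) ≠ QuotientGroup.mk g₂ ↔ g₁⁻¹ * g₂ ∉ H := by
  rw [Ne, QuotientGroup.eq]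

/-- an element of order two in a subgroup of odd order is impossible -/
theorem not_odd_of_invol_mem [Finite G] (K : Subgroup G) (u : G) (hu1 : u ≠ 1) (huu : u * u = 1)
    (hu : u ∈ K) : ¬ Odd (Nat.card K) := by
  intro hodd
  have hord : orderOf u = 2 := orderOf_eq_prime (by rw [pow_two]; exact huu) hu1
  have hdvd : orderOf u ∣ Nat.card K := Subgroup.orderOf_dvd_natCard K hu
  rw [hord] at hdvd
  obtain ⟨k, hk⟩ := hodd
  omega

theorem atMostOneFix [Finite G] (H : Subgroup G) (hH : Cfsg.IsStronglyEmbedded H) :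
    AtMostOneFix G (G ⧸ H) := by
  intro u hu1 huu c c' hc hc'
  induction c using QuotientGroup.induction_on with
  | H g₁ =>
  induction c' using QuotientGroup.induction_on with
  | H g₂ =>
  by_contra hne
  rw [smul_mk_eq_iff] at hc hc'
  have hg : g₁⁻¹ * g₂ ∉ H := (mk_ne_iff H g₁ g₂).mp hne
  have hodd := hH.2.2 (g₁⁻¹ * g₂) hg
  apply not_odd_of_invol_mem _ (g₁⁻¹ * u * g₁) _ _ _ hodd
  · intro e
    apply hu1
    calc u = g₁ * (g₁⁻¹ * u * g₁) * g₁⁻¹ := by group
      _ = 1 := by rw [e]; group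
  · calc g₁⁻¹ * u * g₁ * (g₁⁻¹ * u * g₁) = g₁⁻¹ * (u * u) * g₁ := by group
      _ = 1 := by rw [huu]; group
  · refine Subgroup.mem_inf.mpr ⟨hc, ?_⟩
    rw [Subgroup.mem_map]
    refine ⟨g₂⁻¹ * u * g₂, hc', ?_⟩
    simp only [MulEquiv.coe_toMonoidHom, MulAut.conj_apply]
    group

/-- a strongly embedded subgroup contains an involution -/
theorem exists_invol_mem [Finite G] (H : Subgroup G) (hH : Cfsg.IsStronglyEmbedded H) :
    ∃ s ∈ H, s ≠ 1 ∧ s * s = 1 := by
  have : Fact (Nat.Prime 2) := ⟨Nat.prime_two⟩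
  have h2 : 2 ∣ Nat.card H := even_iff_two_dvd.mp hH.2.1
  obtain ⟨⟨s, hs⟩, hord⟩ := exists_prime_orderOf_dvd_card' 2 h2
  refine ⟨s, hs, ?_, ?_⟩
  · intro e
    subst e
    have : (⟨1, hs⟩ : H) = 1 := rfl
    rw [this, orderOf_one] at hord
    omega
  · have := pow_orderOf_eq_one (⟨s, hs⟩ : H)
    rw [hord, pow_two] at this
    exact congrArg Subtype.val this

/-- every involution of `G` fixes a coset of a strongly embedded subgroup -/
theorem exists_fix [Finite G] (H : Subgroup G) (hH : Cfsg.IsStronglyEmbedded H) (v : G)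
    (hvv : v * v = 1) : ∃ c : G ⧸ H, v • c = c := by
  obtain ⟨s, hsH, hs1, hss⟩ := exists_invol_mem H hH
  have hsc : s • (QuotientGroup.mk 1 : G ⧸ H) = QuotientGroup.mk 1 := by
    rw [smul_mk_eq_iff]; simpa using hsH
  by_cases hv : v • (QuotientGroup.mk 1 : G ⧸ H) = QuotientGroup.mk 1
  · exact ⟨_, hv⟩
  · obtain ⟨g, -, hg⟩ := exists_fix_of_not_fix (atMostOneFix H hH) s v hs1 hss hvv _ hsc hv
    exact ⟨_, hg⟩

/-- every coset is fixed by some involution -/
theorem exists_invol_fix [Finite G] (H : Subgroup G) (hH : Cfsg.IsStronglyEmbedded H) (x : G ⧸ H) :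
    ∃ s : G, s ≠ 1 ∧ s * s = 1 ∧ s • x = x := by
  obtain ⟨s, hsH, hs1, hss⟩ := exists_invol_mem H hH
  induction x using QuotientGroup.induction_on with
  | H g =>
  refine ⟨g * s * g⁻¹, ?_, ?_, ?_⟩
  · intro e
    apply hs1
    calc s = g⁻¹ * (g * s * g⁻¹) * g := by group
      _ = 1 := by rw [e]; group
  · calc g * s * g⁻¹ * (g * s * g⁻¹) = g * (s * s) * g⁻¹ := by group
      _ = 1 := by rw [hss]; group
  · rw [smul_mk_eq_iff]
    have : g⁻¹ * (g * s * g⁻¹) * g = s := by group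
    rw [this]; exact hsH

end Cfsg.Agent.Helper6.SE
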