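import Mathlib

/-!
# M11 piece N3 (helper17's farm-out for S4429/S0435/S0434): `num435`
-/

set_option autoImplicit false

namespace Cfsg.Agent.Helper17.M11

namespace N3

/-- Inner condition: given the `11`-pattern and `d`, the last two relations force `N = 48`. -/
def Good2 (c d f M : ℤ) : Prop :=
  (90 * (88 + 11 * (c * c) + 8 * (d * d) - 2 * (f * f)) ≠ 0 ∧
    90 * (88 + 11 * (c * c) + 8 * (d * d) - 2 * (f * f)) < M * M) ∨
  ∀ g ∈ Finset.range 56, ∀ k ∈ Finset.range 6,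
    90 * (88 + 11 * (c * c) + 8 * (d * d) - 2 * (f * f)) =
      (M + (g : ℤ) * (g : ℤ)) * (M + (g : ℤ) * (g : ℤ)) * (k : ℤ) → M + (g : ℤ) * (g : ℤ) = 48

instance (c d f M : ℤ) : Decidable (Good2 c d f M) := by
  unfold Good2; infer_instance

/-- Middle condition (`a = 3 a'`, `c = 4 c'`). -/
def Good (a' c' b1 b2 b3 : ℤ) : Prop :=
  (-10 ≤ b3 ∧ b3 ≤ 10 ∧ 10 + 2 * (a' * a') - (b1 * b1 + b2 * b2 + b3 * b3) - 10 * (c' * c') = 0 ∧
      a' ≠ 15) →
    ∀ d ∈ Finset.Icc (-11 : ℤ) 11,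
      Good2 (4 * c') d (1 + 8 * c' + d)
        (1 + 9 * (a' * a') + (b1 * b1 + b2 * b2 + b3 * b3) + 32 * (c' * c') + d * d +
          (1 + 8 * c' + d) * (1 + 8 * c' + d))

noncomputable instance (a' c' b1 b2 b3 : ℤ) : Decidable (Good a' c' b1 b2 b3) := by
  unfold Good; infer_instance

/-- Outer condition: Cauchy-Schwarz pruning on `(a', c')`. -/
def Good0 (a' c' : ℤ) : Prop :=
  3 * (10 + 2 * (a' * a') - 10 * (c' * c')) < (1 + 3 * a' - 4 * c') * (1 + 3 * a' - 4 * c') ∨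
  ∀ b1 ∈ Finset.Icc (-10 : ℤ) 10, ∀ b2 ∈ Finset.Icc (-10 : ℤ) 10,
      Good a' c' b1 b2 (1 + 3 * a' - 4 * c' - b1 - b2)

noncomputable instance (a' c' : ℤ) : Decidable (Good0 a' c') := by
  unfold Good0; infer_instance

/-- The finite search behind `num435`. -/
theorem check : ∀ a' ∈ Finset.Icc (-15 : ℤ) 15, ∀ c' ∈ Finset.Icc (-4 : ℤ) 4, Good0 a' c' := by
  decide +kernel

theorem three_dvd {a S c : ℤ} (R2 : 720 + 16 * a ^ 2 - 72 * S - 45 * c ^ 2 = 0) :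
    ∃ a', a = 3 * a' := by
  have h3 : a % 3 = 0 ∨ a % 3 = 1 ∨ a % 3 = 2 := by omega
  rcases h3 with h | h | h
  · exact ⟨a / 3, by omega⟩
  · exfalso
    have e : a ^ 2 = 9 * (a / 3) ^ 2 + 6 * (a / 3) + 1 := by
      have : a = 3 * (a / 3) + 1 := by omega
      calc a ^ 2 = (3 * (a / 3) + 1) ^ 2 := by rw [← this]
        _ = _ := by ring
    rw [e] at R2
    omega
  · exfalso
    have e : a ^ 2 = 9 * (a / 3) ^ 2 + 12 * (a / 3) + 4 := by
      have : a = 3 * (a / 3) + 2 := by omega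
      calc a ^ 2 = (3 * (a / 3) + 2) ^ 2 := by rw [← this]
        _ = _ := by ring
    rw [e] at R2
    omega

theorem sq_even {c : ℤ} {T : ℤ} (h : c ^ 2 = 2 * T) : ∃ m, c = 2 * m := by
  have h2 : c % 2 = 0 ∨ c % 2 = 1 := by omega
  rcases h2 with h' | h'
  · exact ⟨c / 2, by omega⟩
  · exfalso
    have e : c ^ 2 = 4 * (c / 2) ^ 2 + 4 * (c / 2) + 1 := by
      have : c = 2 * (c / 2) + 1 := by omega
      calc c ^ 2 = (2 * (c / 2) + 1) ^ 2 := by rw [← this]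
        _ = _ := by ring
    rw [e] at h
    omega

theorem four_dvd {a S c : ℤ} (R2 : 720 + 16 * a ^ 2 - 72 * S - 45 * c ^ 2 = 0) :
    ∃ c', c = 4 * c' := by
  obtain ⟨m, hm⟩ : ∃ m, c = 2 * m := by
    apply sq_even (T := 360 + 8 * a ^ 2 - 36 * S - 22 * c ^ 2)
    linarith
  subst hm
  obtain ⟨n, hn⟩ : ∃ n, m = 2 * n := by
    apply sq_even (T := 90 + 2 * a ^ 2 - 9 * S - 22 * m ^ 2)
    have : (2 * m) ^ 2 = 4 * m ^ 2 := by ring
    rw [this] at R2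
    linarith
  exact ⟨n, by rw [hn]; ring⟩

end N3

/-- PIECE N3 (S0435): the values at an involution force `|C(t)| = 48`. -/
theorem num435 {a b1 b2 b3 c d f g : ℤ} {N k : ℕ} (R1 : c = 1 + a - b1 - b2 - b3)
    (R2 : 720 + 16 * a ^ 2 - 72 * (b1 ^ 2 + b2 ^ 2 + b3 ^ 2) - 45 * c ^ 2 = 0)
    (R3 : 1 + 2 * c + d - f = 0)
    (R4 : 90 * (88 + 11 * c ^ 2 + 8 * d ^ 2 - 2 * f ^ 2) = (N : ℤ) ^ 2 * k) (hk : k ≤ 5)
    (R5 : (N : ℤ) = 1 + a ^ 2 + b1 ^ 2 + b2 ^ 2 + b3 ^ 2 + 2 * c ^ 2 + d ^ 2 + f ^ 2 + g ^ 2)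
    (ha : |a| ≤ 45) (hb1 : |b1| ≤ 10) (hb2 : |b2| ≤ 10) (hb3 : |b3| ≤ 10) (hc : |c| ≤ 16)
    (hd : |d| ≤ 11) (hf : |f| ≤ 44) (hg : |g| ≤ 55) (ha45 : a ≠ 45) : N = 48 := by
  obtain ⟨a', rfl⟩ := N3.three_dvd R2
  obtain ⟨c', rfl⟩ := N3.four_dvd R2
  have ha' := abs_le.mp ha
  have hc' := abs_le.mp hc
  have hb1' := abs_le.mp hb1
  have hb2' := abs_le.mp hb2
  have hb3' := abs_le.mp hb3
  have hd' := abs_le.mp hd
  have hg' := abs_le.mp hg
  have hb3e : b3 = 1 + 3 * a' - 4 * c' - b1 - b2 := by linarith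
  have heq : 10 + 2 * (a' * a') - (b1 * b1 + b2 * b2 + b3 * b3) - 10 * (c' * c') = 0 := by
    have h72 : (72 : ℤ) * (10 + 2 * (a' * a') - (b1 * b1 + b2 * b2 + b3 * b3)
        - 10 * (c' * c')) = 0 := by
      linear_combination R2
    exact (mul_eq_zero.mp h72).resolve_left (by norm_num)
  have ham : a' ∈ Finset.Icc (-15 : ℤ) 15 := by
    rw [Finset.mem_Icc]; constructor <;> omega
  have hcm : c' ∈ Finset.Icc (-4 : ℤ) 4 := by
    rw [Finset.mem_Icc]; constructor <;> omega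
  have hb1m : b1 ∈ Finset.Icc (-10 : ℤ) 10 := by
    rw [Finset.mem_Icc]; exact hb1'
  have hb2m : b2 ∈ Finset.Icc (-10 : ℤ) 10 := by
    rw [Finset.mem_Icc]; exact hb2'
  have hdm : d ∈ Finset.Icc (-11 : ℤ) 11 := by
    rw [Finset.mem_Icc]; exact hd'
  have h0 := N3.check a' ham c' hcm
  have hG : N3.Good a' c' b1 b2 (1 + 3 * a' - 4 * c' - b1 - b2) := by
    rcases h0 with h | h
    · exfalso
      have hsum : 1 + 3 * a' - 4 * c' = b1 + b2 + b3 := by linarith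
      have hS : 10 + 2 * (a' * a') - 10 * (c' * c') = b1 * b1 + b2 * b2 + b3 * b3 := by linarith
      rw [hsum, hS] at h
      nlinarith [sq_nonneg (b1 - b2), sq_nonneg (b1 - b3), sq_nonneg (b2 - b3)]
    · exact h b1 hb1m b2 hb2m
  rw [← hb3e] at hG
  have ha15 : a' ≠ 15 := by
    intro h; apply ha45; rw [h]; norm_num
  have hG2 := hG ⟨hb3'.1, hb3'.2, heq, ha15⟩ d hdm
  have hfe : f = 1 + 8 * c' + d := by linarith
  rw [← hfe] at hG2
  -- abbreviations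
  have hN : (N : ℤ) = (1 + 9 * (a' * a') + (b1 * b1 + b2 * b2 + b3 * b3) + 32 * (c' * c') + d * d
      + f * f) + g * g := by
    rw [R5]; ring
  have hL : 90 * (88 + 11 * (4 * c' * (4 * c')) + 8 * (d * d) - 2 * (f * f)) =
      (N : ℤ) * (N : ℤ) * (k : ℤ) := by
    linear_combination R4
  have hMpos : (1 : ℤ) ≤ 1 + 9 * (a' * a') + (b1 * b1 + b2 * b2 + b3 * b3) + 32 * (c' * c')
      + d * d + f * f := by
    nlinarith [mul_self_nonneg a', mul_self_nonneg b1, mul_self_nonneg b2, mul_self_nonneg b3,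
      mul_self_nonneg c', mul_self_nonneg d, mul_self_nonneg f]
  rcases hG2 with ⟨hne, hlt⟩ | hall
  · exfalso
    rw [hL] at hne hlt
    have hk0 : (k : ℤ) ≠ 0 := by
      intro h; apply hne; rw [h]; ring
    have hk1 : (1 : ℤ) ≤ (k : ℤ) := by
      have : (0 : ℤ) ≤ (k : ℤ) := Int.natCast_nonneg k
      omega
    have hNM : (1 + 9 * (a' * a') + (b1 * b1 + b2 * b2 + b3 * b3) + 32 * (c' * c') + d * d
      + f * f) ≤ (N : ℤ) := by
      rw [hN]; nlinarith [mul_self_nonneg g]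
    have hN0 : (0 : ℤ) ≤ (N : ℤ) := Int.natCast_nonneg N
    have h1 : (N : ℤ) * (N : ℤ) ≤ (N : ℤ) * (N : ℤ) * (k : ℤ) := by
      nlinarith [mul_self_nonneg (N : ℤ)]
    nlinarith
  · have hgm : g.natAbs ∈ Finset.range 56 := by
      rw [Finset.mem_range]; omega
    have hkm : k ∈ Finset.range 6 := by
      rw [Finset.mem_range]; omega
    have hgg : ((g.natAbs : ℕ) : ℤ) * ((g.natAbs : ℕ) : ℤ) = g * g := Int.natAbs_mul_self' g
    have := hall g.natAbs hgm k hkm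
    rw [hgg, ← hN] at this
    have h48 := this hL
    exact_mod_cast h48

end Cfsg.Agent.Helper17.M11
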