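import Mathlib

/-!
# M11 piece N4 (helper17's farm-out for S4429/S0435/S0434): `num434`
-/

set_option autoImplicit false

namespace Cfsg.Agent.Helper17.M11

namespace N4

/-- The condition checked in the finite search. -/
def Good (N : ℕ) (c d : ℤ) : Prop :=
  ((3 : ℤ) ∣ c - 16 ∧ (3 : ℤ) ∣ d - 11 ∧
      (1 - c) * (1 - c) ≤ 3 * ((N : ℤ) - 1 - 2 * (c * c) - d * d
        - 2 * ((1 + 2 * c + d) * (1 + 2 * c + d))) ∧
      (16 * (N : ℤ)) ∣ 7920 * c ∧ (11 * (N : ℤ)) ∣ 7920 * d ∧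
      (44 * (N : ℤ)) ∣ 7920 * (1 + 2 * c + d)) →
      N = 18 ∧ c = -2 ∧ d = 2

instance (N : ℕ) (c d : ℤ) : Decidable (Good N c d) := by
  unfold Good; infer_instance

/-- The finite search behind `num434`. -/
theorem check : ∀ N ∈ ({9, 18, 36, 72, 144} : Finset ℕ), ∀ c ∈ Finset.Icc (-16 : ℤ) 16,
    ∀ d ∈ Finset.Icc (-11 : ℤ) 11, Good N c d := by
  decide +kernel

end N4

/-- PIECE N4 (S0434): the values at an element of order 3 force `|C(y)| = 18`. -/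
theorem num434 {c d f g B : ℤ} {N : ℕ} (hN : N = 9 ∨ N = 18 ∨ N = 36 ∨ N = 72 ∨ N = 144)
    (R3 : 1 + 2 * c + d - f = 0) (R6 : g = -f)
    (R5 : (N : ℤ) = 1 + B + 2 * c ^ 2 + d ^ 2 + f ^ 2 + g ^ 2) (hB : (1 - c) ^ 2 ≤ 3 * B)
    (hc3 : (3 : ℤ) ∣ c - 16) (hd3 : (3 : ℤ) ∣ d - 11)
    (hcI : (16 * (N : ℤ)) ∣ 7920 * c) (hdI : (11 * (N : ℤ)) ∣ 7920 * d)
    (hfI : (44 * (N : ℤ)) ∣ 7920 * f) (hgI : (55 * (N : ℤ)) ∣ 7920 * g)
    (hc : |c| ≤ 16) (hd : |d| ≤ 11) :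
    N = 18 ∧ c = -2 ∧ d = 2 ∧ f = -1 ∧ g = 1 ∧ B = 3 := by
  have hf : f = 1 + 2 * c + d := by linarith
  have hNm : N ∈ ({9, 18, 36, 72, 144} : Finset ℕ) := by
    simp only [Finset.mem_insert, Finset.mem_singleton]
    exact hN
  have hcm : c ∈ Finset.Icc (-16 : ℤ) 16 := by
    rw [Finset.mem_Icc]; exact abs_le.mp hc
  have hdm : d ∈ Finset.Icc (-11 : ℤ) 11 := by
    rw [Finset.mem_Icc]; exact abs_le.mp hd
  have hBeq : B = (N : ℤ) - 1 - 2 * (c * c) - d * d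
      - 2 * ((1 + 2 * c + d) * (1 + 2 * c + d)) := by
    rw [R6, hf] at R5
    linear_combination (-1 : ℤ) * R5
  have h1 : (1 - c) * (1 - c) ≤ 3 * ((N : ℤ) - 1 - 2 * (c * c) - d * d
        - 2 * ((1 + 2 * c + d) * (1 + 2 * c + d))) := by
    rw [← hBeq]; nlinarith [hB]
  have h2 : (44 * (N : ℤ)) ∣ 7920 * (1 + 2 * c + d) := by rw [← hf]; exact hfI
  obtain ⟨e1, e2, e3⟩ := N4.check N hNm c hcm d hdm ⟨hc3, hd3, h1, hcI, hdI, h2⟩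
  subst e1 e2 e3
  have hf' : f = -1 := by rw [hf]; norm_num
  refine ⟨rfl, rfl, rfl, hf', ?_, ?_⟩
  · rw [R6, hf']; norm_num
  · rw [hBeq]; norm_num

end Cfsg.Agent.Helper17.M11
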