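import Mathlib

/-!
# M11 piece S12 (helper17's farm-out for S4429/S0435/S0434): `card_centralizer_ord3_mem`
-/

set_option autoImplicit false

namespace Cfsg.Agent.Helper17.M11

universe u

namespace S12

theorem arith : ∀ n ∈ Nat.divisors 144, 9 ∣ n → n = 9 ∨ n = 18 ∨ n = 36 ∨ n = 72 ∨ n = 144 := by
  decide

theorem fact7920 (p : ℕ) (hp : p.Prime) (h : p ∣ 7920) : p = 2 ∨ p = 3 ∨ p = 5 ∨ p = 11 := by
  have h1 : (7920 : ℕ) = 2 ^ 4 * 3 ^ 2 * 5 * 11 := by norm_num
  rw [h1] at h
  rcases (Nat.Prime.dvd_mul hp).mp h with h | h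
  · rcases (Nat.Prime.dvd_mul hp).mp h with h | h
    · rcases (Nat.Prime.dvd_mul hp).mp h with h | h
      · left; exact (Nat.prime_dvd_prime_iff_eq hp (by norm_num)).mp (hp.dvd_of_dvd_pow h)
      · right; left; exact (Nat.prime_dvd_prime_iff_eq hp (by norm_num)).mp (hp.dvd_of_dvd_pow h)
    · right; right; left; exact (Nat.prime_dvd_prime_iff_eq hp (by norm_num)).mp h
  · right; right; right; exact (Nat.prime_dvd_prime_iff_eq hp (by norm_num)).mp h

theorem fac_eq {n p k m : ℕ} (hp : p.Prime) (h : n = p ^ k * m) (hm : ¬ p ∣ m) (hm0 : m ≠ 0) :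
    n.factorization p = k := by
  rw [h, Nat.factorization_mul (pow_ne_zero _ hp.ne_zero) hm0, Nat.factorization_pow,
    Finsupp.add_apply, Finsupp.smul_apply, hp.factorization_self,
    Nat.factorization_eq_zero_of_not_dvd hm]
  simp

variable {G : Type u} [Group G] [Fintype G]

/-- If `p ∥ |G|`, the Sylow `p`-subgroups are self-centralizing and `y` has order prime to `p`,
then `p` does not divide `|C(y)|`. -/
theorem not_dvd_card_centralizer (p : ℕ) [Fact p.Prime] (hfac : (Nat.card G).factorization p = 1)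
    (hp : ∀ P : Sylow p G, Subgroup.centralizer ((P : Subgroup G) : Set G) = (P : Subgroup G))
    {y : G} (hy : ¬ orderOf y ∣ p) :
    ¬ p ∣ Nat.card (Subgroup.centralizer ({y} : Set G)) := by
  intro hdvd
  obtain ⟨u, hu⟩ := exists_prime_orderOf_dvd_card' (G := Subgroup.centralizer ({y} : Set G)) p hdvd
  have hu' : orderOf (u : G) = p := by rw [Subgroup.orderOf_coe]; exact hu
  have hcard : Nat.card (Subgroup.zpowers (u : G)) = p ^ (Nat.card G).factorization p := by
    rw [Nat.card_zpowers, hu', hfac, pow_one]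
  let Q : Sylow p G := Sylow.ofCard (Subgroup.zpowers (u : G)) hcard
  have hQ : (Q : Subgroup G) = Subgroup.zpowers (u : G) := rfl
  have hyQ : y ∈ (Q : Subgroup G) := by
    rw [← hp Q, hQ, Subgroup.mem_centralizer_iff]
    intro x hx
    have hx' : x ∈ Subgroup.zpowers (u : G) := hx
    obtain ⟨i, rfl⟩ := Subgroup.mem_zpowers_iff.mp hx'
    have hc : Commute (u : G) y := by
      have := u.2
      rw [Subgroup.mem_centralizer_iff] at this
      exact (this y (Set.mem_singleton y)).symm
    exact ((hc.zpow_left i).eq)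
  apply hy
  have := Subgroup.orderOf_dvd_natCard _ hyQ
  rw [hQ, Nat.card_zpowers, hu'] at this
  exact this

end S12

section Three

variable {G : Type u} [Group G] [Fintype G]

/-- PIECE S12. -/
theorem card_centralizer_ord3_mem (hG : Nat.card G = 7920)
    (h11 : ∀ P : Sylow 11 G, Subgroup.centralizer ((P : Subgroup G) : Set G) = (P : Subgroup G))
    (h5 : ∀ Q : Sylow 5 G, Subgroup.centralizer ((Q : Subgroup G) : Set G) = (Q : Subgroup G))
    {y : G} (hy : orderOf y = 3) :
    Nat.card (Subgroup.centralizer ({y} : Set G)) = 9 ∨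
    Nat.card (Subgroup.centralizer ({y} : Set G)) = 18 ∨
    Nat.card (Subgroup.centralizer ({y} : Set G)) = 36 ∨
    Nat.card (Subgroup.centralizer ({y} : Set G)) = 72 ∨
    Nat.card (Subgroup.centralizer ({y} : Set G)) = 144 := by
  classical
  have : Fact (Nat.Prime 11) := ⟨by norm_num⟩
  have : Fact (Nat.Prime 5) := ⟨by norm_num⟩
  have : Fact (Nat.Prime 3) := ⟨by norm_num⟩
  have hfac5 : (Nat.card G).factorization 5 = 1 := by
    rw [hG]; exact S12.fac_eq (by norm_num) (by norm_num : (7920 : ℕ) = 5 ^ 1 * 1584)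
      (by norm_num) (by norm_num)
  have hfac11 : (Nat.card G).factorization 11 = 1 := by
    rw [hG]; exact S12.fac_eq (by norm_num) (by norm_num : (7920 : ℕ) = 11 ^ 1 * 720)
      (by norm_num) (by norm_num)
  have hfac3 : (Nat.card G).factorization 3 = 2 := by
    rw [hG]; exact S12.fac_eq (by norm_num) (by norm_num : (7920 : ℕ) = 3 ^ 2 * 880)
      (by norm_num) (by norm_num)
  set C := Subgroup.centralizer ({y} : Set G) with hC
  have hCdvd : Nat.card C ∣ 7920 := hG ▸ Subgroup.card_subgroup_dvd_card C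
  have hn5 : ¬ 5 ∣ Nat.card C :=
    S12.not_dvd_card_centralizer 5 hfac5 h5 (by rw [hy]; norm_num)
  have hn11 : ¬ 11 ∣ Nat.card C :=
    S12.not_dvd_card_centralizer 11 hfac11 h11 (by rw [hy]; norm_num)
  -- `9 ∣ |C|`
  have h9 : 9 ∣ Nat.card C := by
    have hpg : IsPGroup 3 (Subgroup.zpowers y) := by
      apply IsPGroup.of_card (n := 1)
      rw [Nat.card_zpowers, hy, pow_one]
    obtain ⟨S, hS⟩ := hpg.exists_le_sylow
    have hScard : Nat.card (S : Subgroup G) = 3 ^ 2 := by
      rw [Sylow.card_eq_multiplicity, hfac3]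
    have hcomm := IsPGroup.commutative_of_card_eq_prime_sq (p := 3) hScard
    have hSC : (S : Subgroup G) ≤ C := by
      intro x hx
      rw [hC, Subgroup.mem_centralizer_iff]
      intro z hz
      rw [Set.mem_singleton_iff] at hz
      subst hz
      have hyS : z ∈ (S : Subgroup G) := hS (Subgroup.mem_zpowers z)
      have := hcomm ⟨z, hyS⟩ ⟨x, hx⟩
      exact congrArg Subtype.val this
    have := Subgroup.card_dvd_of_le hSC
    rw [hScard] at this
    exact this
  have hcop : Nat.Coprime (Nat.card C) 55 := by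
    have h55 : (55 : ℕ) = 5 * 11 := by norm_num
    rw [h55]
    apply Nat.Coprime.mul_right
    · exact ((Nat.Prime.coprime_iff_not_dvd (by norm_num)).mpr hn5).symm
    · exact ((Nat.Prime.coprime_iff_not_dvd (by norm_num)).mpr hn11).symm
  have h144 : Nat.card C ∣ 144 := by
    have : Nat.card C ∣ 144 * 55 := by
      have h : (144 * 55 : ℕ) = 7920 := by norm_num
      rw [h]; exact hCdvd
    exact hcop.dvd_of_dvd_mul_right this
  exact S12.arith _ (by rw [Nat.mem_divisors]; exact ⟨h144, by norm_num⟩) h9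

end Three

end Cfsg.Agent.Helper17.M11
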