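import Mathlib

/-!
# M11 piece S15 (helper17's farm-out for S4429/S0435/S0434): `exponent_three_of_invol`
-/

set_option autoImplicit false

namespace Cfsg.Agent.Helper17.M11

universe u

namespace S15

theorem arith : ∀ k < 9, ∀ j < 9, 9 / Nat.gcd 9 j = 3 → k * j % 9 = j % 9 → k * k % 9 = 1 % 9 →
    k = 1 := by
  decide

end S15

section Three

variable {G : Type u} [Group G] [Fintype G]

/-- PIECE S15. -/
theorem exponent_three_of_invol (S : Subgroup G) (hS : Nat.card S = 9) {t y : G} (ht : t * t = 1)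
    (htS : ∀ a ∈ S, t * a * t⁻¹ ∈ S) (hy : y ∈ S) (hy3 : orderOf y = 3) (hty : Commute t y)
    (hne : ∃ a ∈ S, t * a * t⁻¹ ≠ a) : ∀ a ∈ S, a ≠ 1 → orderOf a = 3 := by
  classical
  intro a haS ha1
  have hdiv : orderOf a ∣ 9 := by
    have := Subgroup.orderOf_dvd_natCard S haS
    rwa [hS] at this
  have h139 : orderOf a = 1 ∨ orderOf a = 3 ∨ orderOf a = 9 := by
    have hm : orderOf a ∈ Nat.divisors 9 := by simp [hdiv]
    have h9 : Nat.divisors 9 = {1, 3, 9} := by decide
    rw [h9] at hm
    simpa using hm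
  rcases h139 with h | h | h
  · exact absurd (orderOf_eq_one_iff.mp h) ha1
  · exact h
  · exfalso
    have hzS : Subgroup.zpowers a = S := by
      apply Subgroup.eq_of_le_of_card_ge (Subgroup.zpowers_le.mpr haS)
      rw [Nat.card_zpowers, h, hS]
    have hpow : ∀ b ∈ S, ∃ i < 9, a ^ i = b := by
      intro b hb
      rw [← hzS, ← mem_powers_iff_mem_zpowers, mem_powers_iff_mem_range_orderOf, h] at hb
      obtain ⟨i, hi, hib⟩ := Finset.mem_image.mp hb
      exact ⟨i, Finset.mem_range.mp hi, hib⟩
    obtain ⟨k, hk9, hk⟩ := hpow _ (htS a haS)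
    obtain ⟨j, hj9, hj⟩ := hpow y hy
    have hconj : ∀ i : ℕ, t * a ^ i * t⁻¹ = a ^ (k * i) := by
      intro i
      rw [← conj_pow, ← hk, ← pow_mul]
    -- `t` fixes `y`
    have h1 : k * j % 9 = j % 9 := by
      have e : a ^ (k * j) = a ^ j := by
        rw [← hconj j, hj, hty.eq, mul_inv_cancel_right]
      have := (pow_eq_pow_iff_modEq (x := a)).mp e
      rw [h] at this
      exact this
    -- `t` is an involution
    have h2 : k * k % 9 = 1 % 9 := by
      have e : a ^ (k * k) = a ^ 1 := by
        rw [← hconj k, hk, pow_one]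
        have hti : t⁻¹ = t := inv_eq_of_mul_eq_one_left ht
        rw [hti]
        calc t * (t * a * t) * t = (t * t) * a * (t * t) := by group
          _ = a := by rw [ht, one_mul, mul_one]
      have := (pow_eq_pow_iff_modEq (x := a)).mp e
      rw [h] at this
      exact this
    have h3 : 9 / Nat.gcd 9 j = 3 := by
      have := orderOf_pow (n := j) a
      rw [hj, hy3, h] at this
      exact this.symm
    have hk1 := S15.arith k hk9 j hj9 h3 h1 h2
    subst hk1
    rw [pow_one] at hk
    obtain ⟨b, hbS, hb⟩ := hne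
    apply hb
    obtain ⟨i, -, rfl⟩ := hpow b hbS
    rw [← conj_pow, ← hk]

end Three

end Cfsg.Agent.Helper17.M11
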