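import Mathlib
import Cfsg.Agent.Lib.Helper6.M11S12
import Cfsg.Agent.Lib.Helper6.M11S15

/-!
# M11 piece S16 (helper17's farm-out for S4429/S0435/S0434): `card_normalizer_syl3`
-/

set_option autoImplicit false

namespace Cfsg.Agent.Helper17.M11

universe u

namespace S16

variable {G : Type u} [Group G] [Fintype G]

/-- class size = index of the centralizer -/
theorem card_isConj (g : G) :
    Nat.card {x : G // IsConj g x} * Nat.card (Subgroup.centralizer ({g} : Set G)) =
      Nat.card G := by
  have h0 : {x : G | IsConj g x} = (ConjClasses.mk g).carrier := by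
    ext x
    rw [ConjClasses.mem_carrier_iff_mk_eq, ConjClasses.mk_eq_mk_iff_isConj]
    exact ⟨fun h => h.symm, fun h => h.symm⟩
  have h1 : Nat.card (ConjClasses.mk g).carrier *
      Nat.card (Subgroup.centralizer ({g} : Set G)) = Nat.card G := by
    rw [Subgroup.nat_card_centralizer_nat_card_stabilizer,
      ← ConjAct.orbit_eq_carrier_conjClasses, Nat.card_coe_set_eq, ← MulAction.index_stabilizer,
      Subgroup.index_mul_card]
    exact Nat.card_congr ConjAct.toConjAct.toEquiv.symm
  rw [← h1, ← h0]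
  rfl

/-- Two subgroups of order `9` inside a subgroup of order `18` coincide. -/
theorem eq_of_card_nine {A B C : Subgroup G} (hA : Nat.card A = 9) (hB : Nat.card B = 9)
    (hC : Nat.card C = 18) (hAC : A ≤ C) (hBC : B ≤ C) : B = A := by
  have hidx : (A.subgroupOf C).index = 2 := by
    have h1 := Subgroup.card_mul_index (A.subgroupOf C)
    rw [Nat.card_congr (Subgroup.subgroupOfEquivOfLe hAC).toEquiv, hA, hC] at h1
    omega
  have hle : B ≤ A := by
    intro b hb
    have h2 := Subgroup.sq_mem_of_index_two hidx (⟨b, hBC hb⟩ : C)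
    rw [Subgroup.mem_subgroupOf] at h2
    have h2' : b ^ 2 ∈ A := h2
    have h9 : b ^ 9 = 1 := by
      have := Subgroup.orderOf_dvd_natCard B hb
      rw [hB] at this
      exact orderOf_dvd_iff_pow_eq_one.mp this
    have : b = (b ^ 2) ^ 5 := by
      rw [← pow_mul]
      calc b = b ^ 9 * b := by rw [h9, one_mul]
        _ = b ^ (2 * 5) := by rw [← pow_succ]
    rw [this]
    exact A.pow_mem h2' 5
  exact Subgroup.eq_of_le_of_card_ge hle (by rw [hA, hB])

end S16

section Three

variable {G : Type u} [Group G] [Fintype G]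

/-- PIECE S16 (= S0434). -/
theorem card_normalizer_syl3 (hG : Nat.card G = 7920)
    (h3 : ∀ y y' : G, orderOf y = 3 → orderOf y' = 3 → IsConj y y')
    (h18 : ∀ y : G, orderOf y = 3 → Nat.card (Subgroup.centralizer ({y} : Set G)) = 18)
    (h48 : ∀ t : G, orderOf t = 2 → Nat.card (Subgroup.centralizer ({t} : Set G)) = 48)
    (S : Sylow 3 G) :
    Nat.card (Subgroup.normalizer ((S : Subgroup G) : Set G)) = 144 := by
  classical
  have : Fact (Nat.Prime 3) := ⟨by norm_num⟩
  have : Fact (Nat.Prime 2) := ⟨by norm_num⟩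
  have hfac3 : (Nat.card G).factorization 3 = 2 := by
    rw [hG]; exact S12.fac_eq (by norm_num) (by norm_num : (7920 : ℕ) = 3 ^ 2 * 880)
      (by norm_num) (by norm_num)
  have hcard : ∀ S' : Sylow 3 G, Nat.card (S' : Subgroup G) = 9 := by
    intro S'
    rw [Sylow.card_eq_multiplicity, hfac3]; norm_num
  have hle : ∀ S' : Sylow 3 G, ∀ y ∈ (S' : Subgroup G),
      (S' : Subgroup G) ≤ Subgroup.centralizer ({y} : Set G) := by
    intro S' y hy x hx
    have hcomm := IsPGroup.commutative_of_card_eq_prime_sq (p := 3)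
      (G := (S' : Subgroup G)) (by rw [hcard S']; norm_num)
    rw [Subgroup.mem_centralizer_iff]
    intro z hz
    rw [Set.mem_singleton_iff] at hz
    subst hz
    exact congrArg Subtype.val (hcomm ⟨z, hy⟩ ⟨x, hx⟩)
  -- uniqueness of the Sylow subgroup through an element of order 3
  have huniq : ∀ (S' S'' : Sylow 3 G) (y : G), orderOf y = 3 → y ∈ (S' : Subgroup G) →
      y ∈ (S'' : Subgroup G) → S'' = S' := by
    intro S' S'' y hy h1 h2
    apply Sylow.ext
    exact S16.eq_of_card_nine (hcard S') (hcard S'') (h18 y hy) (hle S' y h1) (hle S'' y h2)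
  -- every Sylow 3-subgroup has exponent 3
  have hexp : ∀ S' : Sylow 3 G, ∀ a ∈ (S' : Subgroup G), a ≠ 1 → orderOf a = 3 := by
    intro S'
    obtain ⟨y0, hy0⟩ := exists_prime_orderOf_dvd_card' (G := (S' : Subgroup G)) 3
      (by rw [hcard S']; norm_num)
    have hy3 : orderOf (y0 : G) = 3 := by rw [Subgroup.orderOf_coe]; exact hy0
    obtain ⟨t0, ht0⟩ := exists_prime_orderOf_dvd_card'
      (G := Subgroup.centralizer ({(y0 : G)} : Set G)) 2 (by rw [h18 _ hy3]; norm_num)
    have ht2 : orderOf (t0 : G) = 2 := by rw [Subgroup.orderOf_coe]; exact ht0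
    have htt : (t0 : G) * (t0 : G) = 1 := by
      rw [← pow_two, ← ht2]; exact pow_orderOf_eq_one _
    have hcomm : Commute (t0 : G) (y0 : G) := by
      have := t0.2
      rw [Subgroup.mem_centralizer_iff] at this
      exact (this _ (Set.mem_singleton _)).symm
    -- `t0` normalizes `S'`
    have hnorm : (t0 : G) • S' = S' := by
      apply huniq S' _ (y0 : G) hy3 y0.2
      rw [Sylow.smul_def, Sylow.pointwise_smul_def, Subgroup.mem_pointwise_smul_iff_inv_smul_mem]
      show (MulAut.conj (t0 : G))⁻¹ • (y0 : G) ∈ (S' : Subgroup G)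
      have : (MulAut.conj (t0 : G))⁻¹ • (y0 : G) = (y0 : G) := by
        rw [MulAut.smul_def, ← map_inv, MulAut.conj_apply, inv_inv]
        have := hcomm.eq
        calc (t0 : G)⁻¹ * (y0 : G) * (t0 : G) = (t0 : G)⁻¹ * ((y0 : G) * (t0 : G)) := by group
          _ = (t0 : G)⁻¹ * ((t0 : G) * (y0 : G)) := by rw [this]
          _ = (y0 : G) := by group
      rw [this]; exact y0.2
    have hmemN : (t0 : G) ∈ Subgroup.normalizer ((S' : Subgroup G) : Set G) :=
      Sylow.smul_eq_iff_mem_normalizer.mp hnorm
    have htS : ∀ a ∈ (S' : Subgroup G), (t0 : G) * a * (t0 : G)⁻¹ ∈ (S' : Subgroup G) := by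
      intro a ha
      exact (Subgroup.mem_normalizer_iff.mp hmemN a).mp ha
    have hne : ∃ a ∈ (S' : Subgroup G), (t0 : G) * a * (t0 : G)⁻¹ ≠ a := by
      by_contra hcon
      push Not at hcon
      have hSle : (S' : Subgroup G) ≤ Subgroup.centralizer ({(t0 : G)} : Set G) := by
        intro a ha
        rw [Subgroup.mem_centralizer_iff]
        intro z hz
        rw [Set.mem_singleton_iff] at hz
        subst hz
        have := hcon a ha
        calc (t0 : G) * a = ((t0 : G) * a * (t0 : G)⁻¹) * (t0 : G) := by group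
          _ = a * (t0 : G) := by rw [this]
      have := Subgroup.card_dvd_of_le hSle
      rw [hcard S', h48 _ ht2] at this
      omega
    exact exponent_three_of_invol (S' : Subgroup G) (hcard S') htt htS y0.2 hy3 hcomm hne
  -- an element of order 3
  obtain ⟨y1, hy1⟩ := exists_prime_orderOf_dvd_card' (G := G) 3 (by rw [hG]; norm_num)
  -- the number of elements of order 3
  have hE : Nat.card {x : G // orderOf x = 3} = 440 := by
    have h1 := S16.card_isConj y1
    rw [h18 y1 hy1, hG] at h1
    have h2 : Nat.card {x : G // orderOf x = 3} = Nat.card {x : G // IsConj y1 x} := by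
      apply Nat.card_congr
      apply Equiv.subtypeEquivRight
      intro x
      constructor
      · intro hx; exact h3 y1 x hy1 hx
      · intro hx
        obtain ⟨c, hc⟩ := isConj_iff.mp hx
        rw [← hc, ← MulAut.conj_apply, MulEquiv.orderOf_eq]
        exact hy1
    rw [h2]; omega
  -- the partition
  have hfib : ∀ S' : Sylow 3 G, Nat.card {b : (S' : Subgroup G) // b ≠ 1} = 8 := by
    intro S'
    have h1 : Nat.card (Option {b : (S' : Subgroup G) // b ≠ 1}) = 9 := by
      rw [Nat.card_congr (Equiv.optionSubtypeNe (1 : (S' : Subgroup G)))]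
      exact hcard S'
    rw [Finite.card_option] at h1
    omega
  let φ : (Σ S' : Sylow 3 G, {b : (S' : Subgroup G) // b ≠ 1}) → {x : G // orderOf x = 3} :=
    fun s => ⟨(s.2.1 : G), hexp s.1 _ s.2.1.2 (fun h => s.2.2 (Subtype.ext h))⟩
  have hφ : Function.Bijective φ := by
    constructor
    · rintro ⟨S1, ⟨b1, hb1⟩⟩ ⟨S2, ⟨b2, hb2⟩⟩ h
      have hval : (b1 : G) = (b2 : G) := congrArg Subtype.val h
      have hord : orderOf (b1 : G) = 3 :=
        hexp S1 _ b1.2 (fun h => hb1 (Subtype.ext h))
      have hS : S2 = S1 := huniq S1 S2 (b1 : G) hord b1.2 (hval ▸ b2.2)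
      subst hS
      have : b1 = b2 := Subtype.ext hval
      subst this
      rfl
    · rintro ⟨x, hx⟩
      have hpg : IsPGroup 3 (Subgroup.zpowers x) := by
        apply IsPGroup.of_card (n := 1)
        rw [Nat.card_zpowers, hx, pow_one]
      obtain ⟨S', hS'⟩ := hpg.exists_le_sylow
      have hxS : x ∈ (S' : Subgroup G) := hS' (Subgroup.mem_zpowers x)
      have hx1 : (⟨x, hxS⟩ : (S' : Subgroup G)) ≠ 1 := by
        intro h
        have : x = 1 := congrArg Subtype.val h
        rw [this, orderOf_one] at hx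
        omega
      exact ⟨⟨S', ⟨⟨x, hxS⟩, hx1⟩⟩, rfl⟩
  have hcount : Nat.card (Σ S' : Sylow 3 G, {b : (S' : Subgroup G) // b ≠ 1}) = 440 := by
    rw [Nat.card_eq_of_bijective φ hφ, hE]
  rw [Nat.card_sigma] at hcount
  simp only [hfib, Finset.sum_const, Finset.card_univ, smul_eq_mul] at hcount
  have hn3 : Nat.card (Sylow 3 G) = 55 := by
    rw [Nat.card_eq_fintype_card]; omega
  rw [Sylow.card_eq_index_normalizer S] at hn3
  have hn3' : (Subgroup.normalizer ((S : Subgroup G) : Set G)).index = 55 := hn3
  have := Subgroup.card_mul_index (Subgroup.normalizer ((S : Subgroup G) : Set G))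
  rw [hn3', hG] at this
  omega

end Three

end Cfsg.Agent.Helper17.M11
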