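import Mathlib
import Cfsg.Agent.Lib.Helper15.S52Defs

/-!
# S3452, PIECE S52-FROB (helper6, for helper15): element orders in `W ⋊ G` when `G` acts
fixed-point-freely on `W` of prime exponent `r`.
-/

set_option autoImplicit false
set_option linter.unusedSectionVars false
set_option linter.unusedVariables false

namespace Cfsg.Agent.Helper15.S52

open Cfsg.Agent.Helper2

theorem s52_frob_pow_w {G W : Type*} [Group G] [AddCommGroup W] [DistribMulAction G W]
    (a : AffExt.Aff G W) (ha : a.g = 1) (k : ℕ) : (a ^ k).w = k • a.w ∧ (a ^ k).g = 1 := by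
  induction k with
  | zero =>
    rw [pow_zero, zero_smul]
    exact ⟨rfl, rfl⟩
  | succ k ih =>
    rw [pow_succ]
    refine ⟨?_, ?_⟩
    · rw [AffExt.mul_w, ih.1, ih.2, one_smul, succ_nsmul]
    · rw [AffExt.mul_g, ih.2, ha, one_mul]

/-- PIECE S52-FROB -/
theorem frob_orderOf {G W : Type*} [Group G] [Finite G] [AddCommGroup W] [DistribMulAction G W]
    {r : ℕ} (hr : r.Prime) (hW : ∀ w : W, r • w = 0)
    (hfpf : ∀ g : G, g ≠ 1 → ∀ w : W, g • w = w → w = 0) (a : AffExt.Aff G W) :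
    (a.g ≠ 1 → orderOf a = orderOf a.g) ∧ (a.g = 1 → orderOf a = 1 ∨ orderOf a = r) := by
  refine ⟨?_, ?_⟩
  · intro hg
    apply Nat.dvd_antisymm _ (AffExt.orderOf_g_dvd a)
    apply orderOf_dvd_of_pow_eq_one
    have hz : (a ^ orderOf a.g).g = 1 := by rw [AffExt.pow_g, pow_orderOf_eq_one]
    have hcomm : a * a ^ orderOf a.g = a ^ orderOf a.g * a :=
      ((Commute.refl a).pow_right (orderOf a.g)).eq
    have h5 := congrArg AffExt.Aff.w hcomm
    rw [AffExt.mul_w, AffExt.mul_w, hz, one_smul, add_comm (a ^ orderOf a.g).w a.w] at h5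
    have h6 : a.g • (a ^ orderOf a.g).w = (a ^ orderOf a.g).w := add_left_cancel h5
    have h7 := hfpf a.g hg _ h6
    apply AffExt.Aff.ext
    · rw [h7, AffExt.one_w]
    · rw [hz, AffExt.one_g]
  · intro hg
    have h1 : a ^ r = 1 := by
      obtain ⟨h2, h3⟩ := s52_frob_pow_w a hg r
      apply AffExt.Aff.ext
      · rw [h2, hW, AffExt.one_w]
      · rw [h3, AffExt.one_g]
    exact (Nat.dvd_prime hr).1 (orderOf_dvd_of_pow_eq_one h1)

end Cfsg.Agent.Helper15.S52
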