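import Mathlib
import Cfsg.Agent.Lib.Helper15.S52Defs

/-!
# S3452, PIECE S52-Q9MAT (helper6, for helper15): the matrices `A9`, `B9` of `GL₄(3)` generate a
Frobenius complement `5 : 8` (relations checked by `decide`).
-/

set_option autoImplicit false
set_option linter.unusedSectionVars false
set_option linter.unusedVariables false

namespace Cfsg.Agent.Helper15.S52

/-- the inverse of `A9` -/
def s52_q9mat_Ai : Matrix (Fin 4) (Fin 4) (ZMod 3) :=
  !![2, 1, 0, 0; 2, 0, 1, 0; 2, 0, 0, 1; 2, 0, 0, 0]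

/-- the inverse of `B9` -/
def s52_q9mat_Bi : Matrix (Fin 4) (Fin 4) (ZMod 3) :=
  !![1, 1, 1, 1; 2, 0, 2, 2; 0, 1, 0, 1; 2, 2, 1, 2]

theorem s52_q9mat_A_mul : A9 * s52_q9mat_Ai = 1 := by decide +kernel

theorem s52_q9mat_Ai_mul : s52_q9mat_Ai * A9 = 1 := by decide +kernel

theorem s52_q9mat_B_mul : B9 * s52_q9mat_Bi = 1 := by decide +kernel

theorem s52_q9mat_Bi_mul : s52_q9mat_Bi * B9 = 1 := by decide +kernel

/-- `A9` as a unit -/
def s52_q9mat_a : G9 := ⟨A9, s52_q9mat_Ai, s52_q9mat_A_mul, s52_q9mat_Ai_mul⟩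

/-- `B9` as a unit -/
def s52_q9mat_b : G9 := ⟨B9, s52_q9mat_Bi, s52_q9mat_B_mul, s52_q9mat_Bi_mul⟩

theorem s52_q9mat_A5 : A9 ^ 5 = 1 := by decide +kernel

theorem s52_q9mat_A_ne : A9 ≠ 1 := by decide +kernel

theorem s52_q9mat_B8 : B9 ^ 8 = 1 := by decide +kernel

theorem s52_q9mat_B4 : B9 ^ 4 = -1 := by decide +kernel

theorem s52_q9mat_conj : B9 * A9 * s52_q9mat_Bi = A9 ^ 2 := by decide +kernel

theorem s52_q9mat_fpf : ∀ v : W9, Matrix.mulVec A9 v = v → v = 0 := by decide +kernel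

/-- PIECE S52-Q9MAT -/
theorem q9_mats : ∃ a b : G9, a ^ 5 = 1 ∧ a ≠ 1 ∧ (∀ v : W9, a • v = v → v = 0) ∧
    b * a * b⁻¹ = a ^ 2 ∧ b ^ 8 = 1 ∧ b ^ 4 ≠ 1 ∧ ∀ v : W9, (b ^ 4) • v = -v := by
  refine ⟨s52_q9mat_a, s52_q9mat_b, ?_, ?_, ?_, ?_, ?_, ?_, ?_⟩
  · apply Units.ext
    rw [Units.val_pow_eq_pow_val]
    exact s52_q9mat_A5
  · intro h
    exact s52_q9mat_A_ne (congrArg Units.val h)
  · intro v hv
    rw [smul9_def] at hv
    exact s52_q9mat_fpf v hv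
  · apply Units.ext
    rw [Units.val_mul, Units.val_mul, Units.val_pow_eq_pow_val]
    exact s52_q9mat_conj
  · apply Units.ext
    rw [Units.val_pow_eq_pow_val]
    exact s52_q9mat_B8
  · intro h
    have h1 := congrArg Units.val h
    rw [Units.val_pow_eq_pow_val] at h1
    have h2 : B9 ^ 4 = 1 := h1
    rw [s52_q9mat_B4] at h2
    revert h2
    decide +kernel
  · intro v
    rw [smul9_def, Units.val_pow_eq_pow_val]
    have h2 : (s52_q9mat_b : G9).1 = B9 := rfl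
    rw [h2, s52_q9mat_B4, Matrix.neg_mulVec, Matrix.one_mulVec]

end Cfsg.Agent.Helper15.S52
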