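import Mathlib
import Cfsg.Agent.Lib.Helper2.AffExt

/-!
# S3664, PIECE S64-AFFA (helper6, for helper15): an element of order `2 s` (`s` an odd prime) of an
affine extension `W ⋊ G` (`W` of exponent 2) has linear part of order `2 s`, or of order `s` with a
nonzero fixed vector.
-/

set_option autoImplicit false
set_option linter.unusedSectionVars false
set_option linter.unusedVariables false

namespace Cfsg.Agent.Helper15.S64

open Matrix Cfsg.Agent.Helper2

/-- PIECE S64-AFFA -/
theorem aff_two_mul {G W : Type*} [Group G] [AddCommGroup W] [DistribMulAction G W]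
    (hW : ∀ w : W, w + w = 0) {s : ℕ} (hs : s.Prime) (hs2 : s ≠ 2) {a : AffExt.Aff G W}
    (ha : orderOf a = 2 * s) :
    orderOf a.g = 2 * s ∨ (orderOf a.g = s ∧ ∃ w : W, w ≠ 0 ∧ a.g • w = w) := by
  have h1 := AffExt.orderOf_g_dvd a
  have h2 := AffExt.orderOf_dvd_two_mul hW a
  rw [ha] at h1 h2
  have hs_dvd : s ∣ orderOf a.g := by
    have h3 : s ∣ orderOf a.g * 2 := (Dvd.intro_left 2 rfl).trans h2
    rcases (Nat.Prime.dvd_mul hs).1 h3 with h | h
    · exact h
    · exact absurd ((Nat.prime_dvd_prime_iff_eq hs Nat.prime_two).1 h) hs2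
  obtain ⟨k, hk⟩ := hs_dvd
  have hk2 : k ∣ 2 := by
    rw [hk, mul_comm 2 s] at h1
    exact Nat.dvd_of_mul_dvd_mul_left hs.pos h1
  rcases (Nat.dvd_prime Nat.prime_two).1 hk2 with rfl | rfl
  · right
    rw [mul_one] at hk
    refine ⟨hk, ?_⟩
    have hz : (a ^ s).g = 1 := by rw [AffExt.pow_g, ← hk, pow_orderOf_eq_one]
    have hz1 : a ^ s ≠ 1 := by
      intro h
      have := orderOf_dvd_of_pow_eq_one h
      rw [ha] at this
      have h4 : 2 * s ≤ s := Nat.le_of_dvd hs.pos this
      have := hs.pos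
      omega
    have hw0 : (a ^ s).w ≠ 0 := by
      intro h
      apply hz1
      apply AffExt.Aff.ext
      · rw [h, AffExt.one_w]
      · rw [hz, AffExt.one_g]
    have hcomm : a * a ^ s = a ^ s * a := ((Commute.refl a).pow_right s).eq
    have h5 := congrArg AffExt.Aff.w hcomm
    rw [AffExt.mul_w, AffExt.mul_w, hz, one_smul, add_comm (a ^ s).w a.w] at h5
    exact ⟨(a ^ s).w, hw0, add_left_cancel h5⟩
  · left
    rw [hk, mul_comm]

end Cfsg.Agent.Helper15.S64
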