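import Mathlib
import Cfsg.Agent.Lib.Helper15.S74Defs

/-!
# S2474 piece S74-EVENDET (helper6)
-/

set_option autoImplicit false

namespace Cfsg.Agent.Helper15.S74

universe u

variable {F : Type u} [Field F]

theorem det_of_fixed_point_free {U : Type u} [AddCommGroup U] [Module F U] [FiniteDimensional F U]
    (β : LinearMap.BilinForm F U) (hnd : LND β) (y : Module.End F U) (hy : Isom β y)
    (hfree : ∀ v, y v = v → v = 0) : LinearMap.det y = (-1) ^ Module.finrank F U := by
  classical
  set n := Module.finrank F U with hn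
  -- β as a linear map into the dual is bijective
  let b : U →ₗ[F] Module.Dual F U := β
  have hbinj : Function.Injective b := by
    rw [← LinearMap.ker_eq_bot, LinearMap.ker_eq_bot']
    intro x hx
    apply hnd x
    intro z
    have := congrArg (fun φ : Module.Dual F U => φ z) hx
    simpa using this
  have hbsurj : Function.Surjective b :=
    (LinearMap.injective_iff_surjective_of_finrank_eq_finrank
      (Subspace.dual_finrank_eq (K := F) (V := U)).symm).mp hbinj
  let e : U ≃ₗ[F] Module.Dual F U := LinearEquiv.ofBijective b ⟨hbinj, hbsurj⟩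
  have he : ∀ x, e x = β x := fun x => rfl
  -- the isometry identity
  have hD : ∀ x, y.dualMap (e (y x)) = e x := by
    intro x
    ext z
    rw [LinearMap.dualMap_apply, he, he]
    exact hy x z
  -- y - 1 = e.symm ∘ (1 - y.dualMap) ∘ e ∘ y
  have hkey : y - 1 = ((e.symm : Module.Dual F U →ₗ[F] U) ∘ₗ (1 - y.dualMap) ∘ₗ
      (e.symm.symm : U →ₗ[F] Module.Dual F U)) * y := by
    ext x
    simp only [LinearMap.sub_apply, Module.End.one_apply, Module.End.mul_apply,
      LinearMap.comp_apply, LinearEquiv.coe_coe, LinearEquiv.symm_symm]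
    rw [hD, map_sub, LinearEquiv.symm_apply_apply, LinearEquiv.symm_apply_apply]
  have hdet1 : LinearMap.det (y - 1) = LinearMap.det (1 - y.dualMap) * LinearMap.det y := by
    rw [hkey, map_mul, LinearMap.det_conj]
  have hdual : (1 : Module.End F (Module.Dual F U)) - y.dualMap = (1 - y).dualMap := by
    ext φ x
    simp [LinearMap.dualMap_apply]
  have hdet2 : LinearMap.det (1 - y.dualMap) = (-1) ^ n * LinearMap.det (y - 1) := by
    rw [hdual, LinearMap.det_dualMap]
    have : (1 : Module.End F U) - y = (-1 : F) • (y - 1) := by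
      ext x; simp
    rw [this, LinearMap.det_smul]
  have hne : LinearMap.det (y - 1) ≠ 0 := by
    intro h0
    have hlt := LinearMap.bot_lt_ker_of_det_eq_zero h0
    obtain ⟨v, hv, hv0⟩ := Submodule.exists_mem_ne_zero_of_ne_bot hlt.ne'
    apply hv0
    apply hfree v
    have : (y - 1) v = 0 := hv
    rw [LinearMap.sub_apply, Module.End.one_apply, sub_eq_zero] at this
    exact this
  rw [hdet2] at hdet1
  -- det(y-1) = (-1)^n det(y-1) det y
  have h3 : (-1 : F) ^ n * LinearMap.det y = 1 := by
    have : LinearMap.det (y - 1) * ((-1 : F) ^ n * LinearMap.det y) = LinearMap.det (y - 1) * 1 := by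
      rw [mul_one]
      conv_rhs => rw [hdet1]
      ring
    exact mul_left_cancel₀ hne this
  have h4 : ((-1 : F) ^ n) * ((-1 : F) ^ n) = 1 := by
    rw [← pow_add, ← two_mul, pow_mul]
    simp
  calc LinearMap.det y = ((-1 : F) ^ n * (-1 : F) ^ n) * LinearMap.det y := by rw [h4, one_mul]
    _ = (-1 : F) ^ n * ((-1 : F) ^ n * LinearMap.det y) := by ring
    _ = (-1 : F) ^ n := by rw [h3, mul_one]

end Cfsg.Agent.Helper15.S74
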