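import Mathlib

/-!
# The norm identity for two commuting automorphisms of order `r` of an abelian `r'`-group

If `β`, `ξ` are commuting endomorphisms of a finite abelian group `V` of order prime to `r` with
`β ^ r = ξ ^ r = 1`, and `ξ` and all `β ξ ^ i` have no nonzero fixed points, then `V = 0`.
Application: a group-theoretic form for a subgroup `A` acted on by conjugation.
-/

set_option autoImplicit false

namespace Cfsg.Agent.Helper6.NormId

open Finset

section ring

variable {R : Type*} [Ring R] {r : ℕ} [Fact r.Prime]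

/-- reindexing by multiplication with a nonzero residue -/
theorem sum_pow_mul (ξ : R) (hξ : ξ ^ r = 1) (j : ZMod r) (hj : j ≠ 0) :
    ∑ i : ZMod r, ξ ^ (i.val * j.val) = ∑ k : ZMod r, ξ ^ k.val := by
  have h1 : ∀ i : ZMod r, ξ ^ (i.val * j.val) = ξ ^ (i * j).val := by
    intro i
    rw [ZMod.val_mul, ← pow_eq_pow_mod _ hξ]
  simp_rw [h1]
  exact Fintype.sum_equiv (Equiv.mulRight₀ j hj) _ _ (fun i => rfl)

/-- the norm identity, in the form used -/
theorem ring_key (β ξ : R) (hc : Commute β ξ) (hξ : ξ ^ r = 1)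
    (hNξ : ∑ k : ZMod r, ξ ^ k.val = 0)
    (hN : ∀ i : ZMod r, ∑ j : ZMod r, (β * ξ ^ i.val) ^ j.val = 0) : (r : R) = 0 := by
  have h0 : ∑ i : ZMod r, ∑ j : ZMod r, (β * ξ ^ i.val) ^ j.val = 0 := by
    simp_rw [hN]
    simp
  rw [Finset.sum_comm] at h0
  have h1 : ∀ j : ZMod r, ∑ i : ZMod r, (β * ξ ^ i.val) ^ j.val = if j = 0 then (r : R) else 0 := by
    intro j
    have h2 : ∀ i : ZMod r, (β * ξ ^ i.val) ^ j.val = β ^ j.val * ξ ^ (i.val * j.val) := by
      intro i
      rw [(hc.pow_right _).mul_pow, ← pow_mul]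
    simp_rw [h2]
    rw [← Finset.mul_sum]
    split_ifs with hj
    · subst hj
      simp [ZMod.val_zero]
    · rw [sum_pow_mul ξ hξ j hj, hNξ, mul_zero]
  simp_rw [h1] at h0
  simpa using h0

end ring

section endo

variable {V : Type*} [AddCommGroup V] {r : ℕ} [Fact r.Prime]

/-- an endomorphism of order dividing `r` without nonzero fixed points has norm zero -/
theorem norm_eq_zero (γ : AddMonoid.End V) (hγ : γ ^ r = 1) (hfix : ∀ v : V, γ v = v → v = 0) :
    ∑ k : ZMod r, γ ^ k.val = 0 := by
  have h1 : γ * ∑ k : ZMod r, γ ^ k.val = ∑ k : ZMod r, γ ^ k.val := by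
    rw [Finset.mul_sum]
    have h2 : ∀ k : ZMod r, γ * γ ^ k.val = γ ^ (k + 1).val := by
      intro k
      rw [← pow_succ', ZMod.val_add, pow_eq_pow_mod (k.val + 1) hγ]
      congr 2
      have : Fact (1 < r) := ⟨(Fact.out : r.Prime).one_lt⟩
      rw [ZMod.val_one]
    simp_rw [h2]
    exact Fintype.sum_equiv (Equiv.addRight (1 : ZMod r)) _ _ (fun i => rfl)
  ext v
  apply hfix
  have := congrArg (fun f : AddMonoid.End V => f v) h1
  simpa using this

/-- the fixed-point-free case is impossible unless `V = 0` -/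
theorem end_key [Finite V] (hco : (Nat.card V).Coprime r) (β ξ : AddMonoid.End V) (hc : Commute β ξ)
    (hβ : β ^ r = 1) (hξ : ξ ^ r = 1) (hfξ : ∀ v : V, ξ v = v → v = 0)
    (hf : ∀ i : ZMod r, ∀ v : V, (β * ξ ^ i.val) v = v → v = 0) (v : V) : v = 0 := by
  have h1 : ((r : ℕ) : AddMonoid.End V) = 0 := by
    apply ring_key β ξ hc hξ (norm_eq_zero ξ hξ hfξ)
    intro i
    apply norm_eq_zero _ _ (hf i)
    rw [(hc.pow_right _).mul_pow, hβ, ← pow_mul, mul_comm, pow_mul, hξ, one_pow, one_mul]
  have h2 : r • v = 0 := by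
    have := congrArg (fun f : AddMonoid.End V => f v) h1
    simpa using this
  have h3 : Nat.card V • v = 0 := card_nsmul_eq_zero'
  obtain ⟨a, b', hab⟩ : ∃ a b' : ℤ, (Nat.card V : ℤ) * a + (r : ℤ) * b' = 1 := by
    have := Nat.Coprime.isCoprime hco
    obtain ⟨a, b', h⟩ := this
    exact ⟨a, b', by linarith⟩
  have h4 : (1 : ℤ) • v = 0 := by
    rw [← hab, add_smul, mul_comm, mul_smul, mul_comm (r : ℤ), mul_smul]
    rw [natCast_zsmul, natCast_zsmul, h3, h2, smul_zero, smul_zero, add_zero]
  simpa using h4

end endo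

section bridge

universe u

open Subgroup
open scoped commutatorElement

variable {G : Type u} [Group G]

/-- abelian + irreducible under `t`: if `b`, `x` normalise `A`, commute with each other and with `t` modulo
`C(A)`, have `r`-th powers in `C(A)` and `x` does not centralise `A`, then some `b x ^ i` centralises `A` -/
theorem exists_mul_pow_mem_centralizer {A : Subgroup G} [Finite A] {r : ℕ} [Fact r.Prime]
    (hAab : ∀ a ∈ A, ∀ b ∈ A, a * b = b * a) (hco : (Nat.card A).Coprime r) {t b x : G}
    (ht : t ∈ normalizer (A : Set G)) (hb : b ∈ normalizer (A : Set G)) (hx : x ∈ normalizer (A : Set G))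
    (hbx : ⁅b, x⁆ ∈ centralizer (A : Set G)) (hbt : ⁅b, t⁆ ∈ centralizer (A : Set G))
    (hxt : ⁅x, t⁆ ∈ centralizer (A : Set G)) (hbr : b ^ r ∈ centralizer (A : Set G))
    (hxr : x ^ r ∈ centralizer (A : Set G)) (hxA : x ∉ centralizer (A : Set G))
    (hirr : ∀ W : Subgroup G, W ≤ A → t ∈ normalizer (W : Set G) → W = ⊥ ∨ W = A) :
    ∃ i : ℕ, b * x ^ i ∈ centralizer (A : Set G) := by
  classical
  let _ : CommGroup ↥A :=
    { (inferInstance : Group ↥A) with mul_comm := fun a b => Subtype.ext (hAab a a.2 b b.2) }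
  -- conjugation as an endomorphism of the additive group `V = Additive A`
  let cj : ↥(normalizer (A : Set G)) →* AddMonoid.End (Additive ↥A) :=
    { toFun := fun g => AddMonoidHom.mk' (fun v => Additive.ofMul
          (⟨(g : G) * ((Additive.toMul v : ↥A) : G) * (g : G)⁻¹,
            (mem_normalizer_iff.1 g.2 _).1 (Additive.toMul v).2⟩ : ↥A))
        (by
          intro v w
          apply Additive.toMul.injective
          apply Subtype.ext
          show (g : G) * ((Additive.toMul (v + w) : ↥A) : G) * (g : G)⁻¹ =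
            ((g : G) * ((Additive.toMul v : ↥A) : G) * (g : G)⁻¹) *
              ((g : G) * ((Additive.toMul w : ↥A) : G) * (g : G)⁻¹)
          rw [toMul_add, Subgroup.coe_mul]
          group)
      map_one' := by
        refine AddMonoidHom.ext fun v => ?_
        apply Additive.toMul.injective
        apply Subtype.ext
        show ((1 : ↥(normalizer (A : Set G))) : G) * ((Additive.toMul v : ↥A) : G) *
          ((1 : ↥(normalizer (A : Set G))) : G)⁻¹ = ((Additive.toMul v : ↥A) : G)
        rw [Subgroup.coe_one]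
        group
      map_mul' := by
        intro g h
        refine AddMonoidHom.ext fun v => ?_
        apply Additive.toMul.injective
        apply Subtype.ext
        show ((g * h : ↥(normalizer (A : Set G))) : G) * ((Additive.toMul v : ↥A) : G) *
          ((g * h : ↥(normalizer (A : Set G))) : G)⁻¹ =
            (g : G) * ((h : G) * ((Additive.toMul v : ↥A) : G) * (h : G)⁻¹) * (g : G)⁻¹
        rw [Subgroup.coe_mul]
        group }
  have cj_val : ∀ (g : ↥(normalizer (A : Set G))) (a : ↥A),
      ((Additive.toMul (cj g (Additive.ofMul a)) : ↥A) : G) = (g : G) * a * (g : G)⁻¹ := fun g a => rfl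
  -- the kernel of `cj`
  have cj_one_iff : ∀ g : ↥(normalizer (A : Set G)), cj g = 1 ↔ (g : G) ∈ centralizer (A : Set G) := by
    intro g
    constructor
    · intro h a ha
      have h1 := cj_val g ⟨a, ha⟩
      rw [h] at h1
      have h2 : (g : G) * a * (g : G)⁻¹ = a := h1.symm
      calc a * (g : G) = ((g : G) * a * (g : G)⁻¹) * g := by rw [h2]
        _ = g * a := by group
    · intro h
      refine AddMonoidHom.ext fun v => ?_
      apply Additive.toMul.injective
      apply Subtype.ext
      have h1 := h ((Additive.toMul v : ↥A) : G) (Additive.toMul v).2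
      show (g : G) * ((Additive.toMul v : ↥A) : G) * (g : G)⁻¹ = ((Additive.toMul v : ↥A) : G)
      rw [← h1]
      group
  have hcn : centralizer (A : Set G) ≤ normalizer (A : Set G) := by
    intro g hg
    rw [mem_normalizer_iff]
    intro a
    constructor
    · intro ha
      have := hg a ha
      have e : g * a * g⁻¹ = a := by rw [← this]; group
      rw [e]; exact ha
    · intro ha
      have := hg _ ha
      have e : a = g * a * g⁻¹ := by
        have h2 : g * a * g⁻¹ * g = g * (g * a * g⁻¹) := this
        have h3 : g * a = g * (g * a * g⁻¹) := by rw [← h2]; group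
        exact mul_left_cancel h3
      rw [e]; exact ha
  -- commuting images
  have comm_of : ∀ g h : ↥(normalizer (A : Set G)), ⁅(g : G), (h : G)⁆ ∈ centralizer (A : Set G) →
      Commute (cj g) (cj h) := by
    intro g h hgh
    have h1 : cj ⟨⁅(g : G), (h : G)⁆, hcn hgh⟩ = 1 := (cj_one_iff _).2 hgh
    have h2 : g * h = ⟨⁅(g : G), (h : G)⁆, hcn hgh⟩ * (h * g) := by
      apply Subtype.ext
      simp only [Subgroup.coe_mul, commutatorElement_def]
      group
    show cj g * cj h = cj h * cj g
    rw [← map_mul, ← map_mul, h2, map_mul, h1, one_mul]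
  set τ := cj ⟨t, ht⟩ with hτ
  set β := cj ⟨b, hb⟩ with hβ
  set ξ := cj ⟨x, hx⟩ with hξ
  have hβξ : Commute β ξ := comm_of _ _ hbx
  have hβτ : Commute β τ := comm_of _ _ hbt
  have hξτ : Commute ξ τ := comm_of _ _ hxt
  have hβr : β ^ r = 1 := by
    rw [hβ, ← map_pow]
    exact (cj_one_iff _).2 hbr
  have hξr : ξ ^ r = 1 := by
    rw [hξ, ← map_pow]
    exact (cj_one_iff _).2 hxr
  -- fixed points of an element commuting with `τ`
  have fix_dich : ∀ g : ↥(normalizer (A : Set G)), Commute (cj g) τ →
      (∀ v : Additive ↥A, cj g v = v → v = 0) ∨ (g : G) ∈ centralizer (A : Set G) := by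
    intro g hg
    have hW : t ∈ normalizer ((A ⊓ centralizer ({(g : G)} : Set G) : Subgroup G) : Set G) := by
      rw [mem_normalizer_iff]
      intro a
      have key : ∀ a' : ↥A, (g : G) * a' * (g : G)⁻¹ = a' ↔
          (g : G) * (t * a' * t⁻¹) * (g : G)⁻¹ = t * a' * t⁻¹ := by
        intro a'
        have e1 : cj g (τ (Additive.ofMul a')) = τ (cj g (Additive.ofMul a')) := by
          have := congrArg (fun f : AddMonoid.End (Additive ↥A) => f (Additive.ofMul a')) hg.eq
          exact this
        have e2 : (g : G) * (t * a' * t⁻¹) * (g : G)⁻¹ = t * ((g : G) * a' * (g : G)⁻¹) * t⁻¹ := by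
          have := congrArg (fun v : Additive ↥A => ((Additive.toMul v : ↥A) : G)) e1
          exact this
        rw [e2]
        constructor
        · intro h; rw [h]
        · intro h
          have h3 : t * ((g : G) * a' * (g : G)⁻¹) = t * a' := by
            have := congrArg (fun z => z * t) h
            simpa using this
          exact mul_left_cancel h3
      rw [Subgroup.mem_inf, Subgroup.mem_inf, mem_centralizer_iff, mem_centralizer_iff]
      simp only [Set.mem_singleton_iff, forall_eq]
      constructor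
      · rintro ⟨ha, hga⟩
        refine ⟨(mem_normalizer_iff.1 ht a).1 ha, ?_⟩
        have h1 : (g : G) * a * (g : G)⁻¹ = a := by rw [hga]; group
        have h2 := (key ⟨a, ha⟩).1 h1
        calc (g : G) * (t * a * t⁻¹) = ((g : G) * (t * a * t⁻¹) * (g : G)⁻¹) * g := by group
          _ = t * a * t⁻¹ * g := by rw [h2]
      · rintro ⟨ha, hga⟩
        have ha' : a ∈ A := (mem_normalizer_iff.1 ht a).2 ha
        refine ⟨ha', ?_⟩
        have h1 : (g : G) * (t * a * t⁻¹) * (g : G)⁻¹ = t * a * t⁻¹ := by rw [hga]; group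
        have h2 := (key ⟨a, ha'⟩).2 h1
        calc (g : G) * a = ((g : G) * a * (g : G)⁻¹) * g := by group
          _ = a * g := by rw [h2]
    rcases hirr _ inf_le_left hW with h | h
    · left
      intro v hv
      have h1 : ((Additive.toMul v : ↥A) : G) ∈ (A ⊓ centralizer ({(g : G)} : Set G) : Subgroup G) := by
        rw [Subgroup.mem_inf, mem_centralizer_iff]
        refine ⟨(Additive.toMul v).2, ?_⟩
        simp only [Set.mem_singleton_iff, forall_eq]
        have h2 : (g : G) * ((Additive.toMul v : ↥A) : G) * (g : G)⁻¹ = ((Additive.toMul v : ↥A) : G) := by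
          have := congrArg (fun w : Additive ↥A => ((Additive.toMul w : ↥A) : G)) hv
          exact this
        calc (g : G) * ((Additive.toMul v : ↥A) : G)
            = ((g : G) * ((Additive.toMul v : ↥A) : G) * (g : G)⁻¹) * g := by group
          _ = ((Additive.toMul v : ↥A) : G) * g := by rw [h2]
      rw [h, mem_bot] at h1
      have h3 : (Additive.toMul v : ↥A) = 1 := Subtype.ext h1
      exact (toMul_eq_one).1 h3
    · right
      intro a ha
      have h1 : a ∈ (A ⊓ centralizer ({(g : G)} : Set G) : Subgroup G) := by rw [h]; exact ha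
      rw [Subgroup.mem_inf, mem_centralizer_iff] at h1
      exact (h1.2 g rfl).symm
  by_contra hcon0
  have hcon : ∀ i : ℕ, b * x ^ i ∉ centralizer (A : Set G) := fun i hi => hcon0 ⟨i, hi⟩
  have hfξ : ∀ v : Additive ↥A, ξ v = v → v = 0 := by
    rcases fix_dich ⟨x, hx⟩ hξτ with h | h
    · exact h
    · exact absurd h hxA
  have hf : ∀ i : ZMod r, ∀ v : Additive ↥A, (β * ξ ^ i.val) v = v → v = 0 := by
    intro i
    have e : β * ξ ^ i.val = cj (⟨b, hb⟩ * ⟨x, hx⟩ ^ i.val) := by
      rw [map_mul, map_pow]
    rw [e]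
    rcases fix_dich (⟨b, hb⟩ * ⟨x, hx⟩ ^ i.val) (by
        rw [← e]; exact (hβτ.mul_left (hξτ.pow_left _))) with h | h
    · exact h
    · exact absurd h (hcon i.val)
  have hall : ∀ v : Additive ↥A, v = 0 := by
    intro v
    have hco' : (Nat.card (Additive ↥A)).Coprime r := hco
    exact end_key hco' β ξ hβξ hβr hξr hfξ hf v
  apply hxA
  intro a ha
  have h1 := hall (Additive.ofMul ⟨a, ha⟩)
  have h2 : (⟨a, ha⟩ : ↥A) = 1 := (ofMul_eq_zero).1 h1
  have h3 : a = 1 := congrArg Subtype.val h2
  rw [h3, mul_one, one_mul]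

end bridge

end Cfsg.Agent.Helper6.NormId
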