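import Mathlib
import Cfsg.Agent.Lib.Helper26.CG3Defs
import Cfsg.Agent.Lib.Helper18.CG3G0

/-!
# S3412 piece G5 (helper6): `C(t)` is transitive by conjugation on `U = {cc = 54} ∩ C(t)`.
-/

set_option autoImplicit false

namespace Cfsg.Agent.Helper26.CG3

universe u

section G

variable {H : Type u} [Group H] [Finite H] {t : H}

/-- G5 -/
theorem trans_U (h : LG H t) (u x : H) (hu : t * u = u * t) (hcu : cc u = 54) (hx : t * x = x * t)
    (hcx : cc x = 54) : ∃ c : H, c * t = t * c ∧ c * u * c⁻¹ = x := by
  classical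
  set C : Subgroup H := Subgroup.centralizer ({t} : Set H) with hC
  let _ : MulAction C H := MulAction.compHom H ((MulAut.conj).comp C.subtype)
  have hsmul : ∀ (c : C) (g : H), c • g = (c : H) * g * (c : H)⁻¹ := fun c g => rfl
  have hcomm : ∀ c : C, (c : H) * t = t * c := fun c =>
    Subgroup.mem_centralizer_singleton_iff.mp c.2
  let Uset : Set H := {g | t * g = g * t ∧ cc g = 54}
  have hUcard : Uset.ncard = 8 := by
    rw [← Nat.card_coe_set_eq]
    exact h.nU
  have hUfin : Uset.Finite := Set.toFinite _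
  have horb : MulAction.orbit C u ⊆ Uset := by
    rintro _ ⟨c, rfl⟩
    show t * (c • u) = (c • u) * t ∧ cc (c • u) = 54
    rw [hsmul]
    refine ⟨?_, ?_⟩
    · have h1 := hcomm c
      have h2 : t * (c : H)⁻¹ = (c : H)⁻¹ * t := by
        rw [eq_inv_mul_iff_mul_eq, ← mul_assoc, h1, mul_assoc, mul_inv_cancel, mul_one]
      calc t * ((c : H) * u * (c : H)⁻¹) = ((c : H) * t) * u * (c : H)⁻¹ := by
            rw [h1]; group
        _ = (c : H) * (u * t) * (c : H)⁻¹ := by rw [mul_assoc (c : H) t u, hu]
        _ = (c : H) * u * (t * (c : H)⁻¹) := by group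
        _ = (c : H) * u * (c : H)⁻¹ * t := by rw [h2]; group
    · rw [cc_conj]; exact hcu
  have hstab : Nat.card (MulAction.stabilizer C u) = 6 := by
    rw [← h.u6 u hu hcu]
    apply Nat.card_congr
    exact
      { toFun := fun c => ⟨((c : C) : H), Subgroup.mem_inf.mpr ⟨(c : C).2, by
            rw [Subgroup.mem_centralizer_singleton_iff]
            have := c.2
            rw [MulAction.mem_stabilizer_iff, hsmul] at this
            exact mul_inv_eq_iff_eq_mul.mp this⟩⟩
        invFun := fun k => ⟨⟨(k : H), (Subgroup.mem_inf.mp k.2).1⟩, by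
            rw [MulAction.mem_stabilizer_iff, hsmul]
            have := Subgroup.mem_centralizer_singleton_iff.mp (Subgroup.mem_inf.mp k.2).2
            exact mul_inv_eq_iff_eq_mul.mpr this⟩
        left_inv := fun c => rfl
        right_inv := fun k => rfl }
  have hprod : Nat.card (MulAction.orbit C u) * Nat.card (MulAction.stabilizer C u) = 48 := by
    rw [← Nat.card_prod, Nat.card_congr (MulAction.orbitProdStabilizerEquivGroup C u)]
    exact h.cct
  have horbcard : (MulAction.orbit C u).ncard = 8 := by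
    rw [← Nat.card_coe_set_eq]
    rw [hstab] at hprod
    omega
  have heq : MulAction.orbit C u = Uset :=
    Set.eq_of_subset_of_ncard_le horb (by rw [hUcard, horbcard]) hUfin
  have hxU : x ∈ Uset := ⟨hx, hcx⟩
  rw [← heq] at hxU
  obtain ⟨c, hc⟩ := hxU
  exact ⟨(c : H), hcomm c, by rw [← hc]; rfl⟩

end G

end Cfsg.Agent.Helper26.CG3
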