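import Mathlib

/-!
# S3412 piece G6CNT (helper6): in a group of order 48, a normal 2-subgroup with more than 8 elements
contains every 2-element.
-/

set_option autoImplicit false

namespace Cfsg.Agent.Helper26.CG3

universe u

/-- G6-CNT (generic) -/
theorem two_elt_mem {G : Type u} [Group G] [Finite G] (hG : Nat.card G = 48) (M : Subgroup G)
    (hM : M.Normal) (h2 : IsPGroup 2 M) (hc : 8 < Nat.card M) (y : G) (k : ℕ) (hy : y ^ 2 ^ k = 1) :
    y ∈ M := by
  obtain ⟨n, hn⟩ := IsPGroup.exists_card_eq h2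
  have hdvd : Nat.card M ∣ 48 := hG ▸ Subgroup.card_subgroup_dvd_card M
  have hn4 : n = 4 := by
    rw [hn] at hdvd hc
    have hle : n ≤ 4 := by
      by_contra hlt
      push Not at hlt
      have h5 : 2 ^ 5 ∣ 2 ^ n := pow_dvd_pow 2 hlt
      have := h5.trans hdvd
      omega
    interval_cases n <;> simp_all
  have hidx : M.index = 3 := by
    have := Subgroup.card_mul_index M
    rw [hn, hn4, hG] at this
    omega
  have h3 : y ^ 3 ∈ M := hidx ▸ Subgroup.pow_index_mem M y
  have hco : Nat.Coprime 3 (2 ^ k) := by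
    apply Nat.Coprime.pow_right; decide
  rw [← QuotientGroup.eq_one_iff]
  have h1 : ((y : G ⧸ M)) ^ 3 = 1 := by
    rw [← QuotientGroup.mk_pow, QuotientGroup.eq_one_iff]; exact h3
  have h2' : ((y : G ⧸ M)) ^ (2 ^ k) = 1 := by
    rw [← QuotientGroup.mk_pow, hy]; rfl
  have hd1 := orderOf_dvd_of_pow_eq_one h1
  have hd2 := orderOf_dvd_of_pow_eq_one h2'
  have := Nat.dvd_gcd hd1 hd2
  rw [hco] at this
  exact orderOf_eq_one_iff.mp (Nat.dvd_one.mp this)

end Cfsg.Agent.Helper26.CG3
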