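import Mathlib
import Cfsg.Agent.Lib.Helper6.UniDefs

/-!
S2314 farm-out, PIECE UNI-RESTR: the restricted `(B, N)`-pair of a parabolic subgroup.
-/

set_option autoImplicit false
set_option linter.unusedSectionVars false
set_option linter.unusedVariables false

namespace Cfsg.Agent.Helper6.Uni

open Cfsg Cfsg.Agent.Helper2.WordLen Cfsg.Agent.Helper2.BN Cfsg.Agent.Helper17.BNCox

variable {G : Type*} [Group G] (P : Cfsg.BNPair G)

theorem uni_restr_B_inf_NA (A : Set P.S) : P.B ⊓ NA P A = P.B ⊓ P.N := by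
  apply le_antisymm
  · exact inf_le_inf_left _ (NA_le P A)
  · apply le_inf inf_le_left
    unfold NA
    exact le_sup_right

theorem uni_restr_closure_le_par (A : Set P.S) :
    Subgroup.closure (Subtype.val '' A : Set G) ≤ par P A := by
  unfold par BNPair.parabolic
  exact le_sup_right

theorem uni_restr_closure (A : Set P.S) :
    (Subgroup.closure (Subtype.val '' A : Set G)).subgroupOf (par P A) =
      Subgroup.closure {x : ↥(par P A) | (x : G) ∈ Subtype.val '' A} := by
  have h1 : (Subtype.val '' A : Set G) =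
      (par P A).subtype '' {x : ↥(par P A) | (x : G) ∈ Subtype.val '' A} := by
    ext g
    constructor
    · intro hg
      have hgM : g ∈ par P A := uni_restr_closure_le_par P A (Subgroup.subset_closure hg)
      exact ⟨⟨g, hgM⟩, hg, rfl⟩
    · rintro ⟨x, hx, rfl⟩
      exact hx
  conv_lhs => rw [h1]
  rw [← MonoidHom.map_closure, Subgroup.subgroupOf,
    Subgroup.comap_map_eq_self_of_injective (Subgroup.subtype_injective _)]

/-- PIECE UNI-RESTR: the parabolic subgroup `P_A` has the `(B, N)`-pair `(B, N_A, A)`. -/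
theorem exists_restr (A : Set P.S) : ∃ Q : Cfsg.BNPair ↥(par P A), IsRestr P A Q := by
  have hBM : P.B ≤ par P A := B_le_par P A
  have hNM : NA P A ≤ par P A := NA_le_par P A
  refine ⟨{
    B := P.B.subgroupOf (par P A)
    N := (NA P A).subgroupOf (par P A)
    S := {x : ↥(par P A) | (x : G) ∈ Subtype.val '' A}
    sup_eq_top := ?_
    conj_mem := ?_
    subset := ?_
    sq_mem := ?_
    inj := ?_
    closure_sup := ?_
    mul_mem_union := ?_
    conj_ne := ?_ }, ⟨rfl, rfl, rfl⟩⟩
  · rw [← Subgroup.subgroupOf_sup hBM hNM, Subgroup.subgroupOf_eq_top]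
    unfold par BNPair.parabolic NA
    apply sup_le le_sup_left
    exact le_trans le_sup_left le_sup_right
  · intro n hn t ht
    rw [Subgroup.mem_subgroupOf] at hn ⊢
    have ht1 : (t : G) ∈ P.B := Subgroup.mem_subgroupOf.1 ht.1
    have ht2 : (t : G) ∈ NA P A := Subgroup.mem_subgroupOf.1 ht.2
    exact P.conj_mem (n : G) (NA_le P A hn) (t : G) ⟨ht1, NA_le P A ht2⟩
  · intro x hx
    show x ∈ (NA P A).subgroupOf (par P A)
    rw [Subgroup.mem_subgroupOf]
    unfold NA
    exact Subgroup.mem_sup_left (Subgroup.subset_closure hx)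
  · rintro x ⟨s, _, hs⟩
    rw [Subgroup.mem_subgroupOf]
    show (x : G) * (x : G) ∈ P.B
    rw [← hs]
    exact P.sq_mem s s.2
  · rintro x ⟨s, _, hs⟩ x' ⟨s', _, hs'⟩ h
    rw [Subgroup.mem_subgroupOf] at h
    have h' : (x : G)⁻¹ * (x' : G) ∈ P.B := h
    rw [← hs, ← hs'] at h'
    apply Subtype.ext
    rw [← hs, ← hs']
    exact P.inj s s.2 s' s'.2 h'
  · have hinf : P.B.subgroupOf (par P A) ⊓ (NA P A).subgroupOf (par P A) =
        (P.B ⊓ P.N).subgroupOf (par P A) := by
      rw [← uni_restr_B_inf_NA P A]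
      exact (Subgroup.comap_inf _ _ _).symm
    show Subgroup.closure {x : ↥(par P A) | (x : G) ∈ Subtype.val '' A} ⊔
      (P.B.subgroupOf (par P A) ⊓ (NA P A).subgroupOf (par P A)) = (NA P A).subgroupOf (par P A)
    rw [hinf, ← uni_restr_closure P A,
      ← Subgroup.subgroupOf_sup (uni_restr_closure_le_par P A) (le_trans inf_le_left hBM)]
    rfl
  · rintro x ⟨s, _, hs⟩ n hn b hb
    rw [Subgroup.mem_subgroupOf] at hn hb
    have h := P.mul_mem_union s s.2 (n : G) (NA_le P A hn) (b : G) hb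
    rw [hs] at h
    rcases h with h | h
    · left
      rw [DoubleCoset.mem_doubleCoset] at h ⊢
      obtain ⟨y, hy, z, hz, e⟩ := h
      exact ⟨⟨y, hBM hy⟩, hy, ⟨z, hBM hz⟩, hz, Subtype.ext e⟩
    · right
      rw [DoubleCoset.mem_doubleCoset] at h ⊢
      obtain ⟨y, hy, z, hz, e⟩ := h
      exact ⟨⟨y, hBM hy⟩, hy, ⟨z, hBM hz⟩, hz, Subtype.ext e⟩
  · rintro x ⟨s, _, hs⟩ heq
    apply P.conj_ne s s.2
    ext g
    constructor
    · rintro ⟨b, hb, rfl⟩
      have h1 : x * ⟨b, hBM hb⟩ * x ∈ (fun b' : ↥(par P A) => x * b' * x) ''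
          ((P.B.subgroupOf (par P A) : Subgroup ↥(par P A)) : Set ↥(par P A)) :=
        ⟨⟨b, hBM hb⟩, hb, rfl⟩
      rw [heq] at h1
      have h2 : ((x * ⟨b, hBM hb⟩ * x : ↥(par P A)) : G) ∈ P.B := h1
      rw [hs]
      exact h2
    · intro hg
      have h1 : (⟨g, hBM hg⟩ : ↥(par P A)) ∈
          ((P.B.subgroupOf (par P A) : Subgroup ↥(par P A)) : Set ↥(par P A)) := hg
      rw [← heq] at h1
      obtain ⟨b, hb, e⟩ := h1
      refine ⟨(b : G), hb, ?_⟩
      have e' := congrArg (Subtype.val : ↥(par P A) → G) e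
      rw [hs]
      exact e'

end Cfsg.Agent.Helper6.Uni
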