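import Mathlib
import Cfsg.Agent.Lib.Helper23.ZS4Defs

/-!
# S3222: small consequences of `Loc` shared by helper6's pieces (NS, INDEX2, O4A, O4B, O4C)
-/

set_option autoImplicit false

namespace Cfsg.Agent.Helper23.ZS4.H6

variable {G : Type*} [Group G]

theorem mem_cent {a x : G} : a ∈ Subgroup.centralizer ({x} : Set G) ↔ a * x = x * a := by
  rw [Subgroup.mem_centralizer_singleton_iff]

theorem sq_of_two {x : G} (h : orderOf x = 2) : x * x = 1 := by
  have := pow_orderOf_eq_one x
  rwa [h, pow_two] at this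

theorem ne_one_of_two {x : G} (h : orderOf x = 2) : x ≠ 1 := by
  rintro rfl
  rw [orderOf_one] at h
  omega

theorem inv_of_two {x : G} (h : orderOf x = 2) : x⁻¹ = x :=
  inv_eq_of_mul_eq_one_right (sq_of_two h)

theorem orderOf_conj' (g x : G) : orderOf (g * x * g⁻¹) = orderOf x := by
  rw [← MulAut.conj_apply, MulEquiv.orderOf_eq]

theorem two_of_sq {x : G} (h : x * x = 1) (h1 : x ≠ 1) : orderOf x = 2 := by
  refine orderOf_eq_prime ?_ h1
  rw [pow_two]; exact h

/-- Centralizers of conjugate elements have the same order. -/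
theorem card_cent_conj (g x : G) :
    Nat.card (Subgroup.centralizer ({g * x * g⁻¹} : Set G)) =
      Nat.card (Subgroup.centralizer ({x} : Set G)) := by
  have h : (Subgroup.centralizer ({x} : Set G)).map (MulAut.conj g).toMonoidHom =
      Subgroup.centralizer ({g * x * g⁻¹} : Set G) := by
    ext a
    rw [Subgroup.mem_map, mem_cent]
    constructor
    · rintro ⟨c, hc, rfl⟩
      rw [mem_cent] at hc
      simp only [MulEquiv.coe_toMonoidHom, MulAut.conj_apply]
      calc g * c * g⁻¹ * (g * x * g⁻¹) = g * (c * x) * g⁻¹ := by group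
        _ = g * (x * c) * g⁻¹ := by rw [hc]
        _ = g * x * g⁻¹ * (g * c * g⁻¹) := by group
    · intro ha
      refine ⟨g⁻¹ * a * g, ?_, ?_⟩
      · rw [mem_cent]
        calc g⁻¹ * a * g * x = g⁻¹ * (a * (g * x * g⁻¹)) * g := by group
          _ = g⁻¹ * ((g * x * g⁻¹) * a) * g := by rw [ha]
          _ = x * (g⁻¹ * a * g) := by group
      · simp only [MulEquiv.coe_toMonoidHom, MulAut.conj_apply]
        group
  rw [← h]
  exact Subgroup.card_map_of_injective (MulAut.conj g).injective

section loc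

variable {t z v τ : G} {T : Subgroup G}

theorem t_comm (L : Loc t z v τ T) : ∀ a ∈ T, a * t = t * a := fun _ ha =>
  mem_cent.1 (L.T_le ha)

theorem z_comm' (L : Loc t z v τ T) : ∀ a ∈ T, a * z = z * a := fun a ha => by
  have : a ∈ Subgroup.centralizer ({z} : Set G) := by rw [L.cent_z]; exact ha
  exact mem_cent.1 this

theorem v_order (L : Loc t z v τ T) : orderOf v = 2 := by
  obtain ⟨c, -, hc⟩ := L.v_conj
  rw [hc, orderOf_conj', L.hz]

theorem zv_order (L : Loc t z v τ T) : orderOf (z * v) = 2 := by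
  obtain ⟨c, -, hc⟩ := L.zv_conj
  rw [hc, orderOf_conj', L.hz]

theorem zv_comm (L : Loc t z v τ T) : z * v = v * z := (z_comm' L v L.vT).symm

theorem z_ne_one (L : Loc t z v τ T) : z ≠ 1 := ne_one_of_two L.hz
theorem v_ne_one (L : Loc t z v τ T) : v ≠ 1 := ne_one_of_two (v_order L)
theorem zv_ne_one (L : Loc t z v τ T) : z * v ≠ 1 := ne_one_of_two (zv_order L)
theorem t_ne_one (L : Loc t z v τ T) : t ≠ 1 := ne_one_of_two L.ht

theorem card_cent_z (L : Loc t z v τ T) :
    Nat.card (Subgroup.centralizer ({z} : Set G)) = 16 := by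
  rw [L.cent_z, L.card_T]

theorem card_cent_v (L : Loc t z v τ T) :
    Nat.card (Subgroup.centralizer ({v} : Set G)) = 16 := by
  obtain ⟨c, -, hc⟩ := L.v_conj
  rw [hc, card_cent_conj, card_cent_z L]

theorem card_cent_zv (L : Loc t z v τ T) :
    Nat.card (Subgroup.centralizer ({z * v} : Set G)) = 16 := by
  obtain ⟨c, -, hc⟩ := L.zv_conj
  rw [hc, card_cent_conj, card_cent_z L]

/-- No conjugate of `t` is `z`, `v` or `z * v`. -/
theorem conj_t_ne (L : Loc t z v τ T) (g : G) :
    g * t * g⁻¹ ≠ z ∧ g * t * g⁻¹ ≠ v ∧ g * t * g⁻¹ ≠ z * v := by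
  have h48 := card_cent_conj g t
  rw [L.card_C] at h48
  refine ⟨fun h => ?_, fun h => ?_, fun h => ?_⟩
  · rw [h, card_cent_z L] at h48; omega
  · rw [h, card_cent_v L] at h48; omega
  · rw [h, card_cent_zv L] at h48; omega

theorem tau'_conj (L : Loc t z v τ T) {τ' : G} (h : τ' = τ ∨ τ' = t * τ) :
    τ' * v * τ'⁻¹ = z * v := by
  rcases h with rfl | rfl
  · exact L.τv
  · have h1 : t * (z * v) = (z * v) * t := (t_comm L _ (T.mul_mem L.zT L.vT)).symm
    calc t * τ * v * (t * τ)⁻¹ = t * (τ * v * τ⁻¹) * t⁻¹ := by group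
      _ = t * (z * v) * t⁻¹ := by rw [L.τv]
      _ = z * v := by rw [h1]; group

theorem tau'_mem_T (L : Loc t z v τ T) {τ' : G} (h : τ' = τ ∨ τ' = t * τ) : τ' ∈ T := by
  rcases h with rfl | rfl
  · exact L.τT
  · exact T.mul_mem L.tT L.τT

/-- `τ'` does not commute with `v`. -/
theorem tau'_not_comm (L : Loc t z v τ T) {τ' : G} (h : τ' = τ ∨ τ' = t * τ) :
    τ' * v ≠ v * τ' := by
  intro hc
  have h1 := tau'_conj L h
  rw [hc, mul_inv_cancel_right] at h1
  exact z_ne_one L (by simpa using h1.symm)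

theorem tau_ne_t (L : Loc t z v τ T) : τ ≠ t := by
  intro h
  apply tau'_not_comm L (Or.inl rfl)
  rw [h]
  exact (t_comm L v L.vT).symm

theorem tau'_order (L : Loc t z v τ T) {τ' : G} (h : τ' = τ ∨ τ' = t * τ) : orderOf τ' = 2 := by
  rcases h with rfl | rfl
  · exact L.hτ
  · apply two_of_sq
    · have h1 : τ * t = t * τ := t_comm L τ L.τT
      calc t * τ * (t * τ) = t * (τ * t) * τ := by group
        _ = t * (t * τ) * τ := by rw [h1]
        _ = (t * t) * (τ * τ) := by group
        _ = 1 := by rw [sq_of_two L.ht, sq_of_two L.hτ, one_mul]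
    · intro h1
      apply tau_ne_t L
      have : τ = t⁻¹ := by
        rw [eq_inv_iff_mul_eq_one, ← h1]
        exact t_comm L τ L.τT
      rw [this, inv_of_two L.ht]

/-- A normal subgroup of index 2 contains all commutators. -/
theorem comm_mem_of_index_two (M : Subgroup G) [M.Normal] (hM2 : M.index = 2) (a b : G) :
    a * b * a⁻¹ * b⁻¹ ∈ M := by
  rw [Subgroup.mul_mem_iff_of_index_two hM2, inv_mem_iff]
  exact ‹M.Normal›.mem_comm_iff.trans (by rw [inv_mul_cancel_left])

theorem z_mem_of_index_two (L : Loc t z v τ T) (M : Subgroup G) [M.Normal]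
    (hM2 : M.index = 2) : z ∈ M := by
  have h : ⁅T, T⁆ ≤ M := by
    rw [Subgroup.commutator_le]
    intro a _ b _
    rw [commutatorElement_def]
    exact comm_mem_of_index_two M hM2 a b
  exact h L.z_comm

theorem v_mem_of_z_mem (L : Loc t z v τ T) (M : Subgroup G) [hM : M.Normal] (hz : z ∈ M) :
    v ∈ M := by
  obtain ⟨c, -, hc⟩ := L.v_conj
  rw [hc]
  exact hM.conj_mem z hz c

theorem zv_mem_of_z_mem (L : Loc t z v τ T) (M : Subgroup G) [hM : M.Normal] (hz : z ∈ M) :
    z * v ∈ M := M.mul_mem hz (v_mem_of_z_mem L M hz)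

end loc

end Cfsg.Agent.Helper23.ZS4.H6

namespace Cfsg.Agent.Helper23.ZS4.H6

variable {G : Type*} [Group G] {t z v τ : G} {T : Subgroup G}

/-- `T ∩ M` has order 8 when `M` is normal of index 2 and `t ∉ M`. -/
theorem card_inf_M (L : Loc t z v τ T) (M : Subgroup G) [M.Normal] (hM2 : M.index = 2)
    (htM : t ∉ M) : Nat.card ↥(T ⊓ M) = 8 := by
  have hrel : M.relIndex T = 2 := by
    have hd : M.relIndex T ∣ 2 := hM2 ▸ Subgroup.relIndex_dvd_index_of_normal M T
    rcases (Nat.dvd_prime Nat.prime_two).1 hd with h | h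
    · exact absurd (Subgroup.relIndex_eq_one.1 h L.tT) htM
    · exact h
  have h1 : Nat.card (M.subgroupOf T) = Nat.card ↥(T ⊓ M) := by
    rw [← Subgroup.inf_subgroupOf_left]
    exact Nat.card_congr (Subgroup.subgroupOfEquivOfLe inf_le_left).toEquiv
  have h2 := Subgroup.card_mul_index (M.subgroupOf T)
  rw [h1, L.card_T] at h2
  rw [Subgroup.relIndex] at hrel
  rw [hrel] at h2
  omega

/-- The four-group `{1, z, v, z * v}`. -/
def four (z v : G) (hz : z * z = 1) (hv : v * v = 1) (hzv : z * v = v * z) : Subgroup G where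
  carrier := {x | x = 1 ∨ x = z ∨ x = v ∨ x = z * v}
  one_mem' := Or.inl rfl
  mul_mem' := by
    intro a b ha hb
    have hz' : ∀ x, z * (z * x) = x := fun x => by rw [← mul_assoc, hz, one_mul]
    have hvz : v * z = z * v := hzv.symm
    have hvz' : ∀ x, v * (z * x) = z * (v * x) := fun x => by rw [← mul_assoc, hvz, mul_assoc]
    simp only [Set.mem_ofPred_eq] at ha hb ⊢
    rcases ha with ha | ha | ha | ha <;> rcases hb with hb | hb | hb | hb <;> rw [ha, hb] <;>
      simp only [mul_assoc, hz, hv, hz', hvz, hvz', mul_one, one_mul, true_or, or_true]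
  inv_mem' := by
    intro a ha
    have hzvzv : z * v * (z * v) = 1 := by
      calc z * v * (z * v) = z * (v * z) * v := by group
        _ = z * (z * v) * v := by rw [hzv]
        _ = (z * z) * (v * v) := by group
        _ = 1 := by rw [hz, hv, one_mul]
    simp only [Set.mem_ofPred_eq] at ha ⊢
    rcases ha with ha | ha | ha | ha
    · left; rw [ha, inv_one]
    · right; left; rw [ha]; exact inv_eq_of_mul_eq_one_right hz
    · right; right; left; rw [ha]; exact inv_eq_of_mul_eq_one_right hv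
    · right; right; right; rw [ha]; exact inv_eq_of_mul_eq_one_right hzvzv

theorem mem_four {z v : G} {hz : z * z = 1} {hv : v * v = 1} {hzv : z * v = v * z} {x : G} :
    x ∈ four z v hz hv hzv ↔ x = 1 ∨ x = z ∨ x = v ∨ x = z * v := Iff.rfl

theorem card_four {z v : G} (hz : z * z = 1) (hv : v * v = 1) (hzv : z * v = v * z)
    (hz1 : z ≠ 1) (hv1 : v ≠ 1) (hvz : v ≠ z) : Nat.card (four z v hz hv hzv) = 4 := by
  have h1 : Nat.card (four z v hz hv hzv) = ((four z v hz hv hzv : Subgroup G) : Set G).ncard :=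
    Nat.card_coe_set_eq _
  have h2 : ((four z v hz hv hzv : Subgroup G) : Set G) = {1, z, v, z * v} := by
    ext x
    simp only [SetLike.mem_coe, mem_four, Set.mem_insert_iff, Set.mem_singleton_iff]
  have hzv1 : z * v ≠ z * z := fun h => hvz (mul_left_cancel h)
  rw [hz] at hzv1
  have n1 : v ∉ ({z * v} : Set G) := by
    rw [Set.mem_singleton_iff]
    intro h
    apply hz1
    have : 1 * v = z * v := by rw [one_mul]; exact h
    exact (mul_right_cancel this).symm
  have n2 : z ∉ ({v, z * v} : Set G) := by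
    simp only [Set.mem_insert_iff, Set.mem_singleton_iff, not_or]
    refine ⟨fun h => hvz h.symm, fun h => hv1 ?_⟩
    have : z * 1 = z * v := by rw [mul_one]; exact h
    exact (mul_left_cancel this).symm
  have n3 : (1 : G) ∉ ({z, v, z * v} : Set G) := by
    simp only [Set.mem_insert_iff, Set.mem_singleton_iff, not_or]
    exact ⟨fun h => hz1 h.symm, fun h => hv1 h.symm, fun h => hzv1 h.symm⟩
  rw [h1, h2, Set.ncard_insert_of_notMem n3, Set.ncard_insert_of_notMem n2,
    Set.ncard_insert_of_notMem n1, Set.ncard_singleton]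

end Cfsg.Agent.Helper23.ZS4.H6
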