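import Mathlib
import Cfsg.Agent.Lib.Helper23.ZS4Defs
import Cfsg.Agent.Lib.Helper6.ZS4H6Basic
import Cfsg.Agent.Lib.Helper23.ZS4ODD
import Cfsg.Agent.Lib.Helper15.ZS4TWOCOMP

/-!
# S3222, PIECE NS: a normal subgroup not containing `z` is trivial
-/

set_option autoImplicit false

namespace Cfsg.Agent.Helper23.ZS4

variable {G : Type*} [Group G]

namespace NS

/-- Elements of `N ∩ T`. -/
theorem mem_inf {t z v τ : G} {T : Subgroup G} (L : Loc t z v τ T) (N : Subgroup G)
    [hN : N.Normal] (hzN : z ∉ N) (a : G) (haN : a ∈ N) (haT : a ∈ T) :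
    a = 1 ∨ a = t ∨ a = t * z := by
  have hc : ∀ b ∈ T, a * b = b * a := by
    intro b hb
    have hmem : a * b * a⁻¹ * b⁻¹ ∈ N := by
      have : a * (b * a⁻¹ * b⁻¹) ∈ N := N.mul_mem haN (hN.conj_mem _ (N.inv_mem haN) b)
      simpa [mul_assoc] using this
    rcases L.comm_T a haT b hb with h | h
    · calc a * b = (a * b * a⁻¹ * b⁻¹) * (b * a) := by group
        _ = b * a := by rw [h, one_mul]
    · rw [h] at hmem; exact absurd hmem hzN
  rcases L.center_T a haT hc with h | h | h | h
  · exact Or.inl h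
  · exact Or.inr (Or.inl h)
  · rw [h] at haN; exact absurd haN hzN
  · exact Or.inr (Or.inr h)

omit [Group G] in
theorem ncard_triple_le (a b c : G) : ({a, b, c} : Set G).ncard ≤ 3 := by
  calc ({a, b, c} : Set G).ncard ≤ ({b, c} : Set G).ncard + 1 := Set.ncard_insert_le _ _
    _ ≤ (({c} : Set G).ncard + 1) + 1 := Nat.add_le_add_right (Set.ncard_insert_le _ _) 1
    _ = 3 := by rw [Set.ncard_singleton]

/-- Sylow 2-subgroups of `N` have order at most 2. -/
theorem card_le_two [Finite G] {t z v τ : G} (T : Sylow 2 G) (L : Loc t z v τ (T : Subgroup G))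
    (N : Subgroup G) [hN : N.Normal] (hzN : z ∉ N) (P : Sylow 2 ↥N) : Nat.card P ≤ 2 := by
  classical
  set Q : Subgroup G := (P : Subgroup ↥N).map N.subtype with hQ
  have hQp : IsPGroup 2 Q := P.isPGroup'.map N.subtype
  obtain ⟨S, hS⟩ := hQp.exists_le_sylow
  obtain ⟨g, hg⟩ := MulAction.exists_smul_eq G S T
  have hsub : ∀ q ∈ Q, g * q * g⁻¹ ∈ (T : Subgroup G) ∧ g * q * g⁻¹ ∈ N := by
    intro q hq
    refine ⟨?_, ?_⟩
    · rw [← hg, Sylow.coe_subgroup_smul, Subgroup.mem_smul_pointwise_iff_exists]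
      exact ⟨q, hS hq, by rw [MulAut.smul_def, MulAut.conj_apply]⟩
    · obtain ⟨p, -, rfl⟩ := hq
      exact hN.conj_mem _ p.2 g
  have hcard3 : Nat.card P ≤ 3 := by
    have h1 : Nat.card Q = Nat.card P := Subgroup.card_map_of_injective N.subtype_injective
    rw [← h1]
    have h2 : Nat.card Q = (Q : Set G).ncard := Nat.card_coe_set_eq (Q : Set G)
    rw [h2]
    have hinj : Function.Injective (fun q : G => g * q * g⁻¹) := by
      intro a b hab
      simpa using hab
    rw [← Set.ncard_image_of_injective _ hinj]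
    refine (Set.ncard_le_ncard ?_ (Set.toFinite ({1, t, t * z} : Set G))).trans
      (ncard_triple_le _ _ _)
    rintro _ ⟨q, hq, rfl⟩
    obtain ⟨h1, h2⟩ := hsub q hq
    rcases mem_inf L N hzN _ h2 h1 with h | h | h
    · simp [h]
    · simp only [h, Set.mem_insert_iff, Set.mem_singleton_iff, true_or, or_true]
    · simp only [h, Set.mem_insert_iff, Set.mem_singleton_iff, or_true]
  obtain ⟨k, hk⟩ := P.isPGroup'.exists_card_eq
  have hk' : Nat.card P = 2 ^ k := hk
  rw [hk'] at hcard3 ⊢
  have : k < 2 := by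
    by_contra hk2
    have : 2 ^ 2 ≤ 2 ^ k := Nat.pow_le_pow_right (by norm_num) (by omega)
    omega
  interval_cases k <;> norm_num

end NS

/-- PIECE NS. -/
theorem normal_eq_bot [Finite G] {t z v τ : G} (T : Sylow 2 G) (L : Loc t z v τ (T : Subgroup G))
    (hC : Subgroup.centralizer ({t} : Set G) ≠ ⊤) (N : Subgroup G) [N.Normal] (hzN : z ∉ N) :
    N = ⊥ := by
  classical
  have hN : N.Normal := inferInstance
  have hP : ∀ P : Sylow 2 ↥N, Nat.card P ≤ 2 := NS.card_le_two T L N hzN
  obtain ⟨K, hKc, hKodd, hKi⟩ := exists_char_odd ↥N hP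
  have := hKc
  set K' : Subgroup G := K.map N.subtype with hK'
  have hK'n : K'.Normal := ConjAct.normal_of_characteristic_of_normal
  have hK'bot : K' = ⊥ := by
    apply odd_eq_bot L ⊤ K' (Subgroup.mem_top _) (Subgroup.mem_top _) le_top
    · intro m _ k hk; exact hK'n.conj_mem k hk m
    · rw [hK', Subgroup.card_map_of_injective N.subtype_injective]; exact hKodd
  have hKbot : K = ⊥ := by
    rw [hK'] at hK'bot
    exact (Subgroup.map_eq_bot_iff_of_injective K N.subtype_injective).1 hK'bot
  have hNcard : Nat.card N ≤ 2 := by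
    rw [hKbot, Subgroup.index_bot] at hKi; exact hKi
  by_contra hne
  have hN2 : Nat.card N = 2 := by
    have : 1 < Nat.card N := (Subgroup.one_lt_card_iff_ne_bot N).2 hne
    omega
  obtain ⟨n, hnN, hn1⟩ : ∃ n ∈ N, n ≠ 1 := by
    obtain ⟨a, ha⟩ := (Subgroup.ne_bot_iff_exists_ne_one).1 hne
    exact ⟨a, a.2, fun h => ha (Subtype.ext h)⟩
  obtain ⟨y, -, hyu⟩ := (Nat.card_eq_two_iff' (1 : N)).1 hN2
  have h2 : ∀ x ∈ N, x ≠ 1 → x = n := by
    intro x hx hx1
    have e1 : (⟨x, hx⟩ : N) = y := hyu _ (fun h => hx1 (congrArg Subtype.val h))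
    have e2 : (⟨n, hnN⟩ : N) = y := hyu _ (fun h => hn1 (congrArg Subtype.val h))
    exact congrArg Subtype.val (e1.trans e2.symm)
  have hcentral : ∀ g : G, g * n = n * g := by
    intro g
    have h3 : g * n * g⁻¹ = n := by
      apply h2 _ (hN.conj_mem n hnN g)
      intro h
      apply hn1
      have : n = g⁻¹ * (g * n * g⁻¹) * g := by group
      rw [this, h]; group
    calc g * n = (g * n * g⁻¹) * g := by group
      _ = n * g := by rw [h3]
  have hnT : n ∈ (T : Subgroup G) := by
    rw [← L.cent_z, H6.mem_cent]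
    exact (hcentral z).symm
  rcases NS.mem_inf L N hzN n hnN hnT with h | h | h
  · exact hn1 h
  · apply hC
    rw [eq_top_iff]
    intro g _
    rw [H6.mem_cent, ← h]
    exact hcentral g
  · have hle : Subgroup.centralizer ({t} : Set G) ≤ (T : Subgroup G) := by
      intro c hc
      rw [← L.cent_z, H6.mem_cent]
      rw [H6.mem_cent] at hc
      have h1 := hcentral c
      rw [h] at h1
      -- c * (t * z) = t * z * c, c * t = t * c
      have h3 : t * (c * z) = t * (z * c) := by
        calc t * (c * z) = (c * t) * z := by rw [hc]; group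
          _ = c * (t * z) := by group
          _ = t * z * c := h1
          _ = t * (z * c) := by group
      exact mul_left_cancel h3
    have := Subgroup.card_le_of_le hle
    rw [L.card_C, L.card_T] at this
    omega

end Cfsg.Agent.Helper23.ZS4
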