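import Mathlib
import Cfsg.Agent.Lib.Helper2.RepWeights

/-!
# S2334 piece TWIST (helper6): operators twisting the action of an abelian group by pairwise distinct
functions are at most `finrank` many
-/

set_option autoImplicit false

namespace Cfsg.Agent.Helper18.LS

open Cfsg.Agent.Helper2

theorem twist_bound {B W : Type*} [AddCommGroup B] [Fintype B] [AddCommGroup W] [Module ℂ W]
    [FiniteDimensional ℂ W] [Nontrivial W] (T : B → W →ₗ[ℂ] W) (hT0 : T 0 = 1)
    (hTadd : ∀ a b, T (a + b) = T a * T b) {ι : Type*} [Fintype ι]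
    (D : ι → W →ₗ[ℂ] W) (hD : ∀ i, Function.Injective (D i)) (c : ι → B → ℂ)
    (hc : ∀ i b v, T b (D i v) = c i b • D i (T b v))
    (hne : ∀ i j, i ≠ j → ∃ b, c i b ≠ c j b) :
    Fintype.card ι ≤ Module.finrank ℂ W := by
  classical
  -- a nonzero weight vector
  obtain ⟨v₀, hv₀⟩ := exists_ne (0 : W)
  obtain ⟨μ, v, hv, hv0⟩ : ∃ (μ : AddChar B ℂ) (v : W), v ∈ RepWt.wt T μ ∧ v ≠ 0 := by
    by_contra hcon
    push Not at hcon
    apply hv₀
    rw [← RepWt.sum_proj T hT0 v₀]
    apply Finset.sum_eq_zero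
    intro ψ _
    by_contra h
    exact h (hcon ψ _ (RepWt.proj_mem T hTadd ψ v₀))
  have hμ0 : ∀ b, μ b ≠ 0 := by
    intro b h
    have h1 : μ b * μ (-b) = 1 := by
      rw [← AddChar.map_add_eq_mul, add_neg_cancel, AddChar.map_zero_eq_one]
    rw [h, zero_mul] at h1
    exact zero_ne_one h1
  have hw0 : ∀ i, D i v ≠ 0 := by
    intro i h
    apply hv0
    apply hD i
    rw [h, map_zero]
  have hTw : ∀ i b, T b (D i v) = (c i b * μ b) • D i v := by
    intro i b
    rw [hc, hv b, map_smul, smul_smul]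
  have hf0 : ∀ i, c i 0 * μ 0 = 1 := by
    intro i
    have h1 := hTw i 0
    rw [hT0, Module.End.one_apply] at h1
    have h2 : (1 : ℂ) • D i v = (c i 0 * μ 0) • D i v := by rw [one_smul]; exact h1
    exact (smul_left_injective ℂ (hw0 i) h2).symm
  have hfadd : ∀ i b b', c i (b + b') * μ (b + b') = (c i b * μ b) * (c i b' * μ b') := by
    intro i b b'
    have h1 := hTw i (b + b')
    rw [hTadd, Module.End.mul_apply, hTw i b', map_smul, hTw i b, smul_smul] at h1
    have h2 := smul_left_injective ℂ (hw0 i) h1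
    rw [← h2]
    ring
  let ν : ι → AddChar B ℂ := fun i =>
    { toFun := fun b => c i b * μ b
      map_zero_eq_one' := hf0 i
      map_add_eq_mul' := hfadd i }
  have hν : ∀ i b, ν i b = c i b * μ b := fun i b => rfl
  have hνinj : Function.Injective ν := by
    intro i j hij
    by_contra h
    obtain ⟨b, hb⟩ := hne i j h
    apply hb
    have h1 : ν i b = ν j b := by rw [hij]
    rw [hν, hν] at h1
    exact mul_right_cancel₀ (hμ0 b) h1
  have hmem : ∀ i, D i v ∈ RepWt.wt T (ν i) := by
    intro i b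
    rw [hTw, hν]
  have hpos : ∀ i, 1 ≤ Module.finrank ℂ (RepWt.wt T (ν i)) := by
    intro i
    rw [Nat.one_le_iff_ne_zero]
    intro h0
    have hbot : RepWt.wt T (ν i) = ⊥ := Submodule.finrank_eq_zero.mp h0
    have h1 := hmem i
    rw [hbot, Submodule.mem_bot] at h1
    exact hw0 i h1
  calc Fintype.card ι = (Finset.univ.image ν).card := by
        rw [Finset.card_image_of_injective _ hνinj, Finset.card_univ]
    _ = ∑ _ψ ∈ Finset.univ.image ν, 1 := by simp
    _ ≤ ∑ ψ ∈ Finset.univ.image ν, Module.finrank ℂ (RepWt.wt T ψ) := by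
        apply Finset.sum_le_sum
        intro ψ hψ
        obtain ⟨i, -, rfl⟩ := Finset.mem_image.1 hψ
        exact hpos i
    _ ≤ Module.finrank ℂ W := RepWt.sum_finrank_le T hT0 hTadd _

end Cfsg.Agent.Helper18.LS
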