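import Mathlib
import Cfsg.Agent.Lib.Helper18.LSMain

/-!
# S2334 piece ORB2 (helper6): the orbit of a nonzero hermitian matrix under `T ↦ a^* T a`, `det a ≠ 0`,
has at least `(q^(2m) - 1)/(q + 1)` elements, for all `m ≥ 1`
-/

set_option autoImplicit false

namespace Cfsg.Agent.Helper18.LS

open Matrix Cfsg.Agent.Helper13.SuBN Cfsg.Agent.Helper11 Cfsg.Agent.Helper11.Herm

variable {F : Type*} [Field F] [Fintype F] {q : ℕ}

theorem herm_orbit_gl [DecidableEq F] (hF : Fintype.card F = q ^ 2) (φ : F →+* F)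
    (hφ : ∀ x, φ x = x ^ q) (m : ℕ) (hm : 1 ≤ m) (T₀ : Matrix (Fin m) (Fin m) F)
    (hT : ct φ T₀ = T₀) (h0 : T₀ ≠ 0) :
    ∃ t : Finset (Matrix (Fin m) (Fin m) F), (q ^ (2 * m) - 1) / (q + 1) ≤ t.card ∧
      ∀ T' ∈ t, ∃ a : Matrix (Fin m) (Fin m) F, a.det ≠ 0 ∧ T' = ct φ a * T₀ * a := by
  by_cases h2 : 2 ≤ m
  · obtain ⟨t, ht, ht'⟩ := herm_orbit hF φ hφ m h2 T₀ hT h0
    refine ⟨t, ht, fun T' hT' => ?_⟩
    obtain ⟨a, ha, rfl⟩ := ht' T' hT'
    exact ⟨a, by rw [ha]; exact one_ne_zero, rfl⟩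
  · obtain rfl : m = 1 := by omega
    have hq1 : 1 ≤ q := by
      rcases Nat.eq_zero_or_pos q with h | h
      · subst h
        have : Fintype.card F = 0 := by rw [hF]; norm_num
        exact absurd this Fintype.card_ne_zero
      · exact h
    have hdiv : (q ^ (2 * 1) - 1) / (q + 1) = q - 1 := by
      apply Nat.div_eq_of_eq_mul_left (by omega)
      obtain ⟨r, rfl⟩ : ∃ r, q = r + 1 := ⟨q - 1, by omega⟩
      simp only [Nat.add_sub_cancel]
      have : (r + 1) ^ (2 * 1) = r * (r + 1 + 1) + 1 := by ring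
      rw [this, Nat.add_sub_cancel]
    let s : Finset F := Finset.univ.filter (fun κ : F => κ ≠ 0 ∧ κ ^ q = κ)
    have hs : s.card = q - 1 := by
      have h1 := card_fixed_ne_zero (F := F) hF
      rw [Nat.card_eq_fintype_card, Fintype.card_subtype] at h1
      exact h1
    have hinj : Function.Injective (fun κ : F => κ • T₀) := by
      intro κ κ' h
      have h1 : (κ - κ') • T₀ = 0 := by
        rw [sub_smul]
        exact sub_eq_zero.2 h
      rcases smul_eq_zero.1 h1 with h3 | h3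
      · exact sub_eq_zero.1 h3
      · exact absurd h3 h0
    refine ⟨s.image (fun κ : F => κ • T₀), ?_, ?_⟩
    · rw [hdiv, Finset.card_image_of_injective _ hinj, hs]
    · intro T' hT'
      obtain ⟨κ, hκ, rfl⟩ := Finset.mem_image.1 hT'
      obtain ⟨hκ0, hκq⟩ := (Finset.mem_filter.1 hκ).2
      obtain ⟨l, hl0, hl⟩ := frob_norm_surj hF φ hφ κ hκ0 (by rw [hφ]; exact hκq)
      refine ⟨l • (1 : Matrix (Fin 1) (Fin 1) F), ?_, ?_⟩
      · rw [Matrix.det_smul, Matrix.det_one, mul_one, Fintype.card_fin, pow_one]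
        exact hl0
      · rw [ct_smul, ct_one, smul_mul_assoc, Matrix.one_mul, Matrix.mul_smul, Matrix.mul_one,
          smul_smul, ← hl]

end Cfsg.Agent.Helper18.LS
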