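import Mathlib
import Cfsg.Agent.Lib.Helper2.SympGen

/-!
Definitions for the smallest degree of a nonlinear representation of `Sp_{2n}(q)`, `q` odd:
the abelian unipotent radical `xL S` (`S` symmetric) and the Levi elements `dG h` of the Siegel parabolic
of Mathlib's symplectic group, and the Weyl (Heisenberg) operators `hw ψ v` on the functions on `F^n`.
-/

set_option autoImplicit false

namespace Cfsg.Agent.Helper6.Weil

open Matrix

variable {n : ℕ} {F : Type*} [Field F]

/-- the additive group of symmetric matrices -/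
def symmAdd (n : ℕ) (F : Type*) [Field F] : AddSubgroup (Matrix (Fin n) (Fin n) F) where
  carrier := {S | Sᵀ = S}
  add_mem' := by
    intro S T hS hT
    show (S + T)ᵀ = S + T
    rw [Matrix.transpose_add, hS, hT]
  zero_mem' := Matrix.transpose_zero
  neg_mem' := by
    intro S hS
    show (-S)ᵀ = -S
    rw [Matrix.transpose_neg, hS]

theorem mem_symmAdd {S : Matrix (Fin n) (Fin n) F} : S ∈ symmAdd n F ↔ Sᵀ = S := Iff.rfl

/-- the element `[1 0; S 1]` of the symplectic group, for `S` symmetric -/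
def xL (S : symmAdd n F) : Matrix.symplecticGroup (Fin n) F :=
  ⟨Matrix.fromBlocks 1 0 (S : Matrix (Fin n) (Fin n) F) 1, by
    rw [SymplecticGroup.fromBlocks_mem_iff]
    refine ⟨?_, ?_, ?_⟩
    · rw [Matrix.transpose_one, Matrix.one_mul, Matrix.mul_one]
      exact S.2.symm
    · rw [Matrix.transpose_zero, Matrix.zero_mul, Matrix.mul_zero]
    · rw [Matrix.transpose_one, Matrix.one_mul, Matrix.mul_zero, sub_zero]⟩

theorem xL_coe (S : symmAdd n F) :
    ((xL S : Matrix.symplecticGroup (Fin n) F) : Matrix (Fin n ⊕ Fin n) (Fin n ⊕ Fin n) F) =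
      Matrix.fromBlocks 1 0 (S : Matrix (Fin n) (Fin n) F) 1 := rfl

/-- the element `[h 0; 0 h⁻ᵀ]` of the symplectic group, for `h` invertible -/
def dG (h : GL (Fin n) F) : Matrix.symplecticGroup (Fin n) F :=
  ⟨Matrix.fromBlocks (h : Matrix (Fin n) (Fin n) F) 0 0
      ((h⁻¹ : GL (Fin n) F) : Matrix (Fin n) (Fin n) F)ᵀ, by
    rw [SymplecticGroup.fromBlocks_mem_iff]
    refine ⟨?_, ?_, ?_⟩
    · rw [Matrix.transpose_zero, Matrix.zero_mul, Matrix.mul_zero]
    · rw [Matrix.transpose_zero, Matrix.zero_mul, Matrix.mul_zero]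
    · rw [Matrix.transpose_zero, Matrix.zero_mul, sub_zero, ← Matrix.transpose_mul,
        ← Units.val_mul, inv_mul_cancel, Units.val_one, Matrix.transpose_one]⟩

theorem dG_coe (h : GL (Fin n) F) :
    ((dG h : Matrix.symplecticGroup (Fin n) F) : Matrix (Fin n ⊕ Fin n) (Fin n ⊕ Fin n) F) =
      Matrix.fromBlocks (h : Matrix (Fin n) (Fin n) F) 0 0
        ((h⁻¹ : GL (Fin n) F) : Matrix (Fin n) (Fin n) F)ᵀ := rfl

/-- the conjugation action of the Levi elements on the symmetric matrices -/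
def cjS (h : GL (Fin n) F) (S : symmAdd n F) : symmAdd n F :=
  ⟨((h⁻¹ : GL (Fin n) F) : Matrix (Fin n) (Fin n) F)ᵀ * (S : Matrix (Fin n) (Fin n) F) *
      ((h⁻¹ : GL (Fin n) F) : Matrix (Fin n) (Fin n) F), by
    show (((h⁻¹ : GL (Fin n) F) : Matrix (Fin n) (Fin n) F)ᵀ * (S : Matrix (Fin n) (Fin n) F) *
      ((h⁻¹ : GL (Fin n) F) : Matrix (Fin n) (Fin n) F))ᵀ = _
    rw [Matrix.transpose_mul, Matrix.transpose_mul, Matrix.transpose_transpose, S.2,
      Matrix.mul_assoc]⟩

theorem cjS_coe (h : GL (Fin n) F) (S : symmAdd n F) :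
    ((cjS h S : symmAdd n F) : Matrix (Fin n) (Fin n) F) =
      ((h⁻¹ : GL (Fin n) F) : Matrix (Fin n) (Fin n) F)ᵀ * (S : Matrix (Fin n) (Fin n) F) *
        ((h⁻¹ : GL (Fin n) F) : Matrix (Fin n) (Fin n) F) := rfl

/-- the character `S ↦ ψ (tr (T S))` of the group of symmetric matrices -/
noncomputable def symmChar (ψ : AddChar F ℂ) (T : Matrix (Fin n) (Fin n) F) :
    AddChar (symmAdd n F) ℂ :=
  ψ.compAddMonoidHom ((Matrix.traceAddMonoidHom (Fin n) F).comp
    ((AddMonoidHom.mulLeft T).comp (symmAdd n F).subtype))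

theorem symmChar_apply (ψ : AddChar F ℂ) (T : Matrix (Fin n) (Fin n) F) (S : symmAdd n F) :
    symmChar ψ T S = ψ (Matrix.trace (T * (S : Matrix (Fin n) (Fin n) F))) := rfl

/-! ### The Weyl operators -/

/-- the first half of a vector -/
def vA (v : Fin n ⊕ Fin n → F) : Fin n → F := fun i => v (Sum.inl i)

/-- the second half of a vector -/
def vB (v : Fin n ⊕ Fin n → F) : Fin n → F := fun i => v (Sum.inr i)

/-- the Weyl operator of the vector `v = (a, b)` on the functions on `F^n`: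
`(hw ψ v f) x = ψ (-(b ⬝ x) - (a ⬝ b) / 2) * f (x + a)` -/
noncomputable def hw (ψ : AddChar F ℂ) (v : Fin n ⊕ Fin n → F) :
    ((Fin n → F) → ℂ) →ₗ[ℂ] ((Fin n → F) → ℂ) where
  toFun f := fun x => ψ (-(vB v ⬝ᵥ x) - (vA v ⬝ᵥ vB v) / 2) * f (x + vA v)
  map_add' := by
    intro f g
    funext x
    simp only [Pi.add_apply, mul_add]
  map_smul' := by
    intro c f
    funext x
    simp only [Pi.smul_apply, smul_eq_mul, RingHom.id_apply]
    ring

theorem hw_apply (ψ : AddChar F ℂ) (v : Fin n ⊕ Fin n → F) (f : (Fin n → F) → ℂ)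
    (x : Fin n → F) :
    hw ψ v f x = ψ (-(vB v ⬝ᵥ x) - (vA v ⬝ᵥ vB v) / 2) * f (x + vA v) := rfl

/-- the parity operator -/
def par (n : ℕ) (F : Type*) [Field F] : ((Fin n → F) → ℂ) →ₗ[ℂ] ((Fin n → F) → ℂ) where
  toFun f := fun x => f (-x)
  map_add' := by
    intro f g
    rfl
  map_smul' := by
    intro c f
    rfl

theorem par_apply (f : (Fin n → F) → ℂ) (x : Fin n → F) : par n F f x = f (-x) := rfl

/-- the odd functions -/
def oddSub (n : ℕ) (F : Type*) [Field F] : Submodule ℂ ((Fin n → F) → ℂ) where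
  carrier := {f | ∀ x, f (-x) = - f x}
  add_mem' := by
    intro f g hf hg x
    rw [Pi.add_apply, Pi.add_apply, hf x, hg x, neg_add]
  zero_mem' := by
    intro x
    simp
  smul_mem' := by
    intro c f hf x
    rw [Pi.smul_apply, Pi.smul_apply, hf x, smul_neg]

theorem mem_oddSub {f : (Fin n → F) → ℂ} : f ∈ oddSub n F ↔ ∀ x, f (-x) = - f x := Iff.rfl

end Cfsg.Agent.Helper6.Weil
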