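import Mathlib
import Cfsg.Agent.Lib.Helper18.LS3Defs

/-!
# S2333, piece ORBC2 (helper6 for helper18)

If every singular vector of the quadratic form `qf M` (characteristic 2, finite field) lies in the radical of the
polar form, then the number of pairs `(x, y)` with `qf x = qf u₀`, `qf y = qf v₀`, `pol x y = pol u₀ v₀ ≠ 0` is at
most `2 (q + 1) q^(2 (n - 2))`.
-/

set_option autoImplicit false

namespace Cfsg.Agent.Helper18.LS3

open Matrix

namespace ORBC2

variable {n : ℕ} {F : Type*} [Field F]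

theorem qf_lin2 (M : Matrix (Fin n) (Fin n) F) (a b : F) (u v : Fin n → F) :
    qf M (a • u + b • v) = a ^ 2 * qf M u + b ^ 2 * qf M v + a * b * pol M u v := by
  rw [qf_add, qf_smul, qf_smul, pol_smul_left, pol_smul_right]
  ring

section char2

variable [CharP F 2]

theorem c2_sq_inj {a b : F} (h : a ^ 2 = b ^ 2) : a = b := by
  have h1 : (a + b) ^ 2 = 0 := by
    rw [CharTwo.add_sq, h]
    exact CharTwo.add_self_eq_zero _
  have h2 : a + b = 0 := (pow_eq_zero_iff two_ne_zero).1 h1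
  exact CharTwo.add_eq_zero.1 h2

theorem c2_vadd_self (x : Fin n → F) : x + x = 0 := by
  funext i
  exact CharTwo.add_self_eq_zero (x i)

/-- the points of an anisotropic conic are determined by their line through the origin -/
theorem conic_inj {α β γ a b a' b' : F} (hα : α ≠ 0)
    (h1 : a ^ 2 * α + b ^ 2 * β + a * b * γ = α) (h2 : a' ^ 2 * α + b' ^ 2 * β + a' * b' * γ = α)
    (hb : b = 0 ↔ b' = 0) (hr : b ≠ 0 → a / b = a' / b') : a = a' ∧ b = b' := by
  by_cases hb0 : b = 0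
  · have hb0' : b' = 0 := hb.1 hb0
    refine ⟨?_, by rw [hb0, hb0']⟩
    rw [hb0] at h1
    rw [hb0'] at h2
    have e1 : a ^ 2 = 1 := by
      have : a ^ 2 * α = 1 * α := by linear_combination h1
      exact mul_right_cancel₀ hα this
    have e2 : a' ^ 2 = 1 := by
      have : a' ^ 2 * α = 1 * α := by linear_combination h2
      exact mul_right_cancel₀ hα this
    exact c2_sq_inj (e1.trans e2.symm)
  · have hb0' : b' ≠ 0 := fun h => hb0 (hb.2 h)
    have hr' := hr hb0
    obtain ⟨r, ea, ea'⟩ : ∃ r : F, a = r * b ∧ a' = r * b' := by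
      refine ⟨a / b, by field_simp, ?_⟩
      rw [hr']
      field_simp
    rw [ea] at h1
    rw [ea'] at h2
    have k1 : b ^ 2 * (r ^ 2 * α + β + r * γ) = α := by linear_combination h1
    have k2 : b' ^ 2 * (r ^ 2 * α + β + r * γ) = α := by linear_combination h2
    have hK : r ^ 2 * α + β + r * γ ≠ 0 := by
      intro hK
      rw [hK, mul_zero] at k1
      exact hα k1.symm
    have hbb : b ^ 2 = b' ^ 2 := mul_right_cancel₀ hK (k1.trans k2.symm)
    have hbe : b = b' := c2_sq_inj hbb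
    refine ⟨?_, hbe⟩
    rw [ea, ea', hbe]

/-- two points of the line `a d + b c = 1` differ by a multiple of `(a, b)` -/
theorem line_param {a b c d c' d' : F} (hab : ¬ (a = 0 ∧ b = 0)) (h1 : a * d + b * c = 1)
    (h2 : a * d' + b * c' = 1) : ∃ t, c' = c + t * a ∧ d' = d + t * b := by
  have h2F : (2 : F) = 0 := CharTwo.two_eq_zero
  by_cases ha : a = 0
  · have hb : b ≠ 0 := fun hb => hab ⟨ha, hb⟩
    rw [ha, zero_mul, zero_add] at h1 h2
    have hc : c' = c := by
      have : b * c' = b * c := h2.trans h1.symm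
      exact mul_left_cancel₀ hb this
    refine ⟨(d + d') / b, ?_, ?_⟩
    · rw [ha, mul_zero, add_zero, hc]
    · rw [div_mul_cancel₀ _ hb]
      linear_combination (-d) * h2F
  · refine ⟨(c + c') / a, ?_, ?_⟩
    · rw [div_mul_cancel₀ _ ha]
      linear_combination (-c) * h2F
    · have e : a * (d + d') = b * (c + c') := by
        linear_combination h1 + h2 - (b * c + b * c' - 1) * h2F
      have e2 : d + d' = (c + c') / a * b := by
        field_simp
        linear_combination e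
      linear_combination e2 - d * h2F

theorem two_roots {α β γ a b c d t : F} (hα : α ≠ 0)
    (hx : a ^ 2 * α + b ^ 2 * β + a * b * γ = α) (h1 : a * d + b * c = 1)
    (hy : c ^ 2 * α + d ^ 2 * β + c * d * γ = β)
    (hy' : (c + t * a) ^ 2 * α + (d + t * b) ^ 2 * β + (c + t * a) * (d + t * b) * γ = β) :
    t = 0 ∨ t = γ / α := by
  have h2F : (2 : F) = 0 := CharTwo.two_eq_zero
  have e : t * (t * α + γ) = 0 := by
    linear_combination hy' - hy - t ^ 2 * hx - t * γ * h1 - (c * t * a * α + d * t * b * β) * h2F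
  rcases mul_eq_zero.1 e with h | h
  · exact Or.inl h
  · right
    rw [eq_div_iff hα]
    linear_combination h - γ * h2F

end char2

/-! ### coordinates with respect to the plane spanned by `u₀, v₀` -/

/-- first coordinate of the component in the plane -/
noncomputable def cA (M : Matrix (Fin n) (Fin n) F) (u₀ v₀ x : Fin n → F) : F :=
  pol M x v₀ / pol M u₀ v₀

/-- second coordinate of the component in the plane -/
noncomputable def cB (M : Matrix (Fin n) (Fin n) F) (u₀ v₀ x : Fin n → F) : F :=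
  pol M x u₀ / pol M u₀ v₀

/-- the component in the plane -/
noncomputable def cP (M : Matrix (Fin n) (Fin n) F) (u₀ v₀ x : Fin n → F) : Fin n → F :=
  cA M u₀ v₀ x • u₀ + cB M u₀ v₀ x • v₀

/-- the component in the orthogonal complement of the plane (characteristic 2) -/
noncomputable def cW (M : Matrix (Fin n) (Fin n) F) (u₀ v₀ x : Fin n → F) : Fin n → F :=
  x + cP M u₀ v₀ x

section geom

variable [CharP F 2] {M : Matrix (Fin n) (Fin n) F} {u₀ v₀ : Fin n → F}

theorem cP_add_cW (M : Matrix (Fin n) (Fin n) F) (u₀ v₀ x : Fin n → F) :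
    cP M u₀ v₀ x + cW M u₀ v₀ x = x := by
  unfold cW
  rw [add_left_comm, c2_vadd_self, add_zero]

theorem pol_u_eq (hγ : pol M u₀ v₀ ≠ 0) (x : Fin n → F) :
    pol M x u₀ = cB M u₀ v₀ x * pol M u₀ v₀ := by
  unfold cB
  rw [div_mul_cancel₀ _ hγ]

theorem pol_v_eq (hγ : pol M u₀ v₀ ≠ 0) (x : Fin n → F) :
    pol M x v₀ = cA M u₀ v₀ x * pol M u₀ v₀ := by
  unfold cA
  rw [div_mul_cancel₀ _ hγ]

theorem cW_perp_u (hγ : pol M u₀ v₀ ≠ 0) (x : Fin n → F) : pol M (cW M u₀ v₀ x) u₀ = 0 := by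
  unfold cW cP
  rw [pol_add_left, pol_add_left, pol_smul_left, pol_smul_left, pol_self, mul_zero, zero_add,
    pol_comm M v₀ u₀, ← pol_u_eq hγ]
  exact CharTwo.add_self_eq_zero _

theorem cW_perp_v (hγ : pol M u₀ v₀ ≠ 0) (x : Fin n → F) : pol M (cW M u₀ v₀ x) v₀ = 0 := by
  unfold cW cP
  rw [pol_add_left, pol_add_left, pol_smul_left, pol_smul_left, pol_self, mul_zero, add_zero,
    ← pol_v_eq hγ]
  exact CharTwo.add_self_eq_zero _

variable [Fintype F]

theorem c2_exists_sq (c : F) : ∃ t : F, t ^ 2 = c := by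
  have h2 : ringChar F = 2 := ringChar.eq F 2
  obtain ⟨r, hr⟩ := FiniteField.isSquare_of_char_two h2 c
  exact ⟨r, by rw [hr, sq]⟩

theorem qf_u_ne (h : ∀ u, qf M u = 0 → ∀ v, pol M u v = 0) (hγ : pol M u₀ v₀ ≠ 0) :
    qf M u₀ ≠ 0 := fun h0 => hγ (h u₀ h0 v₀)

/-- the form vanishes on the orthogonal complement of the plane -/
theorem qf_perp (h : ∀ u, qf M u = 0 → ∀ v, pol M u v = 0) (hγ : pol M u₀ v₀ ≠ 0)
    (w : Fin n → F) (h1 : pol M w u₀ = 0) (h2 : pol M w v₀ = 0) : qf M w = 0 := by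
  by_contra hc
  have hα := qf_u_ne h hγ
  obtain ⟨t, ht⟩ := c2_exists_sq (qf M w / qf M u₀)
  have hq : qf M (w + t • u₀) = 0 := by
    rw [qf_add, qf_smul, pol_smul_right, h1, ht, div_mul_cancel₀ _ hα, mul_zero, add_zero]
    exact CharTwo.add_self_eq_zero _
  have hp := h _ hq v₀
  rw [pol_add_left, pol_smul_left, h2, zero_add] at hp
  have ht0 : t = 0 := by
    rcases mul_eq_zero.1 hp with h3 | h3
    · exact h3
    · exact absurd h3 hγ
  rw [ht0] at ht
  have h5 : qf M w / qf M u₀ = 0 := by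
    rw [← ht]
    ring
  rcases div_eq_zero_iff.1 h5 with h4 | h4
  · exact hc h4
  · exact hα h4

theorem pol_perp (h : ∀ u, qf M u = 0 → ∀ v, pol M u v = 0) (hγ : pol M u₀ v₀ ≠ 0)
    (w : Fin n → F) (h1 : pol M w u₀ = 0) (h2 : pol M w v₀ = 0) (z : Fin n → F) : pol M w z = 0 :=
  h w (qf_perp h hγ w h1 h2) z

theorem qf_coord (h : ∀ u, qf M u = 0 → ∀ v, pol M u v = 0) (hγ : pol M u₀ v₀ ≠ 0)
    (x : Fin n → F) :
    qf M x = cA M u₀ v₀ x ^ 2 * qf M u₀ + cB M u₀ v₀ x ^ 2 * qf M v₀ +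
      cA M u₀ v₀ x * cB M u₀ v₀ x * pol M u₀ v₀ := by
  have e := cP_add_cW M u₀ v₀ x
  have hw := qf_perp h hγ _ (cW_perp_u hγ x) (cW_perp_v hγ x)
  have hp : pol M (cP M u₀ v₀ x) (cW M u₀ v₀ x) = 0 := by
    rw [pol_comm]
    exact pol_perp h hγ _ (cW_perp_u hγ x) (cW_perp_v hγ x) _
  calc qf M x = qf M (cP M u₀ v₀ x + cW M u₀ v₀ x) := by rw [e]
    _ = qf M (cP M u₀ v₀ x) := by rw [qf_add, hw, hp, add_zero, add_zero]
    _ = _ := by
      unfold cP
      exact qf_lin2 M _ _ u₀ v₀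

theorem pol_coord (h : ∀ u, qf M u = 0 → ∀ v, pol M u v = 0) (hγ : pol M u₀ v₀ ≠ 0)
    (x y : Fin n → F) :
    pol M x y = (cA M u₀ v₀ x * cB M u₀ v₀ y + cB M u₀ v₀ x * cA M u₀ v₀ y) * pol M u₀ v₀ := by
  have e := cP_add_cW M u₀ v₀ y
  have hp : pol M x (cW M u₀ v₀ y) = 0 := by
    rw [pol_comm]
    exact pol_perp h hγ _ (cW_perp_u hγ y) (cW_perp_v hγ y) _
  calc pol M x y = pol M x (cP M u₀ v₀ y + cW M u₀ v₀ y) := by rw [e]
    _ = pol M x (cP M u₀ v₀ y) := by rw [pol_add_right, hp, add_zero]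
    _ = _ := by
      unfold cP
      rw [pol_add_right, pol_smul_right, pol_smul_right, pol_u_eq hγ x, pol_v_eq hγ x]
      ring

/-- the key rigidity statement -/
theorem good_key (h : ∀ u, qf M u = 0 → ∀ v, pol M u v = 0) (hγ : pol M u₀ v₀ ≠ 0)
    {x y x' y' : Fin n → F}
    (hx : qf M x = qf M u₀) (hy : qf M y = qf M v₀) (hxy : pol M x y = pol M u₀ v₀)
    (hx' : qf M x' = qf M u₀) (hy' : qf M y' = qf M v₀) (hxy' : pol M x' y' = pol M u₀ v₀)
    (hb : cB M u₀ v₀ x = 0 ↔ cB M u₀ v₀ x' = 0)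
    (hr : cB M u₀ v₀ x ≠ 0 → cA M u₀ v₀ x / cB M u₀ v₀ x = cA M u₀ v₀ x' / cB M u₀ v₀ x')
    (hW1 : cW M u₀ v₀ x = cW M u₀ v₀ x') (hW2 : cW M u₀ v₀ y = cW M u₀ v₀ y') :
    x' = x ∧ (y' = y ∨ y' = y + (pol M u₀ v₀ / qf M u₀) • cP M u₀ v₀ x) := by
  have hα := qf_u_ne h hγ
  have q1 := qf_coord h hγ x
  rw [hx] at q1
  have q1' := qf_coord h hγ x'
  rw [hx'] at q1'
  obtain ⟨ea, eb⟩ := conic_inj hα q1.symm q1'.symm hb hr
  have hPx : cP M u₀ v₀ x = cP M u₀ v₀ x' := by
    unfold cP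
    rw [ea, eb]
  have hxx : x' = x := by
    calc x' = cP M u₀ v₀ x' + cW M u₀ v₀ x' := (cP_add_cW M u₀ v₀ x').symm
      _ = cP M u₀ v₀ x + cW M u₀ v₀ x := by rw [hPx, hW1]
      _ = x := cP_add_cW M u₀ v₀ x
  refine ⟨hxx, ?_⟩
  subst hxx
  have p1 := pol_coord h hγ x' y
  rw [hxy] at p1
  have p2 := pol_coord h hγ x' y'
  rw [hxy'] at p2
  have l1 : cA M u₀ v₀ x' * cB M u₀ v₀ y + cB M u₀ v₀ x' * cA M u₀ v₀ y = 1 := by
    have : 1 * pol M u₀ v₀ =
        (cA M u₀ v₀ x' * cB M u₀ v₀ y + cB M u₀ v₀ x' * cA M u₀ v₀ y) * pol M u₀ v₀ := by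
      rw [one_mul]
      exact p1
    exact (mul_right_cancel₀ hγ this).symm
  have l2 : cA M u₀ v₀ x' * cB M u₀ v₀ y' + cB M u₀ v₀ x' * cA M u₀ v₀ y' = 1 := by
    have : 1 * pol M u₀ v₀ =
        (cA M u₀ v₀ x' * cB M u₀ v₀ y' + cB M u₀ v₀ x' * cA M u₀ v₀ y') * pol M u₀ v₀ := by
      rw [one_mul]
      exact p2
    exact (mul_right_cancel₀ hγ this).symm
  have hab : ¬ (cA M u₀ v₀ x' = 0 ∧ cB M u₀ v₀ x' = 0) := by
    rintro ⟨h1, h2⟩
    rw [h1, h2] at q1
    apply hα
    rw [q1]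
    ring
  obtain ⟨t, hc, hd⟩ := line_param hab l1 l2
  have qy := qf_coord h hγ y
  rw [hy] at qy
  have qy' := qf_coord h hγ y'
  rw [hy', hc, hd] at qy'
  have hyeq : y' = y + t • cP M u₀ v₀ x' := by
    calc y' = cP M u₀ v₀ y' + cW M u₀ v₀ y' := (cP_add_cW M u₀ v₀ y').symm
      _ = (cA M u₀ v₀ y' • u₀ + cB M u₀ v₀ y' • v₀) + cW M u₀ v₀ y := by rw [hW2]; rfl
      _ = ((cA M u₀ v₀ y + t * cA M u₀ v₀ x') • u₀ + (cB M u₀ v₀ y + t * cB M u₀ v₀ x') • v₀) +
            cW M u₀ v₀ y := by rw [hc, hd]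
      _ = (cP M u₀ v₀ y + cW M u₀ v₀ y) + t • cP M u₀ v₀ x' := by
          unfold cP
          module
      _ = y + t • cP M u₀ v₀ x' := by rw [cP_add_cW]
  rcases two_roots hα q1.symm l1 qy.symm qy'.symm with ht | ht
  · left
    rw [hyeq, ht, zero_smul, add_zero]
  · right
    rw [hyeq, ht]

/-- the orthogonal complement of the plane has at most `q^(n-2)` elements -/
theorem perp_card_le (hγ : pol M u₀ v₀ ≠ 0) :
    ({w | pol M w u₀ = 0 ∧ pol M w v₀ = 0} : Set (Fin n → F)).ncard ≤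
      Fintype.card F ^ (n - 2) := by
  classical
  set W : Set (Fin n → F) := {w | pol M w u₀ = 0 ∧ pol M w v₀ = 0} with hWdef
  have hq : 2 ≤ Fintype.card F := Fintype.one_lt_card
  let g : F × F × W → (Fin n → F) := fun p => p.1 • u₀ + p.2.1 • v₀ + (p.2.2 : Fin n → F)
  have hgv : ∀ p : F × F × W, pol M (g p) v₀ = p.1 * pol M u₀ v₀ := by
    intro p
    have h2 : pol M (p.2.2 : Fin n → F) v₀ = 0 := p.2.2.2.2
    show pol M (p.1 • u₀ + p.2.1 • v₀ + (p.2.2 : Fin n → F)) v₀ = _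
    rw [pol_add_left, pol_add_left, pol_smul_left, pol_smul_left, pol_self, h2, mul_zero, add_zero,
      add_zero]
  have hgu : ∀ p : F × F × W, pol M (g p) u₀ = p.2.1 * pol M u₀ v₀ := by
    intro p
    have h1 : pol M (p.2.2 : Fin n → F) u₀ = 0 := p.2.2.2.1
    show pol M (p.1 • u₀ + p.2.1 • v₀ + (p.2.2 : Fin n → F)) u₀ = _
    rw [pol_add_left, pol_add_left, pol_smul_left, pol_smul_left, pol_self, h1, mul_zero, zero_add,
      add_zero, pol_comm M v₀ u₀]
  have hginj : Function.Injective g := by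
    intro p p' hpp
    have e1 : p.1 = p'.1 := by
      have := hgv p
      rw [hpp, hgv p'] at this
      exact (mul_right_cancel₀ hγ this).symm
    have e2 : p.2.1 = p'.2.1 := by
      have := hgu p
      rw [hpp, hgu p'] at this
      exact (mul_right_cancel₀ hγ this).symm
    have e3 : (p.2.2 : Fin n → F) = (p'.2.2 : Fin n → F) := by
      have h3 : p.1 • u₀ + p.2.1 • v₀ + (p.2.2 : Fin n → F) =
          p'.1 • u₀ + p'.2.1 • v₀ + (p'.2.2 : Fin n → F) := hpp
      rw [e1, e2] at h3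
      exact add_left_cancel h3
    exact Prod.ext e1 (Prod.ext e2 (Subtype.ext e3))
  have hcard := Nat.card_le_card_of_injective g hginj
  rw [Nat.card_prod, Nat.card_prod, Nat.card_eq_fintype_card, _root_.Nat.card_coe_set_eq,
    Nat.card_eq_fintype_card, Fintype.card_pi_const] at hcard
  have hW1 : 1 ≤ W.ncard := by
    have : (0 : Fin n → F) ∈ W := ⟨pol_zero_left M u₀, pol_zero_left M v₀⟩
    exact (Set.ncard_pos (Set.toFinite W)).2 ⟨0, this⟩
  by_cases hn : n < 2
  · exfalso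
    have h1 : Fintype.card F ^ n ≤ Fintype.card F ^ 1 := Nat.pow_le_pow_right (by omega) (by omega)
    rw [pow_one] at h1
    have h2 : Fintype.card F * (Fintype.card F * 1) ≤ Fintype.card F * (Fintype.card F * W.ncard) :=
      Nat.mul_le_mul_left _ (Nat.mul_le_mul_left _ hW1)
    nlinarith
  · have hn2 : 2 + (n - 2) = n := by omega
    have h1 : Fintype.card F ^ n = Fintype.card F ^ 2 * Fintype.card F ^ (n - 2) := by
      rw [← pow_add, hn2]
    rw [h1] at hcard
    have h2 : Fintype.card F ^ 2 * W.ncard ≤ Fintype.card F ^ 2 * Fintype.card F ^ (n - 2) := by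
      calc Fintype.card F ^ 2 * W.ncard = Fintype.card F * (Fintype.card F * W.ncard) := by ring
        _ ≤ _ := hcard
    exact Nat.le_of_mul_le_mul_left h2 (by positivity)

end geom

end ORBC2

open ORBC2 in
/-- PIECE ORBC2. -/
theorem good_card_le_of_anisotropic {n : ℕ} {F : Type*} [Field F] [Fintype F] [CharP F 2] (M : Matrix (Fin n) (Fin n) F)
    (h : ∀ u, qf M u = 0 → ∀ v, pol M u v = 0) (u₀ v₀ : Fin n → F) (hγ : pol M u₀ v₀ ≠ 0) :
    (good M (qf M u₀) (qf M v₀) (pol M u₀ v₀)).ncard ≤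
      2 * (Fintype.card F + 1) * Fintype.card F ^ (2 * (n - 2)) := by
  classical
  set W : Set (Fin n → F) := {w | pol M w u₀ = 0 ∧ pol M w v₀ = 0} with hWdef
  have hWcard : W.ncard ≤ Fintype.card F ^ (n - 2) := perp_card_le hγ
  let Gf : Finset ((Fin n → F) × (Fin n → F)) :=
    Finset.univ.filter (fun p => p ∈ good M (qf M u₀) (qf M v₀) (pol M u₀ v₀))
  have hG : good M (qf M u₀) (qf M v₀) (pol M u₀ v₀) = ↑Gf := by
    ext p
    simp [Gf]
  let Wf : Finset (Fin n → F) := Finset.univ.filter (fun w => w ∈ W)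
  have hWf : Wf.card = W.ncard := by
    rw [← Set.ncard_coe_finset]
    congr 1
    ext w
    simp [Wf]
  let f : (Fin n → F) × (Fin n → F) → Option F × ((Fin n → F) × (Fin n → F)) :=
    fun p => (if cB M u₀ v₀ p.1 = 0 then none else some (cA M u₀ v₀ p.1 / cB M u₀ v₀ p.1),
      (cW M u₀ v₀ p.1, cW M u₀ v₀ p.2))
  let T : Finset (Option F × ((Fin n → F) × (Fin n → F))) := Finset.univ ×ˢ (Wf ×ˢ Wf)
  have hmemW : ∀ x, cW M u₀ v₀ x ∈ Wf := by
    intro x
    rw [Finset.mem_filter]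
    exact ⟨Finset.mem_univ _, cW_perp_u hγ x, cW_perp_v hγ x⟩
  have hmaps : ∀ p ∈ Gf, f p ∈ T := by
    intro p _
    rw [Finset.mem_product, Finset.mem_product]
    exact ⟨Finset.mem_univ _, hmemW _, hmemW _⟩
  have hfib : ∀ b ∈ T, (Gf.filter (fun p => f p = b)).card ≤ 2 := by
    intro b _
    by_cases hne : (Gf.filter (fun p => f p = b)).Nonempty
    · obtain ⟨p₁, hp₁⟩ := hne
      rw [Finset.mem_filter] at hp₁
      have hsub : Gf.filter (fun p => f p = b) ⊆
          {p₁, (p₁.1, p₁.2 + (pol M u₀ v₀ / qf M u₀) • cP M u₀ v₀ p₁.1)} := by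
        intro p hp
        rw [Finset.mem_filter] at hp
        have hfe : f p₁ = f p := hp₁.2.trans hp.2.symm
        have g1 : p₁ ∈ good M (qf M u₀) (qf M v₀) (pol M u₀ v₀) := (Finset.mem_filter.1 hp₁.1).2
        have g2 : p ∈ good M (qf M u₀) (qf M v₀) (pol M u₀ v₀) := (Finset.mem_filter.1 hp.1).2
        obtain ⟨hx, hy, hxy⟩ := g1
        obtain ⟨hx', hy', hxy'⟩ := g2
        have hfe1 : (if cB M u₀ v₀ p₁.1 = 0 then none else
              some (cA M u₀ v₀ p₁.1 / cB M u₀ v₀ p₁.1)) =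
            (if cB M u₀ v₀ p.1 = 0 then none else some (cA M u₀ v₀ p.1 / cB M u₀ v₀ p.1)) :=
          congrArg Prod.fst hfe
        have hfe2 : cW M u₀ v₀ p₁.1 = cW M u₀ v₀ p.1 := congrArg (fun z => z.2.1) hfe
        have hfe3 : cW M u₀ v₀ p₁.2 = cW M u₀ v₀ p.2 := congrArg (fun z => z.2.2) hfe
        have hbiff : cB M u₀ v₀ p₁.1 = 0 ↔ cB M u₀ v₀ p.1 = 0 := by
          constructor
          · intro h0
            by_contra h1
            rw [if_pos h0, if_neg h1] at hfe1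
            exact absurd hfe1 (by simp)
          · intro h0
            by_contra h1
            rw [if_neg h1, if_pos h0] at hfe1
            exact absurd hfe1 (by simp)
        have hrat : cB M u₀ v₀ p₁.1 ≠ 0 →
            cA M u₀ v₀ p₁.1 / cB M u₀ v₀ p₁.1 = cA M u₀ v₀ p.1 / cB M u₀ v₀ p.1 := by
          intro h1
          have h1' : cB M u₀ v₀ p.1 ≠ 0 := fun h0 => h1 (hbiff.2 h0)
          rw [if_neg h1, if_neg h1'] at hfe1
          exact Option.some.inj hfe1
        obtain ⟨e1, e2⟩ := good_key h hγ hx hy hxy hx' hy' hxy' hbiff hrat hfe2 hfe3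
        rw [Finset.mem_insert, Finset.mem_singleton]
        rcases e2 with e2 | e2
        · left
          exact Prod.ext e1 e2
        · right
          exact Prod.ext e1 e2
      exact (Finset.card_le_card hsub).trans Finset.card_le_two
    · rw [Finset.not_nonempty_iff_eq_empty] at hne
      rw [hne]
      simp
  have hmain := Finset.card_le_mul_card_image_of_maps_to hmaps 2 hfib
  rw [hG, Set.ncard_coe_finset]
  have hT : T.card = (Fintype.card F + 1) * (Wf.card * Wf.card) := by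
    simp only [T, Finset.card_product, Finset.card_univ, Fintype.card_option]
  rw [hT, hWf] at hmain
  calc Gf.card ≤ 2 * ((Fintype.card F + 1) * (W.ncard * W.ncard)) := hmain
    _ ≤ 2 * ((Fintype.card F + 1) * (Fintype.card F ^ (n - 2) * Fintype.card F ^ (n - 2))) := by
        gcongr
    _ = 2 * (Fintype.card F + 1) * Fintype.card F ^ (2 * (n - 2)) := by ring

end Cfsg.Agent.Helper18.LS3
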