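import Mathlib
import Cfsg.Agent.Lib.Helper6.WeilDefs

/-!
Piece XL of S2347: the elements `xL S` form a group normalized by the `dG h`.
-/

set_option autoImplicit false

namespace Cfsg.Agent.Helper6.Weil

open Matrix

variable {n : ℕ} {F : Type*} [Field F]

theorem xL_zero : xL (0 : symmAdd n F) = 1 := by
  apply Subtype.ext
  rw [xL_coe]
  show Matrix.fromBlocks 1 0 (0 : Matrix (Fin n) (Fin n) F) 1 = 1
  exact Matrix.fromBlocks_one

theorem xL_add (S T : symmAdd n F) : xL (S + T) = xL S * xL T := by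
  apply Subtype.ext
  show Matrix.fromBlocks 1 0 ((S : Matrix (Fin n) (Fin n) F) + (T : Matrix (Fin n) (Fin n) F)) 1 =
    Matrix.fromBlocks 1 0 (S : Matrix (Fin n) (Fin n) F) 1 *
      Matrix.fromBlocks 1 0 (T : Matrix (Fin n) (Fin n) F) 1
  rw [Matrix.fromBlocks_multiply]
  simp

theorem dG_mul_xL (h : GL (Fin n) F) (S : symmAdd n F) : dG h * xL S = xL (cjS h S) * dG h := by
  apply Subtype.ext
  show Matrix.fromBlocks (h : Matrix (Fin n) (Fin n) F) 0 0
        ((h⁻¹ : GL (Fin n) F) : Matrix (Fin n) (Fin n) F)ᵀ *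
      Matrix.fromBlocks 1 0 (S : Matrix (Fin n) (Fin n) F) 1 =
    Matrix.fromBlocks 1 0 ((cjS h S : symmAdd n F) : Matrix (Fin n) (Fin n) F) 1 *
      Matrix.fromBlocks (h : Matrix (Fin n) (Fin n) F) 0 0
        ((h⁻¹ : GL (Fin n) F) : Matrix (Fin n) (Fin n) F)ᵀ
  rw [Matrix.fromBlocks_multiply, Matrix.fromBlocks_multiply, cjS_coe]
  have h1 : ((h⁻¹ : GL (Fin n) F) : Matrix (Fin n) (Fin n) F) * (h : Matrix (Fin n) (Fin n) F) = 1 := by
    rw [← Units.val_mul, inv_mul_cancel, Units.val_one]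
  congr 1
  · simp
  · simp
  · rw [Matrix.zero_mul, zero_add, Matrix.mul_zero, add_zero, Matrix.mul_assoc _ _ (h : Matrix (Fin n) (Fin n) F),
      h1, Matrix.mul_one]
  · simp

theorem cjS_surjective (h : GL (Fin n) F) : Function.Surjective (cjS (n := n) (F := F) h) := by
  intro S
  refine ⟨cjS h⁻¹ S, ?_⟩
  apply Subtype.ext
  rw [cjS_coe, cjS_coe, inv_inv]
  have h1 : ((h⁻¹ : GL (Fin n) F) : Matrix (Fin n) (Fin n) F) * (h : Matrix (Fin n) (Fin n) F) = 1 := by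
    rw [← Units.val_mul, inv_mul_cancel, Units.val_one]
  have h2 : (h : Matrix (Fin n) (Fin n) F) * ((h⁻¹ : GL (Fin n) F) : Matrix (Fin n) (Fin n) F) = 1 := by
    rw [← Units.val_mul, mul_inv_cancel, Units.val_one]
  calc ((h⁻¹ : GL (Fin n) F) : Matrix (Fin n) (Fin n) F)ᵀ *
        ((h : Matrix (Fin n) (Fin n) F)ᵀ * (S : Matrix (Fin n) (Fin n) F) *
          (h : Matrix (Fin n) (Fin n) F)) * ((h⁻¹ : GL (Fin n) F) : Matrix (Fin n) (Fin n) F)
      = (((h⁻¹ : GL (Fin n) F) : Matrix (Fin n) (Fin n) F)ᵀ * (h : Matrix (Fin n) (Fin n) F)ᵀ) *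
          (S : Matrix (Fin n) (Fin n) F) *
          ((h : Matrix (Fin n) (Fin n) F) * ((h⁻¹ : GL (Fin n) F) : Matrix (Fin n) (Fin n) F)) := by
        simp only [Matrix.mul_assoc]
    _ = (S : Matrix (Fin n) (Fin n) F) := by
        rw [← Matrix.transpose_mul, h2, Matrix.transpose_one, Matrix.one_mul, Matrix.mul_one]

end Cfsg.Agent.Helper6.Weil
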