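import Mathlib
import Cfsg.Agent.Lib.Helper18.LS3Defs
import Cfsg.Agent.Lib.Helper6.WeilXL
import Cfsg.Agent.Lib.Helper18.LSKER
import Cfsg.Agent.S0269
import Cfsg.Agent.S0270

/-!
# S2333, piece FAITH (helper6 for helper18)

An irreducible complex representation of degree `≥ 2` of `Sp_{2n}(q)`, `(n,q) ≠ (2,2)`, `n ≥ 2`, is nontrivial
on the element `xL (E_01 + E_10)`: its kernel is a normal subgroup; the element is not central (it does not
commute with the standard matrix `J`), so a kernel containing it would be everything.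
-/

set_option autoImplicit false

namespace Cfsg.Agent.Helper18.LS3

open Matrix Cfsg.Agent.Helper6.Weil

/-- `xL S` is central only for `S = 0` (it does not commute with `J`). -/
theorem xL_mem_center_imp {n : ℕ} {F : Type*} [Field F] (S : symmAdd n F)
    (h : xL S ∈ Subgroup.center (Matrix.symplecticGroup (Fin n) F)) :
    (S : Matrix (Fin n) (Fin n) F) = 0 := by
  have hJ : Matrix.J (Fin n) F ∈ Matrix.symplecticGroup (Fin n) F := SymplecticGroup.J_mem (Fin n) F
  have h1 := (Subgroup.mem_center_iff.1 h) ⟨Matrix.J (Fin n) F, hJ⟩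
  have h2 := congrArg (fun g : Matrix.symplecticGroup (Fin n) F =>
    (g : Matrix (Fin n ⊕ Fin n) (Fin n ⊕ Fin n) F)) h1
  have h3 : Matrix.J (Fin n) F * Matrix.fromBlocks 1 0 (S : Matrix (Fin n) (Fin n) F) 1 =
      Matrix.fromBlocks 1 0 (S : Matrix (Fin n) (Fin n) F) 1 * Matrix.J (Fin n) F := h2
  unfold Matrix.J at h3
  rw [Matrix.fromBlocks_multiply, Matrix.fromBlocks_multiply] at h3
  have h4 := (Matrix.fromBlocks_inj.1 h3).1
  simp only [Matrix.zero_mul, Matrix.neg_mul, Matrix.one_mul, zero_add, Matrix.mul_zero,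
    add_zero] at h4
  exact neg_eq_zero.1 h4

theorem faith {F : Type*} [Field F] [Fintype F] [DecidableEq F] (n : ℕ) (hn : 2 ≤ n)
    (hex : (n, Fintype.card F) ≠ (2, 2)) (k : ℕ)
    (ρ : Representation ℂ (Matrix.symplecticGroup (Fin n) F) (Fin k → ℂ)) (hirr : ρ.IsIrreducible)
    (hk : 2 ≤ k) :
    ρ (xL (altS (⟨0, by omega⟩ : Fin n) (⟨1, by omega⟩ : Fin n))) ≠ 1 := by
  classical
  intro hρ
  have hq2 : 2 ≤ Fintype.card F := Fintype.one_lt_card
  have hq : n = 2 → 3 ≤ Fintype.card F := by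
    intro h2
    by_contra hlt
    apply hex
    have : Fintype.card F = 2 := by omega
    rw [h2, this]
  have hs : IsSimpleGroup (Matrix.symplecticGroup (Fin n) F ⧸
      Subgroup.center (Matrix.symplecticGroup (Fin n) F)) := Cfsg.Agent.S0270.result n hn hq
  have hperf : commutator (Matrix.symplecticGroup (Fin n) F) = ⊤ := by
    apply Cfsg.Agent.S0269.result n
    by_cases h3 : 3 ≤ n
    · exact Or.inl h3
    · have h2 : n = 2 := by omega
      exact Or.inr (Or.inl ⟨h2, hq h2⟩)
  -- the element is not central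
  have hgc : xL (altS (⟨0, by omega⟩ : Fin n) (⟨1, by omega⟩ : Fin n)) ∉
      Subgroup.center (Matrix.symplecticGroup (Fin n) F) := by
    intro hc
    have h0 := xL_mem_center_imp _ hc
    have h1 := congrFun (congrFun h0 (⟨0, by omega⟩ : Fin n)) (⟨1, by omega⟩ : Fin n)
    have hne : (⟨0, by omega⟩ : Fin n) ≠ (⟨1, by omega⟩ : Fin n) := by
      intro h
      exact absurd (congrArg Fin.val h) (by norm_num)
    have h2 : ((altS (⟨0, by omega⟩ : Fin n) (⟨1, by omega⟩ : Fin n) : symmAdd n F) :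
        Matrix (Fin n) (Fin n) F) (⟨0, by omega⟩ : Fin n) (⟨1, by omega⟩ : Fin n) = 1 := by
      show (Matrix.single (⟨0, by omega⟩ : Fin n) (⟨1, by omega⟩ : Fin n) (1 : F) +
        Matrix.single (⟨1, by omega⟩ : Fin n) (⟨0, by omega⟩ : Fin n) (1 : F))
          (⟨0, by omega⟩ : Fin n) (⟨1, by omega⟩ : Fin n) = 1
      rw [Matrix.add_apply, Matrix.single_apply_same, Matrix.single_apply_of_ne _ _ _ _ _ (by
        intro h
        exact hne h.1.symm), add_zero]
    rw [h2] at h1
    exact one_ne_zero h1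
  have hker : xL (altS (⟨0, by omega⟩ : Fin n) (⟨1, by omega⟩ : Fin n)) ∈ MonoidHom.ker ρ :=
    (MonoidHom.mem_ker).2 hρ
  have htop : MonoidHom.ker ρ = ⊤ :=
    Cfsg.Agent.Helper18.LS.normal_eq_top_of_simple_quotient hs hperf (MonoidHom.ker ρ) _ hker hgc
  have hall : ∀ g, ρ g = 1 := by
    intro g
    have : g ∈ MonoidHom.ker ρ := by
      rw [htop]
      exact Subgroup.mem_top g
    exact (MonoidHom.mem_ker).1 this
  have h0 := @eq_bot_or_eq_top (Subrepresentation ρ) _ _ hirr
    ⟨Submodule.span ℂ {(Pi.single (⟨0, by omega⟩ : Fin k) (1 : ℂ) : Fin k → ℂ)}, by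
      intro g v hv
      rw [hall g]
      exact hv⟩
  rcases h0 with h0 | h0
  · have h1 := congrArg Subrepresentation.toSubmodule h0
    have h2 : Submodule.span ℂ {(Pi.single (⟨0, by omega⟩ : Fin k) (1 : ℂ) : Fin k → ℂ)} = ⊥ := h1
    rw [Submodule.span_singleton_eq_bot] at h2
    have h3 := congrFun h2 ⟨0, by omega⟩
    rw [Pi.single_eq_same] at h3
    exact one_ne_zero h3
  · have h1 := congrArg Subrepresentation.toSubmodule h0
    have h2 : Submodule.span ℂ {(Pi.single (⟨0, by omega⟩ : Fin k) (1 : ℂ) : Fin k → ℂ)} = ⊤ := h1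
    have h3 : (Pi.single (⟨1, by omega⟩ : Fin k) (1 : ℂ) : Fin k → ℂ) ∈
        Submodule.span ℂ {(Pi.single (⟨0, by omega⟩ : Fin k) (1 : ℂ) : Fin k → ℂ)} := by
      rw [h2]
      exact Submodule.mem_top
    obtain ⟨c, hc⟩ := Submodule.mem_span_singleton.1 h3
    have h4 := congrFun hc ⟨1, by omega⟩
    rw [Pi.smul_apply, Pi.single_eq_same, Pi.single_eq_of_ne (by
      intro h
      exact absurd (congrArg Fin.val h) (by norm_num)), smul_zero] at h4
    exact zero_ne_one h4

end Cfsg.Agent.Helper18.LS3
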