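import Mathlib
import Cfsg.Agent.Lib.Helper6.SpA

/-!
Steinberg relations of type `C`: the conjugation formulas of the Weyl elements `w_{e_a - e_b}(t)` and `w_{2 e_a}(t)`
on all root elements.
-/

set_option autoImplicit false
set_option linter.unusedSectionVars false
set_option linter.unusedVariables false

namespace Cfsg.Agent.Helper6.SpN

open Cfsg.Agent.Helper6 Cfsg.Agent.Helper6.SLn

variable {I : Type*} {K : Type*} [Field K] {Γ : Type*} [Group Γ]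

namespace SpRel

variable {T : I ⊕ I → I ⊕ I → K → Γ} {L : I ⊕ I → K → Γ} (S : SpRel T L)
include S

/-- three signed indices with distinct underlying indices give Steinberg relations of type `A₂` -/
theorem stRel3 {a b c : I ⊕ I} (hab : a ≠ b) (hab' : a ≠ ng b) (hac : a ≠ c) (hac' : a ≠ ng c)
    (hbc : b ≠ c) (hbc' : b ≠ ng c) :
    StRel (fun (i j : Fin 3) t => T (![a, b, c] i) (![a, b, c] j) t) := by
  apply S.toStRel
  · intro i j h
    fin_cases i <;> fin_cases j <;> simp_all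
  · intro i j
    have h1 := ne_ng a
    have h2 := ne_ng b
    have h3 := ne_ng c
    have h4 : b ≠ ng a := fun h => hab' (by rw [h, ng_ng])
    have h5 : c ≠ ng a := fun h => hac' (by rw [h, ng_ng])
    have h6 : c ≠ ng b := fun h => hbc' (by rw [h, ng_ng])
    fin_cases i <;> fin_cases j <;> simp_all

/-- (A) `w_ab(t) x_ac(u) w_ab(t)⁻¹ = x_bc(-t⁻¹ u)` -/
theorem wS_cj_A {a b c : I ⊕ I} (hab : a ≠ b) (hab' : a ≠ ng b) (hac : a ≠ c) (hac' : a ≠ ng c)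
    (hbc : b ≠ c) (hbc' : b ≠ ng c) (t : K) (ht : t ≠ 0) (u : K) :
    cj (wS T a b t) (T a c u) = T b c (-t⁻¹ * u) :=
  (S.stRel3 hab hab' hac hac' hbc hbc').ww_cj_A (i := 0) (j := 1) (l := 2) (by decide) (by decide)
    (by decide) t ht u

/-- (B) `w_ab(t) x_bc(u) w_ab(t)⁻¹ = x_ac(t u)` -/
theorem wS_cj_B {a b c : I ⊕ I} (hab : a ≠ b) (hab' : a ≠ ng b) (hac : a ≠ c) (hac' : a ≠ ng c)
    (hbc : b ≠ c) (hbc' : b ≠ ng c) (t : K) (ht : t ≠ 0) (u : K) :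
    cj (wS T a b t) (T b c u) = T a c (t * u) :=
  (S.stRel3 hab hab' hac hac' hbc hbc').ww_cj_B (i := 0) (j := 1) (l := 2) (by decide) (by decide)
    (by decide) t ht u

/-- (C) `w_ab(t) x_ca(u) w_ab(t)⁻¹ = x_cb(-t u)` -/
theorem wS_cj_C {a b c : I ⊕ I} (hab : a ≠ b) (hab' : a ≠ ng b) (hac : a ≠ c) (hac' : a ≠ ng c)
    (hbc : b ≠ c) (hbc' : b ≠ ng c) (t : K) (ht : t ≠ 0) (u : K) :
    cj (wS T a b t) (T c a u) = T c b (-t * u) :=
  (S.stRel3 hab hab' hac hac' hbc hbc').ww_cj_C (i := 0) (j := 1) (k := 2) (by decide) (by decide)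
    (by decide) t ht u

/-- (D) `w_ab(t) x_cb(u) w_ab(t)⁻¹ = x_ca(t⁻¹ u)` -/
theorem wS_cj_D {a b c : I ⊕ I} (hab : a ≠ b) (hab' : a ≠ ng b) (hac : a ≠ c) (hac' : a ≠ ng c)
    (hbc : b ≠ c) (hbc' : b ≠ ng c) (t : K) (ht : t ≠ 0) (u : K) :
    cj (wS T a b t) (T c b u) = T c a (t⁻¹ * u) :=
  (S.stRel3 hab hab' hac hac' hbc hbc').ww_cj_D (i := 0) (j := 1) (k := 2) (by decide) (by decide)
    (by decide) t ht u

/-- (E) `w_ab(t) x_ab(u) w_ab(t)⁻¹ = x_ba(-t⁻² u)`, given a third index -/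
theorem wS_cj_E {a b c : I ⊕ I} (hab : a ≠ b) (hab' : a ≠ ng b) (hac : a ≠ c) (hac' : a ≠ ng c)
    (hbc : b ≠ c) (hbc' : b ≠ ng c) (t : K) (ht : t ≠ 0) (u : K) :
    cj (wS T a b t) (T a b u) = T b a (-(t ^ 2)⁻¹ * u) :=
  (S.stRel3 hab hab' hac hac' hbc hbc').ww_cj_E (i := 0) (j := 1) (m := 2) (by decide) (by decide)
    (by decide) t ht u

/-- (F) `w_ab(t) x_ba(u) w_ab(t)⁻¹ = x_ab(-t² u)`, given a third index -/
theorem wS_cj_F {a b c : I ⊕ I} (hab : a ≠ b) (hab' : a ≠ ng b) (hac : a ≠ c) (hac' : a ≠ ng c)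
    (hbc : b ≠ c) (hbc' : b ≠ ng c) (t : K) (ht : t ≠ 0) (u : K) :
    cj (wS T a b t) (T b a u) = T a b (-(t ^ 2) * u) :=
  (S.stRel3 hab hab' hac hac' hbc hbc').ww_cj_F (i := 0) (j := 1) (m := 2) (by decide) (by decide)
    (by decide) t ht u

/-- the rank one relations of a pair of opposite short roots, given a third index -/
theorem rankOneSymS {a b c : I ⊕ I} (hab : a ≠ b) (hab' : a ≠ ng b) (hac : a ≠ c) (hac' : a ≠ ng c)
    (hbc : b ≠ c) (hbc' : b ≠ ng c) : R1S.RankOne (T a b) (T b a) :=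
  ⟨S.addT a b hab hab', S.addT b a hab.symm (fun h => hab' (by rw [h, ng_ng])),
    fun t ht u => S.wS_cj_E hab hab' hac hac' hbc hbc' t ht u,
    fun t ht u => S.wS_cj_F hab hab' hac hac' hbc hbc' t ht u⟩

theorem wS_neg {a b : I ⊕ I} (hab : a ≠ b) (hab' : a ≠ ng b) (t : K) :
    wS T a b (-t) = (wS T a b t)⁻¹ := by
  have hba' : b ≠ ng a := fun h => hab' (by rw [h, ng_ng])
  unfold wS
  have e1 : T a b (-t) = (T a b t)⁻¹ := S.negT hab hab' t
  have e2 : T b a (-(-t)⁻¹) = (T b a (-t⁻¹))⁻¹ := by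
    rw [← S.negT hab.symm hba']
    congr 1
    rw [inv_neg]
  rw [e1, e2]
  group

theorem wL_neg (a : I ⊕ I) (t : K) : wL L a (-t) = (wL L a t)⁻¹ := by
  unfold wL
  have e1 : L a (-t) = (L a t)⁻¹ := S.negL a t
  have e2 : L (ng a) (-(-t)⁻¹) = (L (ng a) (-t⁻¹))⁻¹ := by
    rw [← S.negL]
    congr 1
    rw [inv_neg]
  rw [e1, e2]
  group

/-- `w_ab(t)` commutes with the short root elements away from `±a, ±b` -/
theorem wS_cj_TT {a b c d : I ⊕ I} (hab : a ≠ b) (hab' : a ≠ ng b) (hcd : c ≠ d) (hcd' : c ≠ ng d)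
    (hca : c ≠ a) (hca' : c ≠ ng a) (hcb : c ≠ b) (hcb' : c ≠ ng b)
    (hda : d ≠ a) (hda' : d ≠ ng a) (hdb : d ≠ b) (hdb' : d ≠ ng b) (t u : K) :
    cj (wS T a b t) (T c d u) = T c d u := by
  have hba' : b ≠ ng a := fun h => hab' (by rw [h, ng_ng])
  unfold wS
  rw [cj_mul_left, cj_mul_left, S.cjTT hab hab' hcd hcd' hcb hca' hda hdb',
    S.cjTT hab.symm hba' hcd hcd' hca hcb' hdb hda', S.cjTT hab hab' hcd hcd' hcb hca' hda hdb']

/-- `w_ab(t)` commutes with the long root elements away from `±a, ±b` -/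
theorem wS_cj_TL {a b c : I ⊕ I} (hab : a ≠ b) (hab' : a ≠ ng b)
    (hca : c ≠ a) (hca' : c ≠ ng a) (hcb : c ≠ b) (hcb' : c ≠ ng b) (t u : K) :
    cj (wS T a b t) (L c u) = L c u := by
  have hba' : b ≠ ng a := fun h => hab' (by rw [h, ng_ng])
  unfold wS
  rw [cj_mul_left, cj_mul_left, S.cjTL hab hab' hcb hca', S.cjTL hab.symm hba' hca hcb',
    S.cjTL hab hab' hcb hca']

/-- `w_{2a}(t)` commutes with the short root elements away from `±a` -/
theorem wL_cj_LT {a c d : I ⊕ I} (hcd : c ≠ d) (hcd' : c ≠ ng d)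
    (hca : c ≠ a) (hca' : c ≠ ng a) (hda : d ≠ a) (hda' : d ≠ ng a) (t u : K) :
    cj (wL L a t) (T c d u) = T c d u := by
  unfold wL
  have h1 : ng a ≠ d := fun h => hda' h.symm
  have h2 : ng a ≠ ng c := fun h => hca (ng_inj.1 h).symm
  have h3 : a ≠ ng c := fun h => hca' (by rw [h, ng_ng])
  rw [cj_mul_left, cj_mul_left, S.cjLT hcd hcd' hda.symm h3,
    S.cjLT hcd hcd' h1 h2, S.cjLT hcd hcd' hda.symm h3]

/-- `w_{2a}(t)` commutes with the long root elements away from `±a` -/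
theorem wL_cj_LL {a c : I ⊕ I} (hca : c ≠ a) (hca' : c ≠ ng a) (t u : K) :
    cj (wL L a t) (L c u) = L c u := by
  unfold wL
  rw [cj_mul_left, cj_mul_left, S.cjLL hca', S.cjLL (by rw [ng_ng]; exact hca), S.cjLL hca']

end SpRel

end Cfsg.Agent.Helper6.SpN
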