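import Mathlib
import Cfsg.Agent.Lib.Helper6.SpB

/-!
Steinberg relations of type `C`: the action of `w_{e_a - e_b}(t)` on the root elements of `2 e_a`, `e_a + e_b`, `2 e_b`
and of `w_{2 e_a}(t)` on the short root elements involving `a`.
-/

set_option autoImplicit false
set_option linter.unusedSectionVars false
set_option linter.unusedVariables false

namespace Cfsg.Agent.Helper6.SpN

open Cfsg.Agent.Helper6 Cfsg.Agent.Helper6.SLn

variable {I : Type*} {K : Type*} [Field K] {Γ : Type*} [Group Γ]

/-- three commuting one-parameter subgroups -/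
structure Tri (A B C : K → Γ) : Prop where
  addA : ∀ x y, A x * A y = A (x + y)
  addB : ∀ x y, B x * B y = B (x + y)
  addC : ∀ x y, C x * C y = C (x + y)
  commAB : ∀ x y, Commute (A x) (B y)
  commAC : ∀ x y, Commute (A x) (C y)
  commBC : ∀ x y, Commute (B x) (C y)

namespace Tri

variable {A B C : K → Γ} (H : Tri A B C)

/-- the product map -/
def phi (A B C : K → Γ) (v : K × K × K) : Γ := A v.1 * B v.2.1 * C v.2.2

include H

theorem zeroA : A 0 = 1 := by
  have := H.addA 0 0
  rw [add_zero] at this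
  exact mul_eq_left.1 this

theorem zeroB : B 0 = 1 := by
  have := H.addB 0 0
  rw [add_zero] at this
  exact mul_eq_left.1 this

theorem zeroC : C 0 = 1 := by
  have := H.addC 0 0
  rw [add_zero] at this
  exact mul_eq_left.1 this

theorem phi_add (v w : K × K × K) : phi A B C (v + w) = phi A B C v * phi A B C w := by
  obtain ⟨a, b, c⟩ := v
  obtain ⟨a', b', c'⟩ := w
  unfold phi
  simp only [Prod.mk_add_mk]
  rw [← H.addA, ← H.addB, ← H.addC]
  have h1 := (H.commAB a' b).eq
  have h2 := (H.commAC a' c).eq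
  have h3 := (H.commBC b' c).eq
  calc A a * A a' * (B b * B b') * (C c * C c')
      = A a * (A a' * B b) * B b' * C c * C c' := by group
    _ = A a * (B b * A a') * B b' * C c * C c' := by rw [h1]
    _ = A a * B b * A a' * (B b' * C c) * C c' := by group
    _ = A a * B b * A a' * (C c * B b') * C c' := by rw [h3]
    _ = A a * B b * (A a' * C c) * B b' * C c' := by group
    _ = A a * B b * (C c * A a') * B b' * C c' := by rw [h2]
    _ = A a * B b * C c * (A a' * B b' * C c') := by group

theorem phi_A (x : K) : A x = phi A B C (x, 0, 0) := by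
  unfold phi
  rw [H.zeroB, H.zeroC, mul_one, mul_one]

theorem phi_B (x : K) : B x = phi A B C (0, x, 0) := by
  unfold phi
  rw [H.zeroA, H.zeroC, mul_one, one_mul]

theorem phi_C (x : K) : C x = phi A B C (0, 0, x) := by
  unfold phi
  rw [H.zeroA, H.zeroB, one_mul, one_mul]

end Tri

namespace SpRel

variable {T : I ⊕ I → I ⊕ I → K → Γ} {L : I ⊕ I → K → Γ} (S : SpRel T L)
include S

/-- the three commuting root subgroups of `2 e_a`, `e_a + e_b`, `2 e_b` -/
theorem tri {a b : I ⊕ I} (hab : a ≠ b) (hab' : a ≠ ng b) : Tri (L a) (T a (ng b)) (L b) := by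
  have hba' : b ≠ ng a := fun h => hab' (by rw [h, ng_ng])
  have h1 : a ≠ ng (ng b) := by rw [ng_ng]; exact hab
  refine ⟨S.addL a, S.addT a (ng b) hab' h1, S.addL b, ?_, ?_, ?_⟩
  · intro x y
    exact (S.commTL a (ng b) a hab' h1 hab' (ne_ng a) y x).symm
  · intro x y
    exact S.commLL a b hba' x y
  · intro x y
    exact S.commTL a (ng b) b hab' h1 (ne_ng b) hba' x y

/-- the action of `x_ab(x)` on the three root subgroups -/
theorem cj_T_phi {a b : I ⊕ I} (hab : a ≠ b) (hab' : a ≠ ng b) (x : K) (v : K × K × K) :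
    cj (T a b x) (Tri.phi (L a) (T a (ng b)) (L b) v) =
      Tri.phi (L a) (T a (ng b)) (L b)
        (v.1 + 2 * (sg K a * sg K b) * x * v.2.1 + sg K a * sg K b * x ^ 2 * v.2.2, v.2.1 + x * v.2.2, v.2.2) := by
  have H := S.tri hab hab'
  have hba' : b ≠ ng a := fun h => hab' (by rw [h, ng_ng])
  obtain ⟨α, β, γ⟩ := v
  have e1 : cj (T a b x) (L a α) = L a α := S.cjTL hab hab' hab (ne_ng a) x α
  have e2 : cj (T a b x) (T a (ng b) β) = L a (2 * (sg K a * sg K b) * x * β) * T a (ng b) β := by
    rw [S.symT_ng hab hab' β, S.cj5a hab hab']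
    congr 2
    ring
  have e3 : cj (T a b x) (L b γ) = T a (ng b) (x * γ) * L a (sg K a * sg K b * x ^ 2 * γ) * L b γ :=
    S.cj4a hab hab' x γ
  conv_lhs => unfold Tri.phi
  simp only
  rw [cj_mul_right, cj_mul_right, e1, e2, e3, H.phi_A, H.phi_A, H.phi_B, H.phi_B, H.phi_A, H.phi_C,
    ← H.phi_add, ← H.phi_add, ← H.phi_add, ← H.phi_add, ← H.phi_add]
  congr 1
  simp only [Prod.mk_add_mk, add_zero, zero_add]

/-- the action of `x_ba(x)` on the three root subgroups -/
theorem cj_T'_phi {a b : I ⊕ I} (hab : a ≠ b) (hab' : a ≠ ng b) (x : K) (v : K × K × K) :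
    cj (T b a x) (Tri.phi (L a) (T a (ng b)) (L b) v) =
      Tri.phi (L a) (T a (ng b)) (L b)
        (v.1, v.2.1 + sg K a * sg K b * x * v.1, v.2.2 + 2 * x * v.2.1 + sg K a * sg K b * x ^ 2 * v.1) := by
  have H := S.tri hab hab'
  have hba' : b ≠ ng a := fun h => hab' (by rw [h, ng_ng])
  obtain ⟨α, β, γ⟩ := v
  have e1 : cj (T b a x) (L a α) =
      T a (ng b) (sg K a * sg K b * x * α) * L b (sg K a * sg K b * x ^ 2 * α) * L a α := by
    rw [S.cj4a hab.symm hba', S.symT_ng hab.symm hba']
    congr 3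
    · ring
    · ring
  have e2 : cj (T b a x) (T a (ng b) β) = L b (2 * x * β) * T a (ng b) β := S.cj5a hab.symm hba' x β
  have e3 : cj (T b a x) (L b γ) = L b γ := S.cjTL hab.symm hba' hab.symm (ne_ng b) x γ
  conv_lhs => unfold Tri.phi
  simp only
  rw [cj_mul_right, cj_mul_right, e1, e2, e3, H.phi_B, H.phi_C, H.phi_A, H.phi_C, H.phi_B, H.phi_C,
    ← H.phi_add, ← H.phi_add, ← H.phi_add, ← H.phi_add, ← H.phi_add]
  congr 1
  simp only [Prod.mk_add_mk, add_zero, zero_add]
  refine Prod.ext rfl (Prod.ext ?_ ?_)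
  · show sg K a * sg K b * x * α + β = β + sg K a * sg K b * x * α
    ring
  · show sg K a * sg K b * x ^ 2 * α + 2 * x * β + γ = γ + 2 * x * β + sg K a * sg K b * x ^ 2 * α
    ring

/-- the action of `w_ab(t)` on the three root subgroups -/
theorem wS_cj_phi {a b : I ⊕ I} (hab : a ≠ b) (hab' : a ≠ ng b) (t : K) (ht : t ≠ 0) (v : K × K × K) :
    cj (wS T a b t) (Tri.phi (L a) (T a (ng b)) (L b) v) =
      Tri.phi (L a) (T a (ng b)) (L b)
        (sg K a * sg K b * t ^ 2 * v.2.2, -v.2.1, sg K a * sg K b * (t ^ 2)⁻¹ * v.1) := by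
  obtain ⟨α, β, γ⟩ := v
  unfold wS
  rw [cj_mul_left, cj_mul_left, S.cj_T_phi hab hab', S.cj_T'_phi hab hab', S.cj_T_phi hab hab']
  congr 1
  have h1 := sg_mul_self (K := K) a
  have h2 := sg_mul_self (K := K) b
  have h3 : (sg K a * sg K b) * (sg K a * sg K b) = 1 := by
    calc (sg K a * sg K b) * (sg K a * sg K b) = (sg K a * sg K a) * (sg K b * sg K b) := by ring
      _ = 1 := by rw [h1, h2, mul_one]
  generalize sg K a * sg K b = e at *
  rcases mul_self_eq_one_iff.1 h3 with rfl | rfl
  · refine Prod.ext ?_ (Prod.ext ?_ ?_)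
    · simp only
      field_simp
      ring
    · simp only
      field_simp
      ring
    · simp only
      field_simp
      ring
  · refine Prod.ext ?_ (Prod.ext ?_ ?_)
    · simp only
      field_simp
      ring
    · simp only
      field_simp
      ring
    · simp only
      field_simp
      ring

end SpRel


end Cfsg.Agent.Helper6.SpN
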