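import Mathlib
import Cfsg.Agent.Lib.Helper6.SpC

/-!
Steinberg relations of type `C`: the remaining conjugation formulas of the Weyl elements.
-/

set_option autoImplicit false
set_option linter.unusedSectionVars false
set_option linter.unusedVariables false

namespace Cfsg.Agent.Helper6.SpN

open Cfsg.Agent.Helper6 Cfsg.Agent.Helper6.SLn

variable {I : Type*} {K : Type*} [Field K] {Γ : Type*} [Group Γ]

theorem sg_mul_sq (a b : I ⊕ I) : (sg K a * sg K b) * (sg K a * sg K b) = 1 := by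
  calc (sg K a * sg K b) * (sg K a * sg K b) = (sg K a * sg K a) * (sg K b * sg K b) := by ring
    _ = 1 := by rw [sg_mul_self, sg_mul_self, mul_one]

namespace SpRel

variable {T : I ⊕ I → I ⊕ I → K → Γ} {L : I ⊕ I → K → Γ} (S : SpRel T L)
include S

/-- `w_ab(t) l_a(u) w_ab(t)⁻¹ = l_b(± t⁻² u)` -/
theorem wS_cj_La {a b : I ⊕ I} (hab : a ≠ b) (hab' : a ≠ ng b) (t : K) (ht : t ≠ 0) (u : K) :
    cj (wS T a b t) (L a u) = L b (sg K a * sg K b * (t ^ 2)⁻¹ * u) := by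
  have H := S.tri hab hab'
  rw [H.phi_A, S.wS_cj_phi hab hab' t ht, H.phi_C]
  congr 1
  simp

/-- `w_ab(t) l_b(u) w_ab(t)⁻¹ = l_a(± t² u)` -/
theorem wS_cj_Lb {a b : I ⊕ I} (hab : a ≠ b) (hab' : a ≠ ng b) (t : K) (ht : t ≠ 0) (u : K) :
    cj (wS T a b t) (L b u) = L a (sg K a * sg K b * t ^ 2 * u) := by
  have H := S.tri hab hab'
  rw [H.phi_C, S.wS_cj_phi hab hab' t ht, H.phi_A]
  congr 1
  simp

/-- `w_ab(t) x_{a,-b}(u) w_ab(t)⁻¹ = x_{a,-b}(-u)` -/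
theorem wS_cj_Tanb {a b : I ⊕ I} (hab : a ≠ b) (hab' : a ≠ ng b) (t : K) (ht : t ≠ 0) (u : K) :
    cj (wS T a b t) (T a (ng b) u) = T a (ng b) (-u) := by
  have H := S.tri hab hab'
  rw [H.phi_B, S.wS_cj_phi hab hab' t ht, H.phi_B]
  congr 1
  simp

/-- `w_ab(t) l_{-b}(u) w_ab(t)⁻¹ = l_{-a}(± t⁻² u)` -/
theorem wS_cj_Lnb {a b : I ⊕ I} (hab : a ≠ b) (hab' : a ≠ ng b) (t : K) (ht : t ≠ 0) (u : K) :
    cj (wS T a b t) (L (ng b) u) = L (ng a) (sg K a * sg K b * (t ^ 2)⁻¹ * u) := by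
  have h1 : ng b ≠ ng a := fun h => hab (ng_inj.1 h).symm
  have h2 : ng b ≠ ng (ng a) := by rw [ng_ng]; exact fun h => hab' h.symm
  have e := sg_mul_sq (K := K) a b
  have ht' : -(sg K a * sg K b * t) ≠ 0 :=
    neg_ne_zero.2 (mul_ne_zero (mul_ne_zero (sg_ne_zero a) (sg_ne_zero b)) ht)
  rw [S.wS_sym hab hab' t ht, S.wS_cj_La h1 h2 _ ht', sg_ng, sg_ng]
  congr 1
  have h3 : (-(sg K a * sg K b * t)) ^ 2 = t ^ 2 := by
    linear_combination (t ^ 2) * e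
  rw [h3]
  ring

/-- `w_ab(t) l_{-a}(u) w_ab(t)⁻¹ = l_{-b}(± t² u)` -/
theorem wS_cj_Lna {a b : I ⊕ I} (hab : a ≠ b) (hab' : a ≠ ng b) (t : K) (ht : t ≠ 0) (u : K) :
    cj (wS T a b t) (L (ng a) u) = L (ng b) (sg K a * sg K b * t ^ 2 * u) := by
  have h1 : ng b ≠ ng a := fun h => hab (ng_inj.1 h).symm
  have h2 : ng b ≠ ng (ng a) := by rw [ng_ng]; exact fun h => hab' h.symm
  have e := sg_mul_sq (K := K) a b
  have ht' : -(sg K a * sg K b * t) ≠ 0 :=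
    neg_ne_zero.2 (mul_ne_zero (mul_ne_zero (sg_ne_zero a) (sg_ne_zero b)) ht)
  rw [S.wS_sym hab hab' t ht, S.wS_cj_Lb h1 h2 _ ht', sg_ng, sg_ng]
  congr 1
  have h3 : (-(sg K a * sg K b * t)) ^ 2 = t ^ 2 := by
    linear_combination (t ^ 2) * e
  rw [h3]
  ring

/-- `w_ab(t) x_{-a,b}(u) w_ab(t)⁻¹ = x_{-a,b}(-u)` -/
theorem wS_cj_Tnab {a b : I ⊕ I} (hab : a ≠ b) (hab' : a ≠ ng b) (t : K) (ht : t ≠ 0) (u : K) :
    cj (wS T a b t) (T (ng a) b u) = T (ng a) b (-u) := by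
  have h1 : ng b ≠ ng a := fun h => hab (ng_inj.1 h).symm
  have h2 : ng b ≠ ng (ng a) := by rw [ng_ng]; exact fun h => hab' h.symm
  have h3 : ng a ≠ b := fun h => hab' (by rw [← h, ng_ng])
  have h4 : ng a ≠ ng b := fun h => hab (ng_inj.1 h)
  have ht' : -(sg K a * sg K b * t) ≠ 0 :=
    neg_ne_zero.2 (mul_ne_zero (mul_ne_zero (sg_ne_zero a) (sg_ne_zero b)) ht)
  have e1 : ∀ v : K, T (ng a) b v = T (ng b) (ng (ng a)) (-(sg K (ng a) * sg K b * v)) :=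
    fun v => S.symT (ng a) b h3 h4 v
  rw [S.wS_sym hab hab' t ht, e1 u, S.wS_cj_Tanb h1 h2 _ ht', e1 (-u)]
  congr 1
  ring

/-- (D) `w_{2a}(t) x_{p,-a}(y) w_{2a}(t)⁻¹ = x_{p,a}(t⁻¹ y)` -/
theorem wL_cj_D {a p : I ⊕ I} (hpa : p ≠ a) (hpa' : p ≠ ng a) (t : K) (ht : t ≠ 0) (y : K) :
    cj (wL L a t) (T p (ng a) y) = T p a (t⁻¹ * y) := by
  have h1 : p ≠ ng (ng a) := by rw [ng_ng]; exact hpa
  have h2 : a ≠ ng p := fun h => hpa' (by rw [h, ng_ng])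
  have h3 : ng a ≠ ng p := fun h => hpa (ng_inj.1 h).symm
  -- step 1
  have s1 : cj (L a t) (T p (ng a) y) = T p (ng a) y := S.cjLT hpa' h1 (ne_ng a) h2 y t
  -- step 2
  have s2 : cj (L (ng a) (-t⁻¹)) (T p (ng a) y) =
      L p (-(sg K p * sg K a * y ^ 2 * t⁻¹)) * T p a (t⁻¹ * y) * T p (ng a) y := by
    rw [S.cj4b hpa' h1, ng_ng, sg_ng]
    congr 3
    · ring
    · ring
  -- step 3
  have s3 : cj (L a t) (T p a (t⁻¹ * y)) =
      L p (-(sg K p * sg K a * y ^ 2 * t⁻¹)) * T p (ng a) (-y) * T p a (t⁻¹ * y) := by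
    rw [S.cj4b hpa hpa']
    congr 3
    · field_simp
    · field_simp
  have s4 : cj (L a t) (L p (-(sg K p * sg K a * y ^ 2 * t⁻¹))) = L p (-(sg K p * sg K a * y ^ 2 * t⁻¹)) :=
    S.cjLL hpa' _ _
  -- the commutator of the two short root elements
  have s5 : cj (T p (ng a) (-y)) (T p a (t⁻¹ * y)) =
      L p (2 * (sg K p * sg K a * y ^ 2 * t⁻¹)) * T p a (t⁻¹ * y) := by
    rw [S.symT_ng hpa hpa' (-y), S.cj5b hpa hpa']
    congr 2
    ring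
  have s6 : T p (ng a) (-y) * T p a (t⁻¹ * y) * T p (ng a) y =
      L p (2 * (sg K p * sg K a * y ^ 2 * t⁻¹)) * T p a (t⁻¹ * y) := by
    rw [← s5]
    unfold cj
    rw [S.negT hpa' h1, inv_inv]
  unfold wL
  rw [cj_mul_left, cj_mul_left, s1, s2, cj_mul_right, cj_mul_right, s4, s3, s1]
  set q := sg K p * sg K a * y ^ 2 * t⁻¹ with hq
  calc L p (-q) * (L p (-q) * T p (ng a) (-y) * T p a (t⁻¹ * y)) * T p (ng a) y
      = L p (-q) * L p (-q) * (T p (ng a) (-y) * T p a (t⁻¹ * y) * T p (ng a) y) := by group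
    _ = L p (-q) * L p (-q) * (L p (2 * q) * T p a (t⁻¹ * y)) := by rw [s6]
    _ = (L p (-q) * L p (-q) * L p (2 * q)) * T p a (t⁻¹ * y) := by group
    _ = T p a (t⁻¹ * y) := by
      rw [S.addL, S.addL]
      have : -q + -q + 2 * q = 0 := by ring
      rw [this, S.zeroL, one_mul]

/-- (A) `w_{2a}(t) x_{a,c}(u) w_{2a}(t)⁻¹ = x_{-a,c}(-t⁻¹ u)` -/
theorem wL_cj_A {a c : I ⊕ I} (hac : a ≠ c) (hac' : a ≠ ng c) (t : K) (ht : t ≠ 0) (u : K) :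
    cj (wL L a t) (T a c u) = T (ng a) c (-t⁻¹ * u) := by
  have h1 : ng c ≠ a := fun h => hac' h.symm
  have h2 : ng c ≠ ng a := fun h => hac (ng_inj.1 h).symm
  have h3 : ng a ≠ c := fun h => hac' (by rw [← h, ng_ng])
  have h4 : ng a ≠ ng c := fun h => hac (ng_inj.1 h)
  rw [S.symT a c hac hac' u, S.wL_cj_D h1 h2 t ht, S.symT (ng a) c h3 h4, ng_ng, sg_ng]
  congr 1
  ring

/-- (B) `w_{2a}(t) x_{-a,c}(u) w_{2a}(t)⁻¹ = x_{a,c}(t u)` -/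
theorem wL_cj_B {a c : I ⊕ I} (hac : a ≠ c) (hac' : a ≠ ng c) (t : K) (ht : t ≠ 0) (u : K) :
    cj (wL L a t) (T (ng a) c u) = T a c (t * u) := by
  have h := S.wL_cj_A hac hac' (-t) (neg_ne_zero.2 ht) (t * u)
  rw [S.wL_neg] at h
  have h' := cj_inv_left h
  rw [inv_inv] at h'
  rw [← h']
  congr 2
  field_simp

/-- (C) `w_{2a}(t) x_{c,a}(u) w_{2a}(t)⁻¹ = x_{c,-a}(-t u)` -/
theorem wL_cj_C {a c : I ⊕ I} (hca : c ≠ a) (hca' : c ≠ ng a) (t : K) (ht : t ≠ 0) (u : K) :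
    cj (wL L a t) (T c a u) = T c (ng a) (-t * u) := by
  have h := S.wL_cj_D hca hca' (-t) (neg_ne_zero.2 ht) (-t * u)
  rw [S.wL_neg] at h
  have h' := cj_inv_left h
  rw [inv_inv] at h'
  rw [← h']
  congr 2
  field_simp

/-- (E) `w_{2a}(t) l_a(u) w_{2a}(t)⁻¹ = l_{-a}(-t⁻² u)`, given another index -/
theorem wL_cj_E {a b : I ⊕ I} (hab : a ≠ b) (hab' : a ≠ ng b) (t : K) (ht : t ≠ 0) (u : K) :
    cj (wL L a t) (L a u) = L (ng a) (-(t ^ 2)⁻¹ * u) := by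
  have hba : b ≠ a := hab.symm
  have hba' : b ≠ ng a := fun h => hab' (by rw [h, ng_ng])
  have h1 : a ≠ ng (ng b) := by rw [ng_ng]; exact hab
  have h2 : ng a ≠ b := fun h => hab' (by rw [← h, ng_ng])
  have h3 : ng a ≠ ng b := fun h => hab (ng_inj.1 h)
  set e := sg K a * sg K b with he
  have hee : e * e = 1 := sg_mul_sq a b
  -- `l_a(e u') = x_{a,-b}(u')⁻¹ [x_ab(1), l_b(u')]`
  have key : ∀ u' : K, L a (e * u') = (T a (ng b) u')⁻¹ * (T a b 1 * L b u' * (T a b 1)⁻¹ * (L b u')⁻¹) := by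
    intro u'
    rw [S.r4 a b hab hab' 1 u', one_mul, one_pow, mul_one, inv_mul_cancel_left]
  have hu : u = e * (e * u) := by
    rw [← mul_assoc, hee, one_mul]
  rw [hu, key (e * u), cj_mul_right, cj_inv_right, cj_comm4, S.wL_cj_A hab' h1 t ht, S.wL_cj_A hab hab' t ht,
    S.wL_cj_LL hba hba', S.r4 (ng a) b h2 h3, mul_one, ← mul_assoc, inv_mul_cancel, one_mul, sg_ng]
  congr 1
  have e2 : -(t ^ 2)⁻¹ * (e * (e * u)) = -(t ^ 2)⁻¹ * u := by rw [← hu]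
  rw [e2]
  have e3 : -sg K a * sg K b * (-t⁻¹) ^ 2 * (e * u) = -(e * e) * (t ^ 2)⁻¹ * u := by
    rw [he]
    field_simp
  rw [e3, hee]
  ring

/-- (F) `w_{2a}(t) l_{-a}(u) w_{2a}(t)⁻¹ = l_a(-t² u)`, given another index -/
theorem wL_cj_F {a b : I ⊕ I} (hab : a ≠ b) (hab' : a ≠ ng b) (t : K) (ht : t ≠ 0) (u : K) :
    cj (wL L a t) (L (ng a) u) = L a (-(t ^ 2) * u) := by
  have h := S.wL_cj_E hab hab' (-t) (neg_ne_zero.2 ht) (-(t ^ 2) * u)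
  rw [S.wL_neg] at h
  have h' := cj_inv_left h
  rw [inv_inv] at h'
  rw [← h']
  congr 2
  field_simp

/-- the rank one relations of a pair of opposite long roots, given another index -/
theorem rankOneSymL {a b : I ⊕ I} (hab : a ≠ b) (hab' : a ≠ ng b) : R1S.RankOne (L a) (L (ng a)) :=
  ⟨S.addL a, S.addL (ng a), fun t ht u => S.wL_cj_E hab hab' t ht u,
    fun t ht u => S.wL_cj_F hab hab' t ht u⟩

end SpRel

end Cfsg.Agent.Helper6.SpN
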