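import Mathlib
import Cfsg.Agent.Lib.Helper6.SpD

/-!
Steinberg relations of type `C`: the conjugation formulas of the torus elements `h_{e_a - e_b}(t)` and `h_{2 e_a}(t)`.
-/

set_option autoImplicit false
set_option linter.unusedSectionVars false
set_option linter.unusedVariables false

namespace Cfsg.Agent.Helper6.SpN

open Cfsg.Agent.Helper6 Cfsg.Agent.Helper6.SLn

variable {I : Type*} {K : Type*} [Field K] {Γ : Type*} [Group Γ]

namespace SpRel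

variable {T : I ⊕ I → I ⊕ I → K → Γ} {L : I ⊕ I → K → Γ} (S : SpRel T L)
include S

theorem hS_cj_1 {a b c : I ⊕ I} (hab : a ≠ b) (hab' : a ≠ ng b) (hac : a ≠ c) (hac' : a ≠ ng c)
    (hbc : b ≠ c) (hbc' : b ≠ ng c) (t : K) (ht : t ≠ 0) (u : K) :
    cj (hS T a b t) (T a c u) = T a c (t * u) :=
  (S.stRel3 hab hab' hac hac' hbc hbc').hh_cj_il (i := 0) (j := 1) (l := 2) (by decide) (by decide)
    (by decide) t ht u

theorem hS_cj_2 {a b c : I ⊕ I} (hab : a ≠ b) (hab' : a ≠ ng b) (hac : a ≠ c) (hac' : a ≠ ng c)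
    (hbc : b ≠ c) (hbc' : b ≠ ng c) (t : K) (ht : t ≠ 0) (u : K) :
    cj (hS T a b t) (T b c u) = T b c (t⁻¹ * u) :=
  (S.stRel3 hab hab' hac hac' hbc hbc').hh_cj_jl (i := 0) (j := 1) (l := 2) (by decide) (by decide)
    (by decide) t ht u

theorem hS_cj_3 {a b c : I ⊕ I} (hab : a ≠ b) (hab' : a ≠ ng b) (hac : a ≠ c) (hac' : a ≠ ng c)
    (hbc : b ≠ c) (hbc' : b ≠ ng c) (t : K) (ht : t ≠ 0) (u : K) :
    cj (hS T a b t) (T c a u) = T c a (t⁻¹ * u) :=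
  (S.stRel3 hab hab' hac hac' hbc hbc').hh_cj_ki (i := 0) (j := 1) (k := 2) (by decide) (by decide)
    (by decide) t ht u

theorem hS_cj_4 {a b c : I ⊕ I} (hab : a ≠ b) (hab' : a ≠ ng b) (hac : a ≠ c) (hac' : a ≠ ng c)
    (hbc : b ≠ c) (hbc' : b ≠ ng c) (t : K) (ht : t ≠ 0) (u : K) :
    cj (hS T a b t) (T c b u) = T c b (t * u) :=
  (S.stRel3 hab hab' hac hac' hbc hbc').hh_cj_kj (i := 0) (j := 1) (k := 2) (by decide) (by decide)
    (by decide) t ht u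

theorem hS_cj_5 {a b c : I ⊕ I} (hab : a ≠ b) (hab' : a ≠ ng b) (hac : a ≠ c) (hac' : a ≠ ng c)
    (hbc : b ≠ c) (hbc' : b ≠ ng c) (t : K) (ht : t ≠ 0) (u : K) :
    cj (hS T a b t) (T a b u) = T a b (t ^ 2 * u) :=
  (S.stRel3 hab hab' hac hac' hbc hbc').hh_cj_ij (i := 0) (j := 1) (m := 2) (by decide) (by decide)
    (by decide) t ht u

theorem hS_cj_6 {a b c : I ⊕ I} (hab : a ≠ b) (hab' : a ≠ ng b) (hac : a ≠ c) (hac' : a ≠ ng c)
    (hbc : b ≠ c) (hbc' : b ≠ ng c) (t : K) (ht : t ≠ 0) (u : K) :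
    cj (hS T a b t) (T b a u) = T b a ((t ^ 2)⁻¹ * u) :=
  (S.stRel3 hab hab' hac hac' hbc hbc').hh_cj_ji (i := 0) (j := 1) (m := 2) (by decide) (by decide)
    (by decide) t ht u

theorem hS_cj_7 {a b : I ⊕ I} (hab : a ≠ b) (hab' : a ≠ ng b) (t : K) (ht : t ≠ 0) (u : K) :
    cj (hS T a b t) (T a (ng b) u) = T a (ng b) u := by
  unfold hS
  rw [cj_mul_left, S.wS_cj_Tanb hab hab' (-1) (by simp), S.wS_cj_Tanb hab hab' t ht, neg_neg]

theorem hS_cj_8 {a b : I ⊕ I} (hab : a ≠ b) (hab' : a ≠ ng b) (t : K) (ht : t ≠ 0) (u : K) :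
    cj (hS T a b t) (T (ng a) b u) = T (ng a) b u := by
  unfold hS
  rw [cj_mul_left, S.wS_cj_Tnab hab hab' (-1) (by simp), S.wS_cj_Tnab hab hab' t ht, neg_neg]

theorem hS_cj_La {a b : I ⊕ I} (hab : a ≠ b) (hab' : a ≠ ng b) (t : K) (ht : t ≠ 0) (u : K) :
    cj (hS T a b t) (L a u) = L a (t ^ 2 * u) := by
  have e := sg_mul_sq (K := K) a b
  unfold hS
  rw [cj_mul_left, S.wS_cj_La hab hab' (-1) (by simp), S.wS_cj_Lb hab hab' t ht]
  congr 1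
  simp only [even_two, Even.neg_pow, one_pow, inv_one, mul_one]
  linear_combination (t ^ 2 * u) * e

theorem hS_cj_Lb {a b : I ⊕ I} (hab : a ≠ b) (hab' : a ≠ ng b) (t : K) (ht : t ≠ 0) (u : K) :
    cj (hS T a b t) (L b u) = L b ((t ^ 2)⁻¹ * u) := by
  have e := sg_mul_sq (K := K) a b
  unfold hS
  rw [cj_mul_left, S.wS_cj_Lb hab hab' (-1) (by simp), S.wS_cj_La hab hab' t ht]
  congr 1
  simp only [even_two, Even.neg_pow, one_pow, mul_one]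
  linear_combination ((t ^ 2)⁻¹ * u) * e

theorem hS_cj_Lna {a b : I ⊕ I} (hab : a ≠ b) (hab' : a ≠ ng b) (t : K) (ht : t ≠ 0) (u : K) :
    cj (hS T a b t) (L (ng a) u) = L (ng a) ((t ^ 2)⁻¹ * u) := by
  have e := sg_mul_sq (K := K) a b
  unfold hS
  rw [cj_mul_left, S.wS_cj_Lna hab hab' (-1) (by simp), S.wS_cj_Lnb hab hab' t ht]
  congr 1
  simp only [even_two, Even.neg_pow, one_pow, mul_one]
  linear_combination ((t ^ 2)⁻¹ * u) * e

theorem hS_cj_Lnb {a b : I ⊕ I} (hab : a ≠ b) (hab' : a ≠ ng b) (t : K) (ht : t ≠ 0) (u : K) :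
    cj (hS T a b t) (L (ng b) u) = L (ng b) (t ^ 2 * u) := by
  have e := sg_mul_sq (K := K) a b
  unfold hS
  rw [cj_mul_left, S.wS_cj_Lnb hab hab' (-1) (by simp), S.wS_cj_Lna hab hab' t ht]
  congr 1
  simp only [even_two, Even.neg_pow, one_pow, inv_one, mul_one]
  linear_combination (t ^ 2 * u) * e

theorem hS_cj_TT {a b c d : I ⊕ I} (hab : a ≠ b) (hab' : a ≠ ng b) (hcd : c ≠ d) (hcd' : c ≠ ng d)
    (hca : c ≠ a) (hca' : c ≠ ng a) (hcb : c ≠ b) (hcb' : c ≠ ng b)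
    (hda : d ≠ a) (hda' : d ≠ ng a) (hdb : d ≠ b) (hdb' : d ≠ ng b) (t u : K) :
    cj (hS T a b t) (T c d u) = T c d u := by
  unfold hS
  rw [cj_mul_left, S.wS_cj_TT hab hab' hcd hcd' hca hca' hcb hcb' hda hda' hdb hdb',
    S.wS_cj_TT hab hab' hcd hcd' hca hca' hcb hcb' hda hda' hdb hdb']

theorem hS_cj_TL {a b c : I ⊕ I} (hab : a ≠ b) (hab' : a ≠ ng b)
    (hca : c ≠ a) (hca' : c ≠ ng a) (hcb : c ≠ b) (hcb' : c ≠ ng b) (t u : K) :
    cj (hS T a b t) (L c u) = L c u := by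
  unfold hS
  rw [cj_mul_left, S.wS_cj_TL hab hab' hca hca' hcb hcb', S.wS_cj_TL hab hab' hca hca' hcb hcb']

/-! ### the torus elements of the long roots -/

theorem hL_cj_1 {a c : I ⊕ I} (hac : a ≠ c) (hac' : a ≠ ng c) (t : K) (ht : t ≠ 0) (u : K) :
    cj (hL L a t) (T a c u) = T a c (t * u) := by
  unfold hL
  rw [cj_mul_left, S.wL_cj_A hac hac' (-1) (by simp), S.wL_cj_B hac hac' t ht]
  congr 1
  simp

theorem hL_cj_2 {a c : I ⊕ I} (hac : a ≠ c) (hac' : a ≠ ng c) (t : K) (ht : t ≠ 0) (u : K) :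
    cj (hL L a t) (T (ng a) c u) = T (ng a) c (t⁻¹ * u) := by
  unfold hL
  rw [cj_mul_left, S.wL_cj_B hac hac' (-1) (by simp), S.wL_cj_A hac hac' t ht]
  congr 1
  ring

theorem hL_cj_3 {a c : I ⊕ I} (hca : c ≠ a) (hca' : c ≠ ng a) (t : K) (ht : t ≠ 0) (u : K) :
    cj (hL L a t) (T c a u) = T c a (t⁻¹ * u) := by
  unfold hL
  rw [cj_mul_left, S.wL_cj_C hca hca' (-1) (by simp), S.wL_cj_D hca hca' t ht]
  congr 1
  simp

theorem hL_cj_4 {a c : I ⊕ I} (hca : c ≠ a) (hca' : c ≠ ng a) (t : K) (ht : t ≠ 0) (u : K) :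
    cj (hL L a t) (T c (ng a) u) = T c (ng a) (t * u) := by
  unfold hL
  rw [cj_mul_left, S.wL_cj_D hca hca' (-1) (by simp), S.wL_cj_C hca hca' t ht]
  congr 1
  rw [inv_neg, inv_one]
  ring

theorem hL_cj_La {a b : I ⊕ I} (hab : a ≠ b) (hab' : a ≠ ng b) (t : K) (ht : t ≠ 0) (u : K) :
    cj (hL L a t) (L a u) = L a (t ^ 2 * u) := by
  unfold hL
  rw [cj_mul_left, S.wL_cj_E hab hab' (-1) (by simp), S.wL_cj_F hab hab' t ht]
  congr 1
  simp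

theorem hL_cj_Lna {a b : I ⊕ I} (hab : a ≠ b) (hab' : a ≠ ng b) (t : K) (ht : t ≠ 0) (u : K) :
    cj (hL L a t) (L (ng a) u) = L (ng a) ((t ^ 2)⁻¹ * u) := by
  unfold hL
  rw [cj_mul_left, S.wL_cj_F hab hab' (-1) (by simp), S.wL_cj_E hab hab' t ht]
  congr 1
  simp

theorem hL_cj_LT {a c d : I ⊕ I} (hcd : c ≠ d) (hcd' : c ≠ ng d)
    (hca : c ≠ a) (hca' : c ≠ ng a) (hda : d ≠ a) (hda' : d ≠ ng a) (t u : K) :
    cj (hL L a t) (T c d u) = T c d u := by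
  unfold hL
  rw [cj_mul_left, S.wL_cj_LT hcd hcd' hca hca' hda hda', S.wL_cj_LT hcd hcd' hca hca' hda hda']

theorem hL_cj_LL {a c : I ⊕ I} (hca : c ≠ a) (hca' : c ≠ ng a) (t u : K) :
    cj (hL L a t) (L c u) = L c u := by
  unfold hL
  rw [cj_mul_left, S.wL_cj_LL hca hca', S.wL_cj_LL hca hca']

end SpRel

end Cfsg.Agent.Helper6.SpN
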