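import Mathlib
import Cfsg.Agent.Lib.Helper6.SpE

/-!
Steinberg relations of type `C`: the torus elements act on every root element through a weight.
-/

set_option autoImplicit false
set_option linter.unusedSectionVars false
set_option linter.unusedVariables false

namespace Cfsg.Agent.Helper6.SpN

open Cfsg.Agent.Helper6 Cfsg.Agent.Helper6.SLn

variable {I : Type*} [DecidableEq I] {K : Type*} [Field K] {Γ : Type*} [Group Γ]

/-- the weight of `h_{e_a - e_b}(t)` on the coordinate `x` -/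
def wtS (a b x : I ⊕ I) (t : K) : K :=
  if x = a ∨ x = ng b then t else if x = b ∨ x = ng a then t⁻¹ else 1

/-- the weight of `h_{2 e_a}(t)` on the coordinate `x` -/
def wtL (a x : I ⊕ I) (t : K) : K :=
  if x = a then t else if x = ng a then t⁻¹ else 1

theorem wtS_mul (a b x : I ⊕ I) (t u : K) : wtS a b x (t * u) = wtS a b x t * wtS a b x u := by
  unfold wtS
  split_ifs
  · rfl
  · rw [mul_inv]
  · rw [one_mul]

theorem wtL_mul (a x : I ⊕ I) (t u : K) : wtL a x (t * u) = wtL a x t * wtL a x u := by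
  unfold wtL
  split_ifs
  · rfl
  · rw [mul_inv]
  · rw [one_mul]

theorem wtS_ne_zero (a b x : I ⊕ I) {t : K} (ht : t ≠ 0) : wtS a b x t ≠ 0 := by
  unfold wtS
  split_ifs
  · exact ht
  · exact inv_ne_zero ht
  · exact one_ne_zero

theorem wtL_ne_zero (a x : I ⊕ I) {t : K} (ht : t ≠ 0) : wtL a x t ≠ 0 := by
  unfold wtL
  split_ifs
  · exact ht
  · exact inv_ne_zero ht
  · exact one_ne_zero

section wt

variable {a b : I ⊕ I} (hab : a ≠ b) (hab' : a ≠ ng b)
include hab hab'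

theorem wtS_a (t : K) : wtS a b a t = t := by
  unfold wtS
  rw [if_pos (Or.inl rfl)]

theorem wtS_nb (t : K) : wtS a b (ng b) t = t := by
  unfold wtS
  rw [if_pos (Or.inr rfl)]

theorem wtS_b (t : K) : wtS a b b t = t⁻¹ := by
  unfold wtS
  rw [if_neg, if_pos (Or.inl rfl)]
  rintro (h | h)
  · exact hab h.symm
  · exact ne_ng b h

theorem wtS_na (t : K) : wtS a b (ng a) t = t⁻¹ := by
  unfold wtS
  rw [if_neg, if_pos (Or.inr rfl)]
  rintro (h | h)
  · exact ng_ne a h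
  · exact hab (ng_inj.1 h)

omit hab hab' in
theorem wtS_out {x : I ⊕ I} (h1 : x ≠ a) (h2 : x ≠ ng a) (h3 : x ≠ b) (h4 : x ≠ ng b) (t : K) :
    wtS a b x t = 1 := by
  unfold wtS
  rw [if_neg, if_neg]
  · rintro (h | h)
    · exact h3 h
    · exact h2 h
  · rintro (h | h)
    · exact h1 h
    · exact h4 h

end wt

theorem wtL_a (a : I ⊕ I) (t : K) : wtL a a t = t := by
  unfold wtL
  rw [if_pos rfl]

theorem wtL_na (a : I ⊕ I) (t : K) : wtL a (ng a) t = t⁻¹ := by
  unfold wtL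
  rw [if_neg (ng_ne a), if_pos rfl]

theorem wtL_out {a x : I ⊕ I} (h1 : x ≠ a) (h2 : x ≠ ng a) (t : K) : wtL a x t = 1 := by
  unfold wtL
  rw [if_neg h1, if_neg h2]

namespace SpRel

variable {T : I ⊕ I → I ⊕ I → K → Γ} {L : I ⊕ I → K → Γ} (S : SpRel T L)
include S

/-- `h_{e_a - e_b}(t)` acts on `l_c(u)` through the square of the weight of `c` -/
theorem hS_cj_L {a b : I ⊕ I} (hab : a ≠ b) (hab' : a ≠ ng b) (c : I ⊕ I) (t : K) (ht : t ≠ 0) (u : K) :
    cj (hS T a b t) (L c u) = L c (wtS a b c t ^ 2 * u) := by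
  by_cases h1 : c = a
  · subst h1
    rw [S.hS_cj_La hab hab' t ht, wtS_a hab hab']
  by_cases h2 : c = ng a
  · subst h2
    rw [S.hS_cj_Lna hab hab' t ht, wtS_na hab hab', inv_pow]
  by_cases h3 : c = b
  · subst h3
    rw [S.hS_cj_Lb hab hab' t ht, wtS_b hab hab', inv_pow]
  by_cases h4 : c = ng b
  · subst h4
    rw [S.hS_cj_Lnb hab hab' t ht, wtS_nb hab hab']
  rw [S.hS_cj_TL hab hab' h1 h2 h3 h4, wtS_out h1 h2 h3 h4, one_pow, one_mul]

/-- `h_{2 e_a}(t)` acts on `l_c(u)` through the square of the weight of `c` -/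
theorem hL_cj_L {a b : I ⊕ I} (hab : a ≠ b) (hab' : a ≠ ng b) (c : I ⊕ I) (t : K) (ht : t ≠ 0) (u : K) :
    cj (hL L a t) (L c u) = L c (wtL a c t ^ 2 * u) := by
  by_cases h1 : c = a
  · subst h1
    rw [S.hL_cj_La hab hab' t ht, wtL_a]
  by_cases h2 : c = ng a
  · subst h2
    rw [S.hL_cj_Lna hab hab' t ht, wtL_na, inv_pow]
  rw [S.hL_cj_LL h1 h2, wtL_out h1 h2, one_pow, one_mul]

/-- `h_{2 e_a}(t)` acts on `x_cd(u)` through the quotient of the weights of `c` and `d` -/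
theorem hL_cj_T {a c d : I ⊕ I} (hcd : c ≠ d) (hcd' : c ≠ ng d) (t : K) (ht : t ≠ 0) (u : K) :
    cj (hL L a t) (T c d u) = T c d (wtL a c t * (wtL a d t)⁻¹ * u) := by
  have hdc : d ≠ c := hcd.symm
  have hdc' : d ≠ ng c := fun h => hcd' (by rw [h, ng_ng])
  by_cases h1 : c = a
  · subst h1
    rw [S.hL_cj_1 hcd hcd' t ht, wtL_a, wtL_out hdc hdc', inv_one, mul_one]
  by_cases h2 : c = ng a
  · subst h2
    have h3 : a ≠ d := fun h => hcd' (by rw [h])
    have h4 : a ≠ ng d := fun h => hcd (by rw [h, ng_ng])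
    rw [S.hL_cj_2 h3 h4 t ht, wtL_na, wtL_out h3.symm (fun h => h4 (by rw [h, ng_ng])), inv_one, mul_one]
  by_cases h3 : d = a
  · subst h3
    rw [S.hL_cj_3 h1 h2 t ht, wtL_a, wtL_out h1 h2, one_mul]
  by_cases h4 : d = ng a
  · subst h4
    rw [S.hL_cj_4 h1 h2 t ht, wtL_na, wtL_out h1 h2, one_mul, inv_inv]
  rw [S.hL_cj_LT hcd hcd' h1 h2 h3 h4, wtL_out h1 h2, wtL_out h3 h4, inv_one, mul_one, one_mul]

/-- `h_{e_a - e_b}(t)` acts on `x_cd(u)` through the quotient of the weights of `c` and `d` -/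
theorem hS_cj_T {a b c d : I ⊕ I} (hab : a ≠ b) (hab' : a ≠ ng b) (hcd : c ≠ d) (hcd' : c ≠ ng d)
    (hm : ∃ m : I ⊕ I, m ≠ a ∧ m ≠ ng a ∧ m ≠ b ∧ m ≠ ng b) (t : K) (ht : t ≠ 0) (u : K) :
    cj (hS T a b t) (T c d u) = T c d (wtS a b c t * (wtS a b d t)⁻¹ * u) := by
  have hba : b ≠ a := hab.symm
  have hba' : b ≠ ng a := fun h => hab' (by rw [h, ng_ng])
  have hdc : d ≠ c := hcd.symm
  have hdc' : d ≠ ng c := fun h => hcd' (by rw [h, ng_ng])
  have hee := sg_mul_sq (K := K) a b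
  obtain ⟨m, hm1, hm2, hm3, hm4⟩ := hm
  have ham : a ≠ m := hm1.symm
  have ham' : a ≠ ng m := fun h => hm2 (by rw [h, ng_ng])
  have hbm : b ≠ m := hm3.symm
  have hbm' : b ≠ ng m := fun h => hm4 (by rw [h, ng_ng])
  by_cases h1 : c = a
  · subst h1
    by_cases h2 : d = b
    · subst h2
      rw [S.hS_cj_5 hab hab' ham ham' hbm hbm' t ht, wtS_a hab hab', wtS_b hab hab', inv_inv]
      congr 1
      ring
    by_cases h3 : d = ng b
    · subst h3
      rw [S.hS_cj_7 hab hab' t ht, wtS_a hab hab', wtS_nb hab hab', mul_inv_cancel₀ ht, one_mul]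
    have h4 : b ≠ ng d := fun h => h3 (by rw [h, ng_ng])
    rw [S.hS_cj_1 hab hab' hcd hcd' (Ne.symm h2) h4 t ht, wtS_a hab hab', wtS_out hdc hdc' h2 h3, inv_one,
      mul_one]
  by_cases h2 : c = b
  · subst h2
    by_cases h3 : d = a
    · subst h3
      rw [S.hS_cj_6 hab hab' ham ham' hbm hbm' t ht, wtS_a hab hab', wtS_b hab hab']
      congr 1
      field_simp
    by_cases h4 : d = ng a
    · subst h4
      have e1 : ∀ v : K, T c (ng a) v = T a (ng c) (sg K a * sg K c * v) := by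
        intro v
        rw [S.symT_ng hab hab', ← mul_assoc, hee, one_mul]
      rw [e1 u, S.hS_cj_7 hab hab' t ht, ← e1 u, wtS_b hab hab', wtS_na hab hab', inv_inv,
        inv_mul_cancel₀ ht, one_mul]
    have h5 : a ≠ ng d := fun h => h4 (by rw [h, ng_ng])
    rw [S.hS_cj_2 hab hab' (Ne.symm h3) h5 hcd hcd' t ht, wtS_b hab hab', wtS_out h3 h4 hdc hdc', inv_one,
      mul_one]
  by_cases h3 : c = ng a
  · subst h3
    have hda : d ≠ a := fun h => hcd' (by rw [h])
    by_cases h4 : d = b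
    · subst h4
      rw [S.hS_cj_8 hab hab' t ht, wtS_na hab hab', wtS_b hab hab', inv_inv, inv_mul_cancel₀ ht, one_mul]
    by_cases h5 : d = ng b
    · subst h5
      have e1 : ∀ v : K, T (ng a) (ng b) v = T b a (-(sg K a * sg K b * v)) := by
        intro v
        rw [S.symT (ng a) (ng b) hcd hcd', ng_ng, ng_ng, sg_ng, sg_ng]
        congr 1
        ring
      rw [e1 u, S.hS_cj_6 hab hab' ham ham' hbm hbm' t ht, e1, wtS_na hab hab', wtS_nb hab hab']
      congr 1
      field_simp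
    have h6 : a ≠ ng d := fun h => hcd (by rw [h, ng_ng])
    have h7 : b ≠ ng d := fun h => h5 (by rw [h, ng_ng])
    have e1 : ∀ v : K, T (ng a) d v = T (ng d) a (-(sg K (ng a) * sg K d * v)) := by
      intro v
      rw [S.symT (ng a) d hcd hcd', ng_ng]
    have h8 : a ≠ ng (ng d) := by rw [ng_ng]; exact hda.symm
    have h9 : b ≠ ng (ng d) := by rw [ng_ng]; exact Ne.symm h4
    rw [e1 u, S.hS_cj_3 hab hab' h6 h8 h7 h9 t ht, e1, wtS_na hab hab', wtS_out hda hdc h4 h5, inv_one,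
      mul_one]
    congr 1
    ring
  by_cases h4 : c = ng b
  · subst h4
    have hdb : d ≠ b := fun h => hcd' (by rw [h])
    by_cases h5 : d = a
    · subst h5
      have e1 : ∀ v : K, T (ng b) d v = T (ng d) b (-(sg K (ng b) * sg K d * v)) := by
        intro v
        rw [S.symT (ng b) d hcd hcd', ng_ng]
      rw [e1 u, S.hS_cj_8 hab hab' t ht, ← e1 u, wtS_nb hab hab', wtS_a hab hab', mul_inv_cancel₀ ht,
        one_mul]
    by_cases h6 : d = ng a
    · subst h6
      have e1 : ∀ v : K, T (ng b) (ng a) v = T a b (-(sg K a * sg K b * v)) := by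
        intro v
        rw [S.symT (ng b) (ng a) hcd hcd', ng_ng, ng_ng, sg_ng, sg_ng]
        congr 1
        ring
      rw [e1 u, S.hS_cj_5 hab hab' ham ham' hbm hbm' t ht, e1, wtS_nb hab hab', wtS_na hab hab', inv_inv]
      congr 1
      ring
    have h7 : a ≠ ng d := fun h => h6 (by rw [h, ng_ng])
    have h8 : b ≠ ng d := fun h => hcd (by rw [h, ng_ng])
    have e1 : ∀ v : K, T (ng b) d v = T (ng d) b (-(sg K (ng b) * sg K d * v)) := by
      intro v
      rw [S.symT (ng b) d hcd hcd', ng_ng]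
    have h9 : a ≠ ng (ng d) := by rw [ng_ng]; exact Ne.symm h5
    have h10 : b ≠ ng (ng d) := by rw [ng_ng]; exact hdb.symm
    rw [e1 u, S.hS_cj_4 hab hab' h7 h9 h8 h10 t ht, e1, wtS_nb hab hab', wtS_out h5 h6 hdb hdc, inv_one,
      mul_one]
    congr 1
    ring
  -- `c` away from `±a, ±b`
  have hac : a ≠ c := Ne.symm h1
  have hac' : a ≠ ng c := fun h => h3 (by rw [h, ng_ng])
  have hbc : b ≠ c := Ne.symm h2
  have hbc' : b ≠ ng c := fun h => h4 (by rw [h, ng_ng])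
  rw [wtS_out h1 h3 h2 h4, one_mul]
  by_cases h5 : d = a
  · subst h5
    rw [S.hS_cj_3 hab hab' hac hac' hbc hbc' t ht, wtS_a hab hab']
  by_cases h6 : d = b
  · subst h6
    rw [S.hS_cj_4 hab hab' hac hac' hbc hbc' t ht, wtS_b hab hab', inv_inv]
  by_cases h7 : d = ng a
  · subst h7
    have e1 : ∀ v : K, T c (ng a) v = T a (ng c) (sg K c * sg K a * v) := fun v => S.symT_ng h1 h3 v
    have h8 : a ≠ ng (ng c) := by rw [ng_ng]; exact hac
    have h9 : b ≠ ng (ng c) := by rw [ng_ng]; exact hbc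
    rw [e1 u, S.hS_cj_1 hab hab' hac' h8 hbc' h9 t ht, e1, wtS_na hab hab', inv_inv]
    congr 1
    ring
  by_cases h8 : d = ng b
  · subst h8
    have e1 : ∀ v : K, T c (ng b) v = T b (ng c) (sg K c * sg K b * v) := fun v => S.symT_ng h2 h4 v
    have h9 : a ≠ ng (ng c) := by rw [ng_ng]; exact hac
    have h10 : b ≠ ng (ng c) := by rw [ng_ng]; exact hbc
    rw [e1 u, S.hS_cj_2 hab hab' hac' h9 hbc' h10 t ht, e1, wtS_nb hab hab']
    congr 1
    ring
  rw [S.hS_cj_TT hab hab' hcd hcd' h1 h3 h2 h4 h5 h7 h6 h8, wtS_out h5 h7 h6 h8, inv_one, one_mul]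

end SpRel

end Cfsg.Agent.Helper6.SpN
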