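import Mathlib
import Cfsg.Agent.Lib.Helper6.SpF

/-!
Central extensions of a group with Steinberg relations of type `C`: the interfaces of the lifting argument.
`CLift`: lifts of commuting root elements commute. `ShortLift`, `LongLift`: canonical lifts of the short and long
root elements, characterised by the commutator formulas for arbitrary lifts.
-/

set_option autoImplicit false
set_option linter.unusedSectionVars false
set_option linter.unusedVariables false

namespace Cfsg.Agent.Helper6.SpN

open Cfsg.Agent.Helper6 Cfsg.Agent.Helper6.SLn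

variable {I : Type*} {K : Type*} [Field K] {Γ E : Type*} [Group Γ] [Group E]

/-- lifts of commuting root elements commute -/
structure CLift (T : I ⊕ I → I ⊕ I → K → Γ) (L : I ⊕ I → K → Γ) (π : E →* Γ) : Prop where
  tt : ∀ a b c d, a ≠ b → a ≠ ng b → c ≠ d → c ≠ ng d → c ≠ b → c ≠ ng a → d ≠ a → d ≠ ng b →
    ∀ (t u : K) (x y : E), π x = T a b t → π y = T c d u → Commute x y
  tl : ∀ a b c, a ≠ b → a ≠ ng b → c ≠ b → c ≠ ng a →
    ∀ (t u : K) (x y : E), π x = T a b t → π y = L c u → Commute x y
  ll : ∀ a c, c ≠ ng a → ∀ (t u : K) (x y : E), π x = L a t → π y = L c u → Commute x y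

/-- canonical lifts of the short root elements: the commutator of arbitrary lifts of `x_ab(t)` and `x_bc(u)` -/
structure ShortLift (T : I ⊕ I → I ⊕ I → K → Γ) (π : E →* Γ) (T' : I ⊕ I → I ⊕ I → K → E) : Prop where
  map : ∀ a b, a ≠ b → a ≠ ng b → ∀ t, π (T' a b t) = T a b t
  eq : ∀ a b c, a ≠ b → a ≠ ng b → b ≠ c → b ≠ ng c → a ≠ c → a ≠ ng c →
    ∀ (t u : K) (x y : E), π x = T a b t → π y = T b c u → cm x y = T' a c (t * u)

/-- canonical lifts of the long root elements: the commutator of arbitrary lifts of `x_ab(t)` and `l_b(u)` -/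
structure LongLift (T : I ⊕ I → I ⊕ I → K → Γ) (L : I ⊕ I → K → Γ) (π : E →* Γ)
    (T' : I ⊕ I → I ⊕ I → K → E) (L' : I ⊕ I → K → E) : Prop where
  map : ∀ a t, π (L' a t) = L a t
  eq : ∀ a b, a ≠ b → a ≠ ng b → ∀ (t u : K) (x y : E), π x = T a b t → π y = L b u →
    cm x y = T' a (ng b) (t * u) * L' a (sg K a * sg K b * t ^ 2 * u)

end Cfsg.Agent.Helper6.SpN
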