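import Mathlib
import Cfsg.Agent.Lib.Helper18.WCDefs

/-!
# S2244 piece WC-LEJ: a subgroup `X ≤ U` lies in `U_J` for `J = JX` (the fundamental reflections
normalising `X`).
-/

set_option autoImplicit false
set_option linter.unusedSectionVars false
set_option linter.unusedVariables false

namespace Cfsg.Agent.Helper18.WC

open Cfsg Cfsg.Lie Cfsg.Agent.Lead.Chev Cfsg.Agent.Helper6.ChevL Cfsg.Agent.Helper6.Uni
open scoped commutatorElement

section Chev

variable {F : Type*} [Field F] {D : ChevalleyDatum} (hF : ChevFacts D F)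

omit hF in
/-- conjugation by `n_w`, `w` a word in `JX`, maps `X` into `X` -/
theorem wc_lej_word_conj_mem (hX : XAdd D F) (X : Subgroup (GL D.Idx F)) (w : List ℕ)
    (hw : ∀ i ∈ w, i ∈ JX hX X) (x : GL D.Idx F) (hx : x ∈ X) :
    nWordGL D hX w * x * (nWordGL D hX w)⁻¹ ∈ X := by
  induction w generalizing x with
  | nil => simpa [nWordGL_nil] using hx
  | cons i w ih =>
    have hi : i ∈ JX hX X := hw i (List.mem_cons_self)
    have hw' : ∀ k ∈ w, k ∈ JX hX X := fun k hk => hw k (List.mem_cons_of_mem _ hk)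
    have h1 : nWordGL D hX w * x * (nWordGL D hX w)⁻¹ ∈ X := ih hw' x hx
    have h2 : nGL D hX (D.simple i) * (nWordGL D hX w * x * (nWordGL D hX w)⁻¹) *
        (nGL D hX (D.simple i))⁻¹ ∈ X := by
      have hmap := hi.2
      rw [← hmap]
      exact ⟨_, h1, by simp [MulAut.conj_apply]⟩
    rw [nWordGL_cons]
    have e : nGL D hX (D.simple i) * nWordGL D hX w * x * (nGL D hX (D.simple i) * nWordGL D hX w)⁻¹ =
        nGL D hX (D.simple i) * (nWordGL D hX w * x * (nWordGL D hX w)⁻¹) *
          (nGL D hX (D.simple i))⁻¹ := by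
      rw [mul_inv_rev]; simp only [mul_assoc]
    rw [e]
    exact h2

include hF

/-- WC-LEJ: `X ≤ U_J` for `J = JX` -/
theorem le_radical_JX (hP : ParFacts D) (hC : CommJ D) (hS : CorSize D)
    (X : Subgroup (GL D.Idx F)) (hXU : X ≤ D.posUnipotent F) :
    X ≤ D.unipotentRadical F (JX hF.xadd X) := by
  obtain ⟨w, hw, hneg⟩ := Cfsg.Agent.Helper6.Uni.exists_wJ hF (JX hF.xadd X)
  intro x hx
  have hxU : x ∈ D.posUnipotent F := hXU hx
  have hconj : nWordGL D hF.xadd w * x * (nWordGL D hF.xadd w)⁻¹ ∈ X :=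
    wc_lej_word_conj_mem hF.xadd X w (fun i hi => (hw i hi).1) x hx
  have hB : nWordGL D hF.xadd w * x * (nWordGL D hF.xadd w)⁻¹ ∈ D.borelSubgroup F := by
    have := hXU hconj
    exact (le_sup_left : D.posUnipotent F ≤ D.borelSubgroup F) this
  exact (mem_radical_iff hF hP hC hS (JX hF.xadd X) w hw hneg x hxU).1 hB

end Chev

end Cfsg.Agent.Helper18.WC
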