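import Mathlib
import Cfsg.Agent.Lib.Helper18.WCDefs

/-!
# S2244 piece WC-NSCOMM: `[U, U_J] ≤ U_J^{ns} = rootGen (QJns D J)`.
-/

set_option autoImplicit false
set_option linter.unusedSectionVars false
set_option linter.unusedVariables false

namespace Cfsg.Agent.Helper18.WC

open Cfsg Cfsg.Lie Cfsg.Agent.Lead.Chev Cfsg.Agent.Helper6.ChevL Cfsg.Agent.Helper6.Uni
open scoped commutatorElement

/-- abstract double closure induction: commutators of generators in `N`, generators normalise `N` -/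
theorem wc_nscomm_closure {G : Type*} [Group G] (N : Subgroup G) (S T : Set G)
    (hS : Subgroup.closure S ≤ Subgroup.normalizer (N : Set G))
    (hT : Subgroup.closure T ≤ Subgroup.normalizer (N : Set G))
    (h : ∀ a ∈ S, ∀ b ∈ T, ⁅a, b⁆ ∈ N) :
    ∀ u ∈ Subgroup.closure S, ∀ y ∈ Subgroup.closure T, ⁅u, y⁆ ∈ N := by
  have conjmem : ∀ g ∈ Subgroup.normalizer (N : Set G), ∀ k ∈ N, g * k * g⁻¹ ∈ N := by
    intro g hg k hk
    exact (Subgroup.mem_normalizer_iff.1 hg k).1 hk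
  have conjmem' : ∀ g ∈ Subgroup.normalizer (N : Set G), ∀ k ∈ N, g⁻¹ * k * g ∈ N := by
    intro g hg k hk
    have := conjmem g⁻¹ (inv_mem hg) k hk
    simpa using this
  -- first: `a ∈ S` fixed, induction on `y`
  have step1 : ∀ a ∈ S, ∀ y ∈ Subgroup.closure T, ⁅a, y⁆ ∈ N := by
    intro a ha y hy
    induction hy using Subgroup.closure_induction with
    | mem b hb => exact h a ha b hb
    | one => simp [commutatorElement_def]
    | mul y1 y2 hy1 hy2 ih1 ih2 =>
      have e : ⁅a, y1 * y2⁆ = ⁅a, y1⁆ * (y1 * ⁅a, y2⁆ * y1⁻¹) := by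
        simp only [commutatorElement_def]; group
      rw [e]
      exact mul_mem ih1 (conjmem y1 (hT hy1) _ ih2)
    | inv y1 hy1 ih1 =>
      have e : ⁅a, y1⁻¹⁆ = y1⁻¹ * (⁅a, y1⁆)⁻¹ * y1 := by
        simp only [commutatorElement_def]; group
      rw [e]
      exact conjmem' y1 (hT hy1) _ (inv_mem ih1)
  intro u hu
  induction hu using Subgroup.closure_induction with
  | mem a ha => exact step1 a ha
  | one => intro y _; simp [commutatorElement_def]
  | mul u1 u2 hu1 hu2 ih1 ih2 =>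
    intro y hy
    have e : ⁅u1 * u2, y⁆ = (u1 * ⁅u2, y⁆ * u1⁻¹) * ⁅u1, y⁆ := by
      simp only [commutatorElement_def]; group
    rw [e]
    exact mul_mem (conjmem u1 (hS hu1) _ (ih2 y hy)) (ih1 y hy)
  | inv u1 hu1 ih1 =>
    intro y hy
    have e : ⁅u1⁻¹, y⁆ = u1⁻¹ * (⁅u1, y⁆)⁻¹ * u1 := by
      simp only [commutatorElement_def]; group
    rw [e]
    exact conjmem' u1 (hS hu1) _ (inv_mem (ih1 y hy))

section Chev

variable {F : Type*} [Field F] {D : ChevalleyDatum} (hF : ChevFacts D F)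

include hF

/-- the word of the commutator formula of a positive root `a` and a root `s` of `U_J` lies in `U_J^{ns}` -/
theorem wc_nscomm_word_mem (hC : CommJ D) (hNS : CommNS D) (J : Set ℕ) (a : ℕ) (ha : D.IsPosRoot a)
    (s : ℕ) (hs : QJ D J s) (hsa : s ≠ a) (t u : F) :
    wordGL D hF.xadd (D.commWord F a s t u) ∈ rootGen D F (QJns D J) := by
  refine wordGL_mem_rootGen hF.xadd _ _ ?_
  intro q hq
  unfold ChevalleyDatum.commWord at hq
  obtain ⟨c, hc', rfl⟩ := List.mem_map.1 hq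
  obtain ⟨hpos, hsupp⟩ := hC a s ha hs.1 hsa c hc'
  refine ⟨hpos, ?_, hNS a s ha hs.1 hsa c hc'⟩
  rw [not_inRootSub_iff J _ hpos.1]
  obtain ⟨i, hi, hiJ, hne⟩ := (not_inRootSub_iff J s hs.1.1).1 hs.2
  exact ⟨i, hi, hiJ, hsupp i hi hne⟩

/-- conjugation formula `x_a(t) x_s(u) x_a(t)⁻¹ = x_s(u) · word` -/
theorem wc_nscomm_conj_eq (a : ℕ) (ha : D.IsPosRoot a) (s : ℕ) (hs : D.IsPosRoot s) (hsa : s ≠ a)
    (t u : F) :
    xGL D hF.xadd a t * xGL D hF.xadd s u * (xGL D hF.xadd a t)⁻¹ =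
      xGL D hF.xadd s u * wordGL D hF.xadd (D.commWord F a s (-t) u) := by
  have hsna : s ≠ D.neg a := by
    intro h
    rw [h] at hs
    exact hF.sign.not_both _ hs (hF.sign.neg_of_pos a ha)
  have hc := hF.comm a ha.1 s hs.1 hsa hsna
  rw [xGL_inv]
  have e1 : xGL D hF.xadd s u * xGL D hF.xadd a (-t) =
      xGL D hF.xadd a (-t) * xGL D hF.xadd s u * wordGL D hF.xadd (D.commWord F a s (-t) u) := by
    apply Units.ext
    rw [Units.val_mul, Units.val_mul, Units.val_mul, wordGL_val, xGL_val, xGL_val]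
    exact hc (-t) u
  rw [mul_assoc, e1, ← mul_assoc, ← mul_assoc, xGL_mul, add_neg_cancel, xGL_zero, one_mul]

/-- positive root elements normalise `U_J^{ns}` -/
theorem wc_nscomm_xGL_conj (hC : CommJ D) (hNS : CommNS D) (J : Set ℕ) (a : ℕ) (ha : D.IsPosRoot a)
    (t : F) (k : GL D.Idx F) (hk : k ∈ rootGen D F (QJns D J)) :
    xGL D hF.xadd a t * k * (xGL D hF.xadd a t)⁻¹ ∈ rootGen D F (QJns D J) := by
  apply conj_rootGen hF.xadd _ (QJns D J) (QJns D J) _ k hk
  intro s hs u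
  by_cases hsa : s = a
  · subst hsa
    have e : xGL D hF.xadd s t * xGL D hF.xadd s u * (xGL D hF.xadd s t)⁻¹ = xGL D hF.xadd s u := by
      rw [xGL_inv, xGL_mul, xGL_mul]
      congr 1
      ring
    rw [e]
    exact xGL_mem_rootGen hF.xadd _ s hs u
  · rw [wc_nscomm_conj_eq hF a ha s hs.1 hsa t u]
    exact mul_mem (xGL_mem_rootGen hF.xadd _ s hs u)
      (wc_nscomm_word_mem hF hC hNS J a ha s ⟨hs.1, hs.2.1⟩ hsa (-t) u)

/-- `U` normalises `U_J^{ns}` -/
theorem wc_nscomm_posUnipotent_le_normalizer (hC : CommJ D) (hNS : CommNS D) (J : Set ℕ) :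
    D.posUnipotent F ≤ Subgroup.normalizer (rootGen D F (QJns D J) : Set (GL D.Idx F)) := by
  unfold ChevalleyDatum.posUnipotent
  apply closure_le_normalizer_of
  · rintro g ⟨r, t, hr, hg⟩
    refine ⟨r, -t, hr, ?_⟩
    have : g = xGL D hF.xadd r t := Units.ext (by rw [hg, xGL_val])
    rw [this, xGL_inv]
    rfl
  · rintro g ⟨r, t, hr, hg⟩ k hk
    have : g = xGL D hF.xadd r t := Units.ext (by rw [hg, xGL_val])
    rw [this]
    exact wc_nscomm_xGL_conj hF hC hNS J r hr t k hk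

/-- WC-NSCOMM: `[U, U_J] ≤ U_J^{ns}` -/
theorem commutator_mem_ns (hC : CommJ D) (hNS : CommNS D) (J : Set ℕ)
    (u : GL D.Idx F) (hu : u ∈ D.posUnipotent F) (y : GL D.Idx F) (hy : y ∈ D.unipotentRadical F J) :
    ⁅u, y⁆ ∈ rootGen D F (QJns D J) := by
  have hUn := wc_nscomm_posUnipotent_le_normalizer hF hC hNS J
  have hJU : D.unipotentRadical F J ≤ D.posUnipotent F := by
    unfold ChevalleyDatum.unipotentRadical ChevalleyDatum.posUnipotent
    apply Subgroup.closure_mono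
    rintro g ⟨r, t, hr, _, hg⟩
    exact ⟨r, t, hr, hg⟩
  unfold ChevalleyDatum.posUnipotent at hu hUn
  unfold ChevalleyDatum.unipotentRadical at hy
  refine wc_nscomm_closure (rootGen D F (QJns D J)) _ _ hUn ?_ ?_ u hu y hy
  · refine le_trans ?_ hUn
    unfold ChevalleyDatum.unipotentRadical ChevalleyDatum.posUnipotent at hJU
    exact hJU
  · rintro g ⟨a, t, ha, hg⟩ g' ⟨s, v, hs, hsJ, hg'⟩
    have e1 : g = xGL D hF.xadd a t := Units.ext (by rw [hg, xGL_val])
    have e2 : g' = xGL D hF.xadd s v := Units.ext (by rw [hg', xGL_val])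
    rw [e1, e2]
    by_cases hsa : s = a
    · subst hsa
      have e : ⁅xGL D hF.xadd s t, xGL D hF.xadd s v⁆ = 1 := by
        rw [commutatorElement_def, xGL_inv, xGL_inv, xGL_mul, xGL_mul, xGL_mul]
        have : t + v + -t + -v = 0 := by ring
        rw [this, xGL_zero]
      rw [e]
      exact one_mem _
    · rw [commutatorElement_def, wc_nscomm_conj_eq hF a ha s hs hsa t v]
      exact wc_nscomm_xGL_conj hF hC hNS J s hs v _
        (wc_nscomm_word_mem hF hC hNS J a ha s ⟨hs, hsJ⟩ hsa (-t) v)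

end Chev

end Cfsg.Agent.Helper18.WC
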