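import Mathlib
import Cfsg.Agent.Lib.Lead.NC2Defs

/-!
# S3894 (n = 2), PIECE N2-GOOD, core lemmas (helper6, for lead).  `uniType_of_commute` is proved
here from the statement of N2-K2 taken as a hypothesis; the exact-name wrappers are in `NC2GOOD.lean`.
-/

set_option autoImplicit false

namespace Cfsg.Agent.Lead.NC2

open Matrix

variable {F : Type*} [Field F]

/-- a scalar nilpotent `2 × 2` matrix is zero. -/
theorem nc2_good_scalar_nilp {N : Matrix (Fin 2) (Fin 2) F} (hN : N * N = 0) (hs : IsScalar N) :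
    N = 0 := by
  obtain ⟨d, hd⟩ := hs
  have h1 : N * N = (d * d) • (1 : Matrix (Fin 2) (Fin 2) F) := by
    rw [hd, Matrix.smul_mul, Matrix.mul_smul, Matrix.one_mul, smul_smul]
  rw [hN] at h1
  have h2 := congrFun (congrFun h1 0) 0
  simp at h2
  rw [hd, h2, zero_smul]

theorem nc2_good_not_isScalar {x : GL (Fin 2) F} (hx : Good x) :
    ¬ IsScalar (x : Matrix (Fin 2) (Fin 2) F) := by
  rintro ⟨c, hc⟩
  rcases hx with h | ⟨c', N, hN0, hNN, hxN⟩
  · apply h
    refine ⟨c * c, ?_⟩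
    rw [hc, Matrix.smul_mul, Matrix.mul_smul, Matrix.one_mul, smul_smul]
  · have hx0 : (x : Matrix (Fin 2) (Fin 2) F) ≠ 0 := Units.ne_zero x
    have hc' : c' ≠ 0 := by
      intro h0
      apply hx0
      rw [hxN, h0, zero_smul]
    apply hN0
    apply nc2_good_scalar_nilp hNN
    refine ⟨(c - c') * c'⁻¹, ?_⟩
    have h1 : c' • N = (c - c') • (1 : Matrix (Fin 2) (Fin 2) F) := by
      have h2 : c' • (1 + N) = c • (1 : Matrix (Fin 2) (Fin 2) F) := by rw [← hxN, hc]
      rw [smul_add] at h2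
      rw [sub_smul, ← h2]
      abel
    calc N = c'⁻¹ • (c' • N) := by rw [smul_smul, inv_mul_cancel₀ hc', one_smul]
      _ = ((c - c') * c'⁻¹) • (1 : Matrix (Fin 2) (Fin 2) F) := by
          rw [h1, smul_smul, mul_comm]

theorem nc2_good_uniType_of_commute
    (hK2 : ∀ {x m : Matrix (Fin 2) (Fin 2) F}, ¬ IsScalar x → m * x = x * m →
      ∃ a b : F, m = a • (1 : Matrix (Fin 2) (Fin 2) F) + b • x)
    {x z : GL (Fin 2) F} (hx : UniType x)
    (hz : ¬ IsScalar (z : Matrix (Fin 2) (Fin 2) F)) (h : z * x = x * z) : UniType z := by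
  obtain ⟨c, N, hN0, hNN, hxN⟩ := hx
  have hx0 : (x : Matrix (Fin 2) (Fin 2) F) ≠ 0 := Units.ne_zero x
  have hc : c ≠ 0 := by
    intro h0
    apply hx0
    rw [hxN, h0, zero_smul]
  have hcomm : (z : Matrix (Fin 2) (Fin 2) F) * N = N * (z : Matrix (Fin 2) (Fin 2) F) := by
    have h1 : (z : Matrix (Fin 2) (Fin 2) F) * (x : Matrix (Fin 2) (Fin 2) F) =
        (x : Matrix (Fin 2) (Fin 2) F) * (z : Matrix (Fin 2) (Fin 2) F) := by
      rw [← Units.val_mul, ← Units.val_mul, h]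
    rw [hxN, Matrix.mul_smul, Matrix.smul_mul, Matrix.mul_add, Matrix.add_mul, Matrix.mul_one,
      Matrix.one_mul] at h1
    have h2 := smul_right_injective (Matrix (Fin 2) (Fin 2) F) hc h1
    exact add_left_cancel h2
  have hNs : ¬ IsScalar N := fun hs => hN0 (nc2_good_scalar_nilp hNN hs)
  obtain ⟨a, b, hab⟩ := hK2 hNs hcomm
  have hb : b ≠ 0 := by
    intro h0
    apply hz
    refine ⟨a, ?_⟩
    rw [hab, h0, zero_smul, add_zero]
  have ha : a ≠ 0 := by
    intro h0
    have hz2 : (z : Matrix (Fin 2) (Fin 2) F) * (z : Matrix (Fin 2) (Fin 2) F) = 0 := by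
      rw [hab, h0, zero_smul, zero_add, Matrix.smul_mul, Matrix.mul_smul, hNN, smul_zero,
        smul_zero]
    have hzz : ((z * z : GL (Fin 2) F) : Matrix (Fin 2) (Fin 2) F) ≠ 0 := Units.ne_zero (z * z)
    rw [Units.val_mul] at hzz
    exact hzz hz2
  refine ⟨a, (b * a⁻¹) • N, ?_, ?_, ?_⟩
  · intro h0
    apply hN0
    have := smul_eq_zero.mp h0
    rcases this with h1 | h1
    · exact absurd h1 (mul_ne_zero hb (inv_ne_zero ha))
    · exact h1
  · rw [Matrix.smul_mul, Matrix.mul_smul, hNN, smul_zero, smul_zero]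
  · rw [hab, smul_add, smul_smul, mul_comm b, ← mul_assoc, mul_inv_cancel₀ ha, one_mul]

theorem nc2_good_uniType_uni (N : Matrix (Fin 2) (Fin 2) F) (hN : N * N = 0) (hN0 : N ≠ 0) :
    UniType (uni N hN) :=
  ⟨1, N, hN0, hN, by rw [uni_val, one_smul]⟩

theorem nc2_good_det_uni (N : Matrix (Fin 2) (Fin 2) F) (hN : N * N = 0) :
    ((uni N hN : GL (Fin 2) F) : Matrix (Fin 2) (Fin 2) F).det = 1 := by
  rw [uni_val]
  have h00 : N 0 0 * N 0 0 + N 0 1 * N 1 0 = 0 := by
    have := congrFun (congrFun hN 0) 0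
    simpa [Matrix.mul_apply, Fin.sum_univ_two] using this
  have h01 : N 0 0 * N 0 1 + N 0 1 * N 1 1 = 0 := by
    have := congrFun (congrFun hN 0) 1
    simpa [Matrix.mul_apply, Fin.sum_univ_two] using this
  have h11 : N 1 0 * N 0 1 + N 1 1 * N 1 1 = 0 := by
    have := congrFun (congrFun hN 1) 1
    simpa [Matrix.mul_apply, Fin.sum_univ_two] using this
  have ht3 : (N 0 0 + N 1 1) ^ 3 = 0 := by
    linear_combination (N 0 0 + N 1 1 + 2 * N 1 1) * h00 + (N 0 0 + N 1 1 + 2 * N 0 0) * h11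
      - 4 * N 1 0 * h01
  have ht : N 0 0 + N 1 1 = 0 := by
    have h3 : (3 : ℕ) ≠ 0 := by norm_num
    exact (pow_eq_zero_iff h3).mp ht3
  rw [Matrix.det_fin_two]
  simp only [Matrix.add_apply, Matrix.one_apply_eq, Matrix.one_apply_ne, ne_eq, zero_ne_one,
    one_ne_zero, not_false_eq_true, Fin.isValue, zero_add]
  have hd : N 1 1 = - N 0 0 := by linear_combination ht
  rw [hd]
  linear_combination (-1 : F) * h00

end Cfsg.Agent.Lead.NC2
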