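import Mathlib
import Cfsg.Agent.Lib.Lead.NC2Defs
import Cfsg.Agent.Lib.Helper6.NC2GOODCore

/-!
# S3894 (n = 2), PIECE N2-GOOD (helper6, for lead): exact-name theorems.  The commutant lemma (N2-K2)
is re-proved here under a private name so that this file does not wait for that piece.
-/

set_option autoImplicit false

namespace Cfsg.Agent.Lead.NC2

open Matrix

variable {F : Type*} [Field F]

/-- the commutant of a non-scalar `2 × 2` matrix (same statement as N2-K2). -/
theorem nc2_good_commutant {x m : Matrix (Fin 2) (Fin 2) F} (hx : ¬ IsScalar x)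
    (hm : m * x = x * m) :
    ∃ a b : F, m = a • (1 : Matrix (Fin 2) (Fin 2) F) + b • x := by
  have e00 : m 0 1 * x 1 0 = x 0 1 * m 1 0 := by
    have := congrFun (congrFun hm 0) 0
    simp only [Matrix.mul_apply, Fin.sum_univ_two] at this
    linear_combination this
  have e01 : x 0 1 * (m 0 0 - m 1 1) = m 0 1 * (x 0 0 - x 1 1) := by
    have := congrFun (congrFun hm 0) 1
    simp only [Matrix.mul_apply, Fin.sum_univ_two] at this
    linear_combination this
  have e10 : m 1 0 * (x 0 0 - x 1 1) = x 1 0 * (m 0 0 - m 1 1) := by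
    have := congrFun (congrFun hm 1) 0
    simp only [Matrix.mul_apply, Fin.sum_univ_two] at this
    linear_combination this
  have key : ∀ a b : F, m 0 0 = a + b * x 0 0 → m 0 1 = b * x 0 1 → m 1 0 = b * x 1 0 →
      m 1 1 = a + b * x 1 1 → m = a • (1 : Matrix (Fin 2) (Fin 2) F) + b • x := by
    intro a b h1 h2 h3 h4
    ext i j
    fin_cases i <;> fin_cases j <;> simp [h1, h2, h3, h4]
  by_cases hq : x 0 1 = 0
  · by_cases hr : x 1 0 = 0
    · have hps : x 0 0 - x 1 1 ≠ 0 := by
        intro hps
        apply hx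
        refine ⟨x 0 0, ?_⟩
        ext i j
        fin_cases i <;> fin_cases j <;> simp [hq, hr]
        linear_combination (-1 : F) * hps
      have hm2 : m 0 1 = 0 := by
        rw [hq, zero_mul] at e01
        rcases mul_eq_zero.mp e01.symm with h | h
        · exact h
        · exact absurd h hps
      have hm3 : m 1 0 = 0 := by
        rw [hr, zero_mul] at e10
        rcases mul_eq_zero.mp e10 with h | h
        · exact h
        · exact absurd h hps
      refine ⟨m 0 0 - (m 0 0 - m 1 1) / (x 0 0 - x 1 1) * x 0 0,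
        (m 0 0 - m 1 1) / (x 0 0 - x 1 1), key _ _ ?_ ?_ ?_ ?_⟩
      · ring
      · rw [hm2, hq, mul_zero]
      · rw [hm3, hr, mul_zero]
      · field_simp
        ring
    · refine ⟨m 0 0 - m 1 0 / x 1 0 * x 0 0, m 1 0 / x 1 0, key _ _ ?_ ?_ ?_ ?_⟩
      · ring
      · field_simp
        linear_combination e00
      · field_simp
      · field_simp
        linear_combination e10
  · refine ⟨m 0 0 - m 0 1 / x 0 1 * x 0 0, m 0 1 / x 0 1, key _ _ ?_ ?_ ?_ ?_⟩
    · ring
    · field_simp
    · field_simp
      linear_combination (-1 : F) * e00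
    · field_simp
      linear_combination (-1 : F) * e01

theorem Good.not_isScalar {x : GL (Fin 2) F} (hx : Good x) :
    ¬ IsScalar (x : Matrix (Fin 2) (Fin 2) F) :=
  nc2_good_not_isScalar hx

theorem uniType_of_commute {x z : GL (Fin 2) F} (hx : UniType x)
    (hz : ¬ IsScalar (z : Matrix (Fin 2) (Fin 2) F)) (h : z * x = x * z) : UniType z :=
  nc2_good_uniType_of_commute (fun hx' hm' => nc2_good_commutant hx' hm') hx hz h

theorem uniType_uni (N : Matrix (Fin 2) (Fin 2) F) (hN : N * N = 0) (hN0 : N ≠ 0) :
    UniType (uni N hN) :=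
  nc2_good_uniType_uni N hN hN0

theorem det_uni (N : Matrix (Fin 2) (Fin 2) F) (hN : N * N = 0) :
    ((uni N hN : GL (Fin 2) F) : Matrix (Fin 2) (Fin 2) F).det = 1 :=
  nc2_good_det_uni N hN

end Cfsg.Agent.Lead.NC2
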