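import Mathlib

/-!
# S4150 piece TRANSFER (helper6 for helper2): `card_eq_of_normalizer_fix_le`
-/

set_option autoImplicit false
set_option linter.style.haveILetI false
set_option linter.unusedVariables false

open Equiv Equiv.Perm MulAction Subgroup

namespace Cfsg.Agent.Helper2.AG

namespace TRANSFER

/-- Burnside's normal `p`-complement theorem for a self-normalizing Sylow subgroup of order `p`. -/
theorem exists_normal_complement {G : Type*} [Group G] [Finite G] {p : ℕ} [Fact p.Prime] {g : G}
    (hg : orderOf g = p) (hp2 : ¬ p ^ 2 ∣ Nat.card G)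
    (hN : ∀ ν : G, ν * g * ν⁻¹ ∈ zpowers g → ν ∈ zpowers g) :
    ∃ M : Subgroup G, M.Normal ∧ Nat.card G = p * Nat.card M ∧ ¬ p ∣ Nat.card M ∧
      ∀ H : Subgroup G, (Nat.card H).Coprime p → H ≤ M := by
  have hp : p.Prime := Fact.out
  have hX : IsPGroup p (zpowers g) :=
    IsPGroup.of_card (n := 1) (by rw [Nat.card_zpowers, hg, pow_one])
  obtain ⟨P, hP⟩ := hX.exists_le_sylow
  have hPcard : Nat.card (P : Subgroup G) = p := by
    obtain ⟨k, hk⟩ := IsPGroup.iff_card.mp P.isPGroup'
    have hdvd : Nat.card (P : Subgroup G) ∣ Nat.card G := Subgroup.card_subgroup_dvd_card _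
    have hle : p ≤ Nat.card (P : Subgroup G) := by
      have := Subgroup.card_le_of_le hP
      rw [Nat.card_zpowers, hg] at this
      exact this
    rw [hk] at hdvd hle ⊢
    have hk1 : k ≤ 1 := by
      by_contra hk1
      push Not at hk1
      exact hp2 ((pow_dvd_pow p hk1).trans hdvd)
    have hk0 : k ≠ 0 := by
      intro h0
      rw [h0, pow_zero] at hle
      exact absurd hle (by have := hp.two_le; omega)
    have : k = 1 := by omega
    rw [this, pow_one]
  have hPeq : zpowers g = (P : Subgroup G) :=
    Subgroup.eq_of_le_of_card_ge hP (by rw [hPcard, Nat.card_zpowers, hg])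
  have hNC : normalizer ((P : Subgroup G) : Set G) ≤ centralizer ((P : Subgroup G) : Set G) := by
    intro ν hν
    have h1 : ν * g * ν⁻¹ ∈ (P : Subgroup G) := by
      have := (mem_normalizer_iff.mp hν g).mp (by rw [← hPeq]; exact mem_zpowers g)
      exact this
    rw [← hPeq] at h1
    obtain ⟨j, hj⟩ := mem_zpowers_iff.mp (hN ν h1)
    rw [mem_centralizer_iff]
    intro y hy
    have hy' : y ∈ zpowers g := by rw [hPeq]; exact hy
    obtain ⟨i, hi⟩ := mem_zpowers_iff.mp hy'
    rw [← hi, ← hj]
    exact (Commute.zpow_zpow_self g i j).eq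
  refine ⟨(MonoidHom.transferSylow P hNC).ker, MonoidHom.normal_ker _, ?_, ?_, ?_⟩
  · have h := (MonoidHom.ker_transferSylow_isComplement' P hNC).card_mul_card
    rw [hPcard] at h
    rw [← h, mul_comm]
  · exact MonoidHom.not_dvd_card_ker_transferSylow P hNC
  · intro H hH h hh
    rw [MonoidHom.mem_ker]
    have h1 : orderOf (MonoidHom.transferSylow P hNC h) ∣ orderOf h := orderOf_map_dvd _ h
    have h2 : orderOf h ∣ Nat.card H := Subgroup.orderOf_dvd_natCard H hh
    have h3 : orderOf (MonoidHom.transferSylow P hNC h) ∣ Nat.card (P : Subgroup G) :=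
      orderOf_dvd_natCard _
    rw [hPcard] at h3
    have h4 : orderOf (MonoidHom.transferSylow P hNC h) ∣ Nat.gcd (Nat.card H) p :=
      Nat.dvd_gcd (h1.trans h2) h3
    rw [Nat.Coprime] at hH
    rw [hH] at h4
    exact orderOf_eq_one_iff.mp (Nat.dvd_one.mp h4)

end TRANSFER

section T13

variable {β : Type*} [Fintype β] [DecidableEq β]

namespace TRANSFER

/-- the support of an `11`-cycle on `13` points fixing `a ≠ b` is the complement of `{a, b}` -/
theorem mem_support_iff (hβ : Fintype.card β = 13) {g : Perm β} (hg11 : g.support.card = 11)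
    {a b : β} (hab : a ≠ b) (ha : g a = a) (hb : g b = b) (y : β) :
    y ∈ g.support ↔ y ≠ a ∧ y ≠ b := by
  constructor
  · intro hy
    rw [Perm.mem_support] at hy
    refine ⟨?_, ?_⟩
    · rintro rfl; exact hy ha
    · rintro rfl; exact hy hb
  · rintro ⟨hya, hyb⟩
    by_contra hy
    have hsub : ({a, b, y} : Finset β) ⊆ g.supportᶜ := by
      intro z hz
      simp only [Finset.mem_insert, Finset.mem_singleton] at hz
      rw [Finset.mem_compl, Perm.mem_support, not_not]
      rcases hz with rfl | rfl | rfl
      · exact ha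
      · exact hb
      · rw [Perm.mem_support, not_not] at hy; exact hy
    have hc : (g.supportᶜ).card = 2 := by
      rw [Finset.card_compl, hβ, hg11]
    have h3 : ({a, b, y} : Finset β).card = 3 := by
      rw [Finset.card_insert_of_notMem, Finset.card_insert_of_notMem, Finset.card_singleton]
      · simp [Ne.symm hyb]
      · simp [hab, Ne.symm hya]
    have := Finset.card_le_card hsub
    omega

end TRANSFER

/-- TRANSFER -/
theorem card_eq_of_normalizer_fix_le (hβ : Fintype.card β = 13) (K : Subgroup (Perm β))
    [IsMultiplyPretransitive K β 2] {g : Perm β} (hgc : g.IsCycle)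
    (hg11 : g.support.card = 11) (hg : g ∈ K) {a b : β} (hab : a ≠ b)
    (ha : g a = a) (hb : g b = b)
    (hN : ∀ ν ∈ K, ν a = a → ν b = b → ν * g * ν⁻¹ ∈ zpowers g → ν ∈ zpowers g) :
    Nat.card K = 13 * 12 * 11 := by
  classical
  haveI : Fact (Nat.Prime 11) := ⟨by norm_num⟩
  set L : Subgroup K := fixingSubgroup K ({a, b} : Set β) with hL
  -- the index of `L`
  have hidx : L.index = 156 := by
    have h := IsMultiplyPretransitive.index_of_fixingSubgroup_mul
      (G := K) (α := β) (k := 2) inferInstance (s := ({a, b} : Set β)) (Set.ncard_pair hab)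
    rw [Nat.card_eq_fintype_card, hβ] at h
    have e1 : (13 - 2).factorial = 39916800 := by decide
    have e2 : (13).factorial = 6227020800 := by decide
    rw [e1, e2] at h
    rw [hL]
    omega
  have hKL : Nat.card K = 156 * Nat.card L := by
    rw [← hidx, mul_comm]; exact (Subgroup.card_mul_index L).symm
  -- the embedding into `Perm β`
  let φ : L →* Perm β := K.subtype.comp L.subtype
  have hφ : Function.Injective φ := by
    intro x y hxy
    exact Subtype.ext (Subtype.ext hxy)
  have hφsmul : ∀ (l : L) (x : β), l • x = φ l x := fun l x => rfl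
  have hmemL : ∀ l : L, φ l a = a ∧ φ l b = b := by
    intro l
    have h := (mem_fixingSubgroup_iff K).mp l.2
    exact ⟨h a (by simp), h b (by simp)⟩
  -- `g` as an element of `L`
  have hgL : (⟨g, hg⟩ : K) ∈ L := by
    rw [hL, mem_fixingSubgroup_iff]
    intro y hy
    simp only [Set.mem_insert_iff, Set.mem_singleton_iff] at hy
    rcases hy with rfl | rfl
    · exact ha
    · exact hb
  set gL : L := ⟨⟨g, hg⟩, hgL⟩ with hgLdef
  have hφg : φ gL = g := rfl
  have hog : orderOf gL = 11 := by
    rw [← orderOf_injective φ hφ gL, hφg, hgc.orderOf, hg11]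
  have hzp : ∀ x : L, x ∈ zpowers gL ↔ φ x ∈ zpowers g := by
    intro x
    rw [← hφg, ← MonoidHom.map_zpowers, Subgroup.mem_map_iff_mem hφ]
  -- `121 ∤ |L|`
  have h121 : ¬ 11 ^ 2 ∣ Nat.card L := by
    intro h
    have h1 : Nat.card L ∣ Nat.card K := Subgroup.card_subgroup_dvd_card L
    have h2 : Nat.card K ∣ Nat.card (Perm β) := Subgroup.card_subgroup_dvd_card K
    have h3 : Nat.card (Perm β) = 6227020800 := by
      rw [Nat.card_perm, Nat.card_eq_fintype_card, hβ]; decide
    rw [h3] at h2
    have := h.trans (h1.trans h2)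
    norm_num at this
  -- the normal complement
  obtain ⟨M, hMn, hLM, hM11, hMle⟩ := TRANSFER.exists_normal_complement hog h121 (by
    intro ν hν
    rw [hzp] at hν ⊢
    have e : φ (ν * gL * ν⁻¹) = φ ν * g * (φ ν)⁻¹ := by
      rw [map_mul, map_mul, map_inv, hφg]
    rw [e] at hν
    exact hN (φ ν) (ν.1.2) (hmemL ν).1 (hmemL ν).2 hν)
  -- stabilizers of the points of the support
  have hsupp := TRANSFER.mem_support_iff hβ hg11 hab ha hb
  have hstab : ∀ x ∈ g.support, stabilizer L x = M := by
    intro x hx
    -- the orbit of `x` is the support of `g`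
    have horb : orbit L x = (g.support : Set β) := by
      ext y
      constructor
      · rintro ⟨l, rfl⟩
        show l • x ∈ g.support
        rw [hφsmul, hsupp]
        have hx' := (hsupp x).mp hx
        constructor
        · intro h
          apply hx'.1
          apply (φ l).injective
          rw [h, (hmemL l).1]
        · intro h
          apply hx'.2
          apply (φ l).injective
          rw [h, (hmemL l).2]
      · intro hy
        have hy' : y ∈ g.support := hy
        obtain ⟨i, hi⟩ := hgc.sameCycle (Perm.mem_support.mp hx) (Perm.mem_support.mp hy')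
        refine ⟨gL ^ i, ?_⟩
        show (gL ^ i) • x = y
        rw [hφsmul, map_zpow, hφg, hi]
    have hcard : Nat.card (stabilizer L x) * 11 = Nat.card L := by
      have h1 := Subgroup.card_mul_index (stabilizer L x)
      rw [MulAction.index_stabilizer, horb, Set.ncard_coe_finset, hg11] at h1
      exact h1
    have hcM : Nat.card (stabilizer L x) = Nat.card M := by
      rw [hLM] at hcard
      omega
    have hle : stabilizer L x ≤ M := by
      apply hMle
      rw [hcM]
      exact ((Nat.Prime.coprime_iff_not_dvd (by norm_num)).mpr hM11).symm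
    exact Subgroup.eq_of_le_of_card_ge hle (by rw [hcM])
  -- `M` is trivial
  have hM1 : M = ⊥ := by
    rw [Subgroup.eq_bot_iff_forall]
    intro m hm
    apply hφ
    rw [map_one]
    ext y
    by_cases hy : y ∈ g.support
    · have : m ∈ stabilizer L y := by rw [hstab y hy]; exact hm
      rw [mem_stabilizer_iff, hφsmul] at this
      rw [this]; rfl
    · rw [hsupp] at hy
      have hy' : y = a ∨ y = b := by
        by_contra h
        push Not at h
        exact hy h
      rcases hy' with rfl | rfl
      · rw [(hmemL m).1]; rfl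
      · rw [(hmemL m).2]; rfl
  have hL11 : Nat.card L = 11 := by
    rw [hLM, hM1, Subgroup.card_bot]
  rw [hKL, hL11]

end T13

end Cfsg.Agent.Helper2.AG
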