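import Mathlib
import Cfsg.Prelude.Def_Classical
import Cfsg.Prelude.Def_ChevB2
import Cfsg.Agent.Lib.Helper6.StCover

/-!
The root elements of the orthogonal group of `x₀² + x₁y₁ + x₂y₂` attached to the roots of `B₂`, given by their
action on coordinate vectors, with Steinberg's relations (R1), (R2) in the numbering and with the structure
constants of `chevB2`.
-/

set_option autoImplicit false
set_option linter.unusedSectionVars false

namespace Cfsg.Agent.Helper6.OrthB2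

open Matrix Cfsg Cfsg.Lie Cfsg.Agent.Helper6.StC

variable {F : Type*} [Field F]

/-- the index type of the five-dimensional space -/
abbrev I5 : Type := Unit ⊕ (Fin 2 ⊕ Fin 2)

/-- the vector with coordinates `z` (at `x₀`), `p₁, p₂` (at `x₁, x₂`), `q₁, q₂` (at `y₁, y₂`) -/
def mk5 (z p1 p2 q1 q2 : F) : I5 → F := Sum.elim (fun _ => z) (Sum.elim ![p1, p2] ![q1, q2])

@[simp] theorem mk5_z (z p1 p2 q1 q2 : F) : mk5 z p1 p2 q1 q2 (Sum.inl ()) = z := rfl
@[simp] theorem mk5_p1 (z p1 p2 q1 q2 : F) : mk5 z p1 p2 q1 q2 (Sum.inr (Sum.inl 0)) = p1 := rfl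
@[simp] theorem mk5_p2 (z p1 p2 q1 q2 : F) : mk5 z p1 p2 q1 q2 (Sum.inr (Sum.inl 1)) = p2 := rfl
@[simp] theorem mk5_q1 (z p1 p2 q1 q2 : F) : mk5 z p1 p2 q1 q2 (Sum.inr (Sum.inr 0)) = q1 := rfl
@[simp] theorem mk5_q2 (z p1 p2 q1 q2 : F) : mk5 z p1 p2 q1 q2 (Sum.inr (Sum.inr 1)) = q2 := rfl

theorem funext5 {f g : I5 → F} (h0 : f (Sum.inl ()) = g (Sum.inl ()))
    (h1 : f (Sum.inr (Sum.inl 0)) = g (Sum.inr (Sum.inl 0))) (h2 : f (Sum.inr (Sum.inl 1)) = g (Sum.inr (Sum.inl 1)))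
    (h3 : f (Sum.inr (Sum.inr 0)) = g (Sum.inr (Sum.inr 0))) (h4 : f (Sum.inr (Sum.inr 1)) = g (Sum.inr (Sum.inr 1))) :
    f = g := by
  funext x
  rcases x with ⟨⟩ | x | x
  · exact h0
  · fin_cases x
    · exact h1
    · exact h2
  · fin_cases x
    · exact h3
    · exact h4

theorem mk5_eta (v : I5 → F) :
    mk5 (v (Sum.inl ())) (v (Sum.inr (Sum.inl 0))) (v (Sum.inr (Sum.inl 1))) (v (Sum.inr (Sum.inr 0)))
      (v (Sum.inr (Sum.inr 1))) = v := by
  apply funext5 <;> rfl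

theorem exists_mk5 (v : I5 → F) : ∃ z p1 p2 q1 q2 : F, v = mk5 z p1 p2 q1 q2 :=
  ⟨_, _, _, _, _, (mk5_eta v).symm⟩

theorem mk5_congr {z p1 p2 q1 q2 z' p1' p2' q1' q2' : F} (h0 : z = z') (h1 : p1 = p1') (h2 : p2 = p2')
    (h3 : q1 = q1') (h4 : q2 = q2') : mk5 z p1 p2 q1 q2 = mk5 z' p1' p2' q1' q2' := by
  rw [h0, h1, h2, h3, h4]

theorem mk5_inj {z p1 p2 q1 q2 z' p1' p2' q1' q2' : F} (h : mk5 z p1 p2 q1 q2 = mk5 z' p1' p2' q1' q2') :
    z = z' ∧ p1 = p1' ∧ p2 = p2' ∧ q1 = q1' ∧ q2 = q2' :=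
  ⟨congrFun h (Sum.inl ()), congrFun h (Sum.inr (Sum.inl 0)), congrFun h (Sum.inr (Sum.inl 1)),
    congrFun h (Sum.inr (Sum.inr 0)), congrFun h (Sum.inr (Sum.inr 1))⟩

theorem mk5_add (z p1 p2 q1 q2 z' p1' p2' q1' q2' : F) :
    mk5 z p1 p2 q1 q2 + mk5 z' p1' p2' q1' q2' = mk5 (z + z') (p1 + p1') (p2 + p2') (q1 + q1') (q2 + q2') := by
  apply funext5 <;> rfl

theorem mk5_smul (c z p1 p2 q1 q2 : F) :
    c • mk5 z p1 p2 q1 q2 = mk5 (c * z) (c * p1) (c * p2) (c * q1) (c * q2) := by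
  apply funext5 <;> rfl

theorem mk5_zero : mk5 (0 : F) 0 0 0 0 = 0 := by
  apply funext5 <;> rfl

theorem Q_mk5 (z p1 p2 q1 q2 : F) :
    Cfsg.quadFormOdd 2 F (mk5 z p1 p2 q1 q2) = z ^ 2 + p1 * q1 + p2 * q2 := by
  unfold Cfsg.quadFormOdd
  rw [Fin.sum_univ_two]
  simp only [mk5_z, mk5_p1, mk5_p2, mk5_q1, mk5_q2]
  ring

/-- the action of the root element `x_r(t)` in coordinates -/
def xc (r : ℕ) (t z p1 p2 q1 q2 : F) : I5 → F :=
  match r with
  | 0 => mk5 z p1 p2 (q1 - t * p2) (q2 + t * p1)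
  | 1 => mk5 (z + t * p1) p1 p2 (q1 - 2 * t * z - t ^ 2 * p1) q2
  | 2 => mk5 (z + t * p2) p1 p2 q1 (q2 - 2 * t * z - t ^ 2 * p2)
  | 3 => mk5 z p1 (p2 + t * p1) (q1 - t * q2) q2
  | 4 => mk5 z (p1 + t * p2) p2 q1 (q2 - t * q1)
  | 5 => mk5 (z - t * q2) p1 (p2 + 2 * t * z - t ^ 2 * q2) q1 q2
  | 6 => mk5 (z - t * q1) (p1 + 2 * t * z - t ^ 2 * q1) p2 q1 q2
  | 7 => mk5 z (p1 + t * q2) (p2 - t * q1) q1 q2
  | _ => mk5 z p1 p2 q1 q2

/-- the action of the root element `x_r(t)` on vectors -/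
def xf (r : ℕ) (t : F) (v : I5 → F) : I5 → F :=
  xc r t (v (Sum.inl ())) (v (Sum.inr (Sum.inl 0))) (v (Sum.inr (Sum.inl 1))) (v (Sum.inr (Sum.inr 0)))
    (v (Sum.inr (Sum.inr 1)))

theorem xf_mk5 (r : ℕ) (t z p1 p2 q1 q2 : F) : xf r t (mk5 z p1 p2 q1 q2) = xc r t z p1 p2 q1 q2 := rfl

theorem xf_0 (t z p1 p2 q1 q2 : F) :
    xf 0 t (mk5 z p1 p2 q1 q2) = mk5 z p1 p2 (q1 - t * p2) (q2 + t * p1) := rfl
theorem xf_1 (t z p1 p2 q1 q2 : F) :
    xf 1 t (mk5 z p1 p2 q1 q2) = mk5 (z + t * p1) p1 p2 (q1 - 2 * t * z - t ^ 2 * p1) q2 := rfl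
theorem xf_2 (t z p1 p2 q1 q2 : F) :
    xf 2 t (mk5 z p1 p2 q1 q2) = mk5 (z + t * p2) p1 p2 q1 (q2 - 2 * t * z - t ^ 2 * p2) := rfl
theorem xf_3 (t z p1 p2 q1 q2 : F) :
    xf 3 t (mk5 z p1 p2 q1 q2) = mk5 z p1 (p2 + t * p1) (q1 - t * q2) q2 := rfl
theorem xf_4 (t z p1 p2 q1 q2 : F) :
    xf 4 t (mk5 z p1 p2 q1 q2) = mk5 z (p1 + t * p2) p2 q1 (q2 - t * q1) := rfl
theorem xf_5 (t z p1 p2 q1 q2 : F) :
    xf 5 t (mk5 z p1 p2 q1 q2) = mk5 (z - t * q2) p1 (p2 + 2 * t * z - t ^ 2 * q2) q1 q2 := rfl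
theorem xf_6 (t z p1 p2 q1 q2 : F) :
    xf 6 t (mk5 z p1 p2 q1 q2) = mk5 (z - t * q1) (p1 + 2 * t * z - t ^ 2 * q1) p2 q1 q2 := rfl
theorem xf_7 (t z p1 p2 q1 q2 : F) :
    xf 7 t (mk5 z p1 p2 q1 q2) = mk5 z (p1 + t * q2) (p2 - t * q1) q1 q2 := rfl

theorem xf_of_ge (r : ℕ) (hr : ¬ r < 8) (t : F) (v : I5 → F) : xf r t v = v := by
  obtain ⟨z, p1, p2, q1, q2, rfl⟩ := exists_mk5 v
  rw [xf_mk5]
  unfold xc
  split <;> first | (exfalso; omega) | rfl

/-- the root elements are additive in the parameter -/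
theorem xf_add (r : ℕ) (t u : F) (v : I5 → F) : xf r t (xf r u v) = xf r (t + u) v := by
  obtain ⟨z, p1, p2, q1, q2, rfl⟩ := exists_mk5 v
  by_cases hr : r < 8
  · interval_cases r
    · simp only [xf_0]; apply mk5_congr <;> ring
    · simp only [xf_1]; apply mk5_congr <;> ring
    · simp only [xf_2]; apply mk5_congr <;> ring
    · simp only [xf_3]; apply mk5_congr <;> ring
    · simp only [xf_4]; apply mk5_congr <;> ring
    · simp only [xf_5]; apply mk5_congr <;> ring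
    · simp only [xf_6]; apply mk5_congr <;> ring
    · simp only [xf_7]; apply mk5_congr <;> ring
  · rw [xf_of_ge r hr, xf_of_ge r hr, xf_of_ge r hr]

theorem xf_zero (r : ℕ) (v : I5 → F) : xf r 0 v = v := by
  obtain ⟨z, p1, p2, q1, q2, rfl⟩ := exists_mk5 v
  by_cases hr : r < 8
  · interval_cases r
    · simp only [xf_0]; apply mk5_congr <;> ring
    · simp only [xf_1]; apply mk5_congr <;> ring
    · simp only [xf_2]; apply mk5_congr <;> ring
    · simp only [xf_3]; apply mk5_congr <;> ring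
    · simp only [xf_4]; apply mk5_congr <;> ring
    · simp only [xf_5]; apply mk5_congr <;> ring
    · simp only [xf_6]; apply mk5_congr <;> ring
    · simp only [xf_7]; apply mk5_congr <;> ring
  · rw [xf_of_ge r hr]

/-- the root elements preserve the quadratic form -/
theorem Q_xf (r : ℕ) (t : F) (v : I5 → F) :
    Cfsg.quadFormOdd 2 F (xf r t v) = Cfsg.quadFormOdd 2 F v := by
  obtain ⟨z, p1, p2, q1, q2, rfl⟩ := exists_mk5 v
  by_cases hr : r < 8
  · interval_cases r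
    · simp only [xf_0, Q_mk5]; ring
    · simp only [xf_1, Q_mk5]; ring
    · simp only [xf_2, Q_mk5]; ring
    · simp only [xf_3, Q_mk5]; ring
    · simp only [xf_4, Q_mk5]; ring
    · simp only [xf_5, Q_mk5]; ring
    · simp only [xf_6, Q_mk5]; ring
    · simp only [xf_7, Q_mk5]; ring
  · rw [xf_of_ge r hr]

/-- the root elements are linear -/
theorem xf_lin (r : ℕ) (t : F) (a b : F) (v w : I5 → F) :
    xf r t (a • v + b • w) = a • xf r t v + b • xf r t w := by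
  obtain ⟨z, p1, p2, q1, q2, rfl⟩ := exists_mk5 v
  obtain ⟨z', p1', p2', q1', q2', rfl⟩ := exists_mk5 w
  by_cases hr : r < 8
  · interval_cases r
    · simp only [xf_0, mk5_smul, mk5_add]; apply mk5_congr <;> ring
    · simp only [xf_1, mk5_smul, mk5_add]; apply mk5_congr <;> ring
    · simp only [xf_2, mk5_smul, mk5_add]; apply mk5_congr <;> ring
    · simp only [xf_3, mk5_smul, mk5_add]; apply mk5_congr <;> ring
    · simp only [xf_4, mk5_smul, mk5_add]; apply mk5_congr <;> ring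
    · simp only [xf_5, mk5_smul, mk5_add]; apply mk5_congr <;> ring
    · simp only [xf_6, mk5_smul, mk5_add]; apply mk5_congr <;> ring
    · simp only [xf_7, mk5_smul, mk5_add]; apply mk5_congr <;> ring
  · rw [xf_of_ge r hr, xf_of_ge r hr, xf_of_ge r hr]

/-- two matrices with the same action on vectors are equal -/
theorem mat_ext {M N : Matrix I5 I5 F} (h : ∀ v, M *ᵥ v = N *ᵥ v) : M = N :=
  Matrix.toLin'.injective (LinearMap.ext fun v => by
    rw [Matrix.toLin'_apply, Matrix.toLin'_apply]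
    exact h v)

theorem gl_ext {g h : GL I5 F} (H : ∀ v, g.1 *ᵥ v = h.1 *ᵥ v) : g = h := Units.ext (mat_ext H)

/-- the root element as a linear map -/
def xL (r : ℕ) (t : F) : (I5 → F) →ₗ[F] (I5 → F) where
  toFun := xf r t
  map_add' := fun v w => by
    have := xf_lin r t 1 1 v w
    rwa [one_smul, one_smul, one_smul, one_smul] at this
  map_smul' := fun a v => by
    have := xf_lin r t a 0 v 0
    rw [zero_smul, zero_smul, add_zero, add_zero] at this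
    exact this

/-- the matrix of the root element -/
def xMat (r : ℕ) (t : F) : Matrix I5 I5 F := LinearMap.toMatrix' (xL r t)

theorem xMat_mulVec (r : ℕ) (t : F) (v : I5 → F) : xMat r t *ᵥ v = xf r t v := by
  unfold xMat
  rw [← Matrix.toLin'_apply, Matrix.toLin'_toMatrix']
  rfl

theorem xMat_mul (r : ℕ) (t u : F) : xMat r t * xMat r u = xMat r (t + u) := by
  apply mat_ext
  intro v
  rw [← mulVec_mulVec, xMat_mulVec, xMat_mulVec, xMat_mulVec, xf_add]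

theorem xMat_zero (r : ℕ) : xMat r (0 : F) = 1 := by
  apply mat_ext
  intro v
  rw [xMat_mulVec, xf_zero, one_mulVec]

/-- the root elements as invertible matrices -/
def xGL (r : ℕ) (t : F) : GL I5 F :=
  ⟨xMat r t, xMat r (-t), by rw [xMat_mul, add_neg_cancel, xMat_zero],
    by rw [xMat_mul, neg_add_cancel, xMat_zero]⟩

theorem xGL_val (r : ℕ) (t : F) : (xGL r t : GL I5 F).1 = xMat r t := rfl

theorem xGL_mulVec (r : ℕ) (t : F) (v : I5 → F) : (xGL r t : GL I5 F).1 *ᵥ v = xf r t v := xMat_mulVec r t v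

theorem xGL_add (r : ℕ) (t u : F) : xGL r t * xGL r u = xGL r (t + u) :=
  Units.ext (xMat_mul r t u)

theorem xGL_zero (r : ℕ) : xGL r (0 : F) = 1 := Units.ext (xMat_zero r)

theorem xGL_inv (r : ℕ) (t : F) : (xGL r t)⁻¹ = xGL r (-t) := by
  apply inv_eq_of_mul_eq_one_right
  rw [xGL_add, add_neg_cancel, xGL_zero]

theorem xGL_of_ge (r : ℕ) (hr : ¬ r < 8) (t : F) : xGL r t = 1 := by
  apply gl_ext
  intro v
  rw [xGL_mulVec, xf_of_ge r hr, Units.val_one, one_mulVec]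

theorem xGL_mem (r : ℕ) (t : F) : xGL r t ∈ Cfsg.isometryGroup F (Cfsg.quadFormOdd 2 F) := by
  intro u _
  show Cfsg.quadFormOdd 2 F ((xGL r t : GL I5 F).1 *ᵥ u) = Cfsg.quadFormOdd 2 F u
  rw [xGL_mulVec, Q_xf]

/-- the action of a word in the root elements -/
def wordf (w : List (ℕ × F)) (v : I5 → F) : I5 → F :=
  match w with
  | [] => v
  | q :: w => xf q.1 q.2 (wordf w v)

/-- the table of the terms of the commutator formula of `chevB2` -/
def ctab (r s : ℕ) : List (ℕ × ℤ × ℕ × ℕ) :=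
  match r, s with
  | 0, 5 => [(1, 1, 1, 1), (3, -1, 1, 2)]
  | 0, 6 => [(2, -1, 1, 1), (4, 1, 1, 2)]
  | 1, 2 => [(0, 2, 1, 1)]
  | 1, 4 => [(2, 1, 1, 1), (0, 1, 2, 1)]
  | 1, 5 => [(3, -2, 1, 1)]
  | 1, 7 => [(5, -1, 1, 1), (3, 1, 2, 1)]
  | 2, 1 => [(0, -2, 1, 1)]
  | 2, 3 => [(1, 1, 1, 1), (0, -1, 2, 1)]
  | 2, 6 => [(4, -2, 1, 1)]
  | 2, 7 => [(6, 1, 1, 1), (4, -1, 2, 1)]
  | 3, 2 => [(1, -1, 1, 1), (0, -1, 1, 2)]
  | 3, 6 => [(5, 1, 1, 1), (7, 1, 1, 2)]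
  | 4, 1 => [(2, -1, 1, 1), (0, 1, 1, 2)]
  | 4, 5 => [(6, 1, 1, 1), (7, -1, 1, 2)]
  | 5, 0 => [(1, -1, 1, 1), (3, -1, 2, 1)]
  | 5, 1 => [(3, 2, 1, 1)]
  | 5, 4 => [(6, -1, 1, 1), (7, -1, 2, 1)]
  | 5, 6 => [(7, 2, 1, 1)]
  | 6, 0 => [(2, 1, 1, 1), (4, 1, 2, 1)]
  | 6, 2 => [(4, 2, 1, 1)]
  | 6, 3 => [(5, -1, 1, 1), (7, 1, 2, 1)]
  | 6, 5 => [(7, -2, 1, 1)]
  | 7, 1 => [(5, 1, 1, 1), (3, 1, 1, 2)]
  | 7, 2 => [(6, -1, 1, 1), (4, -1, 1, 2)]
  | _, _ => []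

theorem ctab_chk : ((List.range 8).all fun r => decide (chevB2.neg r = 7 - r) &&
    (List.range 8).all fun s => decide (chevB2.commTerms r s = ctab r s)) = true := by decide +kernel

theorem ctab_eq (r : ℕ) (hr : r < 8) (s : ℕ) (hs : s < 8) : chevB2.commTerms r s = ctab r s := by
  have h := ctab_chk
  rw [List.all_eq_true] at h
  have h1 := h r (List.mem_range.2 hr)
  rw [Bool.and_eq_true, List.all_eq_true] at h1
  exact of_decide_eq_true (h1.2 s (List.mem_range.2 hs))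

theorem neg_eq (r : ℕ) (hr : r < 8) : chevB2.neg r = 7 - r := by
  have h := ctab_chk
  rw [List.all_eq_true] at h
  have h1 := h r (List.mem_range.2 hr)
  rw [Bool.and_eq_true] at h1
  exact of_decide_eq_true h1.1

/-- the commutator relations for the actions on vectors -/
theorem xf_comm (r s : ℕ) (hr : r < 8) (hs : s < 8) (hsr : s ≠ r) (hsn : s + r ≠ 7) (t u : F) (v : I5 → F) :
    xf s (-u) (xf r (-t) (xf s u (xf r t v))) =
      wordf ((ctab r s).map fun c => (c.1, ((c.2.1 : ℤ) : F) * (-t) ^ c.2.2.1 * u ^ c.2.2.2)) v := by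
  obtain ⟨z, p1, p2, q1, q2, rfl⟩ := exists_mk5 v
  interval_cases r <;> interval_cases s <;>
    first
    | exact absurd rfl hsr
    | exact absurd rfl hsn
    | (simp only [ctab, List.map_cons, List.map_nil, wordf, xf_0, xf_1, xf_2, xf_3, xf_4, xf_5, xf_6, xf_7]
       push_cast
       apply mk5_congr <;> ring)

theorem wordG_mulVec (w : List (ℕ × F)) (v : I5 → F) :
    (wordG (xGL (F := F)) w : GL I5 F).1 *ᵥ v = wordf w v := by
  induction w with
  | nil => rw [wordG_nil, Units.val_one, one_mulVec]; rfl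
  | cons q w ih =>
    rw [wordG_cons, Units.val_mul, ← mulVec_mulVec, ih, xGL_mulVec]
    rfl

/-- the commutator relations -/
theorem xGL_comm (r s : ℕ) (hr : r < 8) (hs : s < 8) (hsr : s ≠ r) (hsn : s ≠ chevB2.neg r) (t u : F) :
    (xGL s u)⁻¹ * (xGL r t)⁻¹ * xGL s u * xGL r t = wordG xGL (chevB2.commWord F r s t u) := by
  have hsn' : s + r ≠ 7 := by
    rw [neg_eq r hr] at hsn
    omega
  apply gl_ext
  intro v
  rw [wordG_mulVec, xGL_inv, xGL_inv, Units.val_mul, Units.val_mul, Units.val_mul, ← mulVec_mulVec,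
    ← mulVec_mulVec, ← mulVec_mulVec, xGL_mulVec, xGL_mulVec, xGL_mulVec, xGL_mulVec, xf_comm r s hr hs hsr hsn']
  unfold ChevalleyDatum.commWord
  rw [ctab_eq r hr s hs]

theorem stRel_xGL : StRel chevB2 (xGL (F := F)) where
  add := fun r _ t u => xGL_add r t u
  comm := fun r hr s hs hsr hsn t u => xGL_comm r s hr hs hsr hsn t u

end Cfsg.Agent.Helper6.OrthB2
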