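import Mathlib
import Cfsg.Prelude.Def_Solvable
import Cfsg.Agent.Lib.Helper20.W3Defs
import Cfsg.Agent.Lib.Helper9.ABINVPROD

/-!
# S3300, pieces W3-CHI + W3-BLKPAIR (helper6): `exc_cosetP`, `block_pairP`.
Adaptation of helper17's `Lib/Helper17/ABCHI.lean` + `ABBLKPAIR.lean` to a sign character `ψ : H →* ℤˣ`.
-/

set_option autoImplicit false
set_option linter.unusedSectionVars false
set_option linter.unusedVariables false

namespace Cfsg.Agent.Helper20.W3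

open Cfsg.Agent.Helper8.XS Cfsg.Agent.Helper8.AB

section aux

variable {G : Type*} [Group G] {H : Subgroup G} {ψ : ↥H →* ℤˣ}

/-- conjugating an element of `Q ⊓ H` by an element of `Q` stays in `H` and does not change `ψ` -/
theorem w3chipair_conj {u : G} {Q : Subgroup G} (xs : XSp Q u) (huH : u ∈ H)
    (hu1 : valH ψ u = 1) (k g : G) (hk : k ∈ Q) (hkH : k ∈ H) (hg : g ∈ Q) :
    g⁻¹ * k * g ∈ H ∧ valH ψ (g⁻¹ * k * g) = valH ψ k := by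
  rcases xs.hcomm k hk g hg with h | h
  · have : g⁻¹ * k * g = k := by
      rw [mul_assoc, h, ← mul_assoc, inv_mul_cancel, one_mul]
    rw [this]
    exact ⟨hkH, rfl⟩
  · have hgu : g⁻¹ * u = u * g⁻¹ := by
      have := xs.hcen g⁻¹ (Q.inv_mem hg)
      exact this
    have : g⁻¹ * k * g = u * k := by
      rw [mul_assoc, h, ← mul_assoc, ← mul_assoc, hgu, mul_assoc u, inv_mul_cancel, mul_one]
    rw [this]
    refine ⟨H.mul_mem huH hkH, ?_⟩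
    rw [valH_mul _ huH hkH, hu1, one_mul]

/-- `κ_e ∈ Q` -/
theorem w3chipair_kappa_mem {Q : Subgroup G} (v : G) (hvQ : ∀ x ∈ Q, v⁻¹ * x * v ∈ Q) (e : G)
    (he : e ∈ Q) : v⁻¹ * e⁻¹ * v * e ∈ Q :=
  Q.mul_mem (hvQ e⁻¹ (Q.inv_mem he)) he

/-- `κ_{xy} = κ_y (y⁻¹ κ_x y)` -/
theorem w3chipair_kappa_mul (v x y : G) :
    v⁻¹ * (x * y)⁻¹ * v * (x * y) = (v⁻¹ * y⁻¹ * v * y) * (y⁻¹ * (v⁻¹ * x⁻¹ * v * x) * y) := by
  group

/-- multiplying by an element of `H` with trivial `ψ` does not change the value -/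
theorem w3chipair_mul_right (w c : G) (hc : c ∈ H) (hc1 : valH ψ c = 1) :
    valH ψ (w * c) = valH ψ w := by
  by_cases hw : w ∈ H
  · rw [valH_mul _ hw hc, hc1, mul_one]
  · have : w * c ∉ H := by
      intro h
      apply hw
      have := H.mul_mem h (H.inv_mem hc)
      rwa [mul_assoc, mul_inv_cancel, mul_one] at this
    rw [valH_of_not_mem _ hw, valH_of_not_mem _ this]

/-- a conjugate of `e ∈ Q ∖ H` by an element of `Q` is not in `H` -/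
theorem w3chipair_conj_not_mem {u : G} {Q : Subgroup G} (xs : XSp Q u) (huH : u ∈ H) (e a : G)
    (he : e ∈ Q) (ha : a ∈ Q) (heH : e ∉ H) : a⁻¹ * e * a ∉ H := by
  rcases xs.hcomm e he a ha with h | h
  · have : a⁻¹ * e * a = e := by
      rw [mul_assoc, h, ← mul_assoc, inv_mul_cancel, one_mul]
    rw [this]
    exact heH
  · have hau : a⁻¹ * u = u * a⁻¹ := xs.hcen a⁻¹ (Q.inv_mem ha)
    have : a⁻¹ * e * a = u * e := by
      rw [mul_assoc, h, ← mul_assoc, ← mul_assoc, hau, mul_assoc u, inv_mul_cancel, mul_one]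
    rw [this]
    intro hue
    apply heH
    have := H.mul_mem (H.inv_mem huH) hue
    rwa [← mul_assoc, inv_mul_cancel, one_mul] at this

end aux

section block

variable {G : Type*} [Group G] [Finite G] {z : G} {H : Subgroup G}
  [Fintype (G ⧸ H)] {ψ : ↥H →* ℤˣ} {n : ℕ}

/-- PIECE W3-BLKPAIR (adapt `block_pair`, Lib/Helper17/ABBLKPAIR.lean; new hypothesis `hu1`). -/
theorem block_pairP (gl : GlobP z H ψ n) (u : G) (Q : Subgroup G) (xs : XSp Q u)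
    (v : G) (hvQ : ∀ x ∈ Q, v⁻¹ * x * v ∈ Q) (hvH : v ∈ H) (huH : u ∈ H) (hu1 : valH ψ u = 1)
    (e : G) (he : e ∈ Q) (heH : e ∉ H) (hk : v⁻¹ * e⁻¹ * v * e ∈ H)
    (hk1 : valH ψ (v⁻¹ * e⁻¹ * v * e) = 1) :
    ∏ x ∈ blk Q H ((1 : G) : G ⧸ H), valH ψ (x.out⁻¹ * v * x.out) = 1 := by
  have hrep : ∀ x ∈ blk Q H ((1 : G) : G ⧸ H), ∃ a ∈ Q, x = ((a : G) : G ⧸ H) := by
    intro x hx
    obtain ⟨a, ha, rfl⟩ := mem_blk.1 hx
    refine ⟨a, ha, ?_⟩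
    rw [MulAction.Quotient.smul_mk, smul_eq_mul, mul_one]
  have hsmul : ∀ a : G, e • ((a : G) : G ⧸ H) = ((e * a : G) : G ⧸ H) := by
    intro a
    rw [MulAction.Quotient.smul_mk, smul_eq_mul]
  apply blk_prod_one Q H (fun x => valH ψ (x.out⁻¹ * v * x.out)) ((1 : G) : G ⧸ H) e he
  · -- the square of `e` acts trivially
    intro x hx
    obtain ⟨a, ha, rfl⟩ := hrep x hx
    rw [hsmul, hsmul, QuotientGroup.eq]
    have heq : (e * (e * a))⁻¹ * a = a⁻¹ * (e * e)⁻¹ * a := by group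
    rw [heq]
    rcases xs.hsq e he with h | h
    · rw [h, inv_one, mul_one, inv_mul_cancel]
      exact H.one_mem
    · rw [h]
      have huinv : u⁻¹ = u := inv_eq_of_mul_eq_one_right xs.hzz
      have hau : a⁻¹ * u = u * a⁻¹ := xs.hcen a⁻¹ (Q.inv_mem ha)
      rw [huinv, hau, mul_assoc, inv_mul_cancel, mul_one]
      exact huH
  · -- no fixed points
    intro x hx
    obtain ⟨a, ha, rfl⟩ := hrep x hx
    rw [hsmul]
    intro hfix
    rw [QuotientGroup.eq] at hfix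
    have heq : (e * a)⁻¹ * a = (a⁻¹ * e * a)⁻¹ := by group
    rw [heq] at hfix
    exact w3chipair_conj_not_mem xs huH e a he ha heH (by simpa using H.inv_mem hfix)
  · -- the factor is preserved
    intro x hx
    obtain ⟨a, ha, rfl⟩ := hrep x hx
    rw [hsmul, valH_out, valH_out]
    have hkQ : v⁻¹ * e⁻¹ * v * e ∈ Q := w3chipair_kappa_mem v hvQ e he
    have hc := w3chipair_conj (ψ := ψ) xs huH hu1 (v⁻¹ * e⁻¹ * v * e) a hkQ hk ha
    have heq : (e * a)⁻¹ * v * (e * a) = (a⁻¹ * v * a) * (a⁻¹ * (v⁻¹ * e⁻¹ * v * e) * a) := by group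
    rw [heq, w3chipair_mul_right _ _ hc.1 (by rw [hc.2, hk1])]
  · intro x _
    exact val_mul_self ψ _

/-- PIECE W3-CHI (adapt `exc_coset`, Lib/Helper17/ABCHI.lean; new hypothesis `hu1`; values are `±1`). -/
theorem exc_cosetP (gl : GlobP z H ψ n) (u : G) (Q : Subgroup G) (xs : XSp Q u)
    (v : G) (hvQ : ∀ x ∈ Q, v⁻¹ * x * v ∈ Q) (hvH : v ∈ H) (huH : u ∈ H) (hu1 : valH ψ u = 1)
    (hexc : ∀ e ∈ Q, e ∉ H → v⁻¹ * e⁻¹ * v * e ∈ H → valH ψ (v⁻¹ * e⁻¹ * v * e) ≠ 1)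
    (e e' : G) (he : e ∈ Q) (he' : e' ∈ Q) (heH : e ∉ H) (he'H : e' ∉ H)
    (hk : v⁻¹ * e⁻¹ * v * e ∈ H) (hk' : v⁻¹ * e'⁻¹ * v * e' ∈ H) : e'⁻¹ * e ∈ H := by
  by_contra hgH
  have hg : e'⁻¹ * e ∈ Q := Q.mul_mem (Q.inv_mem he') he
  -- `κ` at `e'⁻¹`
  have hkinv : v⁻¹ * (e'⁻¹)⁻¹ * v * e'⁻¹ = e' * (v⁻¹ * e'⁻¹ * v * e')⁻¹ * e'⁻¹ := by group
  have hkQ' : v⁻¹ * e'⁻¹ * v * e' ∈ Q := w3chipair_kappa_mem v hvQ e' he'
  have hkQ : v⁻¹ * e⁻¹ * v * e ∈ Q := w3chipair_kappa_mem v hvQ e he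
  have h1 := w3chipair_conj (ψ := ψ) xs huH hu1 (v⁻¹ * e'⁻¹ * v * e')⁻¹ e'⁻¹ (Q.inv_mem hkQ')
    (H.inv_mem hk') (Q.inv_mem he')
  rw [inv_inv] at h1
  have h1Q : e' * (v⁻¹ * e'⁻¹ * v * e')⁻¹ * e'⁻¹ ∈ Q :=
    Q.mul_mem (Q.mul_mem he' (Q.inv_mem hkQ')) (Q.inv_mem he')
  have h2 := w3chipair_conj (ψ := ψ) xs huH hu1 (e' * (v⁻¹ * e'⁻¹ * v * e')⁻¹ * e'⁻¹) e h1Q h1.1 he
  have hform : v⁻¹ * (e'⁻¹ * e)⁻¹ * v * (e'⁻¹ * e) =
      (v⁻¹ * e⁻¹ * v * e) * (e⁻¹ * (e' * (v⁻¹ * e'⁻¹ * v * e')⁻¹ * e'⁻¹) * e) := by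
    rw [w3chipair_kappa_mul, hkinv]
  have hmemH : v⁻¹ * (e'⁻¹ * e)⁻¹ * v * (e'⁻¹ * e) ∈ H := by
    rw [hform]
    exact H.mul_mem hk h2.1
  have hne := hexc (e'⁻¹ * e) hg hgH hmemH
  apply hne
  rw [hform, valH_mul _ hk h2.1, h2.2, h1.2, valH_inv _ hk']
  have hv1 := hexc e he heH hk
  have hv2 := hexc e' he' he'H hk'
  rcases val_eq_or ψ (v⁻¹ * e⁻¹ * v * e) with h | h
  · exact absurd h hv1
  · rcases val_eq_or ψ (v⁻¹ * e'⁻¹ * v * e') with h' | h'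
    · exact absurd h' hv2
    · rw [h, h', mul_inv_cancel]

end block

end Cfsg.Agent.Helper20.W3
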