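import Mathlib
import Cfsg.Prelude.Def_Solvable
import Cfsg.Agent.Lib.Helper8.ABDefs
import Cfsg.Agent.Lib.Helper19.XSOF
import Cfsg.Agent.Lib.Helper9.PCoreSub

/-! S3301 piece AB-SETUP (helper6): the local data `Loc z E` from the hypotheses of S3301. -/

set_option autoImplicit false

namespace Cfsg.Agent.Helper8.AB

open Cfsg.Agent.Helper8.XS

theorem absetup_mem_cent {G : Type*} [Group G] (x y : G) :
    x ∈ Subgroup.centralizer ({y} : Set G) ↔ y * x = x * y := by
  rw [Subgroup.mem_centralizer_iff]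
  constructor
  · intro h; exact h y rfl
  · intro h w hw
    rw [Set.mem_singleton_iff] at hw
    subst hw
    exact h

/-- PIECE AB-SETUP -/
theorem loc_of_hyp {G : Type*} [Group G] [Finite G] (z : G) (hz : orderOf z = 2)
    (E : Subgroup G)
    (hE : E = (Cfsg.pCore 2 ↥(Subgroup.centralizer ({z} : Set G))).map
      (Subgroup.centralizer ({z} : Set G)).subtype)
    (hext : Cfsg.IsExtraspecial 2 ↥E) (hcent : Subgroup.centralizer (E : Set G) ≤ E) :
    Loc z E ∧ E ≤ Subgroup.centralizer ({z} : Set G) := by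
  classical
  have : Fact (Nat.Prime 2) := ⟨Nat.prime_two⟩
  set H : Subgroup G := Subgroup.centralizer ({z} : Set G) with hH
  have hzH : z ∈ H := (absetup_mem_cent z z).mpr rfl
  have hEH : E ≤ H := by rw [hE]; exact Subgroup.map_subtype_le _
  have hchar : (Cfsg.pCore 2 ↥H).Characteristic := Cfsg.Agent.Helper9.pCore_characteristic 2
  have hnorm : (Cfsg.pCore 2 ↥H).Normal := inferInstance
  have hEn : ∀ h ∈ H, ∀ e ∈ E, h * e * h⁻¹ ∈ E := by
    intro h hh e he
    rw [hE] at he ⊢
    obtain ⟨e', he', rfl⟩ := he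
    refine ⟨⟨h, hh⟩ * e' * ⟨h, hh⟩⁻¹, hnorm.conj_mem e' he' ⟨h, hh⟩, ?_⟩
    simp
  -- every normal 2-subgroup of `H` (as a subgroup of `G`) lies in `E`
  have hmax : ∀ N : Subgroup G, (∀ m ∈ N, m * z = z * m) →
      (∀ h : G, h * z = z * h → ∀ m ∈ N, h * m * h⁻¹ ∈ N) → IsPGroup 2 N → N ≤ E := by
    intro N hNz hNn hNp m hm
    have hNH : N ≤ H := fun m hm => (absetup_mem_cent m z).mpr (hNz m hm).symm
    have hN' : (N.subgroupOf H).Normal := by
      constructor
      intro x hx h
      rw [Subgroup.mem_subgroupOf] at hx ⊢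
      have hh : (h : G) * z = z * (h : G) := ((absetup_mem_cent (h : G) z).mp h.2).symm
      have := hNn (h : G) hh (x : G) hx
      simpa using this
    have hP' : IsPGroup 2 (N.subgroupOf H) :=
      hNp.comap_of_injective H.subtype H.subtype_injective
    have hle := Cfsg.Agent.Helper9.le_pCore' hN' hP'
    rw [hE]
    refine ⟨⟨m, hNH hm⟩, hle ?_, rfl⟩
    rw [Subgroup.mem_subgroupOf]
    exact hm
  -- `z ∈ E`
  have hzE : z ∈ E := by
    apply hmax (Subgroup.zpowers z) _ _ _ (Subgroup.mem_zpowers z)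
    · intro m hm
      rw [Subgroup.mem_zpowers_iff] at hm
      obtain ⟨k, rfl⟩ := hm
      exact ((Commute.refl z).zpow_left k).eq
    · intro h hh m hm
      rw [Subgroup.mem_zpowers_iff] at hm ⊢
      obtain ⟨k, rfl⟩ := hm
      refine ⟨k, ?_⟩
      have hcomm : Commute h z := hh
      have : h * z ^ k * h⁻¹ = z ^ k := by
        rw [(hcomm.zpow_right k).eq]; group
      exact this.symm
    · rw [IsPGroup.iff_card]
      exact ⟨1, by rw [Nat.card_zpowers, hz, pow_one]⟩
  have hcenE : ∀ x ∈ E, x * z = z * x := by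
    intro x hx
    exact ((absetup_mem_cent x z).mp (hEH hx)).symm
  have hxs : XSp E z := xsp_of E hext z hzE hz hcenE
  refine ⟨⟨hxs, ?_, ?_, hmax⟩, hEH⟩
  · intro h hh e he
    exact hEn h ((absetup_mem_cent h z).mpr hh.symm) e he
  · intro g hg
    apply hcent
    rw [Subgroup.mem_centralizer_iff]
    intro e he
    exact (hg e he).symm

end Cfsg.Agent.Helper8.AB
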