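import Mathlib
import Cfsg.Prelude.Def_Solvable
import Cfsg.Agent.Lib.Helper20.W3Defs

/-! S3300 piece W3-COUNT (helper6): `star_count`; the statement of `star` is a hypothesis of the core. -/

set_option autoImplicit false
set_option linter.unusedSectionVars false

namespace Cfsg.Agent.Helper20.W3

open Cfsg.Agent.Helper8.XS Cfsg.Agent.Helper8.AB

/-- a product of values `±1` is `(-1)^(number of -1)` -/
theorem w3count_prod_pm {ι : Type*} [DecidableEq ι] (s : Finset ι) (f : ι → ℤˣ)
    (p : ι → Prop) [DecidablePred p] (hp : ∀ x ∈ s, (p x → f x = -1) ∧ (¬ p x → f x = 1)) :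
    ∏ x ∈ s, f x = (-1) ^ (s.filter p).card := by
  induction s using Finset.induction_on with
  | empty => simp
  | insert a s ha ih =>
    have ih' := ih (fun x hx => hp x (Finset.mem_insert_of_mem hx))
    rw [Finset.prod_insert ha, ih', Finset.filter_insert]
    by_cases hpa : p a
    · rw [if_pos hpa, Finset.card_insert_of_notMem (fun h => ha (Finset.mem_filter.mp h).1),
        (hp a (Finset.mem_insert_self a s)).1 hpa, pow_succ, mul_comm]
    · rw [if_neg hpa, (hp a (Finset.mem_insert_self a s)).2 hpa, one_mul]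

section ctx

variable {G : Type*} [Group G] [Finite G] {z : G} {H E K : Subgroup G} {n : ℕ}

/-- core of W3-COUNT with the statement of `star` as a hypothesis -/
theorem w3count_core (c : Ctx3 z H E K n) [Fintype (G ⧸ H)] (χ : ↥H →* ℤˣ)
    (hχ : ∀ h : ↥H, χ h = 1 ↔ (h : G) ∈ K)
    (hstar : ∀ (y : G), y ∈ H → ∀ (k : ℕ), 1 ≤ k → orderOf y = 2 ^ k →
      (∀ w ∈ H, orderOf w < orderOf y → w ∈ K) →
      valH χ y * ∏ x ∈ Dset χ z, valH χ (x.out⁻¹ * y * x.out) = 1)
    (y : G) (hyH : y ∈ H) (hyy : y * y = 1)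
    (hy1 : y ≠ 1) : valH χ y = (-1) ^ (Tset χ z y).card := by
  classical
  have hyo : orderOf y = 2 ^ 1 := by
    rw [pow_one]
    exact orderOf_eq_prime (by rw [pow_two]; exact hyy) hy1
  have hmin : ∀ w ∈ H, orderOf w < orderOf y → w ∈ K := by
    intro w _ hw
    rw [hyo, pow_one] at hw
    have hpos : 0 < orderOf w := orderOf_pos w
    have h1 : orderOf w = 1 := by omega
    rw [orderOf_eq_one_iff.mp h1]
    exact K.one_mem
  have hs := hstar y hyH 1 le_rfl hyo hmin
  have hprod : ∏ x ∈ Dset χ z, valH χ (x.out⁻¹ * y * x.out)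
      = (-1) ^ ((Dset χ z).filter (fun x => valH χ (x.out⁻¹ * y * x.out) = -1)).card := by
    apply w3count_prod_pm
    intro x _
    refine ⟨fun h => h, fun h => ?_⟩
    rcases val_eq_or χ (x.out⁻¹ * y * x.out) with h1 | h1
    · exact h1
    · exact absurd h1 h
  have hT : (Dset χ z).filter (fun x => valH χ (x.out⁻¹ * y * x.out) = -1) = Tset χ z y := by
    ext x
    rw [Finset.mem_filter, mem_Dset, mem_Tset]
  rw [hprod, hT] at hs
  -- `valH χ y * (-1)^t = 1`
  have h2 : ((-1 : ℤˣ) ^ (Tset χ z y).card) * ((-1 : ℤˣ) ^ (Tset χ z y).card) = 1 :=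
    Int.units_mul_self _
  calc valH χ y = valH χ y * (((-1 : ℤˣ) ^ (Tset χ z y).card) * ((-1 : ℤˣ) ^ (Tset χ z y).card)) := by
        rw [h2, mul_one]
    _ = (valH χ y * (-1 : ℤˣ) ^ (Tset χ z y).card) * (-1 : ℤˣ) ^ (Tset χ z y).card := by
        rw [mul_assoc]
    _ = (-1) ^ (Tset χ z y).card := by rw [hs, one_mul]

end ctx

end Cfsg.Agent.Helper20.W3
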