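import Mathlib
import Cfsg.Prelude.Def_JComponents
import Cfsg.Agent.Lib.Helper4.ZNDefs

/-!
# S0518, piece SIGMA: the subgroups `Σᵢ = Pᵢ ⊓ H`   (helper6, for helper4's skeleton)
-/

set_option autoImplicit false
set_option linter.unusedSectionVars false
open Cfsg

namespace Cfsg.Agent.Helper4.ZN

variable {G : Type*} [Group G]

namespace SIGMA

theorem oddCl_le (P : Subgroup G) : oddCl P ≤ P := by
  unfold oddCl
  rw [Subgroup.closure_le]
  intro g hg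
  exact hg.1

theorem oddCl_le_H (P H : Subgroup G) (hH : H = Subgroup.closure {g : G | Odd (orderOf g)}) :
    oddCl P ≤ H := by
  rw [hH]
  unfold oddCl
  apply Subgroup.closure_mono
  intro g hg
  exact hg.2

/-- a subgroup of order 4 is not contained in `B` if it meets `B` in at most `{1, z}` -/
theorem exists_not_mem {A B : Subgroup G} (z : G) (hA : Nat.card ↥A = 4)
    (hinf : ∀ x ∈ B ⊓ A, x = 1 ∨ x = z) : ∃ a ∈ A, a ∉ B := by
  by_contra hcon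
  push Not at hcon
  have hsub : (A : Set G) ⊆ {1, z} := by
    intro x hx
    rcases hinf x ⟨hcon x hx, hx⟩ with h | h
    · left; exact h
    · right; exact h
  have h1 : Nat.card ↥A = (A : Set G).ncard := Nat.card_coe_set_eq (A : Set G)
  have h2 : (A : Set G).ncard ≤ ({1, z} : Set G).ncard :=
    Set.ncard_le_ncard hsub (Set.toFinite _)
  have h3 : ({1, z} : Set G).ncard ≤ 2 := by
    have := Set.ncard_insert_le (1 : G) ({z} : Set G)
    rw [Set.ncard_singleton] at this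
    exact this
  omega

/-- cardinality bookkeeping: `card A * A.relIndex B = card B` for `A ≤ B` -/
theorem card_mul_relIndex {A B : Subgroup G} (h : A ≤ B) :
    Nat.card ↥A * A.relIndex B = Nat.card ↥B := by
  have := Subgroup.relIndex_mul_relIndex (⊥ : Subgroup G) A B bot_le h
  rw [Subgroup.relIndex_bot_left, Subgroup.relIndex_bot_left] at this
  exact this

/-- the index-2 statement for one of the two halves -/
theorem relIndex_two [Finite G] {P : Subgroup G} {t : G} {E V : Subgroup G} (b : PB P t E V)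
    (H : Subgroup G) (hH : H = Subgroup.closure {g : G | Odd (orderOf g)}) (ht : t ∉ H)
    (y : G) (hyP : y ∈ P) (hyH : y ∈ H) (hy2 : y * y = 1) (hyV : y ∉ V) :
    (P ⊓ H).relIndex P = 2 := by
  have hKS : oddCl P ≤ P ⊓ H := le_inf (oddCl_le P) (oddCl_le_H P H hH)
  have hd1 : 12 ∣ Nat.card ↥(P ⊓ H) := by
    rw [← b.card_K]; exact Subgroup.card_dvd_of_le hKS
  have hd2 : Nat.card ↥(P ⊓ H) ∣ 48 := by
    rw [← b.card_P]; exact Subgroup.card_dvd_of_le inf_le_left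
  have hne12 : Nat.card ↥(P ⊓ H) ≠ 12 := by
    intro h12
    have heq : oddCl P = P ⊓ H :=
      Subgroup.eq_of_le_of_card_ge hKS (by rw [h12, b.card_K])
    have : y ∈ oddCl P := by rw [heq]; exact ⟨hyP, hyH⟩
    exact hyV (b.K_inv y this hy2)
  have hne48 : Nat.card ↥(P ⊓ H) ≠ 48 := by
    intro h48
    have heq : P ⊓ H = P :=
      Subgroup.eq_of_le_of_card_ge inf_le_left (by rw [h48, b.card_P])
    have : t ∈ P ⊓ H := by rw [heq]; exact b.t_mem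
    exact ht this.2
  have h24 : Nat.card ↥(P ⊓ H) = 24 := by
    obtain ⟨k, hk⟩ := hd1
    have hpos : 0 < Nat.card ↥(P ⊓ H) := Nat.card_pos
    have hle : Nat.card ↥(P ⊓ H) ≤ 48 := Nat.le_of_dvd (by norm_num) hd2
    have hk4 : k ≤ 4 := by omega
    interval_cases k
    · omega
    · omega
    · omega
    · exfalso
      rw [hk] at hd2
      norm_num at hd2
    · omega
  have := card_mul_relIndex (inf_le_left : P ⊓ H ≤ P)
  rw [h24, b.card_P] at this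
  omega

end SIGMA

section CaseB

variable {P₁ P₂ T : Subgroup G} {t₁ t₂ : G} {E₁ E₂ V₁ V₂ : Subgroup G}

theorem sigma_facts [Finite G] (c : Ctx P₁ P₂ T t₁ t₂ E₁ E₂ V₁ V₂) (e : TE T E₁ E₂) {z : G}
    (v : TV T t₁ t₂ z E₁ E₂ V₁ V₂) (H : Subgroup G)
    (hH : H = Subgroup.closure {g : G | Odd (orderOf g)}) (ht : t₁ ∉ H) :
    V₁ ≤ H ∧ V₂ ≤ H ∧ T ⊓ H = V₁ ⊔ V₂ ∧ t₂ ∉ H ∧
    (P₁ ⊓ H).relIndex P₁ = 2 ∧ (P₂ ⊓ H).relIndex P₂ = 2 ∧ P₁ ⊓ H ≠ P₂ ⊓ H ∧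
    Nat.card ↥((P₁ ⊓ H) ⊓ (P₂ ⊓ H)) = 8 := by
  have hV₁K : V₁ ≤ oddCl P₁ := by rw [c.b₁.V_eq]; exact inf_le_right
  have hV₂K : V₂ ≤ oddCl P₂ := by rw [c.b₂.V_eq]; exact inf_le_right
  have hV₁E : V₁ ≤ E₁ := by rw [c.b₁.V_eq]; exact inf_le_left
  have hV₂E : V₂ ≤ E₂ := by rw [c.b₂.V_eq]; exact inf_le_left
  have hV₁H : V₁ ≤ H := hV₁K.trans (SIGMA.oddCl_le_H P₁ H hH)
  have hV₂H : V₂ ≤ H := hV₂K.trans (SIGMA.oddCl_le_H P₂ H hH)
  have hDH : V₁ ⊔ V₂ ≤ H := sup_le hV₁H hV₂H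
  have hTP₁ : T ≤ P₁ := c.syl₁.1
  have hTP₂ : T ≤ P₂ := c.syl₂.1
  -- `T ⊓ H = D`
  have hTH : T ⊓ H = V₁ ⊔ V₂ := by
    apply le_antisymm
    · intro x hx
      rcases v.T_cover x hx.1 with h | h
      · exact h
      · exfalso
        apply ht
        have h1 : t₁ * x ∈ H := hDH h
        have : t₁ = (t₁ * x) * x⁻¹ := by group
        rw [this]
        exact H.mul_mem h1 (H.inv_mem hx.2)
    · exact le_inf v.D_le hDH
  -- `t₂ ∉ H`
  have hzH : z ∈ H := hV₁H v.z_V₁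
  have ht₂ : t₂ ∉ H := by
    intro h2
    apply ht
    have : t₁ = z * t₂⁻¹ := by rw [← v.tt]; group
    rw [this]
    exact H.mul_mem hzH (H.inv_mem h2)
  -- elements `v₂ ∈ V₂ ∖ V₁` and `v₁ ∈ V₁ ∖ V₂`
  obtain ⟨y₂, hy₂V, hy₂n⟩ := SIGMA.exists_not_mem (A := V₂) (B := V₁) z c.b₂.card_V v.V_inf
  obtain ⟨y₁, hy₁V, hy₁n⟩ := SIGMA.exists_not_mem (A := V₁) (B := V₂) z c.b₁.card_V
    (fun x hx => v.V_inf x ⟨hx.2, hx.1⟩)
  have hV₁T : V₁ ≤ T := le_sup_left.trans v.D_le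
  have hV₂T : V₂ ≤ T := le_sup_right.trans v.D_le
  have hr₁ : (P₁ ⊓ H).relIndex P₁ = 2 :=
    SIGMA.relIndex_two c.b₁ H hH ht y₂ (hTP₁ (hV₂T hy₂V)) (hV₂H hy₂V)
      (c.b₂.E_sq y₂ (hV₂E hy₂V)) hy₂n
  have hr₂ : (P₂ ⊓ H).relIndex P₂ = 2 :=
    SIGMA.relIndex_two c.b₂ H hH ht₂ y₁ (hTP₂ (hV₁T hy₁V)) (hV₁H hy₁V)
      (c.b₁.E_sq y₁ (hV₁E hy₁V)) hy₁n
  refine ⟨hV₁H, hV₂H, hTH, ht₂, hr₁, hr₂, ?_, ?_⟩
  · -- `Σ₁ ≠ Σ₂`
    intro heq
    have hle : V₂ ≤ V₁ := by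
      apply c.b₁.sigma_core (P₁ ⊓ H) V₂ inf_le_left (fun h => ht h.2) hr₁
        (le_inf (hV₂T.trans hTP₁) hV₂H) (IsPGroup.of_card (n := 2) (by rw [c.b₂.card_V]; norm_num))
      intro s hs q hq
      have hs₂ : s ∈ P₂ := by
        have : s ∈ P₂ ⊓ H := by rw [← heq]; exact hs
        exact this.1
      exact c.b₂.V_norm s hs₂ q hq
    exact hy₂n (hle hy₂V)
  · -- `|Σ₁ ⊓ Σ₂| = 8`
    have : (P₁ ⊓ H) ⊓ (P₂ ⊓ H) = V₁ ⊔ V₂ := by
      rw [← hTH, ← c.inter]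
      ext x
      simp only [Subgroup.mem_inf]
      tauto
    rw [this]
    exact v.card_D

end CaseB

end Cfsg.Agent.Helper4.ZN
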