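import Mathlib
import Cfsg.Agent.Lib.Helper20.A5QDefs
import Cfsg.Agent.Lib.Helper25.A5QBR0

/-!
# S3106 piece BR1 (helper6): `frattini_map_eq_Sq`.
-/

set_option autoImplicit false
set_option linter.unusedSectionVars false
set_option linter.unusedVariables false

namespace Cfsg.Agent.Helper20.A5Q

open Cfsg.Agent.Helper22.SecRank

variable {Y : Type*} [Group Y] [Finite Y]

/-- **A5Q-BR1.** The same for a subgroup, inside the ambient group. -/
theorem frattini_map_eq_Sq (P : Subgroup Y) (hP : IsPGroup 2 P) :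
    (frattini ↥P).map P.subtype = Sq P := by
  rw [frattini_eq_closure_sq hP, MonoidHom.map_closure]
  unfold Sq
  congr 1
  ext x
  constructor
  · rintro ⟨y, ⟨z, rfl⟩, rfl⟩
    exact ⟨(z : Y), z.2, by simp⟩
  · rintro ⟨k, hk, rfl⟩
    exact ⟨(⟨k, hk⟩ : ↥P) ^ 2, ⟨⟨k, hk⟩, rfl⟩, by simp⟩

end Cfsg.Agent.Helper20.A5Q
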