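import Mathlib
import Cfsg.Agent.Lib.Helper20.A5QDefs
import Cfsg.Agent.Lib.Helper6.A5QBR1
import Cfsg.Agent.Lib.Helper15.A5QFREE
import Cfsg.Agent.Lib.Helper15.A5QCEXTRA

/-!
# S3106 piece T1 (helper6): `isQ8D8_of_card_two`.
-/

set_option autoImplicit false
set_option linter.unusedSectionVars false
set_option linter.unusedVariables false

namespace Cfsg.Agent.Helper20.A5Q

open Cfsg.Agent.Helper22.SecRank

variable {Y : Type*} [Group Y] [Finite Y] {P : Subgroup Y}

/-- membership in the Frattini subgroup of `P`, seen in `Y` -/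
theorem t1_mem_frattini (P : Subgroup Y) (hP : IsPGroup 2 P) (x : ↥P) :
    x ∈ frattini ↥P ↔ (x : Y) ∈ Sq P := by
  rw [← frattini_map_eq_Sq P hP]
  constructor
  · intro hx
    exact ⟨x, hx, rfl⟩
  · rintro ⟨y, hy, hyx⟩
    have : y = x := Subtype.ext hyx
    rwa [← this]

/-- **A5Q-T1.** -/
theorem isQ8D8_of_card_two (h : A5S Y P) (h2 : Nat.card (Sq P) = 2) : IsQ8D8 ↥P := by
  obtain ⟨f, t, hf, -, -, -⟩ := h.elems
  have hn : P.Normal := h.normal
  have hf5 : f ^ 5 = 1 := by rw [← hf]; exact pow_orderOf_eq_one f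
  -- the order of the Frattini subgroup
  have hcardΦ : Nat.card ↥(frattini ↥P) = 2 := by
    rw [← h2, ← frattini_map_eq_Sq P h.pgroup]
    exact (Subgroup.card_map_of_injective (Subgroup.subtype_injective P)).symm
  have h16 : Nat.card (↥P ⧸ frattini ↥P) = 16 := by
    have hL := Subgroup.card_eq_card_quotient_mul_card_subgroup (frattini ↥P)
    rw [card_P h, h2, hcardΦ] at hL
    omega
  refine isQ8D8_of_aut_five h.pgroup hcardΦ h16 (MulAut.conjNormal f) ?_ ?_
  · rw [← map_pow, hf5, map_one]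
  · intro x hx
    rw [t1_mem_frattini P h.pgroup] at hx ⊢
    apply free_V h f hf x x.2
    have e : (((MulAut.conjNormal f) x * x⁻¹ : ↥P) : Y) = f * (x : Y) * f⁻¹ * (x : Y)⁻¹ := by
      rw [Subgroup.coe_mul, MulAut.conjNormal_apply, Subgroup.coe_inv]
    rwa [e] at hx

end Cfsg.Agent.Helper20.A5Q
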