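import Mathlib

/-!
# S3106 piece HYPER, core (helper6)

An element `f` of order `5` which acts freely on `P/Φ` (`P` a normal `2`-subgroup) normalizes no subgroup `P₀` of
index `2` in `P` containing `Φ`: conjugation by `f` permutes the `#P₀` elements of `P \ P₀`, a number prime to `5`,
so it fixes one of them.
-/

set_option autoImplicit false
set_option linter.unusedSectionVars false
set_option linter.unusedVariables false

namespace Cfsg.Agent.Helper20.A5Q

/-- iterated conjugation -/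
theorem hyper_conj_pow {Y : Type*} [Group Y] (f : Y) (P₀ : Subgroup Y)
    (h4 : ∀ x ∈ P₀, f * x * f⁻¹ ∈ P₀) (n : ℕ) : ∀ x ∈ P₀, f ^ n * x * (f ^ n)⁻¹ ∈ P₀ := by
  induction n with
  | zero => intro x hx; simpa using hx
  | succ n ih =>
    intro x hx
    have := h4 _ (ih x hx)
    have e : f ^ (n + 1) * x * (f ^ (n + 1))⁻¹ = f * (f ^ n * x * (f ^ n)⁻¹) * f⁻¹ := by
      rw [pow_succ']
      group
    rw [e]
    exact this

/-- PIECE HYPER, core -/
theorem no_hyper_core {Y : Type*} [Group Y] [Finite Y] (P Φ P₀ : Subgroup Y) (hn : P.Normal)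
    (hpg : IsPGroup 2 P) (f : Y) (hf : orderOf f = 5)
    (hfree : ∀ x ∈ P, f * x * f⁻¹ * x⁻¹ ∈ Φ → x ∈ Φ)
    (h1 : Φ ≤ P₀) (h2 : P₀ ≤ P) (h3 : Nat.card P = 2 * Nat.card P₀)
    (h4 : ∀ x ∈ P₀, f * x * f⁻¹ ∈ P₀) : False := by
  classical
  have hf5 : f ^ 5 = 1 := by rw [← hf]; exact pow_orderOf_eq_one f
  have hfinv : f⁻¹ = f ^ 4 := by
    have : f ^ 4 * f = 1 := by rw [← pow_succ]; exact hf5
    exact (eq_inv_of_mul_eq_one_left this).symm
  -- `f⁻¹` normalizes `P₀` too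
  have h4' : ∀ x ∈ P₀, f⁻¹ * x * f ∈ P₀ := by
    intro x hx
    have := hyper_conj_pow f P₀ h4 4 x hx
    rw [← hfinv, inv_inv] at this
    exact this
  have hP0iff : ∀ x : Y, f * x * f⁻¹ ∈ P₀ ↔ x ∈ P₀ := by
    intro x
    constructor
    · intro hx
      have := h4' _ hx
      have e : f⁻¹ * (f * x * f⁻¹) * f = x := by group
      rwa [e] at this
    · exact h4 x
  have hPiff : ∀ x : Y, f * x * f⁻¹ ∈ P ↔ x ∈ P := by
    intro x
    constructor
    · intro hx
      have := hn.conj_mem _ hx f⁻¹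
      have e : f⁻¹ * (f * x * f⁻¹) * f⁻¹⁻¹ = x := by group
      rwa [e] at this
    · intro hx
      exact hn.conj_mem _ hx f
  -- the permutation of `P \ P₀`
  let S := {x : Y // x ∈ P ∧ x ∉ P₀}
  have : Fintype Y := Fintype.ofFinite Y
  let σ : Equiv.Perm S := (MulAut.conj f).toEquiv.subtypeEquiv (by
    intro a
    show a ∈ P ∧ a ∉ P₀ ↔ f * a * f⁻¹ ∈ P ∧ f * a * f⁻¹ ∉ P₀
    rw [hPiff, hP0iff])
  have hσval : ∀ x : S, ((σ x : S) : Y) = f * (x : Y) * f⁻¹ := fun x => rfl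
  have hpow : ∀ n : ℕ, ∀ x : S, (((σ ^ n) x : S) : Y) = f ^ n * (x : Y) * (f ^ n)⁻¹ := by
    intro n
    induction n with
    | zero => intro x; simp
    | succ n ih =>
      intro x
      rw [pow_succ', Equiv.Perm.mul_apply, hσval, ih, pow_succ', mul_inv_rev]
      simp only [mul_assoc]
  have hσ5 : σ ^ 5 ^ 1 = 1 := by
    rw [pow_one]
    ext x
    rw [hpow 5 x, hf5, Equiv.Perm.one_apply]
    simp
  -- the number of elements of `P \ P₀`
  have hcard : Fintype.card S = Nat.card P₀ := by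
    have e1 : Fintype.card S = ((P : Set Y) \ (P₀ : Set Y)).ncard := by
      rw [← Nat.card_eq_fintype_card, ← Nat.card_coe_set_eq]
      rfl
    have e2 := Set.ncard_sdiff' (s := (P₀ : Set Y)) (t := (P : Set Y)) (fun x hx => h2 hx)
    have e3 : (P : Set Y).ncard = Nat.card P := by rw [← Nat.card_coe_set_eq]; rfl
    have e4 : (P₀ : Set Y).ncard = Nat.card P₀ := by rw [← Nat.card_coe_set_eq]; rfl
    rw [e1, e2, e3, e4, h3]
    omega
  have hpg0 : IsPGroup 2 P₀ := hpg.to_le h2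
  obtain ⟨k, hk⟩ := hpg0.exists_card_eq
  have hnd : ¬ 5 ∣ Fintype.card S := by
    rw [hcard, hk]
    intro hdvd
    have h5 : Nat.Prime 5 := by norm_num
    have := h5.dvd_of_dvd_pow hdvd
    omega
  have : Fact (Nat.Prime 5) := ⟨by norm_num⟩
  obtain ⟨x, hx⟩ := Equiv.Perm.exists_fixed_point_of_prime (p := 5) (n := 1) hnd hσ5
  have hxv : f * (x : Y) * f⁻¹ = (x : Y) := by
    rw [← hσval, hx]
  have hxΦ : (x : Y) ∈ Φ := by
    apply hfree _ x.2.1
    rw [hxv, mul_inv_cancel]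
    exact one_mem _
  exact x.2.2 (h1 hxΦ)

end Cfsg.Agent.Helper20.A5Q
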