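import Mathlib
import Cfsg.Agent.Lib.Helper20.CSDefs
import Cfsg.Agent.Lib.Helper20.CSFACTS1
import Cfsg.Agent.Lib.Helper2.CSSL2F2
import Cfsg.Agent.S0182

/-!
# S4016, piece ASMA (helper6 for helper20)

`not_cyclic_sylow_two` (exact skeleton signature) and `asma_core`: case A of the skeleton with the three inputs
that are not yet on main (CA, S2202, SL2) as hypotheses; then
`caseA c h0 := asma_core c (caseA_CA c h0) (fun he h => Cfsg.Agent.S2202.result he h) (fun hF hp => sl2_nonabelian_p' hF hp)`.
-/

set_option autoImplicit false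

universe u

namespace Cfsg.Agent.Helper20.CS

open Subgroup

variable {p : ℕ} [Fact p.Prime] {G : Type u} [Group G] [Finite G]

/-- PIECE ASMA, first lemma. -/
theorem not_cyclic_sylow_two (hs : IsSimpleGroup G) (hn : ∃ a b : G, a * b ≠ b * a)
    (heven : Even (Nat.card G)) (S : Sylow 2 G) : ¬ IsCyclic ↥S := by
  intro hcyc
  have hmin : (Nat.card G).minFac = 2 := (Nat.minFac_eq_two_iff _).2 heven.two_dvd
  have hcomp := IsCyclic.isComplement' hmin hcyc
  have hKn : (MonoidHom.transferSylow S (hcyc.normalizer_le_centralizer hmin)).ker.Normal :=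
    MonoidHom.normal_ker _
  rcases hs.eq_bot_or_eq_top_of_normal _ hKn with hb | ht
  · rw [hb, Subgroup.isComplement'_bot_left] at hcomp
    obtain ⟨a, b, hab⟩ := hn
    apply hab
    have ha : a ∈ (S : Subgroup G) := by
      rw [hcomp]
      exact Subgroup.mem_top a
    have hb' : b ∈ (S : Subgroup G) := by
      rw [hcomp]
      exact Subgroup.mem_top b
    obtain ⟨g, hg⟩ := hcyc.exists_generator
    obtain ⟨i, hi⟩ := Subgroup.mem_zpowers_iff.1 (hg ⟨a, ha⟩)
    obtain ⟨j, hj⟩ := Subgroup.mem_zpowers_iff.1 (hg ⟨b, hb'⟩)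
    have h1 : (⟨a, ha⟩ : ↥(S : Subgroup G)) * ⟨b, hb'⟩ = ⟨b, hb'⟩ * ⟨a, ha⟩ := by
      rw [← hi, ← hj, ← zpow_add, ← zpow_add, add_comm]
    exact congrArg Subtype.val h1
  · rw [ht, Subgroup.isComplement'_top_left] at hcomp
    have h2 : (2 : ℕ) ∣ Nat.card G := heven.two_dvd
    exact Sylow.ne_bot_of_dvd_card S h2 hcomp

/-- PIECE ASMA, second lemma, with the pieces CA, S2202 and SL2 as hypotheses. -/
theorem asma_core (c : Cfg p G)
    (hCA : ∀ x : G, x ≠ 1 →
      ∀ a ∈ centralizer ({x} : Set G), ∀ b ∈ centralizer ({x} : Set G), a * b = b * a)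
    (h2202 : Even (Nat.card G) →
      (∀ t : G, orderOf t = 2 → IsMulCommutative ↥(Subgroup.centralizer ({t} : Set G))) →
      (∀ P : Sylow 2 G, IsCyclic ↥P) ∨ (∀ P : Sylow 2 G, (P : Subgroup G).Normal) ∨
      (∃ (F : Type) (_ : Field F) (_ : Fintype F) (A : Type) (_ : CommGroup A) (_ : Finite A),
        CharP F 2 ∧ Odd (Nat.card A) ∧
          Nonempty (G ≃* Matrix.SpecialLinearGroup (Fin 2) F × A)))
    (hSL2 : ∀ {F : Type} [Field F] [Fintype F] [CharP F 2], 4 ≤ Fintype.card F → p ≠ 2 →
      ∃ H : Subgroup (Matrix.SpecialLinearGroup (Fin 2) F), ¬ p ∣ Nat.card ↥H ∧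
        ∃ a ∈ H, ∃ b ∈ H, a * b ≠ b * a) : False := by
  have hs := c.simple
  have hp : p.Prime := Fact.out
  obtain ⟨a₀, b₀, hab₀⟩ := c.nonab
  rcases Nat.even_or_odd (Nat.card G) with heven | hodd
  · have hinv : ∀ t : G, orderOf t = 2 →
        IsMulCommutative ↥(Subgroup.centralizer ({t} : Set G)) := by
      intro t ht
      have ht1 : t ≠ 1 := by
        intro h1
        rw [h1, orderOf_one] at ht
        exact absurd ht (by norm_num)
      exact ⟨⟨fun a b => Subtype.ext (hCA t ht1 a.1 a.2 b.1 b.2)⟩⟩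
    have hS0 : Nonempty (Sylow 2 G) := inferInstance
    obtain ⟨S⟩ := hS0
    rcases h2202 heven hinv with h1 | h1 | h1
    · exact not_cyclic_sylow_two hs ⟨a₀, b₀, hab₀⟩ heven S (h1 S)
    · have hSn := h1 S
      rcases hs.eq_bot_or_eq_top_of_normal _ hSn with hb | ht
      · exact Sylow.ne_bot_of_dvd_card S heven.two_dvd hb
      · -- `G` is a `2`-group, but `P ≠ ⊥` is a `p`-group with `p` odd
        have hPne := c.P_ne
        obtain ⟨u, hu, hu1⟩ : ∃ u ∈ (c.P : Subgroup G), u ≠ 1 := by
          by_contra hcon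
          push Not at hcon
          apply hPne
          rw [Subgroup.eq_bot_iff_forall]
          exact hcon
        obtain ⟨k, hk⟩ := (IsPGroup.iff_orderOf.1 c.P.2) ⟨u, hu⟩
        have hu2 : u ∈ (S : Subgroup G) := by
          rw [ht]
          exact Subgroup.mem_top u
        obtain ⟨m, hm⟩ := (IsPGroup.iff_orderOf.1 S.2) ⟨u, hu2⟩
        rw [Subgroup.orderOf_mk] at hk hm
        have hk0 : k ≠ 0 := by
          rintro rfl
          rw [pow_zero, orderOf_eq_one_iff] at hk
          exact hu1 hk
        have h3 : p ∣ 2 ^ m := by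
          rw [← hm, hk]
          exact dvd_pow_self p hk0
        have h4 : p ∣ 2 := hp.dvd_of_dvd_pow h3
        have h5 : p = 2 := (Nat.prime_dvd_prime_iff_eq hp Nat.prime_two).1 h4
        exact c.p_odd h5
    · obtain ⟨F, hF1, hF2, A, hA1, hA2, hchar, hAodd, ⟨e⟩⟩ := h1
      by_cases hF4 : 4 ≤ Fintype.card F
      · obtain ⟨H, hHp, a, ha, b, hb, hab⟩ := hSL2 hF4 c.p_odd
        let φ : Matrix.SpecialLinearGroup (Fin 2) F →* G :=
          e.symm.toMonoidHom.comp (MonoidHom.inl _ A)
        have hφinj : Function.Injective φ := by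
          intro x y hxy
          have h2 : e.symm ((x, (1 : A))) = e.symm ((y, (1 : A))) := hxy
          have h3 := e.symm.injective h2
          exact (Prod.mk.inj h3).1
        have hcard : Nat.card ↥(H.map φ) = Nat.card ↥H := Subgroup.card_map_of_injective hφinj
        have h4 := c.hyp.2 (H.map φ) (by rw [hcard]; exact hHp) (φ a)
          (Subgroup.mem_map_of_mem φ ha) (φ b) (Subgroup.mem_map_of_mem φ hb)
        rw [← map_mul, ← map_mul] at h4
        exact hab (hφinj h4)
      · have h6 : Nat.card (Matrix.SpecialLinearGroup (Fin 2) F) = 6 :=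
          card_sl2_of_card_lt_four (by omega)
        have hG : Nat.card G = 6 * Nat.card A := by
          rw [Nat.card_congr e.toEquiv, Nat.card_prod, h6]
        obtain ⟨k, hk⟩ := IsPGroup.exists_card_eq S.2
        have hdvd : Nat.card ↥(S : Subgroup G) ∣ Nat.card G := Subgroup.card_subgroup_dvd_card _
        have hidx : ¬ (2 : ℕ) ∣ (S : Subgroup G).index := S.not_dvd_index
        have hmul := Subgroup.card_mul_index (S : Subgroup G)
        obtain ⟨r, hr⟩ := hAodd
        have hk1 : k = 1 := by
          rcases Nat.lt_or_ge k 2 with h7 | h7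
          · interval_cases k
            · exfalso
              apply hidx
              rw [hk, pow_zero, one_mul] at hmul
              rw [hmul, hG]
              exact ⟨3 * Nat.card A, by ring⟩
            · rfl
          · exfalso
            have h8 : (4 : ℕ) ∣ Nat.card G := by
              refine dvd_trans ?_ hdvd
              rw [hk]
              exact pow_dvd_pow 2 h7
            rw [hG, hr] at h8
            omega
        have hc2 : Nat.card ↥(S : Subgroup G) = 2 := by
          rw [hk, hk1, pow_one]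
        have hcyc : IsCyclic ↥(S : Subgroup G) := isCyclic_of_prime_card hc2
        exact not_cyclic_sylow_two hs ⟨a₀, b₀, hab₀⟩ heven S hcyc
  · have hsolv : Group.IsSolvable G := Cfsg.Agent.S0182.result hodd hCA
    have hcomm := (IsSimpleGroup.comm_iff_isSolvable (G := G)).2 hsolv
    exact hab₀ (hcomm a₀ b₀)

end Cfsg.Agent.Helper20.CS
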