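import Mathlib
import Cfsg.Agent.Lib.Helper6.CSASMA
import Cfsg.Agent.Lib.Helper28.CSCA
import Cfsg.Agent.Lib.Helper2.CSSL2
import Cfsg.Agent.S2202

/-!
# S4016, piece ASMA, second lemma with the exact skeleton signature (helper6 for helper20).
-/

set_option autoImplicit false

universe u

namespace Cfsg.Agent.Helper20.CS

open Subgroup

variable {p : ℕ} [Fact p.Prime] {G : Type u} [Group G] [Finite G]

/-- PIECE ASMA: case A (`C_L(P) = 1`) is impossible. -/
theorem caseA (c : Cfg p G) (h0 : c.L0 = ⊥) : False :=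
  asma_core c (caseA_CA c h0) (fun he h => Cfsg.Agent.S2202.result he h)
    (fun hF hp => sl2_nonabelian_p' hF hp)

end Cfsg.Agent.Helper20.CS
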