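import Mathlib
import Cfsg.Agent.Lib.Helper20.CSDefs
import Cfsg.Agent.Lib.Helper20.CSFACTS1
import Cfsg.Agent.Lib.Helper20.CSFACTS2
import Cfsg.Agent.Lib.Helper18.CSBCENT
import Cfsg.Agent.Lib.Helper18.CSBHOM
import Cfsg.Agent.Lib.Helper18.CSBSYL
import Cfsg.Agent.Lib.Helper19.CSBQ
import Cfsg.Agent.Lib.Helper19.CSBSQ
import Cfsg.Agent.Lib.Helper28.CSCA

/-!
# S4016, piece BV4 (helper6 for helper20)

Case B with `p = 3` and `L0` a nontrivial `2`-group leads to the residual configuration `V4Cfg G`.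
-/

set_option autoImplicit false

universe u

namespace Cfsg.Agent.Helper20.CS

open Subgroup

variable {G : Type u} [Group G] [Finite G]

/-- four distinct elements of a subgroup of order four exhaust it -/
theorem bv4_four {H : Subgroup G} (hH : Nat.card ↥H = 4) {a b c d : G}
    (ha : a ∈ H) (hb : b ∈ H) (hc : c ∈ H) (hd : d ∈ H)
    (hab : a ≠ b) (hac : a ≠ c) (had : a ≠ d) (hbc : b ≠ c) (hbd : b ≠ d) (hcd : c ≠ d) :
    ∀ x ∈ H, x = a ∨ x = b ∨ x = c ∨ x = d := by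
  classical
  let T : Finset G := {a, b, c, d}
  have hTcard : T.card = 4 := by
    have h1 : a ∉ ({b, c, d} : Finset G) := by
      simp only [Finset.mem_insert, Finset.mem_singleton, not_or]
      exact ⟨hab, hac, had⟩
    have h2 : b ∉ ({c, d} : Finset G) := by
      simp only [Finset.mem_insert, Finset.mem_singleton, not_or]
      exact ⟨hbc, hbd⟩
    have h3 : c ∉ ({d} : Finset G) := by
      simp only [Finset.mem_singleton]
      exact hcd
    show (insert a (insert b (insert c ({d} : Finset G)))).card = 4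
    rw [Finset.card_insert_of_notMem h1, Finset.card_insert_of_notMem h2,
      Finset.card_insert_of_notMem h3, Finset.card_singleton]
  have hTsub : (T : Set G) ⊆ (H : Set G) := by
    intro x hx
    have hx' : x = a ∨ x = b ∨ x = c ∨ x = d := by
      simpa [T] using hx
    rcases hx' with rfl | rfl | rfl | rfl
    · exact ha
    · exact hb
    · exact hc
    · exact hd
  have hEq : (T : Set G) = (H : Set G) := by
    apply Set.eq_of_subset_of_ncard_le hTsub _ (Set.toFinite _)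
    rw [Set.ncard_coe_finset, hTcard]
    have h4 : (H : Set G).ncard = Nat.card ↥H := (Nat.card_coe_set_eq (H : Set G)).symm
    rw [h4, hH]
  intro x hx
  have hx' : x ∈ (T : Set G) := by
    rw [hEq]
    exact hx
  simpa [T] using hx'

/-- PIECE BV4. -/
theorem caseB_v4 (c : Cfg 3 G) (h0 : c.L0 ≠ ⊥)
    (h2 : ∀ r : ℕ, r.Prime → r ∣ Nat.card ↥c.L0 → r = 2) : Nonempty (V4Cfg G) := by
  classical
  have : Fact (Nat.Prime 2) := ⟨Nat.prime_two⟩
  -- `2 ∣ |L0|`
  have hcard1 : Nat.card ↥c.L0 ≠ 1 := fun h1 => h0 (Subgroup.card_eq_one.mp h1)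
  have hr2 : 2 ∣ Nat.card ↥c.L0 := by
    have hmp := Nat.minFac_prime hcard1
    have hmd := Nat.minFac_dvd (Nat.card ↥c.L0)
    have h3 := h2 _ hmp hmd
    rw [h3] at hmd
    exact hmd
  obtain ⟨R, hRL⟩ := c.exists_sylow_le_L hr2
  have hL0pow : ∃ k, Nat.card ↥c.L0 = 2 ^ k :=
    ⟨_, Nat.eq_prime_pow_of_unique_prime_dvd Nat.card_pos.ne' (fun hd hdd => h2 _ hd hdd)⟩
  have hL0L : c.L0 ≤ c.L := inf_le_left
  have hL0R : c.L0 ≤ (R : Subgroup G) := by
    intro x hx
    apply c.bsyl_mem_of_le_L R hRL (hL0L hx)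
    obtain ⟨k, hk⟩ := hL0pow
    have h1 : orderOf x ∣ 2 ^ k := by
      rw [← hk]
      have h3 := orderOf_dvd_natCard (⟨x, hx⟩ : ↥c.L0)
      rwa [Subgroup.orderOf_mk] at h3
    obtain ⟨j, -, hj⟩ := (Nat.dvd_prime_pow Nat.prime_two).1 h1
    exact ⟨j, hj⟩
  have hinf : (R : Subgroup G) ⊓ c.L0 = c.L0 := inf_eq_right.2 hL0R
  obtain ⟨hsq, hdvd, -⟩ := c.card_sq_le hr2 R hRL
  rw [hinf] at hsq hdvd
  -- `|L0| = 2`, `|R| = 4`
  have ha2 : Nat.card ↥c.L0 = 2 ∧ Nat.card ↥(R : Subgroup G) = 4 := by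
    have ha0 : 0 < Nat.card ↥c.L0 := Nat.card_pos
    have ha : 2 ≤ Nat.card ↥c.L0 := Nat.le_of_dvd ha0 hr2
    have hb : Nat.card ↥(R : Subgroup G) ≤ Nat.card ↥c.L0 * (3 - 1) :=
      Nat.le_of_dvd (Nat.mul_pos ha0 (by norm_num)) hdvd
    have h3 : Nat.card ↥c.L0 * Nat.card ↥c.L0 ≤ Nat.card ↥c.L0 * 2 := le_trans hsq hb
    have h4 : Nat.card ↥c.L0 ≤ 2 := Nat.le_of_mul_le_mul_left h3 ha0
    have ha' : Nat.card ↥c.L0 = 2 := le_antisymm h4 ha
    refine ⟨ha', ?_⟩
    rw [ha'] at hsq hb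
    omega
  -- `L = R`
  obtain ⟨φ, hφ⟩ := c.exists_hom_units
  have hunits : ∀ u : (ZMod 3)ˣ, u ^ 2 = 1 := by decide
  have hLR : c.L ≤ (R : Subgroup G) := by
    intro x hx
    apply c.bsyl_mem_of_le_L R hRL hx
    have h3 : x ^ 2 ∈ c.L0 := by
      have h5 := (hφ ((⟨x, hx⟩ : ↥c.L) ^ 2)).1 (by rw [map_pow]; exact hunits _)
      simpa using h5
    have h4 : (x ^ 2) ^ 2 = 1 := by
      have h5 : (⟨x ^ 2, h3⟩ : ↥c.L0) ^ Nat.card ↥c.L0 = 1 := pow_card_eq_one'
      rw [ha2.1] at h5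
      exact congrArg Subtype.val h5
    have h5 : x ^ (2 ^ 2) = 1 := by
      have h22 : (2 : ℕ) ^ 2 = 2 * 2 := by norm_num
      rw [h22, pow_mul]
      exact h4
    have h6 : orderOf x ∣ 2 ^ 2 := orderOf_dvd_of_pow_eq_one h5
    obtain ⟨j, -, hj⟩ := (Nat.dvd_prime_pow Nat.prime_two).1 h6
    exact ⟨j, hj⟩
  have hLeq : c.L = (R : Subgroup G) := le_antisymm hLR hRL
  -- the involution `y` of `L0`
  obtain ⟨y, hyL0, hy2⟩ := c.bsyl_exists_y hr2
  have hy1 : y ≠ 1 := by
    intro h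
    rw [h, orderOf_one] at hy2
    exact absurd hy2 (by norm_num)
  have hysq : y ^ 2 = 1 := by
    rw [← hy2]
    exact pow_orderOf_eq_one y
  have hCy : centralizer ({y} : Set G) = c.M := c.centralizer_eq hyL0 hy1
  have hyR : y ∈ (R : Subgroup G) := hL0R hyL0
  obtain ⟨w, hwN, hw1, ⟨k, hk⟩, hwM⟩ := c.exists_Q hr2 R hRL
  -- powers of `w` outside `M`
  have hpowM : ∀ v : G, v ∈ zpowers w → v ≠ 1 → v ∉ c.M := by
    intro v hv hv1 hvM
    have h3 : v ∈ zpowers w ⊓ c.M := ⟨hv, hvM⟩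
    rw [hwM, Subgroup.mem_bot] at h3
    exact hv1 h3
  have hw2 : w ^ 2 ≠ 1 := by
    intro h
    have h3 : orderOf w ∣ 2 := orderOf_dvd_of_pow_eq_one h
    have h4 : orderOf w ∣ 3 ^ k := by rw [hk]
    have h5 : orderOf w ∣ Nat.gcd 2 (3 ^ k) := Nat.dvd_gcd h3 h4
    have h6 : Nat.gcd 2 (3 ^ k) = 1 := Nat.Coprime.pow_right k (by norm_num)
    rw [h6, Nat.dvd_one, orderOf_eq_one_iff] at h5
    exact hw1 h5
  have hwM' : w ∉ c.M := hpowM w (mem_zpowers w) hw1
  have hw2M : w ^ 2 ∉ c.M := hpowM (w ^ 2) (Subgroup.pow_mem _ (mem_zpowers w) 2) hw2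
  -- an element conjugating `y` to itself lies in `M`
  have hfix : ∀ v : G, v * y * v⁻¹ = y → v ∈ c.M := by
    intro v hv
    rw [← hCy, Subgroup.mem_centralizer_iff]
    intro h hh
    rw [Set.mem_singleton_iff] at hh
    rw [hh]
    have h3 : v * y = y * v := by
      calc v * y = v * y * v⁻¹ * v := by group
        _ = y * v := by rw [hv]
    exact h3.symm
  have hw2N : w ^ 2 ∈ normalizer ((R : Subgroup G) : Set G) := Subgroup.pow_mem _ hwN 2
  have hy'R : w * y * w⁻¹ ∈ (R : Subgroup G) := (mem_normalizer_iff.1 hwN y).1 hyR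
  have hy''R : w ^ 2 * y * (w ^ 2)⁻¹ ∈ (R : Subgroup G) := (mem_normalizer_iff.1 hw2N y).1 hyR
  have hne1 : w * y * w⁻¹ ≠ y := fun h => hwM' (hfix w h)
  have hne2 : w ^ 2 * y * (w ^ 2)⁻¹ ≠ y := fun h => hw2M (hfix (w ^ 2) h)
  have hne3 : w * y * w⁻¹ ≠ w ^ 2 * y * (w ^ 2)⁻¹ := by
    intro h
    apply hne1
    have h3 : w⁻¹ * (w * y * w⁻¹) * w = w⁻¹ * (w ^ 2 * y * (w ^ 2)⁻¹) * w := by rw [h]
    have h4 : w⁻¹ * (w * y * w⁻¹) * w = y := by group
    have h5 : w⁻¹ * (w ^ 2 * y * (w ^ 2)⁻¹) * w = w * y * w⁻¹ := by group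
    rw [h4, h5] at h3
    exact h3.symm
  have hc1 : (1 : G) ≠ w * y * w⁻¹ := by
    intro h
    apply hy1
    have h3 : w⁻¹ * (w * y * w⁻¹) * w = y := by group
    rw [← h] at h3
    rw [← h3]
    group
  have hc2 : (1 : G) ≠ w ^ 2 * y * (w ^ 2)⁻¹ := by
    intro h
    apply hy1
    have h3 : (w ^ 2)⁻¹ * (w ^ 2 * y * (w ^ 2)⁻¹) * w ^ 2 = y := by group
    rw [← h] at h3
    rw [← h3]
    group
  have hRT := bv4_four ha2.2 (one_mem _) hyR hy'R hy''R hy1.symm hc1 hc2 hne1.symm hne2.symm hne3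
  -- exponent two
  have hsqR : ∀ x ∈ (R : Subgroup G), x ^ 2 = 1 := by
    intro x hx
    rcases hRT x hx with rfl | rfl | rfl | rfl
    · exact one_pow 2
    · exact hysq
    · rw [conj_pow, hysq, mul_one, mul_inv_cancel]
    · rw [conj_pow, hysq, mul_one, mul_inv_cancel]
  have hklein : IsKleinFour ↥(R : Subgroup G) := by
    refine ⟨ha2.2, ?_⟩
    have hdvd2 : Monoid.exponent ↥(R : Subgroup G) ∣ 2 :=
      Monoid.exponent_dvd_of_forall_pow_eq_one (fun x => Subtype.ext (hsqR x.1 x.2))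
    rcases (Nat.dvd_prime Nat.prime_two).1 hdvd2 with h1 | h1
    · exfalso
      rw [Monoid.exp_eq_one_iff] at h1
      have h3 := Finite.card_le_one_iff_subsingleton.2 h1
      rw [ha2.2] at h3
      omega
    · exact h1
  -- elements of `L0`
  have hL0T : ∀ x ∈ c.L0, x = 1 ∨ x = y := by
    intro x hx
    by_contra hcon
    push Not at hcon
    -- three distinct elements `1, y, x` in a group of order two
    have hinj : Function.Injective (fun i : Fin 3 => (![(⟨1, one_mem _⟩ : ↥c.L0), ⟨y, hyL0⟩, ⟨x, hx⟩] i)) := by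
      intro i j hij
      fin_cases i <;> fin_cases j <;> simp_all [Subtype.ext_iff]
    have h3 := Nat.card_le_card_of_injective _ hinj
    rw [ha2.1, Nat.card_eq_fintype_card, Fintype.card_fin] at h3
    omega
  -- the centralizer of `R`
  have hRcomm : ∀ a ∈ (R : Subgroup G), ∀ b ∈ (R : Subgroup G), a * b = b * a := by
    intro a ha b hb
    exact c.L_comm a (hRL ha) b (hRL hb)
  have hCR : centralizer ((R : Subgroup G) : Set G) = (R : Subgroup G) := by
    apply le_antisymm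
    · intro g hg
      have hgy : g ∈ centralizer ({y} : Set G) := by
        rw [Subgroup.mem_centralizer_iff]
        intro h hh
        rw [Set.mem_singleton_iff] at hh
        rw [hh]
        exact (Subgroup.mem_centralizer_iff.1 hg) y hyR
      rw [hCy] at hgy
      obtain ⟨u, hu, l, hl, rfl⟩ := (c.mem_M_iff g).1 hgy
      have hlR : l ∈ (R : Subgroup G) := hLR hl
      -- `u` commutes with `s = w y w⁻¹`
      have hs : w * y * w⁻¹ * u = u * (w * y * w⁻¹) := by
        have h3 := (Subgroup.mem_centralizer_iff.1 hg) (w * y * w⁻¹) hy'R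
        have h4 := hRcomm l hlR (w * y * w⁻¹) hy'R
        -- h3 : s * (u * l) = u * l * s
        calc w * y * w⁻¹ * u = w * y * w⁻¹ * (u * l) * l⁻¹ := by group
          _ = u * l * (w * y * w⁻¹) * l⁻¹ := by rw [h3]
          _ = u * (l * (w * y * w⁻¹)) * l⁻¹ := by group
          _ = u * ((w * y * w⁻¹) * l) * l⁻¹ := by rw [h4]
          _ = u * (w * y * w⁻¹) := by group
      have hu1 : u = 1 := by
        by_contra hu1
        have h5 := c.fpf (c.L_le_M (hRL hy'R)) hu hu1 hs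
        have h6 : w * y * w⁻¹ ∈ c.L0 := (c.mem_L0_iff _).2 ⟨hRL hy'R, h5⟩
        rcases hL0T _ h6 with h7 | h7
        · exact hc1 h7.symm
        · exact hne1 h7
      rw [hu1, one_mul]
      exact hlR
    · intro g hg
      rw [Subgroup.mem_centralizer_iff]
      intro h hh
      exact hRcomm h hh g hg
  have hcardy : Nat.card ↥(centralizer ({y} : Set G)) = 4 * Nat.card ↥(c.P : Subgroup G) := by
    rw [hCy, c.card_M, hLeq, ha2.2, mul_comm]
  have hcardS : Nat.card ↥(centralizer ((R : Subgroup G) : Set G)) = 4 := by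
    rw [hCR, ha2.2]
  have hconj : ∀ t : G, orderOf t = 2 → ∃ g : G, g * y * g⁻¹ = t := by
    intro t ht
    obtain ⟨g, hg⟩ := ca_conj_mem R t 1 (by rw [ht, pow_one])
    have ht1 : g * t * g⁻¹ ≠ 1 := by
      intro h
      have h3 : t = g⁻¹ * (g * t * g⁻¹) * g := by group
      rw [h, mul_one, inv_mul_cancel] at h3
      rw [h3, orderOf_one] at ht
      exact absurd ht (by norm_num)
    rcases hRT _ hg with h | h | h | h
    · exact absurd h ht1
    · refine ⟨g⁻¹, ?_⟩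
      rw [← h]
      group
    · refine ⟨g⁻¹ * w, ?_⟩
      have h3 : t = g⁻¹ * (g * t * g⁻¹) * g := by group
      rw [h3, h]
      group
    · refine ⟨g⁻¹ * w ^ 2, ?_⟩
      have h3 : t = g⁻¹ * (g * t * g⁻¹) * g := by group
      rw [h3, h]
      group
  exact ⟨{
    P := c.P
    y := y
    S := R
    hyp := c.hyp
    simple := c.simple
    nonab := c.nonab
    norm_eq := c.norm_eq
    y_ord := hy2
    y_cent := ((c.mem_L0_iff y).1 hyL0).2
    cent_y := hCy
    card_cent_y := hcardy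
    klein := hklein
    y_mem := hyR
    card_cent_S := hcardS
    conj := hconj }⟩

end Cfsg.Agent.Helper20.CS
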