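import Mathlib
import Cfsg.Prelude.Def_Solvable
import Cfsg.Agent.Lib.Helper20.W3Defs
import Cfsg.Agent.Lib.Helper20.W3STAR
import Cfsg.Agent.Lib.Helper6.W3COUNT

/-! S3300 piece W3-COUNT (helper6): `star_count`, exact-name wrapper. -/

set_option autoImplicit false
set_option linter.unusedSectionVars false

namespace Cfsg.Agent.Helper20.W3

open Cfsg.Agent.Helper8.XS Cfsg.Agent.Helper8.AB

section ctx

variable {G : Type*} [Group G] [Finite G] {z : G} {H E K : Subgroup G} {n : ℕ}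

/-- PIECE W3-COUNT: for an involution `y` of `H`, `χ y = (-1) ^ #Tset`. -/
theorem star_count (c : Ctx3 z H E K n) [Fintype (G ⧸ H)] (χ : ↥H →* ℤˣ)
    (hχ : ∀ h : ↥H, χ h = 1 ↔ (h : G) ∈ K) (y : G) (hyH : y ∈ H) (hyy : y * y = 1)
    (hy1 : y ≠ 1) : valH χ y = (-1) ^ (Tset χ z y).card :=
  w3count_core c χ hχ (fun y hy k hk hyo hmin => star c χ hχ y hy k hk hyo hmin) y hyH hyy hy1

end ctx

end Cfsg.Agent.Helper20.W3
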