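import Mathlib
import Cfsg.Prelude.Def_CaseTheorems

/-!
Normal form calculus in a quasi-dihedral 2-group `S = ⟨x, y⟩`, `|x| = 2^n`, `y² = 1`,
`y x y⁻¹ = x^(2^(n-1) - 1)`: every element is `xp i` or `xp i * y` with `i : ZMod (2^n)`.
-/

set_option autoImplicit false

namespace Cfsg.Agent.Helper6.QD

open scoped commutatorElement

/-- the data of a quasi-dihedral presentation -/
structure Data (S : Type*) [Group S] where
  n : ℕ
  hn : 3 ≤ n
  card : Nat.card S = 2 ^ (n + 1)
  x : S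
  y : S
  hx : orderOf x = 2 ^ n
  hy : orderOf y = 2
  hconj : y * x * y⁻¹ = x ^ (2 ^ (n - 1) - 1)

variable {S : Type*} [Group S]

theorem exists_data (h : Cfsg.IsQuasiDihedral S) : Nonempty (Data S) := by
  obtain ⟨n, hn, hc, x, y, hx, hy, hxy⟩ := h
  exact ⟨⟨n, hn, hc, x, y, hx, hy, hxy⟩⟩

variable (d : Data S)

instance : NeZero (2 ^ d.n) := ⟨by positivity⟩

/-- powers of `x` with exponents in `ZMod (2^n)` -/
def xp (i : ZMod (2 ^ d.n)) : S := d.x ^ i.val

/-- `2^(n-1)` in `ZMod (2^n)` -/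
def half : ZMod (2 ^ d.n) := ((2 ^ (d.n - 1) : ℕ) : ZMod (2 ^ d.n))

/-- the twist `2^(n-1) - 1` -/
def e : ZMod (2 ^ d.n) := half d - 1

theorem two_pow_split : 2 ^ d.n = 2 * 2 ^ (d.n - 1) := by
  have := d.hn
  rw [← pow_succ']
  congr 1
  omega

theorem xp_natCast (k : ℕ) : xp d (k : ZMod (2 ^ d.n)) = d.x ^ k := by
  unfold xp
  rw [ZMod.val_natCast]
  have := pow_mod_orderOf d.x k
  rwa [d.hx] at this

theorem xp_cast_val (i : ZMod (2 ^ d.n)) : xp d i = d.x ^ i.val := rfl

theorem xp_zero : xp d 0 = 1 := by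
  unfold xp; simp

theorem xp_one : xp d 1 = d.x := by
  have := xp_natCast d 1
  simpa using this

theorem xp_add (i j : ZMod (2 ^ d.n)) : xp d (i + j) = xp d i * xp d j := by
  unfold xp
  rw [ZMod.val_add, ← pow_add]
  have := pow_mod_orderOf d.x (i.val + j.val)
  rwa [d.hx] at this

theorem xp_mul_xp (i j : ZMod (2 ^ d.n)) : xp d i * xp d j = xp d (i + j) := (xp_add d i j).symm

theorem xp_neg (i : ZMod (2 ^ d.n)) : xp d (-i) = (xp d i)⁻¹ := by
  apply eq_inv_of_mul_eq_one_left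
  rw [xp_mul_xp, neg_add_cancel, xp_zero]

theorem xp_sub (i j : ZMod (2 ^ d.n)) : xp d (i - j) = xp d i * (xp d j)⁻¹ := by
  rw [sub_eq_add_neg, xp_add, xp_neg]

theorem xp_injective : Function.Injective (xp d) := by
  intro i j h
  unfold xp at h
  apply ZMod.val_injective
  have hi : i.val < orderOf d.x := by rw [d.hx]; exact ZMod.val_lt i
  have hj : j.val < orderOf d.x := by rw [d.hx]; exact ZMod.val_lt j
  exact pow_injOn_Iio_orderOf hi hj h

theorem xp_eq_one_iff (i : ZMod (2 ^ d.n)) : xp d i = 1 ↔ i = 0 := by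
  rw [← xp_zero d]
  exact (xp_injective d).eq_iff

theorem xp_pow (i : ZMod (2 ^ d.n)) (k : ℕ) : (xp d i) ^ k = xp d (k * i) := by
  induction k with
  | zero => simp [xp_zero]
  | succ k ih =>
    rw [pow_succ, ih, xp_mul_xp]
    congr 1
    push_cast
    ring

theorem y_mul_y : d.y * d.y = 1 := by
  have := pow_orderOf_eq_one d.y
  rwa [d.hy, pow_two] at this

theorem y_inv : d.y⁻¹ = d.y := inv_eq_of_mul_eq_one_left (y_mul_y d)

theorem y_ne_one : d.y ≠ 1 := by
  intro h
  have := d.hy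
  rw [h, orderOf_one] at this
  omega

theorem half_add_half : half d + half d = 0 := by
  unfold half
  have h := two_pow_split d
  have : ((2 ^ (d.n - 1) : ℕ) : ZMod (2 ^ d.n)) + ((2 ^ (d.n - 1) : ℕ) : ZMod (2 ^ d.n)) =
      ((2 * 2 ^ (d.n - 1) : ℕ) : ZMod (2 ^ d.n)) := by push_cast; ring
  rw [this, ← h]
  exact ZMod.natCast_self _

theorem two_mul_half : 2 * half d = 0 := by
  rw [two_mul]; exact half_add_half d

theorem half_mul_half : half d * half d = 0 := by
  unfold half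
  have hn := d.hn
  have h : (2 ^ (d.n - 1) : ℕ) * 2 ^ (d.n - 1) = 2 ^ d.n * 2 ^ (d.n - 2) := by
    rw [← pow_add, ← pow_add]
    congr 1
    omega
  rw [← Nat.cast_mul, h, Nat.cast_mul, ZMod.natCast_self, zero_mul]

theorem half_ne_zero : half d ≠ 0 := by
  unfold half
  rw [Ne, ZMod.natCast_eq_zero_iff]
  intro h
  have h1 : 2 ^ d.n ≤ 2 ^ (d.n - 1) := Nat.le_of_dvd (by positivity) h
  have h2 := two_pow_split d
  have : 0 < 2 ^ (d.n - 1) := by positivity
  omega

theorem e_mul_e : e d * e d = 1 := by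
  unfold e
  linear_combination half_mul_half d - two_mul_half d

theorem e_eq_natCast : e d = ((2 ^ (d.n - 1) - 1 : ℕ) : ZMod (2 ^ d.n)) := by
  unfold e half
  have : 1 ≤ 2 ^ (d.n - 1) := Nat.one_le_two_pow
  push_cast [this]
  ring

theorem y_conj_xp (i : ZMod (2 ^ d.n)) : d.y * xp d i * d.y⁻¹ = xp d (e d * i) := by
  have h1 : d.y * xp d i * d.y⁻¹ = (d.y * d.x * d.y⁻¹) ^ i.val := by
    rw [conj_pow]; rfl
  rw [h1, d.hconj, ← pow_mul, ← xp_natCast, e_eq_natCast]
  congr 1
  push_cast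
  rw [ZMod.natCast_zmod_val]

theorem y_mul_xp (i : ZMod (2 ^ d.n)) : d.y * xp d i = xp d (e d * i) * d.y := by
  rw [← y_conj_xp]
  group

/-- `y` is not a power of `x` -/
theorem y_ne_xp (i : ZMod (2 ^ d.n)) : d.y ≠ xp d i := by
  intro h
  have hn := d.hn
  -- then y commutes with x, so x^(E) = x
  have h1 : d.y * d.x * d.y⁻¹ = d.x := by
    rw [h, ← xp_one d, xp_mul_xp, ← xp_neg, xp_mul_xp]
    congr 1
    ring
  rw [d.hconj] at h1
  have h2 : d.x ^ (2 ^ (d.n - 1) - 1 - 1) = 1 := by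
    have hE : 2 ^ (d.n - 1) - 1 = (2 ^ (d.n - 1) - 1 - 1) + 1 := by
      have : 2 ≤ 2 ^ (d.n - 1) := by
        calc 2 = 2 ^ 1 := by norm_num
          _ ≤ 2 ^ (d.n - 1) := Nat.pow_le_pow_right (by norm_num) (by omega)
      omega
    have h3 : d.x ^ (2 ^ (d.n - 1) - 1 - 1) * d.x = d.x := by
      rw [← pow_succ, ← hE]; exact h1
    calc d.x ^ (2 ^ (d.n - 1) - 1 - 1) = d.x ^ (2 ^ (d.n - 1) - 1 - 1) * d.x * d.x⁻¹ := by group
      _ = 1 := by rw [h3, mul_inv_cancel]
  have h4 := orderOf_dvd_of_pow_eq_one h2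
  rw [d.hx] at h4
  have h5 : 4 ≤ 2 ^ (d.n - 1) := by
    calc 4 = 2 ^ 2 := by norm_num
      _ ≤ 2 ^ (d.n - 1) := Nat.pow_le_pow_right (by norm_num) (by omega)
  have h6 : 2 ^ d.n ≤ 2 ^ (d.n - 1) - 1 - 1 := Nat.le_of_dvd (by omega) h4
  have h7 := two_pow_split d
  omega

theorem mem_zpowers_iff (s : S) : s ∈ Subgroup.zpowers d.x ↔ ∃ i, s = xp d i := by
  constructor
  · rintro ⟨k, rfl⟩
    refine ⟨(k : ZMod (2 ^ d.n)), ?_⟩
    unfold xp
    rw [← zpow_natCast, ZMod.val_intCast, ← d.hx]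
    exact (zpow_mod_orderOf d.x k).symm
  · rintro ⟨i, rfl⟩
    exact Subgroup.pow_mem _ (Subgroup.mem_zpowers _) _

theorem index_zpowers : (Subgroup.zpowers d.x).index = 2 := by
  have h1 := Subgroup.card_mul_index (Subgroup.zpowers d.x)
  rw [Nat.card_zpowers, d.hx, d.card, pow_succ] at h1
  have : 0 < 2 ^ d.n := by positivity
  exact Nat.eq_of_mul_eq_mul_left this h1

/-- the normal form -/
theorem cases (s : S) : (∃ i, s = xp d i) ∨ (∃ i, s = xp d i * d.y) := by
  by_cases hs : s ∈ Subgroup.zpowers d.x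
  · exact Or.inl ((mem_zpowers_iff d s).mp hs)
  · right
    have hy : d.y ∉ Subgroup.zpowers d.x := by
      intro h
      obtain ⟨i, hi⟩ := (mem_zpowers_iff d _).mp h
      exact y_ne_xp d i hi
    have h1 : s * d.y ∈ Subgroup.zpowers d.x := by
      rw [Subgroup.mul_mem_iff_of_index_two (index_zpowers d)]
      exact ⟨fun h => absurd h hs, fun h => absurd h hy⟩
    obtain ⟨i, hi⟩ := (mem_zpowers_iff d _).mp h1
    refine ⟨i, ?_⟩
    rw [← hi, mul_assoc, y_mul_y, mul_one]

theorem xp_ne_xp_mul_y (i j : ZMod (2 ^ d.n)) : xp d i ≠ xp d j * d.y := by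
  intro h
  apply y_ne_xp d (-j + i)
  rw [xp_add, xp_neg, h]
  group

theorem xp_mul_y_injective (i j : ZMod (2 ^ d.n)) (h : xp d i * d.y = xp d j * d.y) : i = j :=
  xp_injective d (mul_right_cancel h)

/-! ### multiplication rules -/

theorem xpy_mul_xp (i j : ZMod (2 ^ d.n)) : xp d i * d.y * xp d j = xp d (i + e d * j) * d.y := by
  rw [mul_assoc, y_mul_xp, ← mul_assoc, xp_mul_xp]

theorem xpy_mul_xpy (i j : ZMod (2 ^ d.n)) : xp d i * d.y * (xp d j * d.y) = xp d (i + e d * j) := by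
  rw [← mul_assoc, xpy_mul_xp, mul_assoc, y_mul_y, mul_one]

theorem xp_mul_xpy (i j : ZMod (2 ^ d.n)) : xp d i * (xp d j * d.y) = xp d (i + j) * d.y := by
  rw [← mul_assoc, xp_mul_xp]

theorem xp_inv (i : ZMod (2 ^ d.n)) : (xp d i)⁻¹ = xp d (-i) := (xp_neg d i).symm

theorem xpy_inv (i : ZMod (2 ^ d.n)) : (xp d i * d.y)⁻¹ = xp d (-(e d * i)) * d.y := by
  apply inv_eq_of_mul_eq_one_right
  rw [xpy_mul_xpy]
  have : i + e d * -(e d * i) = 0 := by
    linear_combination (-i) * e_mul_e d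
  rw [this, xp_zero]

/-- conjugation of `xp i * y` by `xp k` -/
theorem conj_xp_xpy (k i : ZMod (2 ^ d.n)) :
    xp d k * (xp d i * d.y) * (xp d k)⁻¹ = xp d (i + (1 - e d) * k) * d.y := by
  rw [xp_mul_xpy, xp_inv, xpy_mul_xp]
  congr 2
  ring

/-- conjugation of `xp i` by `xp k * y` -/
theorem conj_xpy_xp (k i : ZMod (2 ^ d.n)) :
    xp d k * d.y * xp d i * (xp d k * d.y)⁻¹ = xp d (e d * i) := by
  rw [xpy_mul_xp, xpy_inv, xpy_mul_xpy]
  congr 1
  linear_combination (-k) * e_mul_e d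

/-- conjugation of `xp i * y` by `xp k * y` (auxiliary form) -/
theorem conj_xpy_xpy (k i : ZMod (2 ^ d.n)) :
    xp d k * d.y * (xp d i * d.y) * (xp d k * d.y)⁻¹ = xp d (e d * i + (1 - e d) * k) * d.y := by
  rw [xpy_mul_xpy, xpy_inv, xp_mul_xpy]
  congr 2
  ring

theorem conj_xp_xp (k i : ZMod (2 ^ d.n)) : xp d k * xp d i * (xp d k)⁻¹ = xp d i := by
  rw [xp_mul_xp, xp_inv, xp_mul_xp]
  congr 1
  ring

/-- the square of `xp i * y` -/
theorem xpy_sq (i : ZMod (2 ^ d.n)) : xp d i * d.y * (xp d i * d.y) = xp d (half d * i) := by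
  rw [xpy_mul_xpy]
  congr 1
  unfold e
  ring

/-! ### arithmetic in `ZMod (2^n)` -/

/-- `2^(n-2)` in `ZMod (2^n)` -/
def quarter : ZMod (2 ^ d.n) := ((2 ^ (d.n - 2) : ℕ) : ZMod (2 ^ d.n))

theorem two_mul_quarter : 2 * quarter d = half d := by
  unfold quarter half
  have hn := d.hn
  have : (2 ^ (d.n - 1) : ℕ) = 2 * 2 ^ (d.n - 2) := by
    rw [← pow_succ']
    congr 1
    omega
  rw [this]
  push_cast
  ring

theorem half_mul_quarter : half d * quarter d = 0 := by
  unfold quarter half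
  have hn := d.hn
  have h : (2 ^ (d.n - 1) : ℕ) * 2 ^ (d.n - 2) = 2 ^ d.n * 2 ^ (d.n - 3) := by
    rw [← pow_add, ← pow_add]
    congr 1
    omega
  rw [← Nat.cast_mul, h, Nat.cast_mul, ZMod.natCast_self, zero_mul]

theorem quarter_cube : quarter d * quarter d * quarter d = 0 := by
  unfold quarter
  have hn := d.hn
  have h : (2 ^ (d.n - 2) : ℕ) * 2 ^ (d.n - 2) * 2 ^ (d.n - 2) = 2 ^ d.n * 2 ^ (2 * d.n - 6) := by
    rw [← pow_add, ← pow_add, ← pow_add]
    congr 1
    omega
  rw [← Nat.cast_mul, ← Nat.cast_mul, h, Nat.cast_mul, ZMod.natCast_self, zero_mul]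

/-- the unit `1 - 2^(n-2)` -/
def u : ZMod (2 ^ d.n) := 1 - quarter d

/-- its inverse -/
def uinv : ZMod (2 ^ d.n) := 1 + quarter d + quarter d * quarter d

theorem u_mul_uinv : u d * uinv d = 1 := by
  unfold u uinv
  linear_combination (-1 : ZMod (2 ^ d.n)) * quarter_cube d

theorem one_sub_e : 1 - e d = 2 * u d := by
  unfold e u
  rw [← two_mul_quarter]
  ring

theorem half_mul_natCast (k : ℕ) : half d * (k : ZMod (2 ^ d.n)) = 0 ∨ half d * (k : ZMod (2 ^ d.n)) = half d := by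
  rcases Nat.even_or_odd' k with ⟨m, hm | hm⟩
  · left
    rw [hm]
    push_cast
    linear_combination (m : ZMod (2 ^ d.n)) * two_mul_half d
  · right
    rw [hm]
    push_cast
    linear_combination (m : ZMod (2 ^ d.n)) * two_mul_half d

theorem half_mul_cases (i : ZMod (2 ^ d.n)) : half d * i = 0 ∨ half d * i = half d := by
  have := half_mul_natCast d i.val
  rwa [ZMod.natCast_zmod_val] at this

theorem half_mul_eq_zero_iff (i : ZMod (2 ^ d.n)) : half d * i = 0 ↔ ∃ j, i = 2 * j := by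
  constructor
  · intro h
    rcases Nat.even_or_odd' i.val with ⟨m, hm | hm⟩
    · refine ⟨(m : ZMod (2 ^ d.n)), ?_⟩
      rw [← ZMod.natCast_zmod_val i, hm]
      push_cast
      ring
    · exfalso
      apply half_ne_zero d
      rw [← h, ← ZMod.natCast_zmod_val i, hm]
      push_cast
      linear_combination (-(m : ZMod (2 ^ d.n))) * two_mul_half d
  · rintro ⟨j, rfl⟩
    linear_combination j * two_mul_half d

theorem half_mul_eq_half_iff (i : ZMod (2 ^ d.n)) : half d * i = half d ↔ ∃ j, i = 2 * j + 1 := by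
  constructor
  · intro h
    rcases Nat.even_or_odd' i.val with ⟨m, hm | hm⟩
    · exfalso
      apply half_ne_zero d
      rw [← h, ← ZMod.natCast_zmod_val i, hm]
      push_cast
      linear_combination (m : ZMod (2 ^ d.n)) * two_mul_half d
    · refine ⟨(m : ZMod (2 ^ d.n)), ?_⟩
      rw [← ZMod.natCast_zmod_val i, hm]
      push_cast
      ring
  · rintro ⟨j, rfl⟩
    linear_combination j * two_mul_half d

theorem two_mul_eq_zero_iff (i : ZMod (2 ^ d.n)) : 2 * i = 0 ↔ i = 0 ∨ i = half d := by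
  constructor
  · intro h
    have h1 : ((2 * i.val : ℕ) : ZMod (2 ^ d.n)) = 0 := by
      push_cast
      rw [ZMod.natCast_zmod_val]
      exact h
    rw [ZMod.natCast_eq_zero_iff] at h1
    have hN := two_pow_split d
    have h1' : 2 * 2 ^ (d.n - 1) ∣ 2 * i.val := by
      rw [← hN]; exact h1
    have h2 : 2 ^ (d.n - 1) ∣ i.val := Nat.dvd_of_mul_dvd_mul_left (by norm_num) h1'
    obtain ⟨c, hc⟩ := h2
    have hlt : i.val < 2 ^ d.n := ZMod.val_lt i
    have hpos : 0 < 2 ^ (d.n - 1) := by positivity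
    have hc2 : c < 2 := by
      by_contra hcon
      push Not at hcon
      have : 2 ^ (d.n - 1) * 2 ≤ 2 ^ (d.n - 1) * c := Nat.mul_le_mul_left _ hcon
      omega
    interval_cases c
    · left
      rw [mul_zero] at hc
      exact (ZMod.val_eq_zero i).mp hc
    · right
      rw [mul_one] at hc
      unfold half
      rw [← hc, ZMod.natCast_zmod_val]
  · rintro (rfl | rfl)
    · ring
    · exact two_mul_half d

/-- the central involution -/
def z : S := xp d (half d)

theorem z_ne_one : z d ≠ 1 := by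
  unfold z
  rw [Ne, xp_eq_one_iff]
  exact half_ne_zero d

theorem z_mul_z : z d * z d = 1 := by
  unfold z
  rw [xp_mul_xp, half_add_half, xp_zero]

theorem orderOf_two_iff' (t : S) : orderOf t = 2 ↔ t ≠ 1 ∧ t * t = 1 := by
  constructor
  · intro h
    refine ⟨?_, ?_⟩
    · rintro rfl
      rw [orderOf_one] at h
      omega
    · have := pow_orderOf_eq_one t
      rwa [h, pow_two] at this
  · rintro ⟨h1, h2⟩
    exact orderOf_eq_prime (by rw [pow_two]; exact h2) h1

theorem orderOf_four_iff (t : S) : orderOf t = 4 ↔ t * t ≠ 1 ∧ (t * t) * (t * t) = 1 := by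
  constructor
  · intro h
    refine ⟨?_, ?_⟩
    · intro h2
      have := orderOf_dvd_of_pow_eq_one (show t ^ 2 = 1 by rw [pow_two]; exact h2)
      rw [h] at this
      omega
    · have := pow_orderOf_eq_one t
      rw [h] at this
      rw [← this, show 4 = 2 + 2 from rfl, pow_add, pow_two]
  · rintro ⟨h1, h2⟩
    have : Fact (Nat.Prime 2) := ⟨Nat.prime_two⟩
    have := orderOf_eq_prime_pow (x := t) (p := 2) (n := 1) (by rw [pow_one, pow_two]; exact h1)
      (by
        rw [← h2, show 2 ^ (1 + 1) = 2 + 2 from rfl, pow_add, pow_two])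
    rw [this]
    norm_num

theorem orderOf_xp_eq_two_iff (i : ZMod (2 ^ d.n)) : orderOf (xp d i) = 2 ↔ i = half d := by
  rw [orderOf_two_iff', xp_mul_xp, xp_eq_one_iff, Ne, xp_eq_one_iff, ← two_mul, two_mul_eq_zero_iff]
  constructor
  · rintro ⟨h1, h2 | h2⟩
    · exact absurd h2 h1
    · exact h2
  · intro h
    exact ⟨by rw [h]; exact half_ne_zero d, Or.inr h⟩

theorem xpy_ne_one (i : ZMod (2 ^ d.n)) : xp d i * d.y ≠ 1 := by
  rw [← xp_zero d]
  exact (xp_ne_xp_mul_y d 0 i).symm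

theorem orderOf_xpy_eq_two_iff (i : ZMod (2 ^ d.n)) : orderOf (xp d i * d.y) = 2 ↔ half d * i = 0 := by
  rw [orderOf_two_iff', xpy_sq, xp_eq_one_iff]
  exact ⟨fun h => h.2, fun h => ⟨xpy_ne_one d i, h⟩⟩

theorem orderOf_xpy_eq_four_iff (i : ZMod (2 ^ d.n)) : orderOf (xp d i * d.y) = 4 ↔ half d * i = half d := by
  rw [orderOf_four_iff, xpy_sq, xp_mul_xp, xp_eq_one_iff, Ne, xp_eq_one_iff]
  constructor
  · rintro ⟨h1, -⟩
    rcases half_mul_cases d i with h | h
    · exact absurd h h1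
    · exact h
  · intro h
    rw [h]
    exact ⟨half_ne_zero d, half_add_half d⟩

theorem orderOf_xp_eq_four_iff (i : ZMod (2 ^ d.n)) :
    orderOf (xp d i) = 4 ↔ i = quarter d ∨ i = quarter d + half d := by
  rw [orderOf_four_iff, xp_mul_xp, xp_mul_xp, xp_eq_one_iff, Ne, xp_eq_one_iff]
  have h1 : i + i + (i + i) = 2 * (2 * i) := by ring
  have h2 : i + i = 2 * i := by ring
  rw [h1, h2, two_mul_eq_zero_iff d (2 * i)]
  constructor
  · rintro ⟨hne, h | h⟩
    · exact absurd h hne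
    · have h3 : 2 * (i - quarter d) = 0 := by
        linear_combination h - two_mul_quarter d
      rcases (two_mul_eq_zero_iff d _).mp h3 with h4 | h4
      · left; linear_combination h4
      · right; linear_combination h4
  · rintro (rfl | rfl)
    · rw [two_mul_quarter]
      exact ⟨half_ne_zero d, Or.inr rfl⟩
    · have : 2 * (quarter d + half d) = half d := by
        linear_combination two_mul_quarter d + two_mul_half d
      rw [this]
      exact ⟨half_ne_zero d, Or.inr rfl⟩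

/-- `xp (2j) * y` is conjugate to `y` -/
theorem conj_even (j : ZMod (2 ^ d.n)) :
    xp d (uinv d * j) * d.y * (xp d (uinv d * j))⁻¹ = xp d (2 * j) * d.y := by
  have := conj_xp_xpy d (uinv d * j) 0
  rw [xp_zero, one_mul] at this
  rw [this, one_sub_e]
  congr 2
  linear_combination (2 * j) * u_mul_uinv d

/-- `xp (2j+1) * y` is conjugate to `x * y` -/
theorem conj_odd (j : ZMod (2 ^ d.n)) :
    xp d (uinv d * j) * (xp d 1 * d.y) * (xp d (uinv d * j))⁻¹ = xp d (2 * j + 1) * d.y := by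
  rw [conj_xp_xpy, one_sub_e]
  congr 2
  linear_combination (2 * j) * u_mul_uinv d

/-- `z` is central -/
theorem z_central (s : S) : s * z d = z d * s := by
  unfold z
  rcases cases d s with ⟨i, rfl⟩ | ⟨i, rfl⟩
  · rw [xp_mul_xp, xp_mul_xp, add_comm]
  · rw [xpy_mul_xp, xp_mul_xpy]
    congr 2
    unfold e
    linear_combination half_mul_half d - two_mul_half d

/-! ### the subgroup `A = ⟨x²⟩` -/

theorem xp_two : xp d 2 = d.x ^ 2 := by
  have := xp_natCast d 2
  simpa using this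

theorem orderOf_xp_two : orderOf (xp d 2) = 2 ^ (d.n - 1) := by
  rw [xp_two, orderOf_pow' d.x (by norm_num : 2 ≠ 0), d.hx, two_pow_split d]
  have : Nat.gcd (2 * 2 ^ (d.n - 1)) 2 = 2 := by
    apply Nat.gcd_eq_right
    exact Dvd.intro _ rfl
  rw [this]
  omega

theorem xp_intCast (k : ℤ) : xp d (k : ZMod (2 ^ d.n)) = d.x ^ k := by
  unfold xp
  rw [← zpow_natCast, ZMod.val_intCast]
  have := zpow_mod_orderOf d.x k
  rw [d.hx] at this
  push_cast at this ⊢
  exact this

theorem mem_zpowers_xp_two_iff (s : S) : s ∈ Subgroup.zpowers (xp d 2) ↔ ∃ j, s = xp d (2 * j) := by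
  constructor
  · rintro ⟨k, rfl⟩
    refine ⟨(k : ZMod (2 ^ d.n)), ?_⟩
    show (xp d 2) ^ k = xp d (2 * (k : ZMod (2 ^ d.n)))
    rw [xp_two, ← zpow_natCast, ← zpow_mul]
    have : (2 : ZMod (2 ^ d.n)) * (k : ZMod (2 ^ d.n)) = (((2 : ℕ) * k : ℤ) : ZMod (2 ^ d.n)) := by
      push_cast; ring
    rw [this, xp_intCast]
  · rintro ⟨j, rfl⟩
    have : xp d (2 * j) = (xp d 2) ^ j.val := by
      rw [xp_pow, ZMod.natCast_zmod_val, mul_comm]
    rw [this]
    exact Subgroup.pow_mem _ (Subgroup.mem_zpowers _) _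

/-- commutators lie in `⟨x²⟩` -/
theorem commutator_mem (a b : S) : a * b * a⁻¹ * b⁻¹ ∈ Subgroup.zpowers (xp d 2) := by
  rw [mem_zpowers_xp_two_iff]
  rcases cases d a with ⟨i, rfl⟩ | ⟨i, rfl⟩ <;> rcases cases d b with ⟨j, rfl⟩ | ⟨j, rfl⟩
  · refine ⟨0, ?_⟩
    rw [xp_mul_xp, xp_inv, xp_inv, xp_mul_xp, xp_mul_xp]
    congr 1
    ring
  · refine ⟨u d * i, ?_⟩
    rw [conj_xp_xpy, xpy_inv, xpy_mul_xpy]
    congr 1
    have h1 := one_sub_e d
    linear_combination (-j) * e_mul_e d + i * h1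
  · refine ⟨-(u d * j), ?_⟩
    rw [xpy_mul_xp, xpy_inv, xpy_mul_xpy, xp_inv, xp_mul_xp]
    congr 1
    have h1 := one_sub_e d
    linear_combination (-i) * e_mul_e d - j * h1
  · refine ⟨u d * (i - j), ?_⟩
    rw [xpy_mul_xpy, xpy_inv, xpy_inv, xp_mul_xpy, xpy_mul_xpy]
    congr 1
    have h1 := one_sub_e d
    linear_combination (-j) * e_mul_e d + (i - j) * h1

theorem commutator_le : commutator S ≤ Subgroup.zpowers (xp d 2) := by
  rw [commutator_eq_closure, Subgroup.closure_le]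
  rintro _ ⟨a, b, rfl⟩
  rw [commutatorElement_def]
  exact commutator_mem d a b

theorem le_commutator : Subgroup.zpowers (xp d 2) ≤ commutator S := by
  rw [Subgroup.zpowers_le]
  -- [x^k, y] with k = uinv
  have h1 : ⁅xp d (uinv d), d.y⁆ ∈ commutator S := Subgroup.commutator_mem_commutator (Subgroup.mem_top _) (Subgroup.mem_top _)
  have h2 : ⁅xp d (uinv d), d.y⁆ = xp d 2 := by
    rw [commutatorElement_def]
    have := conj_xp_xpy d (uinv d) 0
    rw [xp_zero, one_mul] at this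
    rw [this, y_inv, mul_assoc, y_mul_y, mul_one, one_sub_e]
    congr 1
    linear_combination (2 : ZMod (2 ^ d.n)) * u_mul_uinv d
  rw [← h2]
  exact h1

theorem commutator_eq : commutator S = Subgroup.zpowers (xp d 2) :=
  le_antisymm (commutator_le d) (le_commutator d)

/-- squares lie in `⟨x²⟩` -/
theorem sq_mem (s : S) : s ^ 2 ∈ Subgroup.zpowers (xp d 2) := by
  rw [mem_zpowers_xp_two_iff, pow_two]
  rcases cases d s with ⟨i, rfl⟩ | ⟨i, rfl⟩
  · exact ⟨i, by rw [xp_mul_xp]; congr 1; ring⟩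
  · refine ⟨quarter d * i, ?_⟩
    rw [xpy_sq, ← two_mul_quarter]
    congr 1
    ring

/-- the centre is `{1, z}` -/
theorem mem_center_iff (s : S) : s ∈ Subgroup.center S ↔ s = 1 ∨ s = z d := by
  constructor
  · intro hs
    rw [Subgroup.mem_center_iff] at hs
    rcases cases d s with ⟨i, rfl⟩ | ⟨i, rfl⟩
    · have h1 := hs d.y
      rw [y_mul_xp] at h1
      have h2 : e d * i = i := xp_injective d (mul_right_cancel h1)
      have h3 : 2 * i = 0 := by
        have h4 : 2 * u d * i = 0 := by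
          rw [← one_sub_e]
          linear_combination -h2
        linear_combination uinv d * h4 - (2 * i) * u_mul_uinv d
      rcases (two_mul_eq_zero_iff d i).mp h3 with rfl | rfl
      · left; exact xp_zero d
      · right; rfl
    · exfalso
      have h1 := hs (xp d 1)
      rw [xp_mul_xpy, xpy_mul_xp] at h1
      have h2 := xp_mul_y_injective d _ _ h1
      have h3 : half d = 2 := by
        unfold e at h2
        linear_combination -h2
      have h4 : (4 : ZMod (2 ^ d.n)) = 0 := by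
        have := two_mul_half d
        rw [h3] at this
        linear_combination this
      have h5 : ((4 : ℕ) : ZMod (2 ^ d.n)) = 0 := by exact_mod_cast h4
      rw [ZMod.natCast_eq_zero_iff] at h5
      have h6 : 2 ^ d.n ≤ 4 := Nat.le_of_dvd (by norm_num) h5
      have h7 : 2 ^ 3 ≤ 2 ^ d.n := Nat.pow_le_pow_right (by norm_num) d.hn
      omega
  · rintro (rfl | rfl)
    · exact Subgroup.one_mem _
    · rw [Subgroup.mem_center_iff]
      intro g
      exact z_central d g

end Cfsg.Agent.Helper6.QD
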