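import Mathlib
import Cfsg.Agent.Lib.Helper6.QD

/-!
Klein four-subgroups of a quasi-dihedral group: centralizers of noncentral involutions.
-/

set_option autoImplicit false

namespace Cfsg.Agent.Helper6.QD

variable {S : Type*} [Group S] (d : Data S)

/-- `(1 - e) m = 0 ↔ 2 m = 0` -/
theorem one_sub_e_mul_eq_zero_iff (m : ZMod (2 ^ d.n)) : (1 - e d) * m = 0 ↔ 2 * m = 0 := by
  rw [one_sub_e]
  constructor
  · intro h
    have : 2 * m = uinv d * (2 * u d * m) := by
      linear_combination (-2 * m) * u_mul_uinv d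
    rw [this, h, mul_zero]
  · intro h
    have : 2 * u d * m = u d * (2 * m) := by ring
    rw [this, h, mul_zero]

/-- the noncentral involution `x^(2j) y` -/
def inv2 (j : ZMod (2 ^ d.n)) : S := xp d (2 * j) * d.y

theorem z_mul_inv2 (j : ZMod (2 ^ d.n)) : z d * inv2 d j = xp d (half d + 2 * j) * d.y := by
  unfold z inv2
  rw [xp_mul_xpy]

theorem inv2_ne_one (j : ZMod (2 ^ d.n)) : inv2 d j ≠ 1 := xpy_ne_one d _

theorem inv2_mul_self (j : ZMod (2 ^ d.n)) : inv2 d j * inv2 d j = 1 := by
  unfold inv2
  rw [xpy_sq]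
  have : half d * (2 * j) = 0 := by linear_combination j * two_mul_half d
  rw [this, xp_zero]

theorem inv2_ne_z (j : ZMod (2 ^ d.n)) : inv2 d j ≠ z d := by
  unfold inv2 z
  exact (xp_ne_xp_mul_y d _ _).symm

/-- the centralizer of the involution `x^(2j) y` is `{1, z, a, za}` -/
theorem commute_inv2_iff (j : ZMod (2 ^ d.n)) (s : S) :
    s * inv2 d j = inv2 d j * s ↔ s = 1 ∨ s = z d ∨ s = inv2 d j ∨ s = z d * inv2 d j := by
  rw [z_mul_inv2]
  unfold inv2 z
  rcases cases d s with ⟨k, rfl⟩ | ⟨k, rfl⟩
  · rw [xp_mul_xpy, xpy_mul_xp]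
    constructor
    · intro h
      have h1 := xp_mul_y_injective d _ _ h
      have h2 : (1 - e d) * k = 0 := by linear_combination h1
      rw [one_sub_e_mul_eq_zero_iff, two_mul_eq_zero_iff] at h2
      rcases h2 with rfl | rfl
      · left; exact xp_zero d
      · right; left; rfl
    · rintro (h | h | h | h)
      · rw [← xp_zero d] at h
        have := xp_injective d h
        subst this
        congr 2
        ring
      · have := xp_injective d h
        subst this
        congr 2
        unfold e
        linear_combination two_mul_half d - half_mul_half d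
      · exact absurd h (xp_ne_xp_mul_y d _ _)
      · exact absurd h (xp_ne_xp_mul_y d _ _)
  · rw [xpy_mul_xpy, xpy_mul_xpy]
    constructor
    · intro h
      have h1 := xp_injective d h
      have h2 : (1 - e d) * (k - 2 * j) = 0 := by linear_combination h1
      rw [one_sub_e_mul_eq_zero_iff, two_mul_eq_zero_iff] at h2
      rcases h2 with h2 | h2
      · right; right; left
        have : k = 2 * j := by linear_combination h2
        rw [this]
      · right; right; right
        have : k = half d + 2 * j := by linear_combination h2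
        rw [this]
    · rintro (h | h | h | h)
      · exact absurd h (xpy_ne_one d _)
      · exact absurd h.symm (xp_ne_xp_mul_y d _ _)
      · have := xp_mul_y_injective d _ _ h
        subst this
        rfl
      · have := xp_mul_y_injective d _ _ h
        subst this
        congr 1
        unfold e
        linear_combination two_mul_half d - half_mul_half d

/-- every involution is `z` or some `inv2 j` -/
theorem invol_cases (t : S) (h1 : t ≠ 1) (h2 : t * t = 1) : t = z d ∨ ∃ j, t = inv2 d j := by
  have ho : orderOf t = 2 := (orderOf_two_iff' t).mpr ⟨h1, h2⟩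
  rcases cases d t with ⟨i, rfl⟩ | ⟨i, rfl⟩
  · left
    rw [orderOf_xp_eq_two_iff] at ho
    rw [ho]; rfl
  · right
    rw [orderOf_xpy_eq_two_iff, half_mul_eq_zero_iff] at ho
    obtain ⟨j, rfl⟩ := ho
    exact ⟨j, rfl⟩

/-- membership in a Klein four-subgroup -/
theorem kleinFour_mem [Finite S] (T : Subgroup S) (hT : IsKleinFour T) :
    ∃ j, ∀ s, s ∈ T ↔ s = 1 ∨ s = z d ∨ s = inv2 d j ∨ s = z d * inv2 d j := by
  have hcard : Nat.card T = 4 := hT.card_four
  have hexp : Monoid.exponent T = 2 := hT.exponent_two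
  have hsq : ∀ t ∈ T, t * t = 1 := by
    intro t ht
    have h := Monoid.pow_exponent_eq_one (⟨t, ht⟩ : T)
    rw [hexp] at h
    have h' := congrArg Subtype.val h
    simpa [pow_two] using h'
  have hcomm : ∀ s ∈ T, ∀ t ∈ T, s * t = t * s := by
    intro s hs t ht
    have h1 := hsq s hs
    have h2 := hsq t ht
    have h3 := hsq (s * t) (T.mul_mem hs ht)
    have hs' : s⁻¹ = s := inv_eq_of_mul_eq_one_left h1
    have ht' : t⁻¹ = t := inv_eq_of_mul_eq_one_left h2
    have h4 : (s * t)⁻¹ = s * t := inv_eq_of_mul_eq_one_left h3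
    rw [mul_inv_rev, hs', ht'] at h4
    exact h4.symm
  -- an element outside `{1, z}`
  have hex : ∃ t ∈ T, t ≠ 1 ∧ t ≠ z d := by
    by_contra hcon
    push Not at hcon
    have hsub : (T : Set S) ⊆ {1, z d} := by
      intro t ht
      by_cases h1 : t = 1
      · left; exact h1
      · right; exact hcon t ht h1
    have h1 : Nat.card T ≤ 2 := by
      have := Set.ncard_le_ncard hsub (Set.toFinite _)
      rw [Set.ncard_pair (z_ne_one d).symm] at this
      rw [← Nat.card_coe_set_eq] at this
      exact this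
    omega
  obtain ⟨t, htT, ht1, htz⟩ := hex
  rcases invol_cases d t ht1 (hsq t htT) with h | ⟨j, rfl⟩
  · exact absurd h htz
  refine ⟨j, ?_⟩
  have hsub : (T : Set S) ⊆ {1, z d, inv2 d j, z d * inv2 d j} := by
    intro s hs
    have := (commute_inv2_iff d j s).mp (hcomm s hs _ htT)
    simpa using this
  have hfin : ({1, z d, inv2 d j, z d * inv2 d j} : Set S).Finite := Set.toFinite _
  have hle : ({1, z d, inv2 d j, z d * inv2 d j} : Set S).ncard ≤ (T : Set S).ncard := by
    have h4 : ({1, z d, inv2 d j, z d * inv2 d j} : Set S).ncard ≤ 4 := by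
      refine le_trans (Set.ncard_insert_le _ _) ?_
      refine Nat.succ_le_succ (le_trans (Set.ncard_insert_le _ _) ?_)
      refine Nat.succ_le_succ (le_trans (Set.ncard_insert_le _ _) ?_)
      rw [Set.ncard_singleton]
    have h5 : (T : Set S).ncard = 4 := by
      rw [← Nat.card_coe_set_eq]; exact hcard
    omega
  have heq := Set.eq_of_subset_of_ncard_le hsub hle hfin
  intro s
  have : s ∈ T ↔ s ∈ (T : Set S) := Iff.rfl
  rw [this, heq]
  simp

end Cfsg.Agent.Helper6.QD

namespace Cfsg.Agent.Helper6.QD

variable {S : Type*} [Group S] (d : Data S)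

/-- the four-element set `{1, z, a, za}` with `a = x^(2j) y` -/
def F (j : ZMod (2 ^ d.n)) (s : S) : Prop :=
  s = 1 ∨ s = z d ∨ s = inv2 d j ∨ s = z d * inv2 d j

theorem conj_z (s : S) : s * z d * s⁻¹ = z d := by
  rw [z_central d s, mul_assoc, mul_inv_cancel, mul_one]

theorem conj_z_mul (s a : S) : s * (z d * a) * s⁻¹ = z d * (s * a * s⁻¹) := by
  rw [← mul_assoc, z_central d s]
  group

theorem conj_inv2 (j k : ZMod (2 ^ d.n)) :
    xp d (uinv d * k) * inv2 d j * (xp d (uinv d * k))⁻¹ = inv2 d (j + k) := by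
  unfold inv2
  rw [conj_xp_xpy, one_sub_e]
  congr 2
  linear_combination (2 * k) * u_mul_uinv d

theorem conj_quarter_inv2 (j : ZMod (2 ^ d.n)) :
    xp d (quarter d) * inv2 d j * (xp d (quarter d))⁻¹ = z d * inv2 d j := by
  rw [z_mul_inv2]
  unfold inv2
  rw [conj_xp_xpy, one_sub_e]
  congr 2
  unfold u
  linear_combination two_mul_quarter d - half_mul_quarter d + (- quarter d) * two_mul_quarter d

theorem z_mul_inv2_ne (j : ZMod (2 ^ d.n)) : z d * inv2 d j ≠ inv2 d j := by
  intro h
  have : z d = 1 := by
    have := congrArg (· * (inv2 d j)⁻¹) h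
    simpa using this
  exact z_ne_one d this

/-- if `s` sends `a` into `{a, za}` then conjugation by `s` preserves `{1, z, a, za}` -/
theorem F_conj_of (j k : ZMod (2 ^ d.n)) (s : S)
    (h : s * inv2 d j * s⁻¹ = inv2 d k ∨ s * inv2 d j * s⁻¹ = z d * inv2 d k) (t : S)
    (ht : F d j t) : F d k (s * t * s⁻¹) := by
  rcases ht with rfl | rfl | rfl | rfl
  · left; group
  · right; left; exact conj_z d s
  · rcases h with h | h
    · right; right; left; exact h
    · right; right; right; exact h
  · rw [conj_z_mul]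
    rcases h with h | h
    · right; right; right; rw [h]
    · right; right; left
      rw [h, ← mul_assoc, z_mul_z, one_mul]

theorem inv_conj_of (j k : ZMod (2 ^ d.n)) (s : S)
    (h : s * inv2 d j * s⁻¹ = inv2 d k ∨ s * inv2 d j * s⁻¹ = z d * inv2 d k) :
    s⁻¹ * inv2 d k * s⁻¹⁻¹ = inv2 d j ∨ s⁻¹ * inv2 d k * s⁻¹⁻¹ = z d * inv2 d j := by
  rcases h with h | h
  · left
    rw [← h]; group
  · right
    have h1 : inv2 d k = z d * (s * inv2 d j * s⁻¹) := by
      rw [h, ← mul_assoc, z_mul_z, one_mul]
    rw [h1, ← conj_z_mul]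
    group

end Cfsg.Agent.Helper6.QD
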