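import Mathlib
import Cfsg.Agent.Lib.Helper6.QD
import Cfsg.Agent.Lib.Helper6.QDFour

/-!
Quaternion subgroups of order 8 of a quasi-dihedral group.
-/

set_option autoImplicit false

namespace Cfsg.Agent.Helper6.QD

open QuaternionGroup

/-- abstract properties of a subgroup isomorphic to `Q₈` -/
structure Q8Like {S : Type*} [Group S] (Q : Subgroup S) (c : S) : Prop where
  card : Nat.card Q = 8
  mem : c ∈ Q
  ne_one : c ≠ 1
  sq_one : c * c = 1
  sq : ∀ q ∈ Q, q * q = 1 ∨ q * q = c
  invol : ∀ q ∈ Q, q * q = 1 → q = 1 ∨ q = c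

theorem q8Like_of_equiv {S : Type*} [Group S] (Q : Subgroup S) (φ : Q ≃* QuaternionGroup 2) :
    ∃ c, Q8Like Q c := by
  have t1 : ∀ w : QuaternionGroup 2, w * w = 1 ∨ w * w = a 2 := by decide
  have t2 : ∀ w : QuaternionGroup 2, w * w = 1 → w = 1 ∨ w = a 2 := by decide
  have t3 : (a 2 : QuaternionGroup 2) ≠ 1 := by decide
  have t4 : (a 2 : QuaternionGroup 2) * a 2 = 1 := by decide
  have t5 : Nat.card (QuaternionGroup 2) = 8 := by
    rw [Nat.card_eq_fintype_card, QuaternionGroup.card]
  refine ⟨((φ.symm (a 2) : Q) : S), ?_, (φ.symm (a 2)).2, ?_, ?_, ?_, ?_⟩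
  · rw [Nat.card_congr φ.toEquiv, t5]
  · intro h
    have h1 : φ.symm (a 2) = 1 := Subtype.ext h
    have h2 : φ (φ.symm (a 2)) = 1 := by rw [h1, map_one]
    rw [MulEquiv.apply_symm_apply] at h2
    exact t3 h2
  · have h1 : φ.symm (a 2) * φ.symm (a 2) = 1 := by
      rw [← map_mul, t4, map_one]
    exact congrArg Subtype.val h1
  · intro q hq
    rcases t1 (φ ⟨q, hq⟩) with h | h
    · left
      have h1 : φ (⟨q, hq⟩ * ⟨q, hq⟩) = 1 := by rw [map_mul, h]
      have h2 : (⟨q, hq⟩ * ⟨q, hq⟩ : Q) = 1 := by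
        have := congrArg φ.symm h1
        rwa [MulEquiv.symm_apply_apply, map_one] at this
      exact congrArg Subtype.val h2
    · right
      have h1 : φ (⟨q, hq⟩ * ⟨q, hq⟩) = a 2 := by rw [map_mul, h]
      have h2 : (⟨q, hq⟩ * ⟨q, hq⟩ : Q) = φ.symm (a 2) := by
        have := congrArg φ.symm h1
        rwa [MulEquiv.symm_apply_apply] at this
      exact congrArg Subtype.val h2
  · intro q hq hqq
    have h1 : φ ⟨q, hq⟩ * φ ⟨q, hq⟩ = 1 := by
      rw [← map_mul]
      have : (⟨q, hq⟩ * ⟨q, hq⟩ : Q) = 1 := Subtype.ext hqq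
      rw [this, map_one]
    rcases t2 _ h1 with h | h
    · left
      have h2 : (⟨q, hq⟩ : Q) = 1 := by
        have := congrArg φ.symm h
        rwa [MulEquiv.symm_apply_apply, map_one] at this
      exact congrArg Subtype.val h2
    · right
      have h2 : (⟨q, hq⟩ : Q) = φ.symm (a 2) := by
        have := congrArg φ.symm h
        rwa [MulEquiv.symm_apply_apply] at this
      exact congrArg Subtype.val h2

variable {S : Type*} [Group S] (d : Data S)

/-- `2^(n-3)` in `ZMod (2^n)` -/
def eighth : ZMod (2 ^ d.n) := ((2 ^ (d.n - 3) : ℕ) : ZMod (2 ^ d.n))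

theorem two_mul_eighth : 2 * eighth d = quarter d := by
  unfold eighth quarter
  have h := d.hn
  have : d.n - 2 = (d.n - 3) + 1 := by omega
  rw [this, pow_succ]
  push_cast
  ring

theorem four_mul_eighth : 4 * eighth d = half d := by
  rw [← two_mul_quarter, ← two_mul_eighth]
  ring

theorem four_mul_quarter : 4 * quarter d = 0 := by
  have : 4 * quarter d = 2 * (2 * quarter d) := by ring
  rw [this, two_mul_quarter, two_mul_half]

theorem four_mul_half : 4 * half d = 0 := by
  have : 4 * half d = 2 * (2 * half d) := by ring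
  rw [this, two_mul_half, mul_zero]

theorem four_mul_eq_zero_iff (m : ZMod (2 ^ d.n)) :
    4 * m = 0 ↔ m = 0 ∨ m = quarter d ∨ m = half d ∨ m = half d + quarter d := by
  constructor
  · intro h
    have h1 : 2 * (2 * m) = 0 := by linear_combination h
    rcases (two_mul_eq_zero_iff d _).mp h1 with h2 | h2
    · rcases (two_mul_eq_zero_iff d _).mp h2 with h3 | h3
      · left; exact h3
      · right; right; left; exact h3
    · have h3 : 2 * (m - quarter d) = 0 := by
        linear_combination h2 - two_mul_quarter d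
      rcases (two_mul_eq_zero_iff d _).mp h3 with h4 | h4
      · right; left; linear_combination h4
      · right; right; right; linear_combination h4
  · rintro (rfl | rfl | rfl | rfl)
    · ring
    · exact four_mul_quarter d
    · exact four_mul_half d
    · rw [mul_add, four_mul_half, four_mul_quarter, add_zero]

theorem ncard_four_torsion_le : {k : ZMod (2 ^ d.n) | 4 * k = 0}.ncard ≤ 4 := by
  have h : {k : ZMod (2 ^ d.n) | 4 * k = 0} = {0, quarter d, half d, half d + quarter d} := by
    ext k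
    simp only [Set.mem_ofPred_eq, Set.mem_insert_iff, Set.mem_singleton_iff]
    exact four_mul_eq_zero_iff d k
  rw [h]
  refine le_trans (Set.ncard_insert_le _ _) ?_
  refine Nat.succ_le_succ (le_trans (Set.ncard_insert_le _ _) ?_)
  refine Nat.succ_le_succ (le_trans (Set.ncard_insert_le _ _) ?_)
  rw [Set.ncard_singleton]

/-- the quaternion subgroup `⟨x^(N/4), x^i y⟩` as a predicate -/
def G8 (i : ZMod (2 ^ d.n)) (s : S) : Prop :=
  (∃ k, 4 * k = 0 ∧ s = xp d k) ∨ (∃ k, 4 * k = 0 ∧ s = xp d (i + k) * d.y)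

theorem G8_ncard_le (i : ZMod (2 ^ d.n)) : {s | G8 d i s}.ncard ≤ 8 := by
  have h : {s | G8 d i s} = (xp d '' {k | 4 * k = 0}) ∪
      ((fun k => xp d (i + k) * d.y) '' {k | 4 * k = 0}) := by
    ext s
    simp only [Set.mem_ofPred_eq, Set.mem_union, Set.mem_image]
    unfold G8
    constructor
    · rintro (⟨k, hk, rfl⟩ | ⟨k, hk, rfl⟩)
      · left; exact ⟨k, hk, rfl⟩
      · right; exact ⟨k, hk, rfl⟩
    · rintro (⟨k, hk, rfl⟩ | ⟨k, hk, rfl⟩)
      · left; exact ⟨k, hk, rfl⟩
      · right; exact ⟨k, hk, rfl⟩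
  rw [h]
  have hfin : {k : ZMod (2 ^ d.n) | 4 * k = 0}.Finite := Set.toFinite _
  have h1 := Set.ncard_image_le (f := xp d) hfin
  have h2 := Set.ncard_image_le (f := fun k => xp d (i + k) * d.y) hfin
  have h3 := ncard_four_torsion_le d
  have h4 := Set.ncard_union_le (xp d '' {k | 4 * k = 0})
    ((fun k => xp d (i + k) * d.y) '' {k | 4 * k = 0})
  omega

theorem G8_shift (i c : ZMod (2 ^ d.n)) (hc : 4 * c = 0) (s : S) (h : G8 d (i + c) s) :
    G8 d i s := by
  rcases h with ⟨k, hk, rfl⟩ | ⟨k, hk, rfl⟩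
  · left; exact ⟨k, hk, rfl⟩
  · right
    refine ⟨c + k, ?_, ?_⟩
    · rw [mul_add, hc, hk, add_zero]
    · rw [add_assoc]

theorem e_mul_half : e d * half d = half d := by
  unfold e
  linear_combination half_mul_half d - two_mul_half d

/-- conjugation by `x^m` moves `G8 i` to `G8 (i + 2um)` -/
theorem G8_conj_xp (i m : ZMod (2 ^ d.n)) (s : S) (h : G8 d i s) :
    G8 d (i + 2 * u d * m) (xp d m * s * (xp d m)⁻¹) := by
  rcases h with ⟨k, hk, rfl⟩ | ⟨k, hk, rfl⟩
  · left
    exact ⟨k, hk, conj_xp_xp d m k⟩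
  · right
    refine ⟨k, hk, ?_⟩
    rw [conj_xp_xpy, one_sub_e]
    congr 2
    ring

/-- conjugation by `x^m y` moves `G8 i` to `G8 (e i + 2um)` -/
theorem G8_conj_xpy (i m : ZMod (2 ^ d.n)) (s : S) (h : G8 d i s) :
    G8 d (e d * i + 2 * u d * m) (xp d m * d.y * s * (xp d m * d.y)⁻¹) := by
  rcases h with ⟨k, hk, rfl⟩ | ⟨k, hk, rfl⟩
  · left
    refine ⟨e d * k, ?_, conj_xpy_xp d m k⟩
    have : 4 * (e d * k) = e d * (4 * k) := by ring
    rw [this, hk, mul_zero]
  · right
    refine ⟨e d * k, ?_, ?_⟩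
    · have : 4 * (e d * k) = e d * (4 * k) := by ring
      rw [this, hk, mul_zero]
    · rw [conj_xpy_xpy, one_sub_e]
      congr 2
      ring

end Cfsg.Agent.Helper6.QD

namespace Cfsg.Agent.Helper6.QD

variable {S : Type*} [Group S] (d : Data S)

theorem sq_ne_xpy (q : S) (i : ZMod (2 ^ d.n)) : q * q ≠ xp d i * d.y := by
  rcases cases d q with ⟨k, rfl⟩ | ⟨k, rfl⟩
  · rw [xp_mul_xp]; exact xp_ne_xp_mul_y d _ _
  · rw [xpy_sq]; exact xp_ne_xp_mul_y d _ _

/-- classification of the `Q₈`-subgroups -/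
theorem q8_mem [Finite S] (Q : Subgroup S) (c : S) (hQ : Q8Like Q c) :
    c = z d ∧ ∃ i, half d * i = half d ∧ ∀ s, s ∈ Q ↔ G8 d i s := by
  have hfour : ∀ q ∈ Q, (q * q) * (q * q) = 1 := by
    intro q hq
    rcases hQ.sq q hq with h | h
    · rw [h, one_mul]
    · rw [h, hQ.sq_one]
  have hcardQ : (Q : Set S).ncard = 8 := by
    rw [← Nat.card_coe_set_eq]; exact hQ.card
  -- an element outside `⟨x⟩`
  have hex : ∃ b ∈ Q, ∃ i, b = xp d i * d.y := by
    by_contra hcon
    push Not at hcon
    have hsub : (Q : Set S) ⊆ xp d '' {k | 4 * k = 0} := by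
      intro q hq
      rcases cases d q with ⟨k, rfl⟩ | ⟨k, rfl⟩
      · refine ⟨k, ?_, rfl⟩
        have h := hfour _ hq
        rw [xp_mul_xp, xp_mul_xp, xp_eq_one_iff] at h
        show 4 * k = 0
        linear_combination h
      · exact absurd rfl (hcon _ hq k)
    have hfin : {k : ZMod (2 ^ d.n) | 4 * k = 0}.Finite := Set.toFinite _
    have h1 := Set.ncard_le_ncard hsub (Set.toFinite _)
    have h2 := Set.ncard_image_le (f := xp d) hfin
    have h3 := ncard_four_torsion_le d
    omega
  obtain ⟨b, hbQ, i, rfl⟩ := hex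
  have hi : half d * i = half d := by
    rcases half_mul_cases d i with h0 | h0
    · exfalso
      -- `b` is an involution, so `b = c`, and all squares are trivial
      have hbb : xp d i * d.y * (xp d i * d.y) = 1 := by
        rw [xpy_sq, h0, xp_zero]
      have hbc : xp d i * d.y = c := by
        rcases hQ.invol _ hbQ hbb with h | h
        · exact absurd h (xpy_ne_one d i)
        · exact h
      have hsub : (Q : Set S) ⊆ {1, c} := by
        intro q hq
        rcases hQ.sq q hq with h | h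
        · rcases hQ.invol q hq h with h' | h'
          · left; exact h'
          · right; exact h'
        · exfalso
          rw [← hbc] at h
          exact sq_ne_xpy d q i h
      have h1 := Set.ncard_le_ncard hsub (Set.toFinite _)
      have h2 : ({1, c} : Set S).ncard ≤ 2 := by
        refine le_trans (Set.ncard_insert_le _ _) ?_
        rw [Set.ncard_singleton]
      omega
    · exact h0
  have hbb : xp d i * d.y * (xp d i * d.y) = z d := by
    rw [xpy_sq, hi]; rfl
  have hc : c = z d := by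
    rcases hQ.sq _ hbQ with h | h
    · rw [hbb] at h
      exact absurd h (z_ne_one d)
    · rw [← h, hbb]
  refine ⟨hc, i, hi, ?_⟩
  have hsub : (Q : Set S) ⊆ {s | G8 d i s} := by
    intro q hq
    rcases cases d q with ⟨k, rfl⟩ | ⟨m, rfl⟩
    · left
      refine ⟨k, ?_, rfl⟩
      have h := hfour _ hq
      rw [xp_mul_xp, xp_mul_xp, xp_eq_one_iff] at h
      linear_combination h
    · right
      have h1 : (xp d i * d.y)⁻¹ * (xp d m * d.y) ∈ Q := Q.mul_mem (Q.inv_mem hbQ) hq
      rw [xpy_inv, xpy_mul_xpy] at h1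
      have h := hfour _ h1
      rw [xp_mul_xp, xp_mul_xp, xp_eq_one_iff] at h
      refine ⟨m - i, ?_, ?_⟩
      · have h2 : 4 * (m - i) = e d * (4 * (e d * (m - i))) := by
          linear_combination (-4 * (m - i)) * e_mul_e d
        rw [h2]
        have h3 : 4 * (e d * (m - i)) = 0 := by linear_combination h
        rw [h3, mul_zero]
      · congr 2
        ring
  have hfin : {s | G8 d i s}.Finite := Set.toFinite _
  have hle : {s | G8 d i s}.ncard ≤ (Q : Set S).ncard := by
    rw [hcardQ]; exact G8_ncard_le d i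
  have heq := Set.eq_of_subset_of_ncard_le hsub hle hfin
  intro s
  have : s ∈ Q ↔ s ∈ (Q : Set S) := Iff.rfl
  rw [this, heq]
  rfl

end Cfsg.Agent.Helper6.QD
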