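import Mathlib
import Cfsg.Agent.Lib.Helper6.QD
import Cfsg.Agent.Lib.Helper6.QDFour
import Cfsg.Agent.Lib.Helper6.QDQ8
import Cfsg.Agent.Lib.Helper6.FusionLemmas

/-!
Fusion of involutions and of elements of order four in a finite group with a quasi-dihedral
Sylow `2`-subgroup.  First part: facts inside the quasi-dihedral group.
-/

set_option autoImplicit false

namespace Cfsg.Agent.Helper6.QD

variable {S : Type*} [Group S] (d : Data S)

theorem orderOf_z : orderOf (z d) = 2 := (orderOf_xp_eq_two_iff d _).mpr rfl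

theorem z_mul_inv2_eq (j : ZMod (2 ^ d.n)) : z d * inv2 d j = inv2 d (quarter d + j) := by
  rw [z_mul_inv2]
  unfold inv2
  congr 2
  linear_combination -(two_mul_quarter d)

theorem exists_conj_inv2 (j k : ZMod (2 ^ d.n)) : ∃ s : S, s * inv2 d j * s⁻¹ = inv2 d k := by
  refine ⟨xp d (uinv d * (k - j)), ?_⟩
  rw [conj_inv2]
  congr 1
  ring

theorem invol_cases' (t : S) (ht : orderOf t = 2) : t = z d ∨ ∃ j, t = inv2 d j := by
  obtain ⟨h1, h2⟩ := (orderOf_two_iff' t).mp ht
  exact invol_cases d t h1 h2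

theorem orderOf_inv2 (j : ZMod (2 ^ d.n)) : orderOf (inv2 d j) = 2 :=
  (orderOf_two_iff' _).mpr ⟨inv2_ne_one d j, inv2_mul_self d j⟩

theorem xp_two_mul_mem_commutator (j : ZMod (2 ^ d.n)) : xp d (2 * j) ∈ commutator S := by
  rw [commutator_eq d, mem_zpowers_xp_two_iff]
  exact ⟨j, rfl⟩

theorem z_mem_commutator : z d ∈ commutator S := by
  unfold z
  rw [← two_mul_quarter]
  exact xp_two_mul_mem_commutator d _

theorem quarter_mem_commutator : xp d (quarter d) ∈ commutator S := by
  rw [← two_mul_eighth]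
  exact xp_two_mul_mem_commutator d _

theorem e_mul_quarter : e d * quarter d = quarter d + half d := by
  unfold e
  linear_combination half_mul_quarter d - two_mul_quarter d - half_add_half d

theorem y_conj_quarter : d.y * xp d (quarter d) * d.y⁻¹ = xp d (quarter d + half d) := by
  rw [y_conj_xp, e_mul_quarter]

theorem orderOf_four_cases (t : S) (ht : orderOf t = 4) :
    t = xp d (quarter d) ∨ t = d.y * xp d (quarter d) * d.y⁻¹ ∨
      ∃ j, t = xp d (2 * j + 1) * d.y := by
  rcases cases d t with ⟨i, rfl⟩ | ⟨i, rfl⟩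
  · rcases (orderOf_xp_eq_four_iff d i).mp ht with rfl | rfl
    · left; rfl
    · right; left; rw [y_conj_quarter]
  · right; right
    obtain ⟨j, hj⟩ := (half_mul_eq_half_iff d i).mp ((orderOf_xpy_eq_four_iff d i).mp ht)
    exact ⟨j, by rw [hj]⟩

theorem orderOf_quarter : orderOf (xp d (quarter d)) = 4 :=
  (orderOf_xp_eq_four_iff d _).mpr (Or.inl rfl)

theorem exists_conj_odd (j : ZMod (2 ^ d.n)) :
    ∃ s : S, s * (xp d 1 * d.y) * s⁻¹ = xp d (2 * j + 1) * d.y :=
  ⟨xp d (uinv d * j), conj_odd d j⟩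

theorem exists_conj_odd' (j k : ZMod (2 ^ d.n)) :
    ∃ s : S, s * (xp d (2 * j + 1) * d.y) * s⁻¹ = xp d (2 * k + 1) * d.y := by
  obtain ⟨s₁, h₁⟩ := exists_conj_odd d j
  obtain ⟨s₂, h₂⟩ := exists_conj_odd d k
  refine ⟨s₂ * s₁⁻¹, ?_⟩
  rw [← h₁, ← h₂]
  group

/-- a `Q₈`-subgroup of the quasi-dihedral group in standard form -/
theorem q8Config [Finite S] (Q : Subgroup S) (c : S) (hQ : Q8Like Q c) :
    ∃ i, half d * i = half d ∧ Fus.Q8Config Q (xp d (quarter d)) (xp d i * d.y) (z d) := by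
  obtain ⟨-, i, hi, hmem⟩ := q8_mem d Q c hQ
  refine ⟨i, hi, ?_⟩
  have hza : z d * xp d (quarter d) = xp d (half d + quarter d) := by
    unfold z; rw [xp_mul_xp]
  have hzb : z d * (xp d i * d.y) = xp d (i + half d) * d.y := by
    unfold z; rw [xp_mul_xpy, add_comm]
  have hab : xp d (quarter d) * (xp d i * d.y) = xp d (i + quarter d) * d.y := by
    rw [xp_mul_xpy, add_comm]
  have hzab : z d * (xp d (quarter d) * (xp d i * d.y)) =
      xp d (i + (half d + quarter d)) * d.y := by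
    rw [hab]; unfold z; rw [xp_mul_xpy]; congr 2; ring
  constructor
  · intro q
    rw [hmem, hzab, hza, hzb, hab]
    unfold G8
    constructor
    · rintro (⟨k, hk, rfl⟩ | ⟨k, hk, rfl⟩)
      · rcases (four_mul_eq_zero_iff d k).mp hk with rfl | rfl | rfl | rfl
        · left; exact xp_zero d
        · right; right; left; rfl
        · right; left; rfl
        · right; right; right; left; rfl
      · rcases (four_mul_eq_zero_iff d k).mp hk with rfl | rfl | rfl | rfl
        · right; right; right; right; left; rw [add_zero]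
        · right; right; right; right; right; right; left; rfl
        · right; right; right; right; right; left; rfl
        · right; right; right; right; right; right; right; rfl
    · rintro (rfl | rfl | rfl | rfl | rfl | rfl | rfl | rfl)
      · left; exact ⟨0, by ring, (xp_zero d).symm⟩
      · left; exact ⟨half d, four_mul_half d, rfl⟩
      · left; exact ⟨quarter d, four_mul_quarter d, rfl⟩
      · left
        exact ⟨half d + quarter d, by rw [mul_add, four_mul_half, four_mul_quarter, add_zero], rfl⟩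
      · right; exact ⟨0, by ring, by rw [add_zero]⟩
      · right; exact ⟨half d, four_mul_half d, rfl⟩
      · right; exact ⟨quarter d, four_mul_quarter d, rfl⟩
      · right
        exact ⟨half d + quarter d, by rw [mul_add, four_mul_half, four_mul_quarter, add_zero], rfl⟩
  · rw [xp_mul_xp]; unfold z; congr 1
    linear_combination two_mul_quarter d
  · rw [xpy_sq, hi]; rfl
  · exact z_mul_z d
  · exact (z_central d _).symm
  · exact (z_central d _).symm
  · rw [hzab, xpy_mul_xp, e_mul_quarter]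
    congr 2
    ring
  · rintro (h | h | h | h)
    · exact xpy_ne_one d i h
    · exact xp_ne_xp_mul_y d _ _ h.symm
    · exact xp_ne_xp_mul_y d _ _ h.symm
    · rw [hza] at h; exact xp_ne_xp_mul_y d _ _ h.symm

end Cfsg.Agent.Helper6.QD

namespace Cfsg.Agent.Helper6.Fus

open Subgroup

/-- transport of a `Q₈` configuration along an injective homomorphism -/
theorem Q8Config.map {P G : Type*} [Group P] [Group G] (f : P →* G)
    (hf : Function.Injective f) {Q : Subgroup P} {a b z : P} (h : Q8Config Q a b z) :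
    Q8Config (Q.map f) (f a) (f b) (f z) := by
  constructor
  · intro q
    rw [Subgroup.mem_map]
    constructor
    · rintro ⟨p, hp, rfl⟩
      rcases (h.mem p).mp hp with rfl | rfl | rfl | rfl | rfl | rfl | rfl | rfl
      · left; exact map_one f
      · right; left; rfl
      · right; right; left; rfl
      · right; right; right; left; exact map_mul f _ _
      · right; right; right; right; left; rfl
      · right; right; right; right; right; left; exact map_mul f _ _
      · right; right; right; right; right; right; left; exact map_mul f _ _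
      · right; right; right; right; right; right; right
        rw [map_mul, map_mul]
    · rintro (rfl | rfl | rfl | rfl | rfl | rfl | rfl | rfl)
      · exact ⟨1, Subgroup.one_mem _, map_one f⟩
      · exact ⟨z, h.z_mem, rfl⟩
      · exact ⟨a, h.a_mem, rfl⟩
      · exact ⟨z * a, Q.mul_mem h.z_mem h.a_mem, map_mul f _ _⟩
      · exact ⟨b, h.b_mem, rfl⟩
      · exact ⟨z * b, Q.mul_mem h.z_mem h.b_mem, map_mul f _ _⟩
      · exact ⟨a * b, Q.mul_mem h.a_mem h.b_mem, map_mul f _ _⟩
      · exact ⟨z * (a * b), Q.mul_mem h.z_mem (Q.mul_mem h.a_mem h.b_mem), by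
          rw [map_mul, map_mul]⟩
  · rw [← map_mul, h.haa]
  · rw [← map_mul, h.hbb]
  · rw [← map_mul, h.hzz, map_one]
  · rw [← map_mul, h.hza, map_mul]
  · rw [← map_mul, h.hzb, map_mul]
  · rw [← map_mul, h.hba, map_mul, map_mul]
  · rintro (h1 | h1 | h1 | h1)
    · apply h.hbA; left; apply hf; rw [h1, map_one]
    · apply h.hbA; right; left; exact hf h1
    · apply h.hbA; right; right; left; exact hf h1
    · apply h.hbA; right; right; right; apply hf; rw [h1, map_mul]

theorem orderOf_conj' {G : Type*} [Group G] (g t : G) : orderOf (g * t * g⁻¹) = orderOf t := by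
  have h : SemiconjBy g t (g * t * g⁻¹) := by
    unfold SemiconjBy; group
  exact (h.orderOf_eq g).symm

end Cfsg.Agent.Helper6.Fus

namespace Cfsg.Agent.Helper6.QD

open Subgroup

variable {G : Type*} [Group G] (P : Sylow 2 G) (d : Data ↥(P : Subgroup G))

theorem coe_z_ne_one : ((z d : ↥(P : Subgroup G)) : G) ≠ 1 := by
  intro h
  exact z_ne_one d (Subtype.ext h)

theorem coe_z_mul_self : ((z d : ↥(P : Subgroup G)) : G) * (z d : ↥(P : Subgroup G)) = 1 := by
  have := congrArg Subtype.val (z_mul_z d)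
  simpa using this

theorem orderOf_coe_z : orderOf ((z d : ↥(P : Subgroup G)) : G) = 2 := by
  rw [Subgroup.orderOf_coe, orderOf_z]

/-- odd forms of the noncentral cosets of a `Q₈` -/
theorem odd_forms {S : Type*} [Group S] (d : Data S) (i : ZMod (2 ^ d.n))
    (hi : half d * i = half d) :
    (∃ j, xp d i * d.y = xp d (2 * j + 1) * d.y) ∧
    (∃ j, z d * (xp d i * d.y) = xp d (2 * j + 1) * d.y) ∧
    (∃ j, xp d (quarter d) * (xp d i * d.y) = xp d (2 * j + 1) * d.y) ∧
    (∃ j, z d * (xp d (quarter d) * (xp d i * d.y)) = xp d (2 * j + 1) * d.y) := by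
  obtain ⟨j, rfl⟩ := (half_mul_eq_half_iff d i).mp hi
  unfold z
  refine ⟨⟨j, rfl⟩, ⟨quarter d + j, ?_⟩, ⟨eighth d + j, ?_⟩, ⟨quarter d + eighth d + j, ?_⟩⟩
  · rw [xp_mul_xpy]; congr 2
    linear_combination -(two_mul_quarter d)
  · rw [xp_mul_xpy]; congr 2
    linear_combination -(two_mul_eighth d)
  · rw [xp_mul_xpy, xp_mul_xpy]; congr 2
    linear_combination -(two_mul_quarter d) - (two_mul_eighth d)

end Cfsg.Agent.Helper6.QD

namespace Cfsg.Agent.Helper6.QD

open Subgroup

variable {G : Type*} [Group G] (P : Sylow 2 G) (d : Data ↥(P : Subgroup G))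

/-- elementwise description of a Klein four-subgroup of a quasi-dihedral Sylow subgroup -/
theorem kleinFour_mem_coe [Finite G] (T : Subgroup G) (hT : IsKleinFour T)
    (hTP : T ≤ (P : Subgroup G)) :
    ∃ j, ∀ t : G, t ∈ T ↔ t = 1 ∨ t = ((z d : ↥(P : Subgroup G)) : G) ∨
      t = ((inv2 d j : ↥(P : Subgroup G)) : G) ∨
      t = ((z d : ↥(P : Subgroup G)) : G) * ((inv2 d j : ↥(P : Subgroup G)) : G) := by
  have e : T.subgroupOf (P : Subgroup G) ≃* T := Subgroup.subgroupOfEquivOfLe hTP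
  have hT' : IsKleinFour (T.subgroupOf (P : Subgroup G)) := by
    constructor
    · rw [Nat.card_congr e.toEquiv]; exact hT.card_four
    · rw [Monoid.exponent_eq_of_mulEquiv e]; exact hT.exponent_two
  obtain ⟨j, hj⟩ := kleinFour_mem d _ hT'
  refine ⟨j, ?_⟩
  intro t
  constructor
  · intro ht
    have h1 : (⟨t, hTP ht⟩ : ↥(P : Subgroup G)) ∈ T.subgroupOf (P : Subgroup G) := ht
    rcases (hj _).mp h1 with h | h | h | h
    · left; exact congrArg Subtype.val h
    · right; left; exact congrArg Subtype.val h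
    · right; right; left; exact congrArg Subtype.val h
    · right; right; right; exact congrArg Subtype.val h
  · have hmem : ∀ s : ↥(P : Subgroup G), s ∈ T.subgroupOf (P : Subgroup G) → (s : G) ∈ T :=
      fun s hs => hs
    rintro (rfl | rfl | rfl | rfl)
    · exact Subgroup.one_mem _
    · exact hmem _ ((hj _).mpr (Or.inr (Or.inl rfl)))
    · exact hmem _ ((hj _).mpr (Or.inr (Or.inr (Or.inl rfl))))
    · exact hmem (z d * inv2 d j) ((hj _).mpr (Or.inr (Or.inr (Or.inr rfl))))

/-- if `|N(T) : C(T)| > 2` then `z` is fused to a noncentral involution -/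
theorem exists_fusion_z [Finite G] (T : Subgroup G) (hT : IsKleinFour T)
    (hTP : T ≤ (P : Subgroup G))
    (h1 : (centralizer (T : Set G)).relIndex (normalizer (T : Set G)) ≠ 1)
    (h2 : (centralizer (T : Set G)).relIndex (normalizer (T : Set G)) ≠ 2) :
    ∃ g : G, g ∈ normalizer (T : Set G) ∧ ∃ j, g * ((z d : ↥(P : Subgroup G)) : G) * g⁻¹ =
      ((inv2 d j : ↥(P : Subgroup G)) : G) := by
  obtain ⟨j, hj⟩ := kleinFour_mem_coe P d T hT hTP
  by_contra hne
  have hzT : ((z d : ↥(P : Subgroup G)) : G) ∈ T := (hj _).mpr (Or.inr (Or.inl rfl))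
  have hfix : ∀ g ∈ normalizer (T : Set G),
      g * ((z d : ↥(P : Subgroup G)) : G) * g⁻¹ = ((z d : ↥(P : Subgroup G)) : G) := by
    intro g hg
    by_contra hgz
    apply hne
    have h3 : g * ((z d : ↥(P : Subgroup G)) : G) * g⁻¹ ∈ T :=
      (mem_normalizer_iff.mp hg _).mp hzT
    rcases (hj _).mp h3 with h | h | h | h
    · exfalso
      apply coe_z_ne_one P d
      have := congrArg (fun w => g⁻¹ * w * g) h
      simpa [mul_assoc] using this
    · exact absurd h hgz
    · exact ⟨g, hg, j, h⟩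
    · refine ⟨g, hg, quarter d + j, ?_⟩
      rw [h, ← z_mul_inv2_eq]
      rfl
  have hyne : ((inv2 d j : ↥(P : Subgroup G)) : G) ≠ 1 := by
    intro h
    exact inv2_ne_one d j (Subtype.ext h)
  have hzy : ((z d : ↥(P : Subgroup G)) : G) ≠ ((inv2 d j : ↥(P : Subgroup G)) : G) := by
    intro h
    exact inv2_ne_z d j (Subtype.ext h).symm
  rcases Fus.kleinFour_relIndex_le_two T _ _ hj (coe_z_ne_one P d) hyne hzy
    (coe_z_mul_self P d) hfix with h | h
  · exact h1 h
  · exact h2 h

/-- if `|N(Q) : Q C(Q)| > 2` then `x^(2^(n-2))` is fused to an element outside `⟨x⟩` -/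
theorem exists_fusion_a [Finite G] (Q : Subgroup G) (hQP : Q ≤ (P : Subgroup G))
    (eQ : Q ≃* QuaternionGroup 2)
    (h1 : (Q ⊔ centralizer (Q : Set G)).relIndex (normalizer (Q : Set G)) ≠ 1)
    (h2 : (Q ⊔ centralizer (Q : Set G)).relIndex (normalizer (Q : Set G)) ≠ 2) :
    ∃ g : G, g ∈ normalizer (Q : Set G) ∧
      ∃ j, g * ((xp d (quarter d) : ↥(P : Subgroup G)) : G) * g⁻¹ =
        ((xp d (2 * j + 1) * d.y : ↥(P : Subgroup G)) : G) := by
  have e : Q.subgroupOf (P : Subgroup G) ≃* Q := Subgroup.subgroupOfEquivOfLe hQP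
  obtain ⟨c, hc⟩ := q8Like_of_equiv (Q.subgroupOf (P : Subgroup G)) (e.trans eQ)
  obtain ⟨i, hi, hcfg⟩ := q8Config d _ c hc
  have hcfgG := hcfg.map (P : Subgroup G).subtype Subtype.val_injective
  rw [Subgroup.map_subgroupOf_eq_of_le hQP] at hcfgG
  obtain ⟨⟨j₁, hj₁⟩, ⟨j₂, hj₂⟩, ⟨j₃, hj₃⟩, ⟨j₄, hj₄⟩⟩ := odd_forms d i hi
  by_contra hne
  have hfix : ∀ g ∈ normalizer (Q : Set G),
      g * (P : Subgroup G).subtype (xp d (quarter d)) * g⁻¹ =
        (P : Subgroup G).subtype (xp d (quarter d)) ∨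
      g * (P : Subgroup G).subtype (xp d (quarter d)) * g⁻¹ =
        (P : Subgroup G).subtype (z d) * (P : Subgroup G).subtype (xp d (quarter d)) := by
    intro g hg
    by_contra hga
    apply hne
    have h3 : g * (P : Subgroup G).subtype (xp d (quarter d)) * g⁻¹ ∈ Q :=
      (mem_normalizer_iff.mp hg _).mp hcfgG.a_mem
    have hsq : (g * (P : Subgroup G).subtype (xp d (quarter d)) * g⁻¹) *
        (g * (P : Subgroup G).subtype (xp d (quarter d)) * g⁻¹) =
        g * (P : Subgroup G).subtype (z d) * g⁻¹ := by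
      rw [← hcfgG.haa]; group
    have hzne : g * (P : Subgroup G).subtype (z d) * g⁻¹ ≠ 1 := by
      intro h
      apply coe_z_ne_one P d
      have := congrArg (fun w => g⁻¹ * w * g) h
      simpa [mul_assoc] using this
    rcases (hcfgG.mem _).mp h3 with h | h | h | h | h | h | h | h
    · exfalso; apply hzne; rw [← hsq, h, one_mul]
    · exfalso; apply hzne; rw [← hsq, h, hcfgG.hzz]
    · exact absurd (Or.inl h) hga
    · exact absurd (Or.inr h) hga
    · refine ⟨g, hg, j₁, ?_⟩
      rw [← hj₁]; exact h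
    · refine ⟨g, hg, j₂, ?_⟩
      rw [← hj₂]; exact h
    · refine ⟨g, hg, j₃, ?_⟩
      rw [← hj₃]; exact h
    · refine ⟨g, hg, j₄, ?_⟩
      rw [← hj₄]; exact h
  rcases hcfgG.relIndex_le_two hfix with h | h
  · exact h1 h
  · exact h2 h

end Cfsg.Agent.Helper6.QD

namespace Cfsg.Agent.Helper6.Fus

/-- a single conjugacy class of elements of a given order -/
theorem card_classes_eq_one {G : Type*} [Group G] (n : ℕ) (c : G) (hc : orderOf c = n)
    (h : ∀ t : G, orderOf t = n → ∃ g : G, g * t * g⁻¹ = c) :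
    Nat.card {C : ConjClasses G // ∃ t : G, orderOf t = n ∧ ConjClasses.mk t = C} = 1 := by
  rw [Nat.card_eq_one_iff_unique]
  constructor
  · constructor
    rintro ⟨C₁, t₁, ht₁, rfl⟩ ⟨C₂, t₂, ht₂, rfl⟩
    apply Subtype.ext
    show ConjClasses.mk t₁ = ConjClasses.mk t₂
    obtain ⟨g₁, hg₁⟩ := h t₁ ht₁
    obtain ⟨g₂, hg₂⟩ := h t₂ ht₂
    rw [ConjClasses.mk_eq_mk_iff_isConj, isConj_iff]
    refine ⟨g₂⁻¹ * g₁, ?_⟩
    have : t₂ = g₂⁻¹ * c * g₂ := by rw [← hg₂]; group
    rw [this, ← hg₁]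
    group
  · exact ⟨⟨ConjClasses.mk c, c, hc, rfl⟩⟩

end Cfsg.Agent.Helper6.Fus

namespace Cfsg.Agent.Helper6.QD

open Subgroup

variable {G : Type*} [Group G] (P : Sylow 2 G) (d : Data ↥(P : Subgroup G))

/-- if `z` is fused to a noncentral involution, all involutions of `G` are conjugate -/
theorem invol_conj_z [Finite G]
    (hz : ∃ g : G, ∃ j, g * ((z d : ↥(P : Subgroup G)) : G) * g⁻¹ =
      ((inv2 d j : ↥(P : Subgroup G)) : G)) (t : G) (ht : orderOf t = 2) :
    ∃ g : G, g * t * g⁻¹ = ((z d : ↥(P : Subgroup G)) : G) := by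
  have : Fact (Nat.Prime 2) := ⟨Nat.prime_two⟩
  obtain ⟨g₁, hg₁⟩ := Fus.exists_conj_mem_sylow P t 1 (by rw [ht, pow_one])
  have hs : orderOf (⟨g₁ * t * g₁⁻¹, hg₁⟩ : ↥(P : Subgroup G)) = 2 := by
    rw [Subgroup.orderOf_mk, Fus.orderOf_conj', ht]
  rcases invol_cases' d _ hs with h | ⟨j', h⟩
  · exact ⟨g₁, congrArg Subtype.val h⟩
  · obtain ⟨g, j, hg⟩ := hz
    obtain ⟨s₂, hs₂⟩ := exists_conj_inv2 d j' j
    refine ⟨g⁻¹ * (s₂ : G) * g₁, ?_⟩
    have h3 : g₁ * t * g₁⁻¹ = ((inv2 d j' : ↥(P : Subgroup G)) : G) := congrArg Subtype.val h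
    have h4 : (s₂ : G) * ((inv2 d j' : ↥(P : Subgroup G)) : G) * (s₂ : G)⁻¹ =
        ((inv2 d j : ↥(P : Subgroup G)) : G) := by
      have := congrArg Subtype.val hs₂
      simpa using this
    calc g⁻¹ * (s₂ : G) * g₁ * t * (g⁻¹ * (s₂ : G) * g₁)⁻¹
        = g⁻¹ * ((s₂ : G) * (g₁ * t * g₁⁻¹) * (s₂ : G)⁻¹) * g := by group
      _ = g⁻¹ * (g * ((z d : ↥(P : Subgroup G)) : G) * g⁻¹) * g := by rw [h3, h4, hg]
      _ = ((z d : ↥(P : Subgroup G)) : G) := by group

/-- if `x^(2^(n-2))` is fused to an element outside `⟨x⟩`, all elements of order four of `G`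
are conjugate -/
theorem order_four_conj_a [Finite G]
    (ha : ∃ g : G, ∃ j, g * ((xp d (quarter d) : ↥(P : Subgroup G)) : G) * g⁻¹ =
        ((xp d (2 * j + 1) * d.y : ↥(P : Subgroup G)) : G)) (t : G) (ht : orderOf t = 4) :
    ∃ g : G, g * t * g⁻¹ = ((xp d (quarter d) : ↥(P : Subgroup G)) : G) := by
  have : Fact (Nat.Prime 2) := ⟨Nat.prime_two⟩
  obtain ⟨g₁, hg₁⟩ := Fus.exists_conj_mem_sylow P t 2 (by rw [ht]; norm_num)
  have hs : orderOf (⟨g₁ * t * g₁⁻¹, hg₁⟩ : ↥(P : Subgroup G)) = 4 := by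
    rw [Subgroup.orderOf_mk, Fus.orderOf_conj', ht]
  rcases orderOf_four_cases d _ hs with h | h | ⟨j', h⟩
  · exact ⟨g₁, congrArg Subtype.val h⟩
  · have h3 : g₁ * t * g₁⁻¹ = (d.y : G) * ((xp d (quarter d) : ↥(P : Subgroup G)) : G) *
        (d.y : G)⁻¹ := by
      have := congrArg Subtype.val h
      simpa using this
    refine ⟨(d.y : G)⁻¹ * g₁, ?_⟩
    calc (d.y : G)⁻¹ * g₁ * t * ((d.y : G)⁻¹ * g₁)⁻¹
        = (d.y : G)⁻¹ * (g₁ * t * g₁⁻¹) * (d.y : G) := by group
      _ = ((xp d (quarter d) : ↥(P : Subgroup G)) : G) := by rw [h3]; group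
  · obtain ⟨g, j, hg⟩ := ha
    obtain ⟨s₂, hs₂⟩ := exists_conj_odd' d j' j
    refine ⟨g⁻¹ * (s₂ : G) * g₁, ?_⟩
    have h3 : g₁ * t * g₁⁻¹ = ((xp d (2 * j' + 1) * d.y : ↥(P : Subgroup G)) : G) :=
      congrArg Subtype.val h
    have h4 : (s₂ : G) * ((xp d (2 * j' + 1) * d.y : ↥(P : Subgroup G)) : G) * (s₂ : G)⁻¹ =
        ((xp d (2 * j + 1) * d.y : ↥(P : Subgroup G)) : G) := by
      have := congrArg Subtype.val hs₂
      simpa using this
    calc g⁻¹ * (s₂ : G) * g₁ * t * (g⁻¹ * (s₂ : G) * g₁)⁻¹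
        = g⁻¹ * ((s₂ : G) * (g₁ * t * g₁⁻¹) * (s₂ : G)⁻¹) * g := by group
      _ = g⁻¹ * (g * ((xp d (quarter d) : ↥(P : Subgroup G)) : G) * g⁻¹) * g := by
          rw [h3, h4, hg]
      _ = ((xp d (quarter d) : ↥(P : Subgroup G)) : G) := by group

theorem orderOf_coe_quarter :
    orderOf ((xp d (quarter d) : ↥(P : Subgroup G)) : G) = 4 := by
  rw [Subgroup.orderOf_coe, orderOf_quarter]

/-- the image of the commutator subgroup of a subgroup lies in the commutator subgroup -/
theorem coe_mem_commutator (H : Subgroup G) (s : ↥H) (hs : s ∈ commutator ↥H) :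
    (s : G) ∈ commutator G := by
  have h1 : (commutator ↥H).map H.subtype ≤ commutator G := by
    rw [commutator_def, commutator_def, Subgroup.map_commutator]
    exact Subgroup.commutator_mono le_top le_top
  exact h1 (Subgroup.mem_map_of_mem _ hs)

theorem conj_mem_commutator (g t : G) (ht : t ∈ commutator G) : g * t * g⁻¹ ∈ commutator G :=
  (inferInstance : (commutator G).Normal).conj_mem t ht g

/-- with both fusions the Sylow subgroup lies in the commutator subgroup -/
theorem sylow_le_commutator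
    (hz : ∃ g : G, ∃ j, g * ((z d : ↥(P : Subgroup G)) : G) * g⁻¹ =
      ((inv2 d j : ↥(P : Subgroup G)) : G))
    (ha : ∃ g : G, ∃ j, g * ((xp d (quarter d) : ↥(P : Subgroup G)) : G) * g⁻¹ =
        ((xp d (2 * j + 1) * d.y : ↥(P : Subgroup G)) : G)) :
    (P : Subgroup G) ≤ commutator G := by
  have heven : ∀ j, ((xp d (2 * j) : ↥(P : Subgroup G)) : G) ∈ commutator G := fun j =>
    coe_mem_commutator _ _ (xp_two_mul_mem_commutator d j)
  -- `y`
  have hy : (d.y : G) ∈ commutator G := by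
    obtain ⟨g, j, hg⟩ := hz
    have h1 : ((inv2 d j : ↥(P : Subgroup G)) : G) ∈ commutator G := by
      rw [← hg]
      exact conj_mem_commutator _ _ (coe_mem_commutator _ _ (z_mem_commutator d))
    have h2 : (d.y : G) = ((xp d (2 * j) : ↥(P : Subgroup G)) : G)⁻¹ *
        ((inv2 d j : ↥(P : Subgroup G)) : G) := by
      unfold inv2
      rw [Subgroup.coe_mul]; group
    rw [h2]
    exact Subgroup.mul_mem _ (Subgroup.inv_mem _ (heven j)) h1
  -- `x`
  have hx : (d.x : G) ∈ commutator G := by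
    obtain ⟨g, j, hg⟩ := ha
    have h1 : ((xp d (2 * j + 1) * d.y : ↥(P : Subgroup G)) : G) ∈ commutator G := by
      rw [← hg]
      exact conj_mem_commutator _ _ (coe_mem_commutator _ _ (quarter_mem_commutator d))
    have h2 : (d.x : G) = ((xp d (2 * j) : ↥(P : Subgroup G)) : G)⁻¹ *
        (((xp d (2 * j + 1) * d.y : ↥(P : Subgroup G)) : G) * (d.y : G)⁻¹) := by
      rw [xp_add, xp_one, Subgroup.coe_mul, Subgroup.coe_mul]; group
    rw [h2]
    exact Subgroup.mul_mem _ (Subgroup.inv_mem _ (heven j))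
      (Subgroup.mul_mem _ h1 (Subgroup.inv_mem _ hy))
  have hxp : ∀ i, ((xp d i : ↥(P : Subgroup G)) : G) ∈ commutator G := by
    intro i
    unfold xp
    rw [Subgroup.coe_pow]
    exact Subgroup.pow_mem _ hx _
  intro p hp
  rcases cases d ⟨p, hp⟩ with ⟨i, h⟩ | ⟨i, h⟩
  · have : p = ((xp d i : ↥(P : Subgroup G)) : G) := congrArg Subtype.val h
    rw [this]; exact hxp i
  · have : p = ((xp d i * d.y : ↥(P : Subgroup G)) : G) := congrArg Subtype.val h
    rw [this, Subgroup.coe_mul]
    exact Subgroup.mul_mem _ (hxp i) hy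

end Cfsg.Agent.Helper6.QD
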