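import Mathlib
import Cfsg.Agent.Lib.Helper6.QDFusion
import Cfsg.Agent.Lib.Helper6.SylowConj

/-!
Converse fusion statements for a quasi-dihedral Sylow `2`-subgroup: fusion of `z` with a
noncentral involution forces `|N(T) : C(T)| ≠ 2`, and fusion of `x^(2^(n-2))` with an element
outside `⟨x⟩` forces `|N(Q) : Q C(Q)| ≠ 2`.
-/

set_option autoImplicit false

namespace Cfsg.Agent.Helper6.Fus

open Subgroup

variable {G : Type*} [Group G]

/-- in a finite group one inclusion suffices for the normalizer -/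
theorem mem_normalizer_of_conj_mem [Finite G] (T : Subgroup G) (m : G)
    (h : ∀ t ∈ T, m * t * m⁻¹ ∈ T) : m ∈ normalizer (T : Set G) := by
  rw [mem_normalizer_iff]
  intro t
  constructor
  · exact h t
  · intro ht
    let φ : ↥T → ↥T := fun u => ⟨m * u * m⁻¹, h u u.2⟩
    have hinj : Function.Injective φ := by
      intro u v huv
      have h1 : m * (u : G) * m⁻¹ = m * (v : G) * m⁻¹ := congrArg Subtype.val huv
      apply Subtype.ext
      have := congrArg (fun w => m⁻¹ * w * m) h1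
      simpa [mul_assoc] using this
    have hsurj : Function.Surjective φ := Finite.injective_iff_surjective.mp hinj
    obtain ⟨u, hu⟩ := hsurj ⟨m * t * m⁻¹, ht⟩
    have h1 : m * (u : G) * m⁻¹ = m * t * m⁻¹ := congrArg Subtype.val hu
    have h2 : (u : G) = t := by
      have := congrArg (fun w => m⁻¹ * w * m) h1
      simpa [mul_assoc] using this
    rw [← h2]; exact u.2

/-- an element of the centralizer fixes the elements under conjugation -/
theorem conj_eq_of_mem_centralizer (T : Subgroup G) (m : G) (hm : m ∈ centralizer (T : Set G))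
    (t : G) (ht : t ∈ T) : m * t * m⁻¹ = t := by
  have := (mem_centralizer_iff.mp hm) t ht
  rw [← this]; group

end Cfsg.Agent.Helper6.Fus

namespace Cfsg.Agent.Helper6.QD

open Subgroup

variable {G : Type*} [Group G] (P : Sylow 2 G) (d : Data ↥(P : Subgroup G))

theorem coe_conj (r s : ↥(P : Subgroup G)) :
    (r : G) * (s : G) * (r : G)⁻¹ = ((r * s * r⁻¹ : ↥(P : Subgroup G)) : G) := by
  simp

theorem coe_z_comm (p : G) (hp : p ∈ (P : Subgroup G)) :
    ((z d : ↥(P : Subgroup G)) : G) * p = p * ((z d : ↥(P : Subgroup G)) : G) := by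
  have := z_central d ⟨p, hp⟩
  exact (congrArg Subtype.val this).symm

/-- if `z` is fused to a noncentral involution then `|N(T) : C(T)| ≠ 2` -/
theorem fusion_z_relIndex_ne_two [Finite G] (T : Subgroup G) (hT : IsKleinFour T)
    (hTP : T ≤ (P : Subgroup G))
    (hz : ∃ g : G, ∃ j, g * ((z d : ↥(P : Subgroup G)) : G) * g⁻¹ =
      ((inv2 d j : ↥(P : Subgroup G)) : G)) :
    (centralizer (T : Set G)).relIndex (normalizer (T : Set G)) ≠ 2 := by
  have : Fact (Nat.Prime 2) := ⟨Nat.prime_two⟩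
  obtain ⟨j', hj'⟩ := kleinFour_mem_coe P d T hT hTP
  set zG : G := ((z d : ↥(P : Subgroup G)) : G) with hzG
  set yG : G := ((inv2 d j' : ↥(P : Subgroup G)) : G) with hyG
  have hzT : zG ∈ T := (hj' _).mpr (Or.inr (Or.inl rfl))
  have hyT : yG ∈ T := (hj' _).mpr (Or.inr (Or.inr (Or.inl rfl)))
  have hzz : zG * zG = 1 := coe_z_mul_self P d
  have hyy : yG * yG = 1 := by
    rw [hyG, ← Subgroup.coe_mul, inv2_mul_self]; rfl
  have hzy : zG ≠ yG := fun h => inv2_ne_z d j' (Subtype.ext h).symm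
  have hzyc : zG * yG = yG * zG := coe_z_comm P d yG (inv2 d j').2
  have hzy_ne_y : zG * yG ≠ yG := by
    intro h
    have h1 : zG = 1 := by
      have := congrArg (· * yG⁻¹) h
      simpa using this
    exact coe_z_ne_one P d h1
  have hzy_ne_z : yG * zG ≠ zG := by
    intro h
    have h1 : yG = 1 := by
      have := congrArg (· * zG⁻¹) h
      simpa using this
    exact inv2_ne_one d j' (Subtype.ext h1)
  -- step 2: `g z g⁻¹ = y`
  obtain ⟨g, hg⟩ : ∃ g : G, g * zG * g⁻¹ = yG := by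
    obtain ⟨g₀, j, h⟩ := hz
    obtain ⟨r, hr⟩ := exists_conj_inv2 d j j'
    refine ⟨(r : G) * g₀, ?_⟩
    have h1 : (r : G) * g₀ * zG * ((r : G) * g₀)⁻¹ = (r : G) * (g₀ * zG * g₀⁻¹) * (r : G)⁻¹ := by
      group
    rw [h1, h, coe_conj, hr]
  -- step 3: the centralizer of `y`
  set K : Subgroup G := centralizer ({yG} : Set G) with hK
  have hP₁K : ((g • P : Sylow 2 G) : Subgroup G) ≤ K := by
    intro w hw
    rw [Sylow.coe_subgroup_smul, Subgroup.mem_smul_pointwise_iff_exists] at hw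
    obtain ⟨p, hp, rfl⟩ := hw
    rw [hK, mem_centralizer_iff]
    intro h hh
    rw [Set.mem_singleton_iff.mp hh, MulAut.smul_def, MulAut.conj_apply, ← hg]
    have := coe_z_comm P d p hp
    calc g * zG * g⁻¹ * (g * p * g⁻¹) = g * (zG * p) * g⁻¹ := by group
      _ = g * (p * zG) * g⁻¹ := by rw [this]
      _ = g * p * g⁻¹ * (g * zG * g⁻¹) := by group
  have hcomm : IsMulCommutative T := IsKleinFour.isMulCommutative
  have hTK : T ≤ K := by
    intro t ht
    rw [hK, mem_centralizer_iff]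
    intro h hh
    rw [Set.mem_singleton_iff.mp hh]
    have := hcomm.is_comm.comm (⟨yG, hyT⟩ : T) ⟨t, ht⟩
    exact congrArg Subtype.val this
  have hT2 : IsPGroup 2 T := P.2.to_le hTP
  obtain ⟨k, hkK, hk⟩ := Fus.exists_conj_le_sylow (g • P) K T hP₁K hTK hT2
  have hky : k * yG * k⁻¹ = yG := by
    have := (mem_centralizer_iff.mp hkK) yG rfl
    rw [← this]; group
  -- step 4: `f = g⁻¹ k`
  have hfT : ∀ t ∈ T, g⁻¹ * k * t * (g⁻¹ * k)⁻¹ ∈ (P : Subgroup G) := by
    intro t ht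
    have h1 := hk t ht
    rw [Sylow.coe_subgroup_smul, Subgroup.mem_smul_pointwise_iff_exists] at h1
    obtain ⟨p, hp, hpt⟩ := h1
    rw [MulAut.smul_def, MulAut.conj_apply] at hpt
    have h2 : g⁻¹ * k * t * (g⁻¹ * k)⁻¹ = g⁻¹ * (k * t * k⁻¹) * g := by group
    rw [h2, ← hpt]
    have h3 : g⁻¹ * (g * p * g⁻¹) * g = p := by group
    rw [h3]; exact hp
  have hfy : g⁻¹ * k * yG * (g⁻¹ * k)⁻¹ = zG := by
    have h2 : g⁻¹ * k * yG * (g⁻¹ * k)⁻¹ = g⁻¹ * (k * yG * k⁻¹) * g := by group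
    rw [h2, hky, ← hg]; group
  set f : G := g⁻¹ * k with hf
  -- step 5
  have hy₁P : f * zG * f⁻¹ ∈ (P : Subgroup G) := hfT zG hzT
  have hs₁ord : orderOf (⟨f * zG * f⁻¹, hy₁P⟩ : ↥(P : Subgroup G)) = 2 := by
    rw [Subgroup.orderOf_mk, Fus.orderOf_conj', orderOf_coe_z]
  have hs₁ne : (⟨f * zG * f⁻¹, hy₁P⟩ : ↥(P : Subgroup G)) ≠ z d := by
    intro h
    have h1 : f * zG * f⁻¹ = zG := congrArg Subtype.val h
    apply hzy
    have h2 : f * zG * f⁻¹ = f * yG * f⁻¹ := by rw [h1, hfy]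
    have := congrArg (fun w => f⁻¹ * w * f) h2
    simpa [mul_assoc] using this
  obtain ⟨j₁, hj₁⟩ : ∃ j₁, (⟨f * zG * f⁻¹, hy₁P⟩ : ↥(P : Subgroup G)) = inv2 d j₁ := by
    rcases invol_cases' d _ hs₁ord with h | h
    · exact absurd h hs₁ne
    · exact h
  have hy₁ : f * zG * f⁻¹ = ((inv2 d j₁ : ↥(P : Subgroup G)) : G) := congrArg Subtype.val hj₁
  set r : G := ((xp d (quarter d) : ↥(P : Subgroup G)) : G) with hr
  have hrz : r * zG * r⁻¹ = zG := by
    rw [hr, hzG, coe_conj, conj_z]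
  have hry₁ : r * (f * zG * f⁻¹) * r⁻¹ = zG * (f * zG * f⁻¹) := by
    rw [hy₁, hr, coe_conj, conj_quarter_inv2, hzG, Subgroup.coe_mul]
  have hry : r * yG * r⁻¹ = zG * yG := by
    rw [hr, hyG, coe_conj, conj_quarter_inv2, hzG, Subgroup.coe_mul]
  have hfz' : f⁻¹ * zG * f = yG := by
    rw [← hfy]; group
  set r' : G := f⁻¹ * r * f with hr'
  have hr'z : r' * zG * r'⁻¹ = yG * zG := by
    have h1 : r' * zG * r'⁻¹ = f⁻¹ * (r * (f * zG * f⁻¹) * r⁻¹) * f := by rw [hr']; group
    rw [h1, hry₁]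
    calc f⁻¹ * (zG * (f * zG * f⁻¹)) * f = (f⁻¹ * zG * f) * zG := by group
      _ = yG * zG := by rw [hfz']
  have hr'y : r' * yG * r'⁻¹ = yG := by
    have h1 : r' * yG * r'⁻¹ = f⁻¹ * (r * (f * yG * f⁻¹) * r⁻¹) * f := by rw [hr']; group
    rw [h1, hfy, hrz, hfz']
  have hr'zy : r' * (zG * yG) * r'⁻¹ = zG := by
    rw [Fus.conj_mul', hr'z, hr'y, mul_assoc, hzyc, ← mul_assoc, hyy, one_mul]
  have hr'N : r' ∈ normalizer (T : Set G) := by
    apply Fus.mem_normalizer_of_conj_mem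
    intro t ht
    rcases (hj' t).mp ht with rfl | rfl | rfl | rfl
    · rw [mul_one, mul_inv_cancel]; exact T.one_mem
    · rw [hr'z]; exact T.mul_mem hyT hzT
    · rw [hr'y]; exact hyT
    · rw [hr'zy]; exact hzT
  have hrN : r ∈ normalizer (T : Set G) := by
    apply Fus.mem_normalizer_of_conj_mem
    intro t ht
    rcases (hj' t).mp ht with rfl | rfl | rfl | rfl
    · rw [mul_one, mul_inv_cancel]; exact T.one_mem
    · rw [hrz]; exact hzT
    · rw [hry]; exact T.mul_mem hzT hyT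
    · rw [Fus.conj_mul', hrz, hry, ← mul_assoc, hzz, one_mul]; exact hyT
  apply Fus.relIndex_ne_two_of _ _ r r' hrN hr'N
  · intro hC
    have := Fus.conj_eq_of_mem_centralizer T r hC yG hyT
    rw [hry] at this
    exact hzy_ne_y this
  · intro hC
    have := Fus.conj_eq_of_mem_centralizer T r' hC zG hzT
    rw [hr'z] at this
    exact hzy_ne_z this
  · intro hC
    have h1 := Fus.conj_eq_of_mem_centralizer T _ hC zG hzT
    have h2 : r'⁻¹ * zG * r' = zG * yG := by
      calc r'⁻¹ * zG * r' = r'⁻¹ * (r' * (zG * yG) * r'⁻¹) * r' := by rw [hr'zy]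
        _ = zG * yG := by group
    have h3 : r * r'⁻¹ * zG * (r * r'⁻¹)⁻¹ = r * (r'⁻¹ * zG * r') * r⁻¹ := by group
    rw [h3, h2, Fus.conj_mul', hrz, hry, ← mul_assoc, hzz, one_mul] at h1
    exact hzy h1.symm

end Cfsg.Agent.Helper6.QD

namespace Cfsg.Agent.Helper6.Fus

open Subgroup

variable {G : Type*} [Group G]

/-- an index-two criterion with two auxiliary subgroups -/
theorem relIndex_ne_two_of_subgroups (K N Ma Mb : Subgroup G) (hKa : K ≤ Ma) (hKb : K ≤ Mb)
    (r r' : G) (hrN : r ∈ N) (hr'N : r' ∈ N) (hra : r ∈ Ma) (hrb : r ∉ Mb) (hr'a : r' ∉ Ma) :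
    K.relIndex N ≠ 2 := by
  intro h
  rw [Subgroup.relIndex_eq_two_iff] at h
  obtain ⟨a₀, -, ha₀⟩ := h
  have h1 : r * a₀ ∈ K := by
    rcases ha₀ r hrN with ⟨h1, -⟩ | ⟨h1, -⟩
    · exact h1
    · exact absurd (hKb h1) hrb
  have h2 : r' * a₀ ∈ K := by
    rcases ha₀ r' hr'N with ⟨h1, -⟩ | ⟨h1, -⟩
    · exact h1
    · exact absurd (hKa h1) hr'a
  have h3 : a₀ ∈ Ma := by
    have : a₀ = r⁻¹ * (r * a₀) := by group
    rw [this]
    exact Ma.mul_mem (Ma.inv_mem hra) (hKa h1)
  apply hr'a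
  have : r' = (r' * a₀) * a₀⁻¹ := by group
  rw [this]
  exact Ma.mul_mem (hKa h2) (Ma.inv_mem h3)

theorem signStab_conj_z (a z : G) (haa : a * a = z) (hzz : z * z = 1) (m : G)
    (hm : m ∈ signStab a z haa hzz) : m * z * m⁻¹ = z := by
  have hza : z * a = a * z := by rw [← haa, mul_assoc]
  have h3 : m * z * m⁻¹ = (m * a * m⁻¹) * (m * a * m⁻¹) := by
    rw [← conj_mul', haa]
  rw [h3]
  rcases hm with h | h
  · rw [h, haa]
  · rw [h]
    calc z * a * (z * a) = z * (a * z) * a := by group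
      _ = z * (z * a) * a := by rw [hza]
      _ = (z * z) * (a * a) := by group
      _ = z := by rw [hzz, one_mul, haa]

namespace Q8Config

variable {Q : Subgroup G} {a b z : G} (h : Q8Config Q a b z)
include h

theorem le_signStab_a : Q ≤ signStab a z h.haa h.hzz := by
  have ha : a ∈ signStab a z h.haa h.hzz := Or.inl (by group)
  have hb : b ∈ signStab a z h.haa h.hzz := Or.inr h.b_conj_a
  have hz : z ∈ signStab a z h.haa h.hzz := by
    have h1 := Subgroup.mul_mem _ ha ha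
    rwa [h.haa] at h1
  intro q hq
  rcases (h.mem q).mp hq with rfl | rfl | rfl | rfl | rfl | rfl | rfl | rfl
  · exact Subgroup.one_mem _
  · exact hz
  · exact ha
  · exact Subgroup.mul_mem _ hz ha
  · exact hb
  · exact Subgroup.mul_mem _ hz hb
  · exact Subgroup.mul_mem _ ha hb
  · exact Subgroup.mul_mem _ hz (Subgroup.mul_mem _ ha hb)

theorem le_signStab_b : Q ≤ signStab b z h.hbb h.hzz := by
  have ha : a ∈ signStab b z h.hbb h.hzz := Or.inr h.a_conj_b
  have hb : b ∈ signStab b z h.hbb h.hzz := Or.inl (by group)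
  have hz : z ∈ signStab b z h.hbb h.hzz := by
    have h1 := Subgroup.mul_mem _ hb hb
    rwa [h.hbb] at h1
  intro q hq
  rcases (h.mem q).mp hq with rfl | rfl | rfl | rfl | rfl | rfl | rfl | rfl
  · exact Subgroup.one_mem _
  · exact hz
  · exact ha
  · exact Subgroup.mul_mem _ hz ha
  · exact hb
  · exact Subgroup.mul_mem _ hz hb
  · exact Subgroup.mul_mem _ ha hb
  · exact Subgroup.mul_mem _ hz (Subgroup.mul_mem _ ha hb)

theorem sup_le_signStab_a : Q ⊔ centralizer (Q : Set G) ≤ signStab a z h.haa h.hzz := by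
  apply sup_le h.le_signStab_a
  intro c hc
  left
  exact conj_eq_of_mem_centralizer Q c hc a h.a_mem

theorem sup_le_signStab_b : Q ⊔ centralizer (Q : Set G) ≤ signStab b z h.hbb h.hzz := by
  apply sup_le h.le_signStab_b
  intro c hc
  left
  exact conj_eq_of_mem_centralizer Q c hc b h.b_mem

/-- an element mapping `z, a, b` into `Q` normalizes `Q` -/
theorem mem_normalizer_of [Finite G] (m : G) (hz : m * z * m⁻¹ ∈ Q) (ha : m * a * m⁻¹ ∈ Q)
    (hb : m * b * m⁻¹ ∈ Q) : m ∈ normalizer (Q : Set G) := by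
  apply mem_normalizer_of_conj_mem
  intro t ht
  rcases (h.mem t).mp ht with rfl | rfl | rfl | rfl | rfl | rfl | rfl | rfl
  · rw [mul_one, mul_inv_cancel]; exact Q.one_mem
  · exact hz
  · exact ha
  · rw [conj_mul']; exact Q.mul_mem hz ha
  · exact hb
  · rw [conj_mul']; exact Q.mul_mem hz hb
  · rw [conj_mul']; exact Q.mul_mem ha hb
  · rw [conj_mul', conj_mul' m a b]; exact Q.mul_mem hz (Q.mul_mem ha hb)

end Q8Config

end Cfsg.Agent.Helper6.Fus

namespace Cfsg.Agent.Helper6.QD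

section plevel

variable {S : Type*} [Group S] (d : Data S)

/-- the exponent shift produced by conjugation with `x^(2^(n-3))` -/
def c0 : ZMod (2 ^ d.n) := u d * quarter d

theorem two_mul_c0 : 2 * c0 d = half d := by
  unfold c0 u
  linear_combination (1 - quarter d) * two_mul_quarter d - half_mul_quarter d

theorem conj_eighth_xpy (i : ZMod (2 ^ d.n)) :
    xp d (eighth d) * (xp d i * d.y) * (xp d (eighth d))⁻¹ = xp d (c0 d) * (xp d i * d.y) := by
  rw [conj_xp_xpy, xp_mul_xpy, one_sub_e]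
  congr 2
  unfold c0
  linear_combination (u d) * two_mul_eighth d

theorem xp_two_mul_eq_half (m : ZMod (2 ^ d.n)) (hm : 2 * m = half d) :
    xp d m * xp d m = z d := by
  rw [xp_mul_xp]
  unfold z
  congr 1
  linear_combination hm

end plevel

open Subgroup

variable {G : Type*} [Group G] (P : Sylow 2 G) (d : Data ↥(P : Subgroup G))

/-- the standard `Q₈` configuration in `G` of a quaternion subgroup of the Sylow subgroup -/
theorem q8Config_coe [Finite G] (Q : Subgroup G) (hQP : Q ≤ (P : Subgroup G))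
    (eQ : Q ≃* QuaternionGroup 2) :
    ∃ i, half d * i = half d ∧
      Fus.Q8Config Q ((xp d (quarter d) : ↥(P : Subgroup G)) : G)
        ((xp d i * d.y : ↥(P : Subgroup G)) : G) ((z d : ↥(P : Subgroup G)) : G) := by
  have e : Q.subgroupOf (P : Subgroup G) ≃* Q := Subgroup.subgroupOfEquivOfLe hQP
  obtain ⟨c, hc⟩ := q8Like_of_equiv (Q.subgroupOf (P : Subgroup G)) (e.trans eQ)
  obtain ⟨i, hi, hcfg⟩ := q8Config d _ c hc
  have hcfgG := hcfg.map (P : Subgroup G).subtype Subtype.val_injective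
  rw [Subgroup.map_subgroupOf_eq_of_le hQP] at hcfgG
  exact ⟨i, hi, hcfgG⟩

/-- if `x^(2^(n-2))` is fused to an element outside `⟨x⟩` then `|N(Q) : Q C(Q)| ≠ 2` -/
theorem fusion_a_relIndex_ne_two [Finite G] (Q : Subgroup G) (hQP : Q ≤ (P : Subgroup G))
    (eQ : Q ≃* QuaternionGroup 2)
    (ha : ∃ g : G, ∃ j, g * ((xp d (quarter d) : ↥(P : Subgroup G)) : G) * g⁻¹ =
        ((xp d (2 * j + 1) * d.y : ↥(P : Subgroup G)) : G)) :
    (Q ⊔ centralizer (Q : Set G)).relIndex (normalizer (Q : Set G)) ≠ 2 := by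
  have : Fact (Nat.Prime 2) := ⟨Nat.prime_two⟩
  obtain ⟨i, hi, hcfg⟩ := q8Config_coe P d Q hQP eQ
  set a : G := ((xp d (quarter d) : ↥(P : Subgroup G)) : G) with ha_def
  set b : G := ((xp d i * d.y : ↥(P : Subgroup G)) : G) with hb_def
  set zG : G := ((z d : ↥(P : Subgroup G)) : G) with hz_def
  have hz1 : zG ≠ 1 := coe_z_ne_one P d
  -- step 2: `g a g⁻¹ = b`
  obtain ⟨g, hg⟩ : ∃ g : G, g * a * g⁻¹ = b := by
    obtain ⟨g₀, j, h⟩ := ha
    obtain ⟨j₀, hj₀⟩ := (half_mul_eq_half_iff d i).mp hi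
    obtain ⟨r, hr⟩ := exists_conj_odd' d j j₀
    refine ⟨(r : G) * g₀, ?_⟩
    have h1 : (r : G) * g₀ * a * ((r : G) * g₀)⁻¹ = (r : G) * (g₀ * a * g₀⁻¹) * (r : G)⁻¹ := by
      group
    rw [h1, h, coe_conj, hr, hb_def, hj₀]
  have hgz : g * zG * g⁻¹ = zG := by
    have h1 : g * zG * g⁻¹ = (g * a * g⁻¹) * (g * a * g⁻¹) := by
      rw [← Fus.conj_mul', hcfg.haa]
    rw [h1, hg, hcfg.hbb]
  -- the stabilizers
  set Ma : Subgroup G := Fus.signStab a zG hcfg.haa hcfg.hzz with hMa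
  set Mb : Subgroup G := Fus.signStab b zG hcfg.hbb hcfg.hzz with hMb
  -- conjugation of `a` by elements of `P`
  have hPa : ∀ p ∈ (P : Subgroup G), p * a * p⁻¹ = a ∨ p * a * p⁻¹ = zG * a := by
    intro p hp
    rcases cases d ⟨p, hp⟩ with ⟨m, hm⟩ | ⟨m, hm⟩
    · left
      have h1 : p = ((xp d m : ↥(P : Subgroup G)) : G) := congrArg Subtype.val hm
      rw [h1, ha_def, coe_conj, conj_xp_xp]
    · right
      have h1 : p = ((xp d m * d.y : ↥(P : Subgroup G)) : G) := congrArg Subtype.val hm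
      rw [h1, ha_def, coe_conj, conj_xpy_xp, e_mul_quarter, hz_def, ← Subgroup.coe_mul]
      unfold z
      rw [xp_mul_xp, add_comm]
  have hP₁M : ((g • P : Sylow 2 G) : Subgroup G) ≤ Mb := by
    intro w hw
    rw [Sylow.coe_subgroup_smul, Subgroup.mem_smul_pointwise_iff_exists] at hw
    obtain ⟨p, hp, rfl⟩ := hw
    rw [MulAut.smul_def, MulAut.conj_apply]
    have h1 : g * p * g⁻¹ * b * (g * p * g⁻¹)⁻¹ = g * (p * (g⁻¹ * b * g) * p⁻¹) * g⁻¹ := by
      group
    have h2 : g⁻¹ * b * g = a := by rw [← hg]; group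
    show g * p * g⁻¹ * b * (g * p * g⁻¹)⁻¹ = b ∨ g * p * g⁻¹ * b * (g * p * g⁻¹)⁻¹ = zG * b
    rw [h1, h2]
    rcases hPa p hp with h3 | h3
    · left; rw [h3, hg]
    · right; rw [h3, Fus.conj_mul', hgz, hg]
  have hQ2 : IsPGroup 2 Q := P.2.to_le hQP
  obtain ⟨k, hkM, hk⟩ := Fus.exists_conj_le_sylow (g • P) Mb Q hP₁M hcfg.le_signStab_b hQ2
  have hkz : k * zG * k⁻¹ = zG := Fus.signStab_conj_z b zG hcfg.hbb hcfg.hzz k hkM
  set f : G := g⁻¹ * k with hf
  have hfQ : ∀ t ∈ Q, f * t * f⁻¹ ∈ (P : Subgroup G) := by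
    intro t ht
    have h1 := hk t ht
    rw [Sylow.coe_subgroup_smul, Subgroup.mem_smul_pointwise_iff_exists] at h1
    obtain ⟨p, hp, hpt⟩ := h1
    rw [MulAut.smul_def, MulAut.conj_apply] at hpt
    have h2 : f * t * f⁻¹ = g⁻¹ * (k * t * k⁻¹) * g := by rw [hf]; group
    rw [h2, ← hpt]
    have h3 : g⁻¹ * (g * p * g⁻¹) * g = p := by group
    rw [h3]; exact hp
  have hfz : f * zG * f⁻¹ = zG := by
    have h2 : f * zG * f⁻¹ = g⁻¹ * (k * zG * k⁻¹) * g := by rw [hf]; group
    rw [h2, hkz]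
    calc g⁻¹ * zG * g = g⁻¹ * (g * zG * g⁻¹) * g := by rw [hgz]
      _ = zG := by group
  -- `f b f⁻¹ = x^m` with `2 m = half`
  obtain ⟨m, hm2, hfb⟩ : ∃ m, 2 * m = half d ∧
      f * b * f⁻¹ = ((xp d m : ↥(P : Subgroup G)) : G) := by
    have h2 : f * b * f⁻¹ = g⁻¹ * (k * b * k⁻¹) * g := by rw [hf]; group
    have h3 : g⁻¹ * b * g = a := by rw [← hg]; group
    have h4 : g⁻¹ * zG * g = zG := by
      calc g⁻¹ * zG * g = g⁻¹ * (g * zG * g⁻¹) * g := by rw [hgz]
        _ = zG := by group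
    rcases hkM with h | h
    · refine ⟨quarter d, two_mul_quarter d, ?_⟩
      rw [h2, h, h3]
    · refine ⟨half d + quarter d, ?_, ?_⟩
      · linear_combination two_mul_half d + two_mul_quarter d
      · rw [h2, h]
        have h5 : g⁻¹ * (zG * b) * g = (g⁻¹ * zG * g) * (g⁻¹ * b * g) := by group
        rw [h5, h3, h4, hz_def, ha_def, ← Subgroup.coe_mul]
        unfold z
        rw [xp_mul_xp]
  -- `f a f⁻¹ = x^i₁ y`
  obtain ⟨i₁, hfa⟩ : ∃ i₁, f * a * f⁻¹ = ((xp d i₁ * d.y : ↥(P : Subgroup G)) : G) := by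
    rcases cases d ⟨f * a * f⁻¹, hfQ a hcfg.a_mem⟩ with ⟨m', hm'⟩ | ⟨i₁, hi₁⟩
    · exfalso
      have h1 : f * a * f⁻¹ = ((xp d m' : ↥(P : Subgroup G)) : G) := congrArg Subtype.val hm'
      have h2 : (f * a * f⁻¹) * (f * b * f⁻¹) = (f * b * f⁻¹) * (f * a * f⁻¹) := by
        rw [h1, hfb, ← Subgroup.coe_mul, ← Subgroup.coe_mul, xp_mul_xp, xp_mul_xp, add_comm]
      have h3 : a * b = b * a := by
        have h4 : f * (a * b) * f⁻¹ = f * (b * a) * f⁻¹ := by
          rw [Fus.conj_mul', Fus.conj_mul' f b a]; exact h2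
        have := congrArg (fun w => f⁻¹ * w * f) h4
        simpa [mul_assoc] using this
      rw [hcfg.hba] at h3
      apply hz1
      have h5 : 1 * (a * b) = zG * (a * b) := by rw [one_mul]; exact h3
      exact (mul_right_cancel h5).symm
    · exact ⟨i₁, congrArg Subtype.val hi₁⟩
  -- the element `r`
  set r : G := ((xp d (eighth d) : ↥(P : Subgroup G)) : G) with hr
  have hrz : r * zG * r⁻¹ = zG := by rw [hr, hz_def, coe_conj, conj_z]
  have hra : r * a * r⁻¹ = a := by rw [hr, ha_def, coe_conj, conj_xp_xp]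
  have hrb : r * b * r⁻¹ = ((xp d (c0 d) : ↥(P : Subgroup G)) : G) * b := by
    rw [hr, hb_def, coe_conj, conj_eighth_xpy, Subgroup.coe_mul]
  have hrfa : r * (f * a * f⁻¹) * r⁻¹ =
      ((xp d (c0 d) : ↥(P : Subgroup G)) : G) * (f * a * f⁻¹) := by
    rw [hfa, hr, coe_conj, conj_eighth_xpy, Subgroup.coe_mul]
  have hrfb : r * (f * b * f⁻¹) * r⁻¹ = f * b * f⁻¹ := by
    rw [hfb, hr, coe_conj, conj_xp_xp]
  -- `x^c₀` in terms of `a`
  have hc0a : ((xp d (c0 d) : ↥(P : Subgroup G)) : G) = a ∨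
      ((xp d (c0 d) : ↥(P : Subgroup G)) : G) = zG * a := by
    have h1 : 2 * (c0 d - quarter d) = 0 := by
      linear_combination two_mul_c0 d - two_mul_quarter d
    rcases (two_mul_eq_zero_iff d _).mp h1 with h2 | h2
    · left
      have : c0 d = quarter d := by linear_combination h2
      rw [this]
    · right
      have : c0 d = half d + quarter d := by linear_combination h2
      rw [this, hz_def, ha_def, ← Subgroup.coe_mul]
      unfold z
      rw [xp_mul_xp]
  -- `x^c₀` in terms of `f b f⁻¹`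
  have hc0b : ((xp d (c0 d) : ↥(P : Subgroup G)) : G) = f * b * f⁻¹ ∨
      ((xp d (c0 d) : ↥(P : Subgroup G)) : G) = zG * (f * b * f⁻¹) := by
    have h1 : 2 * (c0 d - m) = 0 := by
      linear_combination two_mul_c0 d - hm2
    rcases (two_mul_eq_zero_iff d _).mp h1 with h2 | h2
    · left
      have : c0 d = m := by linear_combination h2
      rw [this, hfb]
    · right
      have : c0 d = half d + m := by linear_combination h2
      rw [this, hfb, hz_def, ← Subgroup.coe_mul]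
      unfold z
      rw [xp_mul_xp]
  have hrN : r ∈ normalizer (Q : Set G) := by
    apply hcfg.mem_normalizer_of r
    · rw [hrz]; exact hcfg.z_mem
    · rw [hra]; exact hcfg.a_mem
    · rw [hrb]
      rcases hc0a with h | h
      · rw [h]; exact Q.mul_mem hcfg.a_mem hcfg.b_mem
      · rw [h]; exact Q.mul_mem (Q.mul_mem hcfg.z_mem hcfg.a_mem) hcfg.b_mem
  have hrMa : r ∈ Ma := Or.inl hra
  have hrMb : r ∉ Mb := by
    rintro (h | h)
    · rw [hrb] at h
      have h1 : ((xp d (c0 d) : ↥(P : Subgroup G)) : G) = 1 := by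
        have := congrArg (· * b⁻¹) h
        simpa using this
      have h2 : xp d (c0 d) = 1 := Subtype.ext h1
      rw [xp_eq_one_iff] at h2
      have h3 := two_mul_c0 d
      rw [h2, mul_zero] at h3
      exact half_ne_zero d h3.symm
    · rw [hrb] at h
      have h1 : ((xp d (c0 d) : ↥(P : Subgroup G)) : G) = zG := by
        have := congrArg (· * b⁻¹) h
        simpa using this
      have h2 : xp d (c0 d) = z d := Subtype.ext h1
      have h4 : c0 d = half d := xp_injective d h2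
      have h3 := two_mul_c0 d
      rw [h4, two_mul_half] at h3
      exact half_ne_zero d h3.symm
  -- the element `r'`
  set r' : G := f⁻¹ * r * f with hr'
  have hr'b : r' * b * r'⁻¹ = b := by
    have h1 : r' * b * r'⁻¹ = f⁻¹ * (r * (f * b * f⁻¹) * r⁻¹) * f := by rw [hr']; group
    rw [h1, hrfb]; group
  have hr'z : r' * zG * r'⁻¹ = zG := by
    have h1 : r' * zG * r'⁻¹ = (r' * b * r'⁻¹) * (r' * b * r'⁻¹) := by
      rw [← Fus.conj_mul', hcfg.hbb]
    rw [h1, hr'b, hcfg.hbb]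
  have hfz' : f⁻¹ * zG * f = zG := by
    calc f⁻¹ * zG * f = f⁻¹ * (f * zG * f⁻¹) * f := by rw [hfz]
      _ = zG := by group
  have hr'a : r' * a * r'⁻¹ = b * a ∨ r' * a * r'⁻¹ = zG * (b * a) := by
    have h1 : r' * a * r'⁻¹ = f⁻¹ * (r * (f * a * f⁻¹) * r⁻¹) * f := by rw [hr']; group
    rw [h1, hrfa]
    rcases hc0b with h | h
    · left
      rw [h]; group
    · right
      rw [h]
      calc f⁻¹ * (zG * (f * b * f⁻¹) * (f * a * f⁻¹)) * f = (f⁻¹ * zG * f) * (b * a) := by group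
        _ = zG * (b * a) := by rw [hfz']
  have hbaQ : b * a ∈ Q := Q.mul_mem hcfg.b_mem hcfg.a_mem
  have hr'N : r' ∈ normalizer (Q : Set G) := by
    apply hcfg.mem_normalizer_of r'
    · rw [hr'z]; exact hcfg.z_mem
    · rcases hr'a with h | h
      · rw [h]; exact hbaQ
      · rw [h]; exact Q.mul_mem hcfg.z_mem hbaQ
    · rw [hr'b]; exact hcfg.b_mem
  have hb1 : b ≠ 1 := fun h => hcfg.hbA (Or.inl h)
  have hbz : b ≠ zG := fun h => hcfg.hbA (Or.inr (Or.inl h))
  have hr'Ma : r' ∉ Ma := by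
    rintro (h | h)
    · rcases hr'a with h' | h'
      · rw [h'] at h
        apply hb1
        have := congrArg (· * a⁻¹) h
        simpa using this
      · rw [h'] at h
        apply hbz
        have h2 : zG * b = 1 := by
          have := congrArg (· * a⁻¹) h
          simpa [mul_assoc] using this
        have h3 : b = zG * (zG * b) := by rw [← mul_assoc, hcfg.hzz, one_mul]
        rw [h3, h2, mul_one]
    · rcases hr'a with h' | h'
      · rw [h'] at h
        apply hbz
        have := congrArg (· * a⁻¹) h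
        simpa using this
      · rw [h'] at h
        apply hb1
        have h2 : zG * b = zG := by
          have := congrArg (· * a⁻¹) h
          simpa [mul_assoc] using this
        have := congrArg (zG⁻¹ * ·) h2
        simpa using this
  exact Fus.relIndex_ne_two_of_subgroups _ _ Ma Mb hcfg.sup_le_signStab_a hcfg.sup_le_signStab_b
    r r' hrN hr'N hrMa hrMb hr'Ma

end Cfsg.Agent.Helper6.QD
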