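import Mathlib
import Cfsg.Agent.Lib.Helper6.QDConverse

/-!
A finite group with a quasi-dihedral Sylow `2`-subgroup and no fusion of `z` or of
`x^(2^(n-2))` satisfies the hypothesis of Frobenius' normal complement theorem.
-/

set_option autoImplicit false

namespace Cfsg.Agent.Helper6.Fus

/-- exactly two conjugacy classes of elements of a given order -/
theorem card_classes_eq_two {G : Type*} [Group G] (n : ℕ) (c₁ c₂ : G) (h₁ : orderOf c₁ = n)
    (h₂ : orderOf c₂ = n) (hne : ¬ ∃ g : G, g * c₁ * g⁻¹ = c₂)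
    (h : ∀ t : G, orderOf t = n → (∃ g : G, g * t * g⁻¹ = c₁) ∨ (∃ g : G, g * t * g⁻¹ = c₂)) :
    Nat.card {C : ConjClasses G // ∃ t : G, orderOf t = n ∧ ConjClasses.mk t = C} = 2 := by
  have hset : {C : ConjClasses G | ∃ t : G, orderOf t = n ∧ ConjClasses.mk t = C} =
      {ConjClasses.mk c₁, ConjClasses.mk c₂} := by
    ext C
    simp only [Set.mem_ofPred_eq, Set.mem_insert_iff, Set.mem_singleton_iff]
    constructor
    · rintro ⟨t, ht, rfl⟩
      rcases h t ht with ⟨g, hg⟩ | ⟨g, hg⟩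
      · left
        rw [ConjClasses.mk_eq_mk_iff_isConj, isConj_iff]
        exact ⟨g, hg⟩
      · right
        rw [ConjClasses.mk_eq_mk_iff_isConj, isConj_iff]
        exact ⟨g, hg⟩
    · rintro (rfl | rfl)
      · exact ⟨c₁, h₁, rfl⟩
      · exact ⟨c₂, h₂, rfl⟩
  have hne' : ConjClasses.mk c₁ ≠ ConjClasses.mk c₂ := by
    intro h'
    rw [ConjClasses.mk_eq_mk_iff_isConj, isConj_iff] at h'
    exact hne h'
  have h3 : Nat.card ↥{C : ConjClasses G | ∃ t : G, orderOf t = n ∧ ConjClasses.mk t = C} = 2 := by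
    rw [Nat.card_coe_set_eq, hset, Set.ncard_pair hne']
  exact h3

end Cfsg.Agent.Helper6.Fus

namespace Cfsg.Agent.Helper6.QD

open Subgroup

variable {G : Type*} [Group G] (P : Sylow 2 G) (d : Data ↥(P : Subgroup G))

/-- without fusion, conjugates (lying in `P`) of powers of `x` are powers of `x` -/
theorem conj_xp_mem_of_no_fusion
    (hz : ¬ ∃ g : G, ∃ j, g * ((z d : ↥(P : Subgroup G)) : G) * g⁻¹ =
      ((inv2 d j : ↥(P : Subgroup G)) : G))
    (ha : ¬ ∃ g : G, ∃ j, g * ((xp d (quarter d) : ↥(P : Subgroup G)) : G) * g⁻¹ =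
        ((xp d (2 * j + 1) * d.y : ↥(P : Subgroup G)) : G))
    (g : G) (i : ZMod (2 ^ d.n))
    (hgP : g * ((xp d i : ↥(P : Subgroup G)) : G) * g⁻¹ ∈ (P : Subgroup G)) :
    ∃ i', g * ((xp d i : ↥(P : Subgroup G)) : G) * g⁻¹ = ((xp d i' : ↥(P : Subgroup G)) : G) := by
  rcases cases d ⟨_, hgP⟩ with ⟨i', hi'⟩ | ⟨i', hi'⟩
  · exact ⟨i', congrArg Subtype.val hi'⟩
  · exfalso
    have h1 : g * ((xp d i : ↥(P : Subgroup G)) : G) * g⁻¹ =
        ((xp d i' * d.y : ↥(P : Subgroup G)) : G) := congrArg Subtype.val hi'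
    have hord : orderOf (xp d i) = orderOf (xp d i' * d.y) := by
      rw [← Subgroup.orderOf_coe, ← Subgroup.orderOf_coe, ← h1, Fus.orderOf_conj']
    rcases half_mul_cases d i' with h0 | h0
    · -- order two
      have h2 : orderOf (xp d i' * d.y) = 2 := (orderOf_xpy_eq_two_iff d i').mpr h0
      rw [h2] at hord
      have h3 : i = half d := (orderOf_xp_eq_two_iff d i).mp hord
      obtain ⟨j, hj⟩ := (half_mul_eq_zero_iff d i').mp h0
      apply hz
      refine ⟨g, j, ?_⟩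
      rw [h3] at h1
      rw [hj] at h1
      exact h1
    · -- order four
      have h2 : orderOf (xp d i' * d.y) = 4 := (orderOf_xpy_eq_four_iff d i').mpr h0
      rw [h2] at hord
      obtain ⟨j, hj⟩ := (half_mul_eq_half_iff d i').mp h0
      apply ha
      rcases (orderOf_xp_eq_four_iff d i).mp hord with h3 | h3
      · refine ⟨g, j, ?_⟩
        rw [h3, hj] at h1
        exact h1
      · refine ⟨g * (d.y : G), j, ?_⟩
        rw [h3, hj, ← y_conj_quarter] at h1
        rw [← h1]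
        simp only [Subgroup.coe_mul, Subgroup.coe_inv]
        group

/-- without fusion, odd order elements of `N_G(H)` centralize `H ≤ P` -/
theorem odd_normalizer_le_centralizer [Finite G]
    (hz : ¬ ∃ g : G, ∃ j, g * ((z d : ↥(P : Subgroup G)) : G) * g⁻¹ =
      ((inv2 d j : ↥(P : Subgroup G)) : G))
    (ha : ¬ ∃ g : G, ∃ j, g * ((xp d (quarter d) : ↥(P : Subgroup G)) : G) * g⁻¹ =
        ((xp d (2 * j + 1) * d.y : ↥(P : Subgroup G)) : G))
    (H : Subgroup G) (hHP : H ≤ (P : Subgroup G)) (g : G) (hg : g ∈ normalizer (H : Set G))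
    (hodd : Nat.Coprime (orderOf g) 2) : g ∈ centralizer (H : Set G) := by
  have hm : Odd (orderOf g) := hodd.odd_of_right
  have hgm : g ^ orderOf g = 1 := pow_orderOf_eq_one g
  -- the cyclic part
  let Xc : Subgroup G := (Subgroup.zpowers d.x).map (P : Subgroup G).subtype
  have hXc : ∀ w : G, w ∈ Xc ↔ ∃ i, w = ((xp d i : ↥(P : Subgroup G)) : G) := by
    intro w
    constructor
    · rintro ⟨s, hs, rfl⟩
      obtain ⟨i, hi⟩ := (mem_zpowers_iff d s).mp hs
      exact ⟨i, by rw [hi]; rfl⟩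
    · rintro ⟨i, rfl⟩
      exact ⟨xp d i, (mem_zpowers_iff d _).mpr ⟨i, rfl⟩, rfl⟩
  have hX : ∀ w : G, w ∈ H ⊓ Xc ↔ w ∈ H ∧ ∃ i, w = ((xp d i : ↥(P : Subgroup G)) : G) := by
    intro w
    rw [Subgroup.mem_inf, hXc]
  -- invariance under any element of the normalizer
  have hinvar : ∀ k ∈ normalizer (H : Set G), ∀ w ∈ H ⊓ Xc, k * w * k⁻¹ ∈ H ⊓ Xc := by
    intro k hk w hw
    obtain ⟨hwH, i, rfl⟩ := (hX w).mp hw
    have h1 : k * ((xp d i : ↥(P : Subgroup G)) : G) * k⁻¹ ∈ H :=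
      (mem_normalizer_iff.mp hk _).mp hwH
    obtain ⟨i', hi'⟩ := conj_xp_mem_of_no_fusion P d hz ha k i (hHP h1)
    exact (hX _).mpr ⟨h1, i', hi'⟩
  have hcomm : ∀ u ∈ H ⊓ Xc, ∀ v ∈ H ⊓ Xc, u * v = v * u := by
    intro u hu v hv
    obtain ⟨-, i, rfl⟩ := (hX u).mp hu
    obtain ⟨-, j, rfl⟩ := (hX v).mp hv
    rw [← Subgroup.coe_mul, ← Subgroup.coe_mul, xp_mul_xp, xp_mul_xp, add_comm]
  have h2pow : ∀ w ∈ (P : Subgroup G), ∃ k : ℕ, w ^ (2 ^ k) = 1 := by
    intro w hw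
    obtain ⟨k, hk⟩ := P.2 ⟨w, hw⟩
    refine ⟨k, ?_⟩
    have := congrArg Subtype.val hk
    simpa using this
  have hcentX : ∀ w ∈ H ⊓ Xc, g * w * g⁻¹ = w := by
    apply Fus.centralizes_of_odd (H ⊓ Xc) hcomm (fun w hw => h2pow w (hHP ((hX w).mp hw).1)) g
      (hinvar g hg) (orderOf g) hm hgm
    intro w hw hww
    obtain ⟨hwH, i, rfl⟩ := (hX w).mp hw
    obtain ⟨-, i', hi'⟩ := (hX _).mp (hinvar g hg _ hw)
    -- both are `1` or `z`
    have h1 : xp d i * xp d i = 1 := Subtype.ext hww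
    rw [xp_mul_xp, xp_eq_one_iff] at h1
    have h2 : (g * ((xp d i : ↥(P : Subgroup G)) : G) * g⁻¹) *
        (g * ((xp d i : ↥(P : Subgroup G)) : G) * g⁻¹) = 1 := by
      rw [← Fus.conj_mul', hww]; group
    rw [hi'] at h2 ⊢
    have h3 : xp d i' * xp d i' = 1 := Subtype.ext h2
    rw [xp_mul_xp, xp_eq_one_iff] at h3
    have e1 : i + i = 2 * i := by ring
    have e2 : i' + i' = 2 * i' := by ring
    rw [e1] at h1
    rw [e2] at h3
    rcases (two_mul_eq_zero_iff d i).mp h1 with rfl | rfl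
    · -- `w = 1`
      rw [xp_zero] at hi'
      have h4 : ((xp d i' : ↥(P : Subgroup G)) : G) = 1 := by
        rw [← hi']; simp
      rw [h4, xp_zero]; rfl
    · rcases (two_mul_eq_zero_iff d i').mp h3 with rfl | rfl
      · exfalso
        rw [xp_zero] at hi'
        have h4 : ((xp d (half d) : ↥(P : Subgroup G)) : G) = 1 := by
          have := congrArg (fun w => g⁻¹ * w * g) hi'
          simpa [mul_assoc] using this
        have h5 : xp d (half d) = 1 := Subtype.ext h4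
        rw [xp_eq_one_iff] at h5
        exact half_ne_zero d h5
      · rfl
  rw [mem_centralizer_iff]
  intro s hs
  have key : g * s * g⁻¹ = s := by
    by_cases hsX : s ∈ H ⊓ Xc
    · exact hcentX s hsX
    · have hgs : g * s * g⁻¹ ∈ H := (mem_normalizer_iff.mp hg s).mp hs
      have hgsX : g * s * g⁻¹ ∉ H ⊓ Xc := by
        intro hcon
        have h1 := hinvar g⁻¹ (Subgroup.inv_mem _ hg) _ hcon
        have h2 : g⁻¹ * (g * s * g⁻¹) * g⁻¹⁻¹ = s := by group
        rw [h2] at h1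
        exact hsX h1
      -- both `s` and `g s g⁻¹` are of the form `x^i y`
      obtain ⟨i, hi⟩ : ∃ i, s = ((xp d i * d.y : ↥(P : Subgroup G)) : G) := by
        rcases cases d ⟨s, hHP hs⟩ with ⟨i, hi⟩ | ⟨i, hi⟩
        · exfalso
          exact hsX ((hX s).mpr ⟨hs, i, congrArg Subtype.val hi⟩)
        · exact ⟨i, congrArg Subtype.val hi⟩
      obtain ⟨i', hi'⟩ : ∃ i', g * s * g⁻¹ = ((xp d i' * d.y : ↥(P : Subgroup G)) : G) := by
        rcases cases d ⟨_, hHP hgs⟩ with ⟨i', hi'⟩ | ⟨i', hi'⟩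
        · exfalso
          exact hgsX ((hX _).mpr ⟨hgs, i', congrArg Subtype.val hi'⟩)
        · exact ⟨i', congrArg Subtype.val hi'⟩
      have hw : s⁻¹ * (g * s * g⁻¹) ∈ H ⊓ Xc := by
        refine (hX _).mpr ⟨H.mul_mem (H.inv_mem hs) hgs, ?_⟩
        rw [hi', hi, ← Subgroup.coe_inv, ← Subgroup.coe_mul, xpy_inv, xpy_mul_xpy]
        exact ⟨_, rfl⟩
      obtain ⟨k, hk⟩ := h2pow _ (hHP ((hX _).mp hw).1)
      apply Fus.centralizes_coset_odd g s (s⁻¹ * (g * s * g⁻¹)) (hcentX _ hw) (by group)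
        (orderOf g) hm hgm k hk
  have h9 := congrArg (· * g) key
  simp only [inv_mul_cancel_right] at h9
  exact h9.symm

end Cfsg.Agent.Helper6.QD
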