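import Mathlib
import Cfsg.Agent.Lib.Helper6.FusionLemmas

/-!
Sylow `2`-subgroups of a subgroup of index two, and absence of subgroups of index two there.
-/

set_option autoImplicit false

namespace Cfsg.Agent.Helper6.Fus

open Subgroup

variable {G : Type*} [Group G]

/-- a Sylow `2`-subgroup of a subgroup `K` of index two with prescribed underlying subgroup -/
theorem exists_sylow_of_index_two [Finite G] (P : Sylow 2 G) (K : Subgroup G) (hK : K.index = 2)
    (R₁ : Subgroup G) (hR₁K : R₁ ≤ K) (hR₁P : R₁ ≤ (P : Subgroup G))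
    (hrel : R₁.relIndex (P : Subgroup G) = 2) :
    ∃ R₀ : Sylow 2 ↥K, (R₀ : Subgroup ↥K) = R₁.subgroupOf K := by
  have : Fact (Nat.Prime 2) := ⟨Nat.prime_two⟩
  have e1 : R₁.subgroupOf (P : Subgroup G) ≃* R₁ := Subgroup.subgroupOfEquivOfLe hR₁P
  have e2 : R₁.subgroupOf K ≃* R₁ := Subgroup.subgroupOfEquivOfLe hR₁K
  have h1 : Nat.card R₁ * 2 = Nat.card (P : Subgroup G) := by
    have := Subgroup.card_mul_index (R₁.subgroupOf (P : Subgroup G))
    rw [Nat.card_congr e1.toEquiv] at this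
    rw [← this]
    congr 1
    exact hrel.symm
  have h2 : Nat.card K * 2 = Nat.card G := by
    rw [← hK]; exact Subgroup.card_mul_index K
  have h3 : Nat.card (P : Subgroup G) = 2 ^ (Nat.card G).factorization 2 := P.card_eq_multiplicity
  have hKpos : Nat.card K ≠ 0 := Nat.card_pos.ne'
  have h4 : (Nat.card G).factorization 2 = (Nat.card K).factorization 2 + 1 := by
    rw [← h2, Nat.factorization_mul hKpos (by norm_num)]
    simp [Nat.Prime.factorization_self Nat.prime_two]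
  have h5 : Nat.card R₁ = 2 ^ (Nat.card K).factorization 2 := by
    rw [h3, h4, pow_succ] at h1
    exact Nat.eq_of_mul_eq_mul_right (by norm_num) h1
  have h6 : Nat.card (R₁.subgroupOf K) = 2 ^ (Nat.card K).factorization 2 := by
    rw [Nat.card_congr e2.toEquiv, h5]
  exact ⟨Sylow.ofCard (R₁.subgroupOf K) h6, Sylow.coe_ofCard _ _⟩

/-- all Sylow `2`-subgroups of `K` are isomorphic to `R₁` -/
theorem sylow_equiv_of_index_two [Finite G] (P : Sylow 2 G) (K : Subgroup G) (hK : K.index = 2)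
    (R₁ : Subgroup G) (hR₁K : R₁ ≤ K) (hR₁P : R₁ ≤ (P : Subgroup G))
    (hrel : R₁.relIndex (P : Subgroup G) = 2) (R : Sylow 2 ↥K) :
    Nonempty (↥(R : Subgroup ↥K) ≃* ↥R₁) := by
  have : Fact (Nat.Prime 2) := ⟨Nat.prime_two⟩
  obtain ⟨R₀, hR₀⟩ := exists_sylow_of_index_two P K hK R₁ hR₁K hR₁P hrel
  have e2 : R₁.subgroupOf K ≃* R₁ := Subgroup.subgroupOfEquivOfLe hR₁K
  have e3 : ↥(R : Subgroup ↥K) ≃* ↥(R₀ : Subgroup ↥K) := Sylow.equiv R R₀
  have e4 : ↥(R₀ : Subgroup ↥K) ≃* ↥(R₁.subgroupOf K) := MulEquiv.subgroupCongr hR₀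
  exact ⟨(e3.trans e4).trans e2⟩

/-- if the Sylow subgroup of `K` lies in `⁅K, K⁆` then `K` has no subgroup of index two -/
theorem no_index_two_of_le_commutator [Finite G] (P : Sylow 2 G) (K : Subgroup G)
    (hK : K.index = 2) (R₁ : Subgroup G) (hR₁K : R₁ ≤ K) (hR₁P : R₁ ≤ (P : Subgroup G))
    (hrel : R₁.relIndex (P : Subgroup G) = 2) (hcom : R₁ ≤ ⁅K, K⁆) (H : Subgroup ↥K) :
    H.index ≠ 2 := by
  obtain ⟨R₀, hR₀⟩ := exists_sylow_of_index_two P K hK R₁ hR₁K hR₁P hrel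
  apply no_index_two R₀
  intro r hr
  rw [hR₀] at hr
  have h1 : (r : G) ∈ ⁅K, K⁆ := hcom hr
  rw [← Subgroup.map_subtype_commutator, Subgroup.mem_map] at h1
  obtain ⟨c, hc, hcr⟩ := h1
  have : c = r := Subtype.ext hcr
  rw [← this]; exact hc

/-- in a subgroup of index two, the product of two elements outside lies inside -/
theorem mul_mem_of_index_two (K : Subgroup G) (hK : K.index = 2) (a b : G) (ha : a ∉ K)
    (hb : b ∉ K) : a * b ∈ K := by
  rw [Subgroup.index_eq_two_iff] at hK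
  obtain ⟨c, hc⟩ := hK
  have h1 : a * c ∈ K := by
    rcases hc a with ⟨h, -⟩ | ⟨h, -⟩
    · exact h
    · exact absurd h ha
  have h2 : b * c ∈ K := by
    rcases hc b with ⟨h, -⟩ | ⟨h, -⟩
    · exact h
    · exact absurd h hb
  have hn : K.Normal := by
    apply Subgroup.normal_of_index_eq_two
    rw [Subgroup.index_eq_two_iff]; exact ⟨c, hc⟩
  -- `c ∉ K`
  have hcK : c ∉ K := by
    intro hcK
    apply ha
    have : a = (a * c) * c⁻¹ := by group
    rw [this]; exact K.mul_mem h1 (K.inv_mem hcK)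
  have h3 : c * c ∈ K := by
    rcases hc c with ⟨h, -⟩ | ⟨h, -⟩
    · exact h
    · exact absurd h hcK
  -- `a b = (a c) (c⁻¹ c⁻¹) (c (b c) c⁻¹)`
  have h4 : c * (b * c) * c⁻¹ ∈ K := hn.conj_mem _ h2 c
  have : a * b = (a * c) * (c * c)⁻¹ * (c * (b * c) * c⁻¹) := by group
  rw [this]
  exact K.mul_mem (K.mul_mem h1 (K.inv_mem h3)) h4

end Cfsg.Agent.Helper6.Fus
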