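import Mathlib
import Cfsg.Agent.Lib.Helper6.QD
import Cfsg.Agent.Lib.Helper3.Dihedral

/-!
The dihedral maximal subgroup `⟨x², y⟩` of a quasi-dihedral group.
-/

set_option autoImplicit false

namespace Cfsg.Agent.Helper6.QD

open Cfsg.Agent.Helper3

variable {S : Type*} [Group S] (d : Data S)

instance : NeZero (2 ^ (d.n - 1)) := ⟨by positivity⟩

theorem xp_two_pow_eq_one : (xp d 2) ^ (2 ^ (d.n - 1)) = 1 := by
  rw [← orderOf_xp_two d]
  exact pow_orderOf_eq_one _

theorem y_xp_two_y : d.y * xp d 2 * d.y = (xp d 2)⁻¹ := by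
  rw [y_mul_xp, mul_assoc, y_mul_y, mul_one, xp_inv]
  congr 1
  unfold e
  linear_combination two_mul_half d

/-- the embedding of the dihedral group of order `2^n` -/
noncomputable def dihedralHom : DihedralGroup (2 ^ (d.n - 1)) →* S :=
  dihedralLift (xp d 2) d.y (xp_two_pow_eq_one d) (y_mul_y d) (y_xp_two_y d)

theorem zmodPow_xp_two (i : ZMod (2 ^ (d.n - 1))) :
    zmodPow (xp d 2) i = xp d (2 * (i.val : ZMod (2 ^ d.n))) := by
  unfold zmodPow
  rw [xp_pow, mul_comm]

theorem dihedralHom_injective : Function.Injective (dihedralHom d) := by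
  rw [injective_iff_map_eq_one]
  rintro (i | i) h
  · have h1 : (xp d 2) ^ i.val = 1 := h
    have h2 : i.val < orderOf (xp d 2) := by rw [orderOf_xp_two]; exact ZMod.val_lt i
    have h3 : i.val = 0 := by
      by_contra hne
      exact pow_ne_one_of_lt_orderOf hne h2 h1
    have h4 : i = 0 := (ZMod.val_eq_zero i).mp h3
    rw [h4]; rfl
  · exfalso
    have h1 : d.y * zmodPow (xp d 2) i = 1 := h
    rw [zmodPow_xp_two, y_mul_xp] at h1
    exact xpy_ne_one d _ h1

theorem mem_range_dihedralHom_iff (s : S) :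
    s ∈ (dihedralHom d).range ↔ ∃ j, s = xp d (2 * j) ∨ s = xp d (2 * j) * d.y := by
  constructor
  · rintro ⟨(i | i), rfl⟩
    · exact ⟨_, Or.inl (zmodPow_xp_two d i)⟩
    · refine ⟨e d * (i.val : ZMod (2 ^ d.n)), Or.inr ?_⟩
      show d.y * zmodPow (xp d 2) i = _
      rw [zmodPow_xp_two, y_mul_xp]
      congr 2
      ring
  · rintro ⟨j, rfl | rfl⟩
    · -- xp (2j) = (xp 2)^(j.val)
      refine ⟨DihedralGroup.r ((j.val : ℕ) : ZMod (2 ^ (d.n - 1))), ?_⟩
      show zmodPow (xp d 2) _ = _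
      unfold zmodPow
      rw [ZMod.val_natCast]
      have h1 := pow_mod_orderOf (xp d 2) j.val
      rw [orderOf_xp_two] at h1
      rw [h1, xp_pow, ZMod.natCast_zmod_val, mul_comm]
    · refine ⟨DihedralGroup.sr (((e d * j).val : ℕ) : ZMod (2 ^ (d.n - 1))), ?_⟩
      show d.y * zmodPow (xp d 2) _ = _
      unfold zmodPow
      rw [ZMod.val_natCast]
      have h1 := pow_mod_orderOf (xp d 2) (e d * j).val
      rw [orderOf_xp_two] at h1
      rw [h1, xp_pow, ZMod.natCast_zmod_val, y_mul_xp]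
      congr 2
      linear_combination (2 * j) * e_mul_e d

end Cfsg.Agent.Helper6.QD
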