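import Mathlib
import Cfsg.Agent.Lib.Helper3.Dihedral

/-!
The universal property of the generalized quaternion (dicyclic) group `QuaternionGroup n`.
-/

set_option autoImplicit false

namespace Cfsg.Agent.Helper6

open QuaternionGroup Cfsg.Agent.Helper3

variable {M : Type*} [Group M] {n : ℕ} [NeZero n]

theorem quat_conj_zmodPow {x s : M} (hsx : s * x * s⁻¹ = x⁻¹) (i : ZMod (2 * n)) :
    zmodPow x i * s = s * (zmodPow x i)⁻¹ := by
  unfold zmodPow
  have h1 : s * (x ^ i.val)⁻¹ * s⁻¹ = x ^ i.val := by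
    rw [← inv_pow, ← conj_pow]
    have h0 : s * x⁻¹ * s⁻¹ = x := by
      have : s * x⁻¹ * s⁻¹ = (s * x * s⁻¹)⁻¹ := by group
      rw [this, hsx, inv_inv]
    rw [h0]
  have h2 := mul_inv_eq_iff_eq_mul.mp h1
  exact h2.symm

theorem zmodPow_natCast_self (x : M) : zmodPow x ((n : ℕ) : ZMod (2 * n)) = x ^ n := by
  unfold zmodPow
  rw [ZMod.val_natCast]
  congr 1
  apply Nat.mod_eq_of_lt
  have : 0 < n := Nat.pos_of_ne_zero (NeZero.ne n)
  omega

/-- The universal property of the generalized quaternion group. -/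
def quaternionLift (x s : M) (hx : x ^ (2 * n) = 1) (hs : s * s = x ^ n)
    (hsx : s * x * s⁻¹ = x⁻¹) : QuaternionGroup n →* M where
  toFun
    | a i => zmodPow x i
    | xa i => s * zmodPow x i
  map_one' := by
    show zmodPow x (0 : ZMod (2 * n)) = 1
    exact zmodPow_zero x
  map_mul' := by
    rintro (i | i) (j | j)
    · show zmodPow x (i + j) = zmodPow x i * zmodPow x j
      exact zmodPow_add hx i j
    · show s * zmodPow x (j - i) = zmodPow x i * (s * zmodPow x j)
      rw [← mul_assoc, quat_conj_zmodPow hsx i, mul_assoc, zmodPow_sub hx]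
      congr 1
      have hc : Commute (zmodPow x j) (zmodPow x i)⁻¹ := by
        unfold zmodPow
        exact ((Commute.refl x).pow_pow _ _).inv_right
      exact hc.eq
    · show s * zmodPow x (i + j) = s * zmodPow x i * zmodPow x j
      rw [zmodPow_add hx, mul_assoc]
    · show zmodPow x ((n : ZMod (2 * n)) + j - i) = s * zmodPow x i * (s * zmodPow x j)
      rw [mul_assoc, ← mul_assoc (zmodPow x i), quat_conj_zmodPow hsx i, mul_assoc, ← mul_assoc,
        hs, zmodPow_sub hx, zmodPow_add hx, zmodPow_natCast_self, mul_assoc]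
      congr 1
      have hc : Commute (zmodPow x j) (zmodPow x i)⁻¹ := by
        unfold zmodPow
        exact ((Commute.refl x).pow_pow _ _).inv_right
      exact hc.eq

@[simp] theorem quaternionLift_a (x s : M) (hx : x ^ (2 * n) = 1) (hs : s * s = x ^ n)
    (hsx : s * x * s⁻¹ = x⁻¹) (i : ZMod (2 * n)) :
    quaternionLift x s hx hs hsx (a i) = zmodPow x i := rfl

@[simp] theorem quaternionLift_xa (x s : M) (hx : x ^ (2 * n) = 1) (hs : s * s = x ^ n)
    (hsx : s * x * s⁻¹ = x⁻¹) (i : ZMod (2 * n)) :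
    quaternionLift x s hx hs hsx (xa i) = s * zmodPow x i := rfl

end Cfsg.Agent.Helper6
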