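import Mathlib
import Cfsg.Agent.Lib.Helper6.QD
import Cfsg.Agent.Lib.Helper6.QDSub
import Cfsg.Agent.Lib.Helper6.QuaternionLift

/-!
The generalized quaternion maximal subgroup `⟨x², xy⟩` of a quasi-dihedral group.
-/

set_option autoImplicit false

namespace Cfsg.Agent.Helper6.QD

open Cfsg.Agent.Helper3 Cfsg.Agent.Helper6

variable {S : Type*} [Group S] (d : Data S)

instance : NeZero (2 ^ (d.n - 2)) := ⟨by positivity⟩

theorem two_mul_two_pow : 2 * 2 ^ (d.n - 2) = 2 ^ (d.n - 1) := by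
  have h := d.hn
  have : d.n - 1 = (d.n - 2) + 1 := by omega
  rw [this, pow_succ, mul_comm]

theorem xp_two_pow_eq_one' : (xp d 2) ^ (2 * 2 ^ (d.n - 2)) = 1 := by
  rw [two_mul_two_pow]
  exact xp_two_pow_eq_one d

theorem xy_mul_xy : xp d 1 * d.y * (xp d 1 * d.y) = (xp d 2) ^ (2 ^ (d.n - 2)) := by
  rw [xpy_sq, xp_pow, mul_one]
  congr 1
  rw [← two_mul_quarter]
  unfold quarter
  ring

theorem xy_conj : xp d 1 * d.y * xp d 2 * (xp d 1 * d.y)⁻¹ = (xp d 2)⁻¹ := by
  rw [conj_xpy_xp, xp_inv]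
  congr 1
  unfold e
  linear_combination two_mul_half d

/-- the embedding of the generalized quaternion group of order `2^n` -/
noncomputable def quatHom : QuaternionGroup (2 ^ (d.n - 2)) →* S :=
  quaternionLift (xp d 2) (xp d 1 * d.y) (xp_two_pow_eq_one' d) (xy_mul_xy d) (xy_conj d)

theorem zmodPow_xp_two' (i : ZMod (2 * 2 ^ (d.n - 2))) :
    zmodPow (xp d 2) i = xp d (2 * (i.val : ZMod (2 ^ d.n))) := by
  unfold zmodPow
  rw [xp_pow, mul_comm]

theorem quatHom_injective : Function.Injective (quatHom d) := by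
  rw [injective_iff_map_eq_one]
  rintro (i | i) h
  · have h1 : (xp d 2) ^ i.val = 1 := h
    have h2 : i.val < orderOf (xp d 2) := by
      rw [orderOf_xp_two, ← two_mul_two_pow]; exact ZMod.val_lt i
    have h3 : i.val = 0 := by
      by_contra hne
      exact pow_ne_one_of_lt_orderOf hne h2 h1
    have h4 : i = 0 := (ZMod.val_eq_zero i).mp h3
    rw [h4]; rfl
  · exfalso
    have h1 : xp d 1 * d.y * zmodPow (xp d 2) i = 1 := h
    rw [zmodPow_xp_two', xpy_mul_xp] at h1
    exact xpy_ne_one d _ h1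

theorem pow_val_cast (j : ZMod (2 ^ d.n)) :
    (xp d 2) ^ (((j.val : ℕ) : ZMod (2 * 2 ^ (d.n - 2))).val) = xp d (2 * j) := by
  rw [ZMod.val_natCast]
  have h1 := pow_mod_orderOf (xp d 2) j.val
  rw [orderOf_xp_two, ← two_mul_two_pow] at h1
  rw [h1, xp_pow, ZMod.natCast_zmod_val, mul_comm]

theorem mem_range_quatHom_iff (s : S) :
    s ∈ (quatHom d).range ↔ ∃ j, s = xp d (2 * j) ∨ s = xp d (2 * j + 1) * d.y := by
  constructor
  · rintro ⟨(i | i), rfl⟩
    · exact ⟨_, Or.inl (zmodPow_xp_two' d i)⟩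
    · refine ⟨-(i.val : ZMod (2 ^ d.n)), Or.inr ?_⟩
      show xp d 1 * d.y * zmodPow (xp d 2) i = _
      rw [zmodPow_xp_two', xpy_mul_xp]
      congr 2
      unfold e
      linear_combination ((i.val : ZMod (2 ^ d.n))) * two_mul_half d
  · rintro ⟨j, rfl | rfl⟩
    · refine ⟨QuaternionGroup.a ((j.val : ℕ) : ZMod (2 * 2 ^ (d.n - 2))), ?_⟩
      show zmodPow (xp d 2) _ = _
      unfold zmodPow
      exact pow_val_cast d j
    · refine ⟨QuaternionGroup.xa (((-j).val : ℕ) : ZMod (2 * 2 ^ (d.n - 2))), ?_⟩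
      show xp d 1 * d.y * zmodPow (xp d 2) _ = _
      unfold zmodPow
      rw [pow_val_cast, xpy_mul_xp]
      congr 2
      unfold e
      linear_combination (-j) * two_mul_half d

end Cfsg.Agent.Helper6.QD
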