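import Mathlib
import Cfsg.Agent.Lib.Helper6.QDConverse
import Cfsg.Agent.Lib.Helper6.QDQuat
import Cfsg.Agent.Lib.Helper6.QDSub
import Cfsg.Agent.Lib.Helper6.IndexTwo
import Cfsg.Prelude.Def_Transfer

/-!
The generalized quaternion and dihedral maximal subgroups of a quasi-dihedral Sylow subgroup,
as subgroups of the ambient group.
-/

set_option autoImplicit false

namespace Cfsg.Agent.Helper6.QD

open Subgroup

variable {G : Type*} [Group G] (P : Sylow 2 G) (d : Data ↥(P : Subgroup G))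

/-- the generalized quaternion maximal subgroup -/
noncomputable def quatG : Subgroup G := (quatHom d).range.map (P : Subgroup G).subtype

/-- the dihedral maximal subgroup -/
noncomputable def dihG : Subgroup G := (dihedralHom d).range.map (P : Subgroup G).subtype

theorem mem_quatG_iff (w : G) : w ∈ quatG P d ↔
    ∃ j, w = ((xp d (2 * j) : ↥(P : Subgroup G)) : G) ∨
      w = ((xp d (2 * j + 1) * d.y : ↥(P : Subgroup G)) : G) := by
  unfold quatG
  rw [Subgroup.mem_map]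
  constructor
  · rintro ⟨s, hs, rfl⟩
    obtain ⟨j, h | h⟩ := (mem_range_quatHom_iff d s).mp hs
    · exact ⟨j, Or.inl (by rw [h]; rfl)⟩
    · exact ⟨j, Or.inr (by rw [h]; rfl)⟩
  · rintro ⟨j, rfl | rfl⟩
    · exact ⟨_, (mem_range_quatHom_iff d _).mpr ⟨j, Or.inl rfl⟩, rfl⟩
    · exact ⟨_, (mem_range_quatHom_iff d _).mpr ⟨j, Or.inr rfl⟩, rfl⟩

theorem mem_dihG_iff (w : G) : w ∈ dihG P d ↔
    ∃ j, w = ((xp d (2 * j) : ↥(P : Subgroup G)) : G) ∨
      w = ((xp d (2 * j) * d.y : ↥(P : Subgroup G)) : G) := by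
  unfold dihG
  rw [Subgroup.mem_map]
  constructor
  · rintro ⟨s, hs, rfl⟩
    obtain ⟨j, h | h⟩ := (mem_range_dihedralHom_iff d s).mp hs
    · exact ⟨j, Or.inl (by rw [h]; rfl)⟩
    · exact ⟨j, Or.inr (by rw [h]; rfl)⟩
  · rintro ⟨j, rfl | rfl⟩
    · exact ⟨_, (mem_range_dihedralHom_iff d _).mpr ⟨j, Or.inl rfl⟩, rfl⟩
    · exact ⟨_, (mem_range_dihedralHom_iff d _).mpr ⟨j, Or.inr rfl⟩, rfl⟩

theorem quatG_le : quatG P d ≤ (P : Subgroup G) := Subgroup.map_subtype_le _

theorem dihG_le : dihG P d ≤ (P : Subgroup G) := Subgroup.map_subtype_le _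

theorem two_pow_n_eq : 4 * 2 ^ (d.n - 2) = 2 ^ d.n := by
  have h := d.hn
  have : d.n = (d.n - 2) + 2 := by omega
  conv_rhs => rw [this, pow_add]
  ring

theorem two_pow_n_eq' : 2 * 2 ^ (d.n - 1) = 2 ^ d.n := by
  have h := d.hn
  have : d.n = (d.n - 1) + 1 := by omega
  conv_rhs => rw [this, pow_succ]
  ring

theorem relIndex_of_card [Finite G] (R : Subgroup ↥(P : Subgroup G))
    (hR : Nat.card R = 2 ^ d.n) :
    (R.map (P : Subgroup G).subtype).relIndex (P : Subgroup G) = 2 := by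
  have h1 : (R.map (P : Subgroup G).subtype).subgroupOf (P : Subgroup G) = R :=
    Subgroup.comap_map_eq_self_of_injective (Subgroup.subtype_injective _) _
  show ((R.map (P : Subgroup G).subtype).subgroupOf (P : Subgroup G)).index = 2
  rw [h1]
  have h2 := Subgroup.card_mul_index R
  rw [hR, d.card, pow_succ] at h2
  exact Nat.eq_of_mul_eq_mul_left (by positivity) h2

theorem relIndex_quatG [Finite G] : (quatG P d).relIndex (P : Subgroup G) = 2 := by
  apply relIndex_of_card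
  have e := MonoidHom.ofInjective (quatHom_injective d)
  have : NeZero (2 ^ (d.n - 2)) := ⟨by positivity⟩
  rw [← Nat.card_congr e.toEquiv, Nat.card_eq_fintype_card, QuaternionGroup.card,
    two_pow_n_eq]

theorem relIndex_dihG [Finite G] : (dihG P d).relIndex (P : Subgroup G) = 2 := by
  apply relIndex_of_card
  have e := MonoidHom.ofInjective (dihedralHom_injective d)
  have : NeZero (2 ^ (d.n - 1)) := ⟨by positivity⟩
  rw [← Nat.card_congr e.toEquiv, DihedralGroup.nat_card, two_pow_n_eq']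

theorem quatG_equiv : Nonempty (↥(quatG P d) ≃* QuaternionGroup (2 ^ (d.n - 2))) := by
  have e1 := MonoidHom.ofInjective (quatHom_injective d)
  have e2 := (quatHom d).range.equivMapOfInjective (P : Subgroup G).subtype
    (Subgroup.subtype_injective _)
  exact ⟨(e1.trans e2).symm⟩

theorem dihG_equiv : Nonempty (↥(dihG P d) ≃* DihedralGroup (2 ^ (d.n - 1))) := by
  have e1 := MonoidHom.ofInjective (dihedralHom_injective d)
  have e2 := (dihedralHom d).range.equivMapOfInjective (P : Subgroup G).subtype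
    (Subgroup.subtype_injective _)
  exact ⟨(e1.trans e2).symm⟩

/-- even powers of `x` lie in every subgroup of index two -/
theorem coe_xp_even_mem (K : Subgroup G) (hK : K.index = 2) (j : ZMod (2 ^ d.n)) :
    ((xp d (2 * j) : ↥(P : Subgroup G)) : G) ∈ K :=
  Fus.commutator_le_of_index_two K hK
    (coe_mem_commutator _ _ (xp_two_mul_mem_commutator d j))

/-- even powers of `x` lie in `⁅K, K⁆` when `x² ∈ ⁅K, K⁆` -/
theorem coe_xp_even_mem_of (C : Subgroup G)
    (h2 : ((xp d 2 : ↥(P : Subgroup G)) : G) ∈ C) (j : ZMod (2 ^ d.n)) :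
    ((xp d (2 * j) : ↥(P : Subgroup G)) : G) ∈ C := by
  have h1 : xp d (2 * j) = (xp d 2) ^ j.val := by
    rw [xp_pow, ZMod.natCast_zmod_val, mul_comm]
  rw [h1, Subgroup.coe_pow]
  exact Subgroup.pow_mem _ h2 _

end Cfsg.Agent.Helper6.QD

namespace Cfsg.Agent.Helper6.QD

open Subgroup

variable {G : Type*} [Group G] (P : Sylow 2 G) (d : Data ↥(P : Subgroup G))

theorem inv2_zero : inv2 d 0 = d.y := by
  unfold inv2; rw [mul_zero, xp_zero, one_mul]

/-- every involution is conjugate to `z` or to `y` -/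
theorem invol_conj_cases [Finite G] (t : G) (ht : orderOf t = 2) :
    (∃ g : G, g * t * g⁻¹ = ((z d : ↥(P : Subgroup G)) : G)) ∨
      (∃ g : G, g * t * g⁻¹ = ((inv2 d 0 : ↥(P : Subgroup G)) : G)) := by
  have : Fact (Nat.Prime 2) := ⟨Nat.prime_two⟩
  obtain ⟨g₁, hg₁⟩ := Fus.exists_conj_mem_sylow P t 1 (by rw [ht, pow_one])
  have hs : orderOf (⟨g₁ * t * g₁⁻¹, hg₁⟩ : ↥(P : Subgroup G)) = 2 := by
    rw [Subgroup.orderOf_mk, Fus.orderOf_conj', ht]
  rcases invol_cases' d _ hs with h | ⟨j', h⟩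
  · left; exact ⟨g₁, congrArg Subtype.val h⟩
  · right
    obtain ⟨s₂, hs₂⟩ := exists_conj_inv2 d j' 0
    refine ⟨(s₂ : G) * g₁, ?_⟩
    have h3 : g₁ * t * g₁⁻¹ = ((inv2 d j' : ↥(P : Subgroup G)) : G) := congrArg Subtype.val h
    have h4 : (s₂ : G) * g₁ * t * ((s₂ : G) * g₁)⁻¹ =
        (s₂ : G) * (g₁ * t * g₁⁻¹) * (s₂ : G)⁻¹ := by group
    rw [h4, h3, coe_conj, hs₂]

/-- every element of order four is conjugate to `x^(2^(n-2))` or to `x y` -/
theorem order_four_conj_cases [Finite G] (t : G) (ht : orderOf t = 4) :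
    (∃ g : G, g * t * g⁻¹ = ((xp d (quarter d) : ↥(P : Subgroup G)) : G)) ∨
      (∃ g : G, g * t * g⁻¹ = ((xp d (2 * 0 + 1) * d.y : ↥(P : Subgroup G)) : G)) := by
  have : Fact (Nat.Prime 2) := ⟨Nat.prime_two⟩
  obtain ⟨g₁, hg₁⟩ := Fus.exists_conj_mem_sylow P t 2 (by rw [ht]; norm_num)
  have hs : orderOf (⟨g₁ * t * g₁⁻¹, hg₁⟩ : ↥(P : Subgroup G)) = 4 := by
    rw [Subgroup.orderOf_mk, Fus.orderOf_conj', ht]
  rcases orderOf_four_cases d _ hs with h | h | ⟨j', h⟩
  · left; exact ⟨g₁, congrArg Subtype.val h⟩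
  · left
    have h3 : g₁ * t * g₁⁻¹ = (d.y : G) * ((xp d (quarter d) : ↥(P : Subgroup G)) : G) *
        (d.y : G)⁻¹ := by
      have := congrArg Subtype.val h
      simpa using this
    refine ⟨(d.y : G)⁻¹ * g₁, ?_⟩
    calc (d.y : G)⁻¹ * g₁ * t * ((d.y : G)⁻¹ * g₁)⁻¹
        = (d.y : G)⁻¹ * (g₁ * t * g₁⁻¹) * (d.y : G) := by group
      _ = ((xp d (quarter d) : ↥(P : Subgroup G)) : G) := by rw [h3]; group
  · right
    obtain ⟨s₂, hs₂⟩ := exists_conj_odd' d j' 0
    refine ⟨(s₂ : G) * g₁, ?_⟩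
    have h3 : g₁ * t * g₁⁻¹ = ((xp d (2 * j' + 1) * d.y : ↥(P : Subgroup G)) : G) :=
      congrArg Subtype.val h
    have h4 : (s₂ : G) * g₁ * t * ((s₂ : G) * g₁)⁻¹ =
        (s₂ : G) * (g₁ * t * g₁⁻¹) * (s₂ : G)⁻¹ := by group
    rw [h4, h3, coe_conj, hs₂]

theorem orderOf_coe_xy : orderOf ((xp d (2 * 0 + 1) * d.y : ↥(P : Subgroup G)) : G) = 4 := by
  rw [Subgroup.orderOf_coe, orderOf_xpy_eq_four_iff]
  ring

theorem orderOf_coe_inv2 (j : ZMod (2 ^ d.n)) :
    orderOf ((inv2 d j : ↥(P : Subgroup G)) : G) = 2 := by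
  rw [Subgroup.orderOf_coe, orderOf_inv2]

/-- without fusion of `z`, the centre of the Sylow subgroup is weakly closed -/
theorem center_weaklyClosed
    (hz : ¬ ∃ g : G, ∃ j, g * ((z d : ↥(P : Subgroup G)) : G) * g⁻¹ =
      ((inv2 d j : ↥(P : Subgroup G)) : G)) :
    Cfsg.IsWeaklyClosed ((Subgroup.center ↥(P : Subgroup G)).map (P : Subgroup G).subtype)
      (P : Subgroup G) := by
  have hmemW : ∀ w : G, w ∈ (Subgroup.center ↥(P : Subgroup G)).map (P : Subgroup G).subtype ↔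
      w = 1 ∨ w = ((z d : ↥(P : Subgroup G)) : G) := by
    intro w
    rw [Subgroup.mem_map]
    constructor
    · rintro ⟨s, hs, rfl⟩
      rcases (mem_center_iff d s).mp hs with rfl | rfl
      · left; rfl
      · right; rfl
    · rintro (rfl | rfl)
      · exact ⟨1, Subgroup.one_mem _, rfl⟩
      · exact ⟨z d, (mem_center_iff d _).mpr (Or.inr rfl), rfl⟩
  refine ⟨Subgroup.map_subtype_le _, ?_⟩
  intro g hg
  have hzW : ((z d : ↥(P : Subgroup G)) : G) ∈
      (Subgroup.center ↥(P : Subgroup G)).map (P : Subgroup G).subtype :=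
    (hmemW _).mpr (Or.inr rfl)
  have h1 : g * ((z d : ↥(P : Subgroup G)) : G) * g⁻¹ ∈ (P : Subgroup G) := by
    apply hg
    rw [Subgroup.mem_map]
    exact ⟨_, hzW, by simp [MulAut.conj_apply]⟩
  have hs : orderOf (⟨_, h1⟩ : ↥(P : Subgroup G)) = 2 := by
    rw [Subgroup.orderOf_mk, Fus.orderOf_conj', orderOf_coe_z]
  have h2 : g * ((z d : ↥(P : Subgroup G)) : G) * g⁻¹ = ((z d : ↥(P : Subgroup G)) : G) := by
    rcases invol_cases' d _ hs with h | ⟨j, h⟩
    · exact congrArg Subtype.val h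
    · exact absurd ⟨g, j, congrArg Subtype.val h⟩ hz
  ext w
  rw [Subgroup.mem_map, hmemW]
  constructor
  · rintro ⟨t, ht, rfl⟩
    rcases (hmemW t).mp ht with rfl | rfl
    · left; simp
    · right
      simp only [MulEquiv.coe_toMonoidHom, MulAut.conj_apply]
      exact h2
  · rintro (rfl | rfl)
    · exact ⟨1, Subgroup.one_mem _, by simp⟩
    · refine ⟨_, hzW, ?_⟩
      simp only [MulEquiv.coe_toMonoidHom, MulAut.conj_apply]
      exact h2

end Cfsg.Agent.Helper6.QD
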