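import Mathlib

/-!
Arithmetic in `ZMod (2^n)`, `n ≥ 1`.
-/

set_option autoImplicit false

namespace Cfsg.Agent.Helper6.Z2

variable (n : ℕ)

instance : NeZero (2 ^ n) := ⟨by positivity⟩

/-- `2^(n-1)` in `ZMod (2^n)` -/
def half : ZMod (2 ^ n) := ((2 ^ (n - 1) : ℕ) : ZMod (2 ^ n))

theorem two_pow_split (hn : 1 ≤ n) : 2 ^ n = 2 * 2 ^ (n - 1) := by
  have : n = (n - 1) + 1 := by omega
  conv_lhs => rw [this, pow_succ]
  ring

theorem two_mul_half (hn : 1 ≤ n) : 2 * half n = 0 := by
  unfold half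
  have h : ((2 * 2 ^ (n - 1) : ℕ) : ZMod (2 ^ n)) = 0 := by
    rw [← two_pow_split n hn]
    exact ZMod.natCast_self (2 ^ n)
  push_cast at h ⊢
  exact h

theorem half_add_half (hn : 1 ≤ n) : half n + half n = 0 := by
  rw [← two_mul]; exact two_mul_half n hn

theorem neg_half (hn : 1 ≤ n) : -half n = half n := by
  have := half_add_half n hn
  linear_combination -this

theorem half_ne_zero (hn : 1 ≤ n) : half n ≠ 0 := by
  unfold half
  rw [Ne, ZMod.natCast_eq_zero_iff]
  intro h
  have h1 := Nat.le_of_dvd (by positivity) h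
  have h2 := two_pow_split n hn
  have h3 : 0 < 2 ^ (n - 1) := by positivity
  omega

theorem two_mul_eq_zero_iff (hn : 1 ≤ n) (i : ZMod (2 ^ n)) :
    2 * i = 0 ↔ i = 0 ∨ i = half n := by
  constructor
  · intro h
    have h1 : ((2 * i.val : ℕ) : ZMod (2 ^ n)) = 0 := by
      push_cast
      rw [ZMod.natCast_zmod_val]
      exact h
    rw [ZMod.natCast_eq_zero_iff] at h1
    have hN := two_pow_split n hn
    have h1' : 2 * 2 ^ (n - 1) ∣ 2 * i.val := by
      rw [← hN]; exact h1
    have h2 : 2 ^ (n - 1) ∣ i.val := Nat.dvd_of_mul_dvd_mul_left (by norm_num) h1'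
    obtain ⟨c, hc⟩ := h2
    have hlt : i.val < 2 ^ n := ZMod.val_lt i
    have hpos : 0 < 2 ^ (n - 1) := by positivity
    have hc2 : c < 2 := by
      by_contra hcon
      push Not at hcon
      have : 2 ^ (n - 1) * 2 ≤ 2 ^ (n - 1) * c := Nat.mul_le_mul_left _ hcon
      omega
    interval_cases c
    · left
      rw [mul_zero] at hc
      exact (ZMod.val_eq_zero i).mp hc
    · right
      rw [mul_one] at hc
      unfold half
      rw [← hc, ZMod.natCast_zmod_val]
  · rintro (rfl | rfl)
    · ring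
    · exact two_mul_half n hn

theorem one_ne_zero' (hn : 1 ≤ n) : (1 : ZMod (2 ^ n)) ≠ 0 := by
  have : Fact (1 < 2 ^ n) := ⟨Nat.one_lt_two_pow (by omega)⟩
  exact one_ne_zero

theorem two_ne_zero' (hn : 2 ≤ n) : (2 : ZMod (2 ^ n)) ≠ 0 := by
  intro h
  have h1 : ((2 : ℕ) : ZMod (2 ^ n)) = 0 := by exact_mod_cast h
  rw [ZMod.natCast_eq_zero_iff] at h1
  have h2 := Nat.le_of_dvd (by norm_num) h1
  have h3 : 2 ^ 2 ≤ 2 ^ n := Nat.pow_le_pow_right (by norm_num) hn
  omega

/-- parity -/
theorem parity (i : ZMod (2 ^ n)) : (∃ j, i = 2 * j) ∨ (∃ j, i = 2 * j + 1) := by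
  rcases Nat.even_or_odd' i.val with ⟨m, hm | hm⟩
  · left
    refine ⟨(m : ZMod (2 ^ n)), ?_⟩
    rw [← ZMod.natCast_zmod_val i, hm]
    push_cast
    ring
  · right
    refine ⟨(m : ZMod (2 ^ n)), ?_⟩
    rw [← ZMod.natCast_zmod_val i, hm]
    push_cast
    ring

theorem half_mul_even (hn : 1 ≤ n) (j : ZMod (2 ^ n)) : half n * (2 * j) = 0 := by
  linear_combination j * two_mul_half n hn

theorem half_mul_odd (hn : 1 ≤ n) (j : ZMod (2 ^ n)) : half n * (2 * j + 1) = half n := by
  linear_combination j * two_mul_half n hn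

theorem even_ne_odd (hn : 1 ≤ n) (j k : ZMod (2 ^ n)) : 2 * j ≠ 2 * k + 1 := by
  intro h
  apply half_ne_zero n hn
  have h1 : half n * (2 * j) = half n * (2 * k + 1) := by rw [h]
  rw [half_mul_even n hn, half_mul_odd n hn] at h1
  exact h1.symm

theorem card : Nat.card (ZMod (2 ^ n)) = 2 ^ n := Nat.card_zmod _

end Cfsg.Agent.Helper6.Z2

namespace Cfsg.Agent.Helper6.Z2

variable (n : ℕ)

/-- `2^(n-2)` in `ZMod (2^n)` -/
def quarter : ZMod (2 ^ n) := ((2 ^ (n - 2) : ℕ) : ZMod (2 ^ n))

theorem two_mul_quarter (hn : 2 ≤ n) : 2 * quarter n = half n := by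
  unfold quarter half
  have : n - 1 = (n - 2) + 1 := by omega
  rw [this, pow_succ]
  push_cast
  ring

theorem four_mul_quarter (hn : 2 ≤ n) : 4 * quarter n = 0 := by
  have : 4 * quarter n = 2 * (2 * quarter n) := by ring
  rw [this, two_mul_quarter n hn, two_mul_half n (by omega)]

theorem four_mul_half (hn : 1 ≤ n) : 4 * half n = 0 := by
  have : 4 * half n = 2 * (2 * half n) := by ring
  rw [this, two_mul_half n hn, mul_zero]

theorem four_mul_eq_zero_iff (hn : 2 ≤ n) (m : ZMod (2 ^ n)) :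
    4 * m = 0 ↔ m = 0 ∨ m = quarter n ∨ m = half n ∨ m = half n + quarter n := by
  have hn1 : 1 ≤ n := by omega
  constructor
  · intro h
    have h1 : 2 * (2 * m) = 0 := by linear_combination h
    rcases (two_mul_eq_zero_iff n hn1 _).mp h1 with h2 | h2
    · rcases (two_mul_eq_zero_iff n hn1 _).mp h2 with h3 | h3
      · left; exact h3
      · right; right; left; exact h3
    · have h3 : 2 * (m - quarter n) = 0 := by
        linear_combination h2 - two_mul_quarter n hn
      rcases (two_mul_eq_zero_iff n hn1 _).mp h3 with h4 | h4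
      · right; left; linear_combination h4
      · right; right; right; linear_combination h4
  · rintro (rfl | rfl | rfl | rfl)
    · ring
    · exact four_mul_quarter n hn
    · exact four_mul_half n hn1
    · rw [mul_add, four_mul_half n hn1, four_mul_quarter n hn, add_zero]

theorem ncard_four_torsion_le (hn : 2 ≤ n) : {k : ZMod (2 ^ n) | 4 * k = 0}.ncard ≤ 4 := by
  have h : {k : ZMod (2 ^ n) | 4 * k = 0} = {0, quarter n, half n, half n + quarter n} := by
    ext k
    simp only [Set.mem_ofPred_eq, Set.mem_insert_iff, Set.mem_singleton_iff]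
    exact four_mul_eq_zero_iff n hn k
  rw [h]
  refine le_trans (Set.ncard_insert_le _ _) ?_
  refine Nat.succ_le_succ (le_trans (Set.ncard_insert_le _ _) ?_)
  refine Nat.succ_le_succ (le_trans (Set.ncard_insert_le _ _) ?_)
  rw [Set.ncard_singleton]

theorem quarter_ne_zero (hn : 2 ≤ n) : quarter n ≠ 0 := by
  intro h
  have := two_mul_quarter n hn
  rw [h, mul_zero] at this
  exact half_ne_zero n (by omega) this.symm

theorem two_mul_eq_half_iff (hn : 2 ≤ n) (m : ZMod (2 ^ n)) :
    2 * m = half n ↔ m = quarter n ∨ m = half n + quarter n := by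
  have hn1 : 1 ≤ n := by omega
  constructor
  · intro h
    have h3 : 2 * (m - quarter n) = 0 := by linear_combination h - two_mul_quarter n hn
    rcases (two_mul_eq_zero_iff n hn1 _).mp h3 with h4 | h4
    · left; linear_combination h4
    · right; linear_combination h4
  · rintro (rfl | rfl)
    · exact two_mul_quarter n hn
    · rw [mul_add, two_mul_half n hn1, two_mul_quarter n hn, zero_add]

end Cfsg.Agent.Helper6.Z2
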