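import Mathlib
import Cfsg.Agent.Lib.Helper6.UniDefs
import Cfsg.Agent.Lib.Helper17.ChevSt2

/-!
S2314 farm-out, PIECE UNI-NDESC: the descent condition for `n_w⁻¹`.
-/

set_option autoImplicit false
set_option linter.unusedSectionVars false
set_option linter.unusedVariables false

namespace Cfsg.Agent.Helper6.Uni

open Cfsg Cfsg.Lie Cfsg.Agent.Lead.Chev Cfsg.Agent.Helper17.ChevSt
  Cfsg.Agent.Helper2.WordLen Cfsg.Agent.Helper2.BN Cfsg.Agent.Helper17.BNCox

variable {F : Type*} [Field F] {D : ChevalleyDatum} (hF : ChevFacts D F)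

include hF

/-- PIECE UNI-NDESC: the descent condition for `n_w⁻¹` (as in helper17's `n0_allDescL`). -/
theorem nWord_desc (J : Set ℕ) (w : List ℕ) (hw : ∀ i ∈ w, i ∈ J ∧ i < D.rank)
    (hneg : ∀ j ∈ J, j < D.rank → D.IsNegRoot (reflWord D w (D.simple j))) (j : ℕ) (hjJ : j ∈ J)
    (hj : j < D.rank) :
    ∃ b ∈ D.borelSubgroup F, ∃ b' ∈ D.borelSubgroup F, ∃ b'' ∈ D.borelSubgroup F,
      nGL D hF.xadd (D.simple j) * b * (nWordGL D hF.xadd w)⁻¹ =
        b' * (nWordGL D hF.xadd w)⁻¹ * b'' := by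
  have hX := hF.xadd
  have hpos : D.IsPosRoot (D.simple j) := hF.simple_pos j hj
  have hw' : ∀ i ∈ w, i < D.rank := fun i hi => (hw i hi).2
  have hconj := nWordGL_conj D hF.xadd (etaOf D) hF.nsimple w hw' (D.neg (D.simple j))
    (hF.neg_simple_lt j hj) (-1)
  have hrw : reflWord D w (D.neg (D.simple j)) = D.neg (reflWord D w (D.simple j)) :=
    reflWord_neg D (etaOf D) hF.facts w hw' _ (hF.simple_lt j hj)
  have hposw : D.IsPosRoot (reflWord D w (D.neg (D.simple j))) := by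
    rw [hrw]
    exact hF.sign.pos_of_neg _ (hneg j hjJ hj)
  refine ⟨xGL D hF.xadd (D.simple j) (-1),
    posUnipotent_le_borel D (xGL_mem_posUnipotent D hF.xadd _ hpos (-1)),
    xGL D hF.xadd (D.simple j) 1,
    posUnipotent_le_borel D (xGL_mem_posUnipotent D hF.xadd _ hpos 1),
    nWordGL D hF.xadd w * xGL D hF.xadd (D.neg (D.simple j)) (-1) * (nWordGL D hF.xadd w)⁻¹, ?_, ?_⟩
  · rw [hconj]
    exact posUnipotent_le_borel D (xGL_mem_posUnipotent D hF.xadd _ hposw _)
  · have e1 : nGL D hF.xadd (D.simple j) = xGL D hF.xadd (D.simple j) 1 *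
        xGL D hF.xadd (D.neg (D.simple j)) (-1) * xGL D hF.xadd (D.simple j) 1 := by
      rw [nGL_eq_nGLt, nGLt_eq, inv_one]
    have e2 : xGL D hF.xadd (D.simple j) 1 * xGL D hF.xadd (D.simple j) (-1) = 1 := by
      rw [xGL_mul, add_neg_cancel, xGL_zero]
    calc nGL D hF.xadd (D.simple j) * xGL D hF.xadd (D.simple j) (-1) * (nWordGL D hF.xadd w)⁻¹
        = xGL D hF.xadd (D.simple j) 1 * xGL D hF.xadd (D.neg (D.simple j)) (-1) *
            (xGL D hF.xadd (D.simple j) 1 * xGL D hF.xadd (D.simple j) (-1)) *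
              (nWordGL D hF.xadd w)⁻¹ := by rw [e1]; group
      _ = xGL D hF.xadd (D.simple j) 1 * xGL D hF.xadd (D.neg (D.simple j)) (-1) *
            (nWordGL D hF.xadd w)⁻¹ := by rw [e2, mul_one]
      _ = _ := by group

end Cfsg.Agent.Helper6.Uni
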