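import Mathlib
import Cfsg.Prelude.Def_CaseTheorems
import Cfsg.Agent.Lib.Helper3.Dihedral
import Cfsg.Agent.Lib.Helper6.ZModTwoPow

/-!
Normal form calculus in a wreathed 2-group `S = (⟨x⟩ × ⟨y⟩) ⋊ ⟨z⟩`, `|x| = |y| = 2^n`,
`z² = 1`, `z x z⁻¹ = y`: every element is `el i j` or `el i j * z` with `i j : ZMod (2^n)`,
where `el i j = x^i y^j`.
-/

set_option autoImplicit false

namespace Cfsg.Agent.Helper6.Wr

open Cfsg.Agent.Helper3 Cfsg.Agent.Helper6.Z2

/-- the data of a wreathed presentation -/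
structure Data (S : Type*) [Group S] where
  n : ℕ
  hn : 2 ≤ n
  card : Nat.card S = 2 ^ (2 * n + 1)
  x : S
  y : S
  z : S
  hx : orderOf x = 2 ^ n
  hxy : x * y = y * x
  hdisj : Subgroup.zpowers x ⊓ Subgroup.zpowers y = ⊥
  hz : orderOf z = 2
  hconj : z * x * z⁻¹ = y

variable {S : Type*} [Group S]

theorem exists_data (h : Cfsg.IsWreathed S) : Nonempty (Data S) := by
  obtain ⟨n, hn, hc, x, y, z, hx, hxy, hd, hz, hconj⟩ := h
  exact ⟨⟨n, hn, hc, x, y, z, hx, hxy, hd, hz, hconj⟩⟩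

variable (d : Data S)

theorem hn1 : 1 ≤ d.n := le_trans (by norm_num) d.hn

theorem z_mul_z : d.z * d.z = 1 := by
  have := pow_orderOf_eq_one d.z
  rwa [d.hz, pow_two] at this

theorem z_inv : d.z⁻¹ = d.z := inv_eq_of_mul_eq_one_left (z_mul_z d)

theorem z_ne_one : d.z ≠ 1 := by
  intro h
  have := d.hz
  rw [h, orderOf_one] at this
  omega

theorem hconj' : d.z * d.y * d.z⁻¹ = d.x := by
  rw [← d.hconj, z_inv]
  have h := z_mul_z d
  calc d.z * (d.z * d.x * d.z) * d.z = (d.z * d.z) * d.x * (d.z * d.z) := by group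
    _ = d.x := by rw [h, one_mul, mul_one]

theorem hy : orderOf d.y = 2 ^ d.n := by
  rw [← d.hconj, ← d.hx]
  have := (MulAut.conj d.z).orderOf_eq d.x
  rwa [MulAut.conj_apply] at this

theorem x_pow : d.x ^ (2 ^ d.n) = 1 := by
  rw [← d.hx]; exact pow_orderOf_eq_one _

theorem y_pow : d.y ^ (2 ^ d.n) = 1 := by
  rw [← hy d]; exact pow_orderOf_eq_one _

/-- powers of `x` -/
def xp (i : ZMod (2 ^ d.n)) : S := zmodPow d.x i

/-- powers of `y` -/
def yp (i : ZMod (2 ^ d.n)) : S := zmodPow d.y i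

theorem xp_add (i j : ZMod (2 ^ d.n)) : xp d (i + j) = xp d i * xp d j :=
  zmodPow_add (x_pow d) i j

theorem yp_add (i j : ZMod (2 ^ d.n)) : yp d (i + j) = yp d i * yp d j :=
  zmodPow_add (y_pow d) i j

theorem xp_zero : xp d 0 = 1 := zmodPow_zero _

theorem yp_zero : yp d 0 = 1 := zmodPow_zero _

theorem xp_neg (i : ZMod (2 ^ d.n)) : xp d (-i) = (xp d i)⁻¹ := zmodPow_neg (x_pow d) i

theorem yp_neg (i : ZMod (2 ^ d.n)) : yp d (-i) = (yp d i)⁻¹ := zmodPow_neg (y_pow d) i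

theorem xp_one : xp d 1 = d.x := by
  unfold xp zmodPow
  have : Fact (1 < 2 ^ d.n) := ⟨Nat.one_lt_two_pow (by have := d.hn; omega)⟩
  rw [ZMod.val_one, pow_one]

theorem yp_one : yp d 1 = d.y := by
  unfold yp zmodPow
  have : Fact (1 < 2 ^ d.n) := ⟨Nat.one_lt_two_pow (by have := d.hn; omega)⟩
  rw [ZMod.val_one, pow_one]

theorem xp_eq_one_iff (i : ZMod (2 ^ d.n)) : xp d i = 1 ↔ i = 0 := by
  constructor
  · intro h
    have h1 : d.x ^ i.val = 1 := h
    have h2 : i.val < orderOf d.x := by rw [d.hx]; exact ZMod.val_lt i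
    have h3 : i.val = 0 := by
      by_contra hne
      exact pow_ne_one_of_lt_orderOf hne h2 h1
    exact (ZMod.val_eq_zero i).mp h3
  · rintro rfl; exact xp_zero d

theorem yp_eq_one_iff (i : ZMod (2 ^ d.n)) : yp d i = 1 ↔ i = 0 := by
  constructor
  · intro h
    have h1 : d.y ^ i.val = 1 := h
    have h2 : i.val < orderOf d.y := by rw [hy d]; exact ZMod.val_lt i
    have h3 : i.val = 0 := by
      by_contra hne
      exact pow_ne_one_of_lt_orderOf hne h2 h1
    exact (ZMod.val_eq_zero i).mp h3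
  · rintro rfl; exact yp_zero d

theorem xp_yp_comm (i j : ZMod (2 ^ d.n)) : xp d i * yp d j = yp d j * xp d i := by
  unfold xp yp zmodPow
  have hc : Commute d.x d.y := d.hxy
  exact (hc.pow_pow _ _).eq

theorem z_xp (i : ZMod (2 ^ d.n)) : d.z * xp d i = yp d i * d.z := by
  unfold xp yp zmodPow
  have h1 : d.z * d.x ^ i.val * d.z⁻¹ = d.y ^ i.val := by
    rw [← conj_pow, d.hconj]
  rw [← h1]; group

theorem z_yp (i : ZMod (2 ^ d.n)) : d.z * yp d i = xp d i * d.z := by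
  unfold xp yp zmodPow
  have h1 : d.z * d.y ^ i.val * d.z⁻¹ = d.x ^ i.val := by
    rw [← conj_pow, hconj' d]
  rw [← h1]; group

/-- the element `x^i y^j` -/
def el (i j : ZMod (2 ^ d.n)) : S := xp d i * yp d j

theorem el_zero : el d 0 0 = 1 := by
  unfold el; rw [xp_zero, yp_zero, one_mul]

theorem el_mul_el (i j k l : ZMod (2 ^ d.n)) : el d i j * el d k l = el d (i + k) (j + l) := by
  unfold el
  rw [xp_add, yp_add]
  calc xp d i * yp d j * (xp d k * yp d l) = xp d i * (yp d j * xp d k) * yp d l := by group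
    _ = xp d i * (xp d k * yp d j) * yp d l := by rw [xp_yp_comm]
    _ = xp d i * xp d k * (yp d j * yp d l) := by group

theorem el_inv (i j : ZMod (2 ^ d.n)) : (el d i j)⁻¹ = el d (-i) (-j) := by
  apply inv_eq_of_mul_eq_one_right
  rw [el_mul_el, add_neg_cancel, add_neg_cancel, el_zero]

theorem z_el (i j : ZMod (2 ^ d.n)) : d.z * el d i j = el d j i * d.z := by
  unfold el
  rw [← mul_assoc, z_xp, mul_assoc, z_yp, ← mul_assoc, ← xp_yp_comm]

theorem el_x : el d 1 0 = d.x := by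
  unfold el; rw [xp_one, yp_zero, mul_one]

theorem el_y : el d 0 1 = d.y := by
  unfold el; rw [xp_zero, yp_one, one_mul]

theorem el_eq_one_iff (i j : ZMod (2 ^ d.n)) : el d i j = 1 ↔ i = 0 ∧ j = 0 := by
  constructor
  · intro h
    have h1 : xp d i = (yp d j)⁻¹ := eq_inv_of_mul_eq_one_left h
    have h2 : xp d i ∈ Subgroup.zpowers d.x ⊓ Subgroup.zpowers d.y := by
      refine Subgroup.mem_inf.mpr ⟨?_, ?_⟩
      · exact Subgroup.pow_mem _ (Subgroup.mem_zpowers _) _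
      · rw [h1]
        exact Subgroup.inv_mem _ (Subgroup.pow_mem _ (Subgroup.mem_zpowers _) _)
    rw [d.hdisj, Subgroup.mem_bot] at h2
    have h3 : yp d j = 1 := by
      rw [h2] at h1
      exact inv_eq_one.mp h1.symm
    exact ⟨(xp_eq_one_iff d i).mp h2, (yp_eq_one_iff d j).mp h3⟩
  · rintro ⟨rfl, rfl⟩; exact el_zero d

theorem el_injective (i j k l : ZMod (2 ^ d.n)) (h : el d i j = el d k l) : i = k ∧ j = l := by
  have h1 : el d (i - k) (j - l) = 1 := by
    have : el d (i - k) (j - l) = el d i j * (el d k l)⁻¹ := by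
      rw [el_inv, el_mul_el]; congr 1 <;> ring
    rw [this, h, mul_inv_cancel]
  obtain ⟨h2, h3⟩ := (el_eq_one_iff d _ _).mp h1
  exact ⟨sub_eq_zero.mp h2, sub_eq_zero.mp h3⟩

/-! ### products with `z` -/

theorem elz_mul_el (i j k l : ZMod (2 ^ d.n)) :
    el d i j * d.z * el d k l = el d (i + l) (j + k) * d.z := by
  rw [mul_assoc, z_el, ← mul_assoc, el_mul_el]

theorem elz_mul_elz (i j k l : ZMod (2 ^ d.n)) :
    el d i j * d.z * (el d k l * d.z) = el d (i + l) (j + k) := by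
  rw [← mul_assoc, elz_mul_el, mul_assoc, z_mul_z, mul_one]

theorem el_mul_elz (i j k l : ZMod (2 ^ d.n)) :
    el d i j * (el d k l * d.z) = el d (i + k) (j + l) * d.z := by
  rw [← mul_assoc, el_mul_el]

theorem elz_inv (i j : ZMod (2 ^ d.n)) : (el d i j * d.z)⁻¹ = el d (-j) (-i) * d.z := by
  apply inv_eq_of_mul_eq_one_right
  rw [elz_mul_elz, add_neg_cancel, add_neg_cancel, el_zero]

/-! ### the abelian subgroup `A = ⟨x⟩ × ⟨y⟩` -/

/-- the abelian subgroup `⟨x, y⟩` -/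
def A : Subgroup S where
  carrier := {s | ∃ i j, s = el d i j}
  mul_mem' := by
    rintro _ _ ⟨i, j, rfl⟩ ⟨k, l, rfl⟩
    exact ⟨_, _, el_mul_el d i j k l⟩
  one_mem' := ⟨0, 0, (el_zero d).symm⟩
  inv_mem' := by
    rintro _ ⟨i, j, rfl⟩
    exact ⟨_, _, el_inv d i j⟩

theorem mem_A_iff (s : S) : s ∈ A d ↔ ∃ i j, s = el d i j := Iff.rfl

theorem el_mem_A (i j : ZMod (2 ^ d.n)) : el d i j ∈ A d := ⟨i, j, rfl⟩

theorem card_A : Nat.card (A d) = 2 ^ (2 * d.n) := by
  have e : ZMod (2 ^ d.n) × ZMod (2 ^ d.n) ≃ A d :=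
    Equiv.ofBijective (fun p => ⟨el d p.1 p.2, el_mem_A d _ _⟩) ⟨by
      rintro ⟨i, j⟩ ⟨k, l⟩ h
      have h1 : el d i j = el d k l := congrArg Subtype.val h
      obtain ⟨h2, h3⟩ := el_injective d _ _ _ _ h1
      rw [h2, h3], by
      rintro ⟨s, i, j, rfl⟩
      exact ⟨(i, j), rfl⟩⟩
  rw [← Nat.card_congr e, Nat.card_prod, Nat.card_zmod, two_mul, pow_add]

theorem index_A [Finite S] : (A d).index = 2 := by
  have h1 := Subgroup.card_mul_index (A d)
  rw [card_A, d.card, pow_succ] at h1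
  have : 0 < 2 ^ (2 * d.n) := by positivity
  exact Nat.eq_of_mul_eq_mul_left this h1

theorem x_ne_y : d.x ≠ d.y := by
  intro h
  have h1 : el d 1 0 = el d 0 1 := by rw [el_x, el_y, h]
  have := (el_injective d _ _ _ _ h1).1
  exact one_ne_zero' d.n (hn1 d) this

theorem z_not_mem_A : d.z ∉ A d := by
  rintro ⟨i, j, h⟩
  apply x_ne_y d
  have h1 : d.z * d.x = d.x * d.z := by
    rw [h, ← el_x d, el_mul_el, el_mul_el, add_comm i 1, add_comm j 0]
  rw [← d.hconj, h1, mul_assoc, mul_inv_cancel, mul_one]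

/-- the normal form -/
theorem cases [Finite S] (s : S) : (∃ i j, s = el d i j) ∨ (∃ i j, s = el d i j * d.z) := by
  by_cases hs : s ∈ A d
  · exact Or.inl hs
  · right
    have h1 : s * d.z ∈ A d := by
      rw [Subgroup.mul_mem_iff_of_index_two (index_A d)]
      exact ⟨fun h => absurd h hs, fun h => absurd h (z_not_mem_A d)⟩
    obtain ⟨i, j, hij⟩ := h1
    refine ⟨i, j, ?_⟩
    rw [← hij, mul_assoc, z_mul_z, mul_one]

theorem el_ne_elz (i j k l : ZMod (2 ^ d.n)) : el d i j ≠ el d k l * d.z := by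
  intro h
  apply z_not_mem_A d
  have : d.z = (el d k l)⁻¹ * el d i j := by rw [h]; group
  rw [this]
  exact (A d).mul_mem ((A d).inv_mem (el_mem_A d _ _)) (el_mem_A d _ _)

theorem elz_injective (i j k l : ZMod (2 ^ d.n)) (h : el d i j * d.z = el d k l * d.z) :
    i = k ∧ j = l :=
  el_injective d _ _ _ _ (mul_right_cancel h)

theorem elz_ne_one (i j : ZMod (2 ^ d.n)) : el d i j * d.z ≠ 1 := by
  intro h
  rw [← el_zero d] at h
  exact el_ne_elz d _ _ _ _ h.symm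

/-! ### conjugation -/

theorem conj_el_el (k l i j : ZMod (2 ^ d.n)) : el d k l * el d i j * (el d k l)⁻¹ = el d i j := by
  rw [el_inv, el_mul_el, el_mul_el]
  congr 1 <;> ring

theorem conj_el_elz (k l i j : ZMod (2 ^ d.n)) :
    el d k l * (el d i j * d.z) * (el d k l)⁻¹ = el d (i + k - l) (j + l - k) * d.z := by
  rw [el_inv, el_mul_elz, elz_mul_el]
  congr 2 <;> ring

theorem conj_elz_el (k l i j : ZMod (2 ^ d.n)) :
    el d k l * d.z * el d i j * (el d k l * d.z)⁻¹ = el d j i := by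
  rw [elz_inv, elz_mul_el, elz_mul_elz]
  congr 1 <;> ring

theorem conj_elz_elz (k l i j : ZMod (2 ^ d.n)) :
    el d k l * d.z * (el d i j * d.z) * (el d k l * d.z)⁻¹ = el d (j + k - l) (i + l - k) * d.z := by
  rw [elz_inv, elz_mul_elz, el_mul_elz]
  congr 2 <;> ring

theorem conj_z_el (i j : ZMod (2 ^ d.n)) : d.z * el d i j * d.z⁻¹ = el d j i := by
  rw [z_el, mul_assoc, mul_inv_cancel, mul_one]

/-! ### squares and orders -/

theorem el_sq (i j : ZMod (2 ^ d.n)) : el d i j * el d i j = el d (2 * i) (2 * j) := by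
  rw [el_mul_el]; congr 1 <;> ring

theorem elz_sq (i j : ZMod (2 ^ d.n)) : el d i j * d.z * (el d i j * d.z) = el d (i + j) (i + j) := by
  rw [elz_mul_elz]; congr 1; ring

theorem orderOf_two_iff (t : S) : orderOf t = 2 ↔ t ≠ 1 ∧ t * t = 1 := by
  constructor
  · intro h
    refine ⟨?_, ?_⟩
    · rintro rfl
      rw [orderOf_one] at h
      omega
    · have := pow_orderOf_eq_one t
      rwa [h, pow_two] at this
  · rintro ⟨h1, h2⟩
    exact orderOf_eq_prime (by rw [pow_two]; exact h2) h1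

theorem orderOf_el_eq_two_iff (i j : ZMod (2 ^ d.n)) :
    orderOf (el d i j) = 2 ↔ (i = half d.n ∧ j = 0) ∨ (i = 0 ∧ j = half d.n) ∨
      (i = half d.n ∧ j = half d.n) := by
  rw [orderOf_two_iff, el_sq, Ne, el_eq_one_iff, el_eq_one_iff,
    two_mul_eq_zero_iff d.n (hn1 d), two_mul_eq_zero_iff d.n (hn1 d)]
  have h0 := half_ne_zero d.n (hn1 d)
  constructor
  · rintro ⟨h1, (rfl | rfl), (rfl | rfl)⟩
    · exact absurd ⟨rfl, rfl⟩ h1
    · right; left; exact ⟨rfl, rfl⟩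
    · left; exact ⟨rfl, rfl⟩
    · right; right; exact ⟨rfl, rfl⟩
  · rintro (⟨rfl, rfl⟩ | ⟨rfl, rfl⟩ | ⟨rfl, rfl⟩)
    · exact ⟨fun h => h0 h.1, Or.inr rfl, Or.inl rfl⟩
    · exact ⟨fun h => h0 h.2, Or.inl rfl, Or.inr rfl⟩
    · exact ⟨fun h => h0 h.1, Or.inr rfl, Or.inr rfl⟩

theorem orderOf_elz_eq_two_iff (i j : ZMod (2 ^ d.n)) :
    orderOf (el d i j * d.z) = 2 ↔ i + j = 0 := by
  rw [orderOf_two_iff, elz_sq, el_eq_one_iff]
  constructor
  · rintro ⟨-, h, -⟩; exact h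
  · intro h; exact ⟨elz_ne_one d i j, h, h⟩

end Cfsg.Agent.Helper6.Wr
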