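import Mathlib

/-!
Abstract properties of the generalized quaternion groups `QuaternionGroup m`, `m ≥ 2`,
and their transfer to subgroups isomorphic to them.
-/

set_option autoImplicit false

namespace Cfsg.Agent.Helper6.Quat

open QuaternionGroup

theorem zmod_add_self_eq_zero {n : ℕ} [NeZero n] (i : ZMod (2 * n)) (h : i + i = 0) :
    i = 0 ∨ i = (n : ZMod (2 * n)) := by
  have hn : n ≠ 0 := NeZero.ne n
  have : NeZero (2 * n) := ⟨by omega⟩
  have hv := ZMod.natCast_zmod_val i
  have h1 : ((2 * i.val : ℕ) : ZMod (2 * n)) = 0 := by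
    calc ((2 * i.val : ℕ) : ZMod (2 * n)) = ((i.val + i.val : ℕ) : ZMod (2 * n)) :=
          congrArg Nat.cast (two_mul i.val)
      _ = (i.val : ZMod (2 * n)) + (i.val : ZMod (2 * n)) := Nat.cast_add _ _
      _ = i + i := by rw [hv]
      _ = 0 := h
  rw [ZMod.natCast_eq_zero_iff] at h1
  have hlt : i.val < 2 * n := ZMod.val_lt i
  obtain ⟨c, hc⟩ := h1
  have hc' : i.val = n * c := by
    have : 2 * i.val = 2 * (n * c) := by rw [hc]; ring
    omega
  have hclt : c < 2 := by
    by_contra hge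
    have hge : 2 ≤ c := Nat.le_of_not_lt hge
    have : n * 2 ≤ n * c := Nat.mul_le_mul_left n hge
    omega
  interval_cases c
  · left
    rw [← ZMod.natCast_zmod_val i, hc']
    simp
  · right
    rw [← ZMod.natCast_zmod_val i, hc']
    simp

theorem two_ne_zero_zmod {m : ℕ} (hm : 2 ≤ m) : (2 : ZMod (2 * m)) ≠ 0 := by
  intro h
  have h1 : ((2 : ℕ) : ZMod (2 * m)) = 0 := by exact_mod_cast h
  rw [ZMod.natCast_eq_zero_iff] at h1
  have := Nat.le_of_dvd (by norm_num) h1
  omega

theorem sq_eq_one {m : ℕ} [NeZero m] (q : QuaternionGroup m) (hq : q * q = 1) :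
    q = 1 ∨ q = a (m : ZMod (2 * m)) := by
  have hm : m ≠ 0 := NeZero.ne m
  cases q with
  | a i =>
    rw [a_mul_a, one_def, a.injEq] at hq
    rcases zmod_add_self_eq_zero i hq with h | h
    · left; rw [h, one_def]
    · right; rw [h]
  | xa i =>
    exfalso
    rw [xa_mul_xa, one_def, a.injEq] at hq
    have h1 : ((m : ℕ) : ZMod (2 * m)) = 0 := by linear_combination hq
    rw [ZMod.natCast_eq_zero_iff] at h1
    have := Nat.le_of_dvd (Nat.pos_of_ne_zero hm) h1
    omega

theorem central {m : ℕ} [NeZero m] (hm : 2 ≤ m) (q : QuaternionGroup m)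
    (hq : ∀ t : QuaternionGroup m, t * q = q * t) : q = 1 ∨ q = a (m : ZMod (2 * m)) := by
  cases q with
  | a i =>
    have h := hq (xa 0)
    rw [xa_mul_a, a_mul_xa, xa.injEq] at h
    have h1 : i + i = 0 := by linear_combination h
    rcases zmod_add_self_eq_zero i h1 with h | h
    · left; rw [h, one_def]
    · right; rw [h]
  | xa i =>
    exfalso
    have h := hq (a 1)
    rw [a_mul_xa, xa_mul_a, xa.injEq] at h
    apply two_ne_zero_zmod hm
    linear_combination -h

theorem nonab {m : ℕ} (hm : 2 ≤ m) :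
    (a 1 : QuaternionGroup m) * xa 0 ≠ xa 0 * a 1 := by
  intro h
  rw [a_mul_xa, xa_mul_a, xa.injEq] at h
  apply two_ne_zero_zmod hm
  linear_combination -h

theorem xa_zero_sq {m : ℕ} : (xa 0 : QuaternionGroup m) * xa 0 = a (m : ZMod (2 * m)) := by
  rw [xa_mul_xa]; congr 1; ring

theorem a_self_ne_one {m : ℕ} [NeZero m] : (a (m : ZMod (2 * m)) : QuaternionGroup m) ≠ 1 := by
  have hm : m ≠ 0 := NeZero.ne m
  rw [one_def, Ne, a.injEq, ZMod.natCast_eq_zero_iff]
  intro h
  have := Nat.le_of_dvd (Nat.pos_of_ne_zero hm) h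
  omega

theorem a_self_sq {m : ℕ} : (a (m : ZMod (2 * m)) : QuaternionGroup m) * a m = 1 := by
  rw [a_mul_a, one_def]
  congr 1
  have h : ((2 * m : ℕ) : ZMod (2 * m)) = 0 := ZMod.natCast_self _
  push_cast at h
  linear_combination h

/-- abstract properties of a subgroup isomorphic to a generalized quaternion group -/
structure QuatLike {S : Type*} [Group S] (Y : Subgroup S) (c : S) : Prop where
  mem : c ∈ Y
  ne_one : c ≠ 1
  sq_one : c * c = 1
  is_sq : ∃ w ∈ Y, w * w = c
  invol : ∀ q ∈ Y, q * q = 1 → q = 1 ∨ q = c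
  central : ∀ q ∈ Y, (∀ t ∈ Y, t * q = q * t) → q = 1 ∨ q = c
  nonab : ∃ q ∈ Y, ∃ t ∈ Y, q * t ≠ t * q

theorem quatLike_of_equiv {S : Type*} [Group S] {m : ℕ} [NeZero m] (hm : 2 ≤ m) (Y : Subgroup S)
    (φ : Y ≃* QuaternionGroup m) : ∃ c, QuatLike Y c := by
  have hsymm : ∀ (q : Y) (w : QuaternionGroup m), φ q = w → q = φ.symm w := by
    intro q w h
    rw [← h, MulEquiv.symm_apply_apply]
  refine ⟨((φ.symm (a m) : Y) : S), (φ.symm (a m)).2, ?_, ?_, ?_, ?_, ?_, ?_⟩
  · intro h
    have h1 : φ.symm (a m) = 1 := Subtype.ext h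
    have h2 : φ (φ.symm (a m)) = 1 := by rw [h1, map_one]
    rw [MulEquiv.apply_symm_apply] at h2
    exact a_self_ne_one h2
  · have h1 : φ.symm (a m) * φ.symm (a m) = 1 := by
      rw [← map_mul, a_self_sq, map_one]
    exact congrArg Subtype.val h1
  · refine ⟨((φ.symm (xa 0) : Y) : S), (φ.symm (xa 0)).2, ?_⟩
    have h1 : φ.symm (xa 0) * φ.symm (xa 0) = φ.symm (a m) := by
      rw [← map_mul, xa_zero_sq]
    exact congrArg Subtype.val h1
  · intro q hq hqq
    have h1 : φ ⟨q, hq⟩ * φ ⟨q, hq⟩ = 1 := by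
      rw [← map_mul]
      have : (⟨q, hq⟩ * ⟨q, hq⟩ : Y) = 1 := Subtype.ext hqq
      rw [this, map_one]
    rcases sq_eq_one _ h1 with h | h
    · left
      have h2 := hsymm _ _ h
      rw [map_one] at h2
      exact congrArg Subtype.val h2
    · right
      exact congrArg Subtype.val (hsymm _ _ h)
  · intro q hq hcen
    have h1 : ∀ t : QuaternionGroup m, t * φ ⟨q, hq⟩ = φ ⟨q, hq⟩ * t := by
      intro t
      have h2 := hcen (φ.symm t : Y) (φ.symm t).2
      have h3 : φ.symm t * ⟨q, hq⟩ = ⟨q, hq⟩ * φ.symm t := Subtype.ext h2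
      have h4 := congrArg φ h3
      rwa [map_mul, map_mul, MulEquiv.apply_symm_apply] at h4
    rcases central hm _ h1 with h | h
    · left
      have h2 := hsymm _ _ h
      rw [map_one] at h2
      exact congrArg Subtype.val h2
    · right
      exact congrArg Subtype.val (hsymm _ _ h)
  · refine ⟨((φ.symm (a 1) : Y) : S), (φ.symm (a 1)).2, ((φ.symm (xa 0) : Y) : S),
      (φ.symm (xa 0)).2, ?_⟩
    intro h
    have h1 : φ.symm (a 1) * φ.symm (xa 0) = φ.symm (xa 0) * φ.symm (a 1) := Subtype.ext h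
    rw [← map_mul, ← map_mul] at h1
    exact nonab hm (φ.symm.injective h1)

end Cfsg.Agent.Helper6.Quat
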