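import Mathlib
import Cfsg.Agent.Lib.Helper6.Wreathed

/-!
Coordinates on a wreathed 2-group: the bijection `(i, j, ε) ↦ x^i y^j z^ε`.
-/

set_option autoImplicit false

namespace Cfsg.Agent.Helper6.Wr

open Cfsg.Agent.Helper6.Z2

variable {S : Type*} [Group S] (d : Data S)

/-- the element with coordinates `(i, j, ε)` -/
def toS (p : ZMod (2 ^ d.n) × ZMod (2 ^ d.n) × Bool) : S :=
  el d p.1 p.2.1 * (if p.2.2 then d.z else 1)

theorem toS_true (i j : ZMod (2 ^ d.n)) : toS d (i, j, true) = el d i j * d.z := by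
  simp [toS]

theorem toS_false (i j : ZMod (2 ^ d.n)) : toS d (i, j, false) = el d i j := by
  simp [toS]

theorem toS_bijective [Finite S] : Function.Bijective (toS d) := by
  constructor
  · rintro ⟨i, j, ε⟩ ⟨k, l, ε'⟩ h
    cases ε <;> cases ε'
    · rw [toS_false, toS_false] at h
      obtain ⟨h1, h2⟩ := el_injective d _ _ _ _ h
      rw [h1, h2]
    · rw [toS_false, toS_true] at h
      exact absurd h (el_ne_elz d _ _ _ _)
    · rw [toS_true, toS_false] at h
      exact absurd h.symm (el_ne_elz d _ _ _ _)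
    · rw [toS_true, toS_true] at h
      obtain ⟨h1, h2⟩ := elz_injective d _ _ _ _ h
      rw [h1, h2]
  · intro s
    rcases cases d s with ⟨i, j, rfl⟩ | ⟨i, j, rfl⟩
    · exact ⟨(i, j, false), toS_false d i j⟩
    · exact ⟨(i, j, true), toS_true d i j⟩

/-- the cardinality of a subset described in coordinates -/
theorem card_eq_card_coords [Finite S] (W : Set S)
    (P : ZMod (2 ^ d.n) × ZMod (2 ^ d.n) × Bool → Prop) (h : ∀ p, toS d p ∈ W ↔ P p) :
    Nat.card W = Nat.card {p // P p} := by
  let e := Equiv.ofBijective (toS d) (toS_bijective d)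
  apply Nat.card_congr
  exact (Equiv.subtypeEquiv e (fun p => (h p).symm)).symm

theorem card_two_torsion : Nat.card {c : ZMod (2 ^ d.n) // 2 * c = 0} = 2 := by
  have hset : {c : ZMod (2 ^ d.n) | 2 * c = 0} = {0, half d.n} := by
    ext c
    simp only [Set.mem_ofPred_eq, Set.mem_insert_iff, Set.mem_singleton_iff]
    exact two_mul_eq_zero_iff d.n (hn1 d) c
  show Nat.card ↥{c : ZMod (2 ^ d.n) | 2 * c = 0} = 2
  rw [hset, Nat.card_coe_set_eq, Set.ncard_pair (half_ne_zero d.n (hn1 d)).symm]

end Cfsg.Agent.Helper6.Wr
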