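import Mathlib
import Cfsg.Agent.Lib.Helper6.Wreathed

/-!
Centre and derived subgroup of a wreathed 2-group.
-/

set_option autoImplicit false

namespace Cfsg.Agent.Helper6.Wr

open Cfsg.Agent.Helper3 Cfsg.Agent.Helper6.Z2
open scoped commutatorElement

variable {S : Type*} [Group S] (d : Data S)

theorem el_pow (i j : ZMod (2 ^ d.n)) (k : ℕ) :
    (el d i j) ^ k = el d ((k : ZMod (2 ^ d.n)) * i) ((k : ZMod (2 ^ d.n)) * j) := by
  induction k with
  | zero => simp [el_zero]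
  | succ m ih =>
    rw [pow_succ, ih, el_mul_el]
    congr 1 <;> (push_cast; ring)

theorem el_zpow (i j : ZMod (2 ^ d.n)) (k : ℤ) :
    (el d i j) ^ k = el d ((k : ZMod (2 ^ d.n)) * i) ((k : ZMod (2 ^ d.n)) * j) := by
  cases k with
  | ofNat m =>
    simp only [Int.ofNat_eq_natCast, zpow_natCast, Int.cast_natCast]
    exact el_pow d i j m
  | negSucc m =>
    rw [zpow_negSucc, el_pow, el_inv]
    congr 1 <;> (push_cast; ring)

theorem mem_zpowers_el_iff (a b : ZMod (2 ^ d.n)) (s : S) :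
    s ∈ Subgroup.zpowers (el d a b) ↔ ∃ k : ZMod (2 ^ d.n), s = el d (k * a) (k * b) := by
  constructor
  · rintro ⟨k, rfl⟩
    exact ⟨(k : ZMod (2 ^ d.n)), el_zpow d a b k⟩
  · rintro ⟨k, rfl⟩
    have : el d (k * a) (k * b) = (el d a b) ^ k.val := by
      rw [el_pow, ZMod.natCast_zmod_val]
    rw [this]
    exact Subgroup.pow_mem _ (Subgroup.mem_zpowers _) _

/-- the centre consists of the `x^i y^i` -/
theorem mem_center_iff [Finite S] (s : S) : s ∈ Subgroup.center S ↔ ∃ i, s = el d i i := by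
  constructor
  · intro hs
    rw [Subgroup.mem_center_iff] at hs
    rcases cases d s with ⟨i, j, rfl⟩ | ⟨i, j, rfl⟩
    · have h1 := hs d.z
      rw [z_el] at h1
      have h2 := (elz_injective d _ _ _ _ h1).1
      exact ⟨i, by rw [h2]⟩
    · exfalso
      have h1 := hs (el d 1 0)
      rw [el_mul_elz, elz_mul_el] at h1
      have h2 := (elz_injective d _ _ _ _ h1).1
      have h3 : (1 : ZMod (2 ^ d.n)) = 0 := by linear_combination h2
      exact one_ne_zero' d.n (hn1 d) h3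
  · rintro ⟨i, rfl⟩
    rw [Subgroup.mem_center_iff]
    intro g
    rcases cases d g with ⟨k, l, rfl⟩ | ⟨k, l, rfl⟩
    · rw [el_mul_el, el_mul_el, add_comm k i, add_comm l i]
    · rw [elz_mul_el, el_mul_elz, add_comm k i, add_comm l i]

theorem center_eq [Finite S] : Subgroup.center S = Subgroup.zpowers (el d 1 1) := by
  ext s
  rw [mem_center_iff d, mem_zpowers_el_iff]
  constructor
  · rintro ⟨i, rfl⟩; exact ⟨i, by rw [mul_one]⟩
  · rintro ⟨k, rfl⟩; exact ⟨k, by rw [mul_one]⟩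

theorem card_center [Finite S] : Nat.card (Subgroup.center S) = 2 ^ d.n := by
  have e : ZMod (2 ^ d.n) ≃ Subgroup.center S :=
    Equiv.ofBijective (fun i => ⟨el d i i, (mem_center_iff d _).mpr ⟨i, rfl⟩⟩) ⟨by
      intro i k h
      have h1 : el d i i = el d k k := congrArg Subtype.val h
      exact (el_injective d _ _ _ _ h1).1, by
      rintro ⟨s, hs⟩
      obtain ⟨i, rfl⟩ := (mem_center_iff d _).mp hs
      exact ⟨i, rfl⟩⟩
  rw [← Nat.card_congr e, Nat.card_zmod]

/-- membership in `B = ⟨x y⁻¹⟩` -/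
theorem mem_B_iff (s : S) : s ∈ Subgroup.zpowers (el d 1 (-1)) ↔ ∃ i, s = el d i (-i) := by
  rw [mem_zpowers_el_iff]
  constructor
  · rintro ⟨k, rfl⟩; exact ⟨k, by rw [mul_one, mul_neg, mul_one]⟩
  · rintro ⟨i, rfl⟩; exact ⟨i, by rw [mul_one, mul_neg, mul_one]⟩

theorem card_B : Nat.card (Subgroup.zpowers (el d 1 (-1))) = 2 ^ d.n := by
  have e : ZMod (2 ^ d.n) ≃ Subgroup.zpowers (el d 1 (-1)) :=
    Equiv.ofBijective (fun i => ⟨el d i (-i), (mem_B_iff d _).mpr ⟨i, rfl⟩⟩) ⟨by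
      intro i k h
      have h1 : el d i (-i) = el d k (-k) := congrArg Subtype.val h
      exact (el_injective d _ _ _ _ h1).1, by
      rintro ⟨s, hs⟩
      obtain ⟨i, rfl⟩ := (mem_B_iff d _).mp hs
      exact ⟨i, rfl⟩⟩
  rw [← Nat.card_congr e, Nat.card_zmod]

theorem commutator_mem [Finite S] (a b : S) :
    a * b * a⁻¹ * b⁻¹ ∈ Subgroup.zpowers (el d 1 (-1)) := by
  rw [mem_B_iff]
  rcases cases d a with ⟨k, l, rfl⟩ | ⟨k, l, rfl⟩ <;>
    rcases cases d b with ⟨i, j, rfl⟩ | ⟨i, j, rfl⟩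
  · refine ⟨0, ?_⟩
    rw [conj_el_el, mul_inv_cancel, neg_zero, el_zero]
  · refine ⟨k - l, ?_⟩
    rw [conj_el_elz, elz_inv, elz_mul_elz]
    congr 1 <;> ring
  · refine ⟨j - i, ?_⟩
    rw [conj_elz_el, el_inv, el_mul_el]
    congr 1 <;> ring
  · refine ⟨j + k - l - i, ?_⟩
    rw [conj_elz_elz, elz_inv, elz_mul_elz]
    congr 1 <;> ring

theorem commutator_eq [Finite S] : commutator S = Subgroup.zpowers (el d 1 (-1)) := by
  apply le_antisymm
  · rw [commutator_eq_closure, Subgroup.closure_le]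
    rintro _ ⟨a, b, rfl⟩
    rw [commutatorElement_def]
    exact commutator_mem d a b
  · rw [Subgroup.zpowers_le]
    have h1 : ⁅el d 1 0, d.z⁆ ∈ commutator S :=
      Subgroup.commutator_mem_commutator (Subgroup.mem_top _) (Subgroup.mem_top _)
    have h2 : ⁅el d 1 0, d.z⁆ = el d 1 (-1) := by
      rw [commutatorElement_def, el_inv, mul_assoc (el d 1 0), mul_assoc (el d 1 0), conj_z_el,
        el_mul_el]
      congr 1 <;> ring
    rw [← h2]
    exact h1

end Cfsg.Agent.Helper6.Wr
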