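import Mathlib
import Cfsg.Agent.Lib.Helper6.Wreathed
import Cfsg.Agent.Lib.Helper6.WreathedSub
import Cfsg.Agent.Lib.Helper6.WreathedCoords
import Cfsg.Agent.Lib.Helper6.QDQ8
import Cfsg.Agent.Lib.Helper6.QuatFacts

/-!
Quaternion subgroups of order 8 of a wreathed 2-group `S`, and the subgroups `V = Q Z(S)`.
-/

set_option autoImplicit false

namespace Cfsg.Agent.Helper6.Wr

open Cfsg.Agent.Helper6.Z2 Cfsg.Agent.Helper6.Quat Cfsg.Agent.Helper6.QD

variable {S : Type*} [Group S] (d : Data S)

/-- the quaternion subgroup `Q_k` as a predicate -/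
def P8 (k : ZMod (2 ^ d.n)) (s : S) : Prop :=
  (∃ m, 4 * m = 0 ∧ s = el d m (-m)) ∨
    (∃ m, 4 * m = 0 ∧ s = el d (k + m) (half d.n - k - m) * d.z)

theorem P8_ncard_le (k : ZMod (2 ^ d.n)) : {s | P8 d k s}.ncard ≤ 8 := by
  have h : {s | P8 d k s} = ((fun m => el d m (-m)) '' {m | 4 * m = 0}) ∪
      ((fun m => el d (k + m) (half d.n - k - m) * d.z) '' {m | 4 * m = 0}) := by
    ext s
    simp only [Set.mem_ofPred_eq, Set.mem_union, Set.mem_image]
    unfold P8
    constructor
    · rintro (⟨m, hm, rfl⟩ | ⟨m, hm, rfl⟩)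
      · left; exact ⟨m, hm, rfl⟩
      · right; exact ⟨m, hm, rfl⟩
    · rintro (⟨m, hm, rfl⟩ | ⟨m, hm, rfl⟩)
      · left; exact ⟨m, hm, rfl⟩
      · right; exact ⟨m, hm, rfl⟩
  rw [h]
  have hfin : {m : ZMod (2 ^ d.n) | 4 * m = 0}.Finite := Set.toFinite _
  have h1 := Set.ncard_image_le (f := fun m => el d m (-m)) hfin
  have h2 := Set.ncard_image_le (f := fun m => el d (k + m) (half d.n - k - m) * d.z) hfin
  have h3 := ncard_four_torsion_le d.n d.hn
  have h4 := Set.ncard_union_le ((fun m => el d m (-m)) '' {m | 4 * m = 0})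
    ((fun m => el d (k + m) (half d.n - k - m) * d.z) '' {m | 4 * m = 0})
  omega

theorem sq_mem_A [Finite S] (w : S) : w * w ∈ A d := by
  rcases cases d w with ⟨i, j, rfl⟩ | ⟨i, j, rfl⟩
  · rw [el_sq]; exact el_mem_A d _ _
  · rw [elz_sq]; exact el_mem_A d _ _

/-- classification of the `Q₈`-subgroups of a wreathed group -/
theorem q8_mem [Finite S] (Q : Subgroup S) (φ : Q ≃* QuaternionGroup 2) :
    ∃ k, ∀ s, s ∈ Q ↔ P8 d k s := by
  obtain ⟨c, hQ⟩ := q8Like_of_equiv Q φ
  obtain ⟨c', hY⟩ := quatLike_of_equiv (m := 2) (le_refl 2) Q φ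
  have hcc : c' = c := by
    rcases hQ.invol c' hY.mem hY.sq_one with h | h
    · exact absurd h hY.ne_one
    · exact h
  subst hcc
  have hn1 := hn1 d
  have hcA : c' ∈ A d := by
    obtain ⟨w, -, hw⟩ := hY.is_sq
    rw [← hw]; exact sq_mem_A d w
  have hfour : ∀ q ∈ Q, (q * q) * (q * q) = 1 := by
    intro q hq
    rcases hQ.sq q hq with h | h
    · rw [h, one_mul]
    · rw [h, hQ.sq_one]
  -- elements of `Q` outside `A`
  have hout : ∀ a b, el d a b * d.z ∈ Q → a + b = half d.n := by
    intro a b hv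
    have hsq : el d a b * d.z * (el d a b * d.z) = el d (a + b) (a + b) := elz_sq d a b
    have hsqY : el d (a + b) (a + b) ∈ Q := hsq ▸ Q.mul_mem hv hv
    have hcen : ∀ t ∈ Q, t * el d (a + b) (a + b) = el d (a + b) (a + b) * t := by
      intro t _
      exact (Subgroup.mem_center_iff.mp ((mem_center_iff d _).mpr ⟨a + b, rfl⟩)) t
    rcases hY.central _ hsqY hcen with h1 | h1
    · exfalso
      rw [h1] at hsq
      rcases hY.invol _ hv hsq with h2 | h2
      · exact elz_ne_one d a b h2
      · apply z_not_mem_A d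
        have h3 : d.z = (el d a b)⁻¹ * c' := by rw [← h2]; group
        rw [h3]
        exact (A d).mul_mem ((A d).inv_mem (el_mem_A d _ _)) hcA
    · have h2 := hY.sq_one
      rw [← h1, el_sq, el_eq_one_iff] at h2
      rcases (two_mul_eq_zero_iff d.n hn1 _).mp h2.1 with h3 | h3
      · exfalso
        apply hY.ne_one
        rw [← h1, h3, el_zero]
      · exact h3
  -- some element of `Q` lies outside `A`
  have hex : ∃ a b, el d a b * d.z ∈ Q := by
    by_contra hcon
    push Not at hcon
    obtain ⟨q, hq, t, ht, hqt⟩ := hY.nonab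
    have hA : ∀ s ∈ Q, ∃ i j, s = el d i j := by
      intro s hs
      rcases cases d s with h | ⟨i, j, rfl⟩
      · exact h
      · exact absurd hs (hcon i j)
    obtain ⟨i, j, rfl⟩ := hA q hq
    obtain ⟨k, l, rfl⟩ := hA t ht
    apply hqt
    rw [el_mul_el, el_mul_el, add_comm i k, add_comm j l]
  obtain ⟨k, l, hv0⟩ := hex
  have hkl := hout k l hv0
  have hl : l = half d.n - k := by linear_combination hkl
  subst hl
  -- elements of `Q` inside `A`
  have hin : ∀ i j, el d i j ∈ Q → i + j = 0 ∧ 4 * i = 0 := by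
    intro i j hh
    have h1 : el d i j * (el d k (half d.n - k) * d.z) ∈ Q := Q.mul_mem hh hv0
    rw [el_mul_elz] at h1
    have h2 := hout _ _ h1
    have h3 : i + j = 0 := by linear_combination h2
    refine ⟨h3, ?_⟩
    have h4 := hfour _ hh
    rw [el_mul_el, el_mul_el, el_eq_one_iff] at h4
    linear_combination h4.1
  refine ⟨k, ?_⟩
  have hsub : (Q : Set S) ⊆ {s | P8 d k s} := by
    intro s hs
    rcases cases d s with ⟨i, j, rfl⟩ | ⟨a, b, rfl⟩
    · left
      obtain ⟨h1, h2⟩ := hin i j hs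
      refine ⟨i, h2, ?_⟩
      have : j = -i := by linear_combination h1
      rw [this]
    · right
      have h1 := hout a b hs
      have h2 : (el d k (half d.n - k) * d.z)⁻¹ * (el d a b * d.z) ∈ Q :=
        Q.mul_mem (Q.inv_mem hv0) hs
      rw [elz_inv, elz_mul_elz] at h2
      obtain ⟨-, h3⟩ := hin _ _ h2
      refine ⟨a - k, ?_, ?_⟩
      · linear_combination 4 * h1 - h3
      · congr 2
        · ring
        · linear_combination h1
  have hcardQ : (Q : Set S).ncard = 8 := by
    rw [← Nat.card_coe_set_eq]; exact hQ.card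
  have hfin : {s | P8 d k s}.Finite := Set.toFinite _
  have hle : {s | P8 d k s}.ncard ≤ (Q : Set S).ncard := by
    rw [hcardQ]; exact P8_ncard_le d k
  have heq := Set.eq_of_subset_of_ncard_le hsub hle hfin
  intro s
  have : s ∈ Q ↔ s ∈ (Q : Set S) := Iff.rfl
  rw [this, heq]
  rfl

end Cfsg.Agent.Helper6.Wr

namespace Cfsg.Agent.Helper6.Wr

open Cfsg.Agent.Helper6.Z2

variable {S : Type*} [Group S] (d : Data S)

/-- the subgroup `V_k = Q_k Z(S)` -/
def VV (k : ZMod (2 ^ d.n)) : Subgroup S where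
  carrier := {s | (∃ a b, 2 * (a - b) = 0 ∧ s = el d a b) ∨
    (∃ a b, 2 * (a - b - 2 * k) = 0 ∧ s = el d a b * d.z)}
  mul_mem' := by
    rintro _ _ (⟨i, j, h, rfl⟩ | ⟨i, j, h, rfl⟩) (⟨k', l, h', rfl⟩ | ⟨k', l, h', rfl⟩)
    · left; exact ⟨_, _, by linear_combination h + h', el_mul_el d i j k' l⟩
    · right; exact ⟨_, _, by linear_combination h + h', el_mul_elz d i j k' l⟩
    · right; exact ⟨_, _, by linear_combination h - h', elz_mul_el d i j k' l⟩
    · left; exact ⟨_, _, by linear_combination h - h', elz_mul_elz d i j k' l⟩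
  one_mem' := Or.inl ⟨0, 0, by ring, (el_zero d).symm⟩
  inv_mem' := by
    rintro _ (⟨i, j, h, rfl⟩ | ⟨i, j, h, rfl⟩)
    · left; exact ⟨_, _, by linear_combination -h, el_inv d i j⟩
    · right; exact ⟨_, _, by linear_combination h, elz_inv d i j⟩

theorem el_mem_VV (k a b : ZMod (2 ^ d.n)) (h : 2 * (a - b) = 0) : el d a b ∈ VV d k :=
  Or.inl ⟨a, b, h, rfl⟩

theorem elz_mem_VV (k a b : ZMod (2 ^ d.n)) (h : 2 * (a - b - 2 * k) = 0) :
    el d a b * d.z ∈ VV d k := Or.inr ⟨a, b, h, rfl⟩

theorem el_mem_VV_iff (k a b : ZMod (2 ^ d.n)) : el d a b ∈ VV d k ↔ 2 * (a - b) = 0 := by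
  constructor
  · rintro (⟨a', b', h, h'⟩ | ⟨a', b', h, h'⟩)
    · obtain ⟨h1, h2⟩ := el_injective d _ _ _ _ h'
      rw [h1, h2]; exact h
    · exact absurd h' (el_ne_elz d _ _ _ _)
  · exact el_mem_VV d k a b

theorem elz_mem_VV_iff (k a b : ZMod (2 ^ d.n)) :
    el d a b * d.z ∈ VV d k ↔ 2 * (a - b - 2 * k) = 0 := by
  constructor
  · rintro (⟨a', b', h, h'⟩ | ⟨a', b', h, h'⟩)
    · exact absurd h'.symm (el_ne_elz d _ _ _ _)
    · obtain ⟨h1, h2⟩ := elz_injective d _ _ _ _ h'
      rw [h1, h2]; exact h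
  · exact elz_mem_VV d k a b

theorem center_le_VV [Finite S] (k : ZMod (2 ^ d.n)) : Subgroup.center S ≤ VV d k := by
  intro s hs
  obtain ⟨i, rfl⟩ := (mem_center_iff d s).mp hs
  exact el_mem_VV d k i i (by ring)

/-- `Q_k Z(S) = V_k` -/
theorem sup_center_eq [Finite S] (Q : Subgroup S) (k : ZMod (2 ^ d.n))
    (hQ : ∀ s, s ∈ Q ↔ P8 d k s) : Q ⊔ Subgroup.center S = VV d k := by
  have hn1 := hn1 d
  have hh := two_mul_half d.n hn1
  have hq := two_mul_quarter d.n d.hn
  have h4q := four_mul_quarter d.n d.hn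
  apply le_antisymm
  · apply sup_le _ (center_le_VV d k)
    intro s hs
    rcases (hQ s).mp hs with ⟨m, hm, rfl⟩ | ⟨m, hm, rfl⟩
    · exact el_mem_VV d k _ _ (by linear_combination hm)
    · exact elz_mem_VV d k _ _ (by linear_combination hm - hh)
  · have hcen : ∀ i, el d i i ∈ Q ⊔ Subgroup.center S := fun i =>
      Subgroup.mem_sup_right ((mem_center_iff d _).mpr ⟨i, rfl⟩)
    rintro s (⟨a, b, h, rfl⟩ | ⟨a, b, h, rfl⟩)
    · rcases (two_mul_eq_zero_iff d.n hn1 _).mp h with h0 | h0
      · have : a = b := by linear_combination h0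
        rw [this]; exact hcen b
      · have h1 : el d a b = el d (quarter d.n) (-quarter d.n) *
            el d (a - quarter d.n) (a - quarter d.n) := by
          rw [el_mul_el]
          congr 1
          · ring
          · linear_combination -h0 + hq
        rw [h1]
        exact Subgroup.mul_mem _ (Subgroup.mem_sup_left ((hQ _).mpr (Or.inl ⟨_, h4q, rfl⟩)))
          (hcen _)
    · rcases (two_mul_eq_zero_iff d.n hn1 _).mp h with h0 | h0
      · have h1 : el d a b * d.z = el d (a - k - quarter d.n) (a - k - quarter d.n) *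
            (el d (k + quarter d.n) (half d.n - k - quarter d.n) * d.z) := by
          rw [el_mul_elz]
          congr 2
          · ring
          · linear_combination -h0 + hq
        rw [h1]
        exact Subgroup.mul_mem _ (hcen _)
          (Subgroup.mem_sup_left ((hQ _).mpr (Or.inr ⟨_, h4q, rfl⟩)))
      · have h1 : el d a b * d.z = el d (a - k) (a - k) *
            (el d (k + 0) (half d.n - k - 0) * d.z) := by
          rw [el_mul_elz]
          congr 2
          · ring
          · linear_combination -h0 - hh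
        rw [h1]
        exact Subgroup.mul_mem _ (hcen _)
          (Subgroup.mem_sup_left ((hQ _).mpr (Or.inr ⟨0, by ring, rfl⟩)))

/-- `C_S(V_k) = Z(S)` -/
theorem centralizer_VV [Finite S] (k : ZMod (2 ^ d.n)) :
    Subgroup.centralizer (VV d k : Set S) = Subgroup.center S := by
  have hn1 := hn1 d
  have hh := two_mul_half d.n hn1
  apply le_antisymm
  · intro s hs
    rw [Subgroup.mem_centralizer_iff] at hs
    have h1 := hs (el d (half d.n) 0) (el_mem_VV d k _ _ (by linear_combination hh))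
    have h2 := hs (el d k (-k) * d.z) (elz_mem_VV d k _ _ (by ring))
    rw [mem_center_iff d]
    rcases cases d s with ⟨a, b, rfl⟩ | ⟨a, b, rfl⟩
    · rw [elz_mul_el, el_mul_elz] at h2
      have h3 := (elz_injective d _ _ _ _ h2).1
      exact ⟨a, by rw [show b = a by linear_combination h3]⟩
    · exfalso
      rw [el_mul_elz, elz_mul_el] at h1
      have h3 := (elz_injective d _ _ _ _ h1).1
      apply half_ne_zero d.n hn1
      linear_combination h3
  · intro s hs
    rw [Subgroup.mem_centralizer_iff]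
    intro t _
    exact (Subgroup.mem_center_iff.mp hs) t

/-- the elements of `V_k` outside the centre with square the central involution lie in `Q_k` -/
theorem P8_of_mem_VV [Finite S] (k : ZMod (2 ^ d.n)) (v : S) (hv : v ∈ VV d k)
    (hvZ : v ∉ Subgroup.center S) (hsq : v * v = el d (half d.n) (half d.n)) : P8 d k v := by
  have hn1 := hn1 d
  have hh := two_mul_half d.n hn1
  rcases cases d v with ⟨a, b, rfl⟩ | ⟨a, b, rfl⟩
  · left
    rw [el_mem_VV_iff] at hv
    rw [el_sq] at hsq
    obtain ⟨h1, h2⟩ := el_injective d _ _ _ _ hsq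
    rcases (two_mul_eq_zero_iff d.n hn1 _).mp hv with h0 | h0
    · exfalso
      apply hvZ
      rw [mem_center_iff d]
      exact ⟨a, by rw [show b = a by linear_combination -h0]⟩
    · refine ⟨a, by linear_combination 2 * h1 + hh, ?_⟩
      congr 1
      linear_combination h0 + h2 + hh
  · right
    rw [elz_mem_VV_iff] at hv
    rw [elz_sq] at hsq
    have h1 := (el_injective d _ _ _ _ hsq).1
    refine ⟨a - k, by linear_combination hv + 2 * h1 + hh, ?_⟩
    congr 2
    · ring
    · linear_combination h1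

end Cfsg.Agent.Helper6.Wr

namespace Cfsg.Agent.Helper6.Wr

open Cfsg.Agent.Helper6.Z2

variable {S : Type*} [Group S] (d : Data S)

theorem toS_mem_VV (k : ZMod (2 ^ d.n)) (p : ZMod (2 ^ d.n) × ZMod (2 ^ d.n) × Bool) :
    toS d p ∈ (VV d k : Set S) ↔ 2 * (p.1 - p.2.1 - (if p.2.2 then 2 * k else 0)) = 0 := by
  obtain ⟨a, b, ε⟩ := p
  cases ε
  · rw [toS_false]
    show el d a b ∈ VV d k ↔ _
    rw [el_mem_VV_iff]
    simp
  · rw [toS_true]
    show el d a b * d.z ∈ VV d k ↔ _
    rw [elz_mem_VV_iff]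
    simp

theorem card_VV [Finite S] (k : ZMod (2 ^ d.n)) : Nat.card (VV d k) = 2 ^ (d.n + 2) := by
  have h1 := card_eq_card_coords d (VV d k : Set S)
    (fun p => 2 * (p.1 - p.2.1 - (if p.2.2 then 2 * k else 0)) = 0) (toS_mem_VV d k)
  have e : {p : ZMod (2 ^ d.n) × ZMod (2 ^ d.n) × Bool //
      2 * (p.1 - p.2.1 - (if p.2.2 then 2 * k else 0)) = 0} ≃
      {c : ZMod (2 ^ d.n) // 2 * c = 0} × ZMod (2 ^ d.n) × Bool :=
    { toFun := fun p => (⟨p.1.1 - p.1.2.1 - (if p.1.2.2 then 2 * k else 0), p.2⟩, p.1.2.1, p.1.2.2)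
      invFun := fun q => ⟨(q.1.1 + q.2.1 + (if q.2.2 then 2 * k else 0), q.2.1, q.2.2), by
        show 2 * (q.1.1 + q.2.1 + (if q.2.2 then 2 * k else 0) - q.2.1 -
          (if q.2.2 then 2 * k else 0)) = 0
        have := q.1.2
        linear_combination this⟩
      left_inv := by
        rintro ⟨⟨a, b, ε⟩, h⟩
        apply Subtype.ext
        show (a - b - (if ε then 2 * k else 0) + b + (if ε then 2 * k else 0), b, ε) = (a, b, ε)
        congr 1
        ring
      right_inv := by
        rintro ⟨⟨c, hc⟩, b, ε⟩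
        show ((⟨c + b + (if ε then 2 * k else 0) - b - (if ε then 2 * k else 0), _⟩ :
          {c : ZMod (2 ^ d.n) // 2 * c = 0}), b, ε) = (⟨c, hc⟩, b, ε)
        congr 1
        apply Subtype.ext
        show c + b + (if ε then 2 * k else 0) - b - (if ε then 2 * k else 0) = c
        ring }
  have h2 : Nat.card (VV d k) = Nat.card ↥(VV d k : Set S) := rfl
  rw [h2, h1, Nat.card_congr e, Nat.card_prod, Nat.card_prod, card_two_torsion, Nat.card_zmod,
    Nat.card_eq_fintype_card, Fintype.card_bool]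
  ring

/-- conjugation by `x^c y^e` with `4(c - e) = 0` preserves `V_k` -/
theorem conj_mem_VV [Finite S] (k c e : ZMod (2 ^ d.n)) (hce : 4 * (c - e) = 0) (v : S)
    (hv : v ∈ VV d k) : el d c e * v * (el d c e)⁻¹ ∈ VV d k := by
  rcases cases d v with ⟨a, b, rfl⟩ | ⟨a, b, rfl⟩
  · rw [conj_el_el]; exact hv
  · rw [elz_mem_VV_iff] at hv
    rw [conj_el_elz, elz_mem_VV_iff]
    linear_combination hv + hce

theorem el_mem_normalizer_VV [Finite S] (k c e : ZMod (2 ^ d.n)) (hce : 4 * (c - e) = 0) :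
    el d c e ∈ Subgroup.normalizer (VV d k : Set S) := by
  rw [Subgroup.mem_normalizer_iff]
  intro v
  constructor
  · exact conj_mem_VV d k c e hce v
  · intro h
    have h1 := conj_mem_VV d k (-c) (-e) (by linear_combination -hce) _ h
    rw [← el_inv] at h1
    have h2 : (el d c e)⁻¹ * (el d c e * v * (el d c e)⁻¹) * (el d c e)⁻¹⁻¹ = v := by group
    rwa [h2] at h1

theorem exists_normalizer_not_mem_VV [Finite S] (k : ZMod (2 ^ d.n)) :
    ∃ s, s ∈ Subgroup.normalizer (VV d k : Set S) ∧ s ∉ VV d k := by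
  refine ⟨el d (quarter d.n) 0, el_mem_normalizer_VV d k _ _ ?_, ?_⟩
  · rw [sub_zero]; exact four_mul_quarter d.n d.hn
  · rw [el_mem_VV_iff, sub_zero, two_mul_quarter d.n d.hn]
    exact half_ne_zero d.n (hn1 d)

/-! ### the abelian maximal subgroup -/

/-- `C_S(A) ≤ A` -/
theorem mem_A_of_centralizes [Finite S] (s : S) (h : s * el d 1 0 = el d 1 0 * s) : s ∈ A d := by
  rcases cases d s with ⟨a, b, rfl⟩ | ⟨a, b, rfl⟩
  · exact el_mem_A d a b
  · exfalso
    rw [elz_mul_el, el_mul_elz] at h
    have h1 := (elz_injective d _ _ _ _ h).1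
    apply one_ne_zero' d.n (hn1 d)
    linear_combination -h1

/-- an abelian subgroup of order `2^(2n)` is `A` -/
theorem eq_A_of_comm [Finite S] (U : Subgroup S) (hU : ∀ u ∈ U, ∀ v ∈ U, u * v = v * u)
    (hcard : Nat.card U = 2 ^ (2 * d.n)) : U = A d := by
  have hle : U ≤ A d := by
    by_contra hcon
    obtain ⟨u, huU, huA⟩ := SetLike.not_le_iff_exists.mp hcon
    rcases cases d u with ⟨i, j, rfl⟩ | ⟨i, j, rfl⟩
    · exact huA (el_mem_A d i j)
    -- every element of `U` commutes with `u`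
    have hsub : (U : Set S) ⊆ (fun p : ZMod (2 ^ d.n) × Bool =>
        toS d (p.1, p.1 - (if p.2 then i - j else 0), p.2)) '' Set.univ := by
      intro v hv
      have hc := hU v hv _ huU
      rcases cases d v with ⟨a, b, rfl⟩ | ⟨a, b, rfl⟩
      · refine ⟨(a, false), trivial, ?_⟩
        rw [el_mul_elz, elz_mul_el] at hc
        have h1 := (elz_injective d _ _ _ _ hc).1
        show toS d (a, a - 0, false) = _
        rw [toS_false, sub_zero]
        congr 1
        linear_combination h1
      · refine ⟨(a, true), trivial, ?_⟩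
        rw [elz_mul_elz, elz_mul_elz] at hc
        have h1 := (el_injective d _ _ _ _ hc).1
        show toS d (a, a - (i - j), true) = _
        rw [toS_true]
        congr 2
        linear_combination h1
    have h1 := Set.ncard_le_ncard hsub (Set.toFinite _)
    have h2 := Set.ncard_image_le (f := fun p : ZMod (2 ^ d.n) × Bool =>
      toS d (p.1, p.1 - (if p.2 then i - j else 0), p.2)) (Set.toFinite Set.univ)
    have h3 : (Set.univ : Set (ZMod (2 ^ d.n) × Bool)).ncard = 2 ^ d.n * 2 := by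
      rw [Set.ncard_univ, Nat.card_prod, Nat.card_zmod, Nat.card_eq_fintype_card,
        Fintype.card_bool]
    have h4 : (U : Set S).ncard = 2 ^ (2 * d.n) := by
      rw [← Nat.card_coe_set_eq]; exact hcard
    have h5 : 2 ^ (2 * d.n) ≤ 2 ^ d.n * 2 := by omega
    have h6 : 2 ^ d.n * 2 = 2 ^ (d.n + 1) := by rw [pow_succ]
    rw [h6] at h5
    have h7 := (Nat.pow_le_pow_iff_right (by norm_num : 1 < 2)).mp h5
    have := d.hn
    omega
  apply Subgroup.eq_of_le_of_card_ge hle
  rw [card_A, hcard]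

end Cfsg.Agent.Helper6.Wr

namespace Cfsg.Agent.Helper6.Wr

open Cfsg.Agent.Helper6.Z2

variable {S : Type*} [Group S] (d : Data S)

/-- elements of `Q_k` are central or non-central of order `4` -/
theorem P8_center_or [Finite S] (k : ZMod (2 ^ d.n)) (q : S) (hq : P8 d k q) :
    q ∈ Subgroup.center S ∨
      (q ∉ Subgroup.center S ∧ q * q = el d (half d.n) (half d.n)) := by
  have hn1 := hn1 d
  have hh := two_mul_half d.n hn1
  have hnh := neg_half d.n hn1
  rcases hq with ⟨m, hm, rfl⟩ | ⟨m, hm, rfl⟩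
  · have h1 : 2 * (2 * m) = 0 := by linear_combination hm
    rcases (two_mul_eq_zero_iff d.n hn1 _).mp h1 with h2 | h2
    · left
      rw [mem_center_iff d]
      exact ⟨m, by congr 1; linear_combination -h2⟩
    · right
      constructor
      · intro hc
        obtain ⟨i, hi⟩ := (mem_center_iff d _).mp hc
        obtain ⟨h3, h4⟩ := el_injective d _ _ _ _ hi
        apply half_ne_zero d.n hn1
        linear_combination -h2 + h3 - h4
      · rw [el_sq]
        congr 1
        linear_combination -h2 - hh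
  · right
    constructor
    · intro hc
      obtain ⟨i, hi⟩ := (mem_center_iff d _).mp hc
      exact el_ne_elz d _ _ _ _ hi.symm
    · rw [elz_sq]
      congr 1 <;> ring

end Cfsg.Agent.Helper6.Wr
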