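import Mathlib
import Cfsg.Agent.S0012
import Cfsg.Agent.S0013

/-!
The Frattini subgroup of a finite abelian `2`-group has index the number of solutions of `u² = 1`.
-/

set_option autoImplicit false

namespace Cfsg.Agent.Helper6.NC

theorem frattini_index_of_comm {P : Type*} [Group P] [Finite P] (hP : IsPGroup 2 P)
    (hcomm : ∀ a b : P, a * b = b * a) :
    (frattini P).index = Nat.card {u : P // u * u = 1} := by
  have : Fact (Nat.Prime 2) := ⟨Nat.prime_two⟩
  let f : P →* P :=
    { toFun := fun u => u * u
      map_one' := by simp
      map_mul' := by
        intro a b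
        show a * b * (a * b) = a * a * (b * b)
        calc a * b * (a * b) = a * (b * a) * b := by group
          _ = a * (a * b) * b := by rw [hcomm b a]
          _ = a * a * (b * b) := by group }
  have hnormal : f.range.Normal := by
    constructor
    intro n hn g
    have : g * n * g⁻¹ = n := by rw [hcomm g n]; group
    rw [this]; exact hn
  have hfr : frattini P = f.range := by
    apply le_antisymm
    · apply Cfsg.Agent.S0013.result 2 hP f.range
      · rw [commutator_eq_closure, Subgroup.closure_le]
        rintro _ ⟨a, b, rfl⟩
        rw [SetLike.mem_coe, commutatorElement_def, hcomm a b]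
        have : b * a * a⁻¹ * b⁻¹ = 1 := by group
        rw [this]; exact Subgroup.one_mem _
      · intro x
        exact ⟨x, by show x * x = x ^ 2; rw [pow_two]⟩
    · rintro _ ⟨x, rfl⟩
      have := (Cfsg.Agent.S0012.result 2 hP).2 x
      rw [pow_two] at this
      exact this
  have h1 : f.ker.index = Nat.card f.range := Subgroup.index_ker f
  have h2 := Subgroup.card_mul_index f.ker
  have h3 := Subgroup.card_mul_index f.range
  have hker : Nat.card f.ker = Nat.card {u : P // u * u = 1} := by
    apply Nat.card_congr
    exact Equiv.subtypeEquivRight (fun u => by rw [MonoidHom.mem_ker]; rfl)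
  rw [hfr, ← hker]
  rw [h1] at h2
  have hpos : 0 < Nat.card f.range := Nat.card_pos
  have h4 : Nat.card f.range * f.range.index = Nat.card f.range * Nat.card f.ker := by
    rw [h3, ← h2, mul_comm]
  exact Nat.eq_of_mul_eq_mul_left hpos h4

end Cfsg.Agent.Helper6.NC
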