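import Mathlib
import Cfsg.Agent.Lib.Helper6.Wreathed
import Cfsg.Agent.Lib.Helper6.WreathedCoords
import Cfsg.Agent.Lib.Helper6.FrattiniAb
import Cfsg.Agent.S4208

/-!
The automorphism group of the abelian maximal subgroup of a wreathed 2-group.
-/

set_option autoImplicit false

namespace Cfsg.Agent.Helper6.Wr

open Cfsg.Agent.Helper6.Z2

variable {S : Type*} [Group S] (d : Data S)

theorem A_comm (u v : A d) : u * v = v * u := by
  obtain ⟨_, i, j, rfl⟩ := u
  obtain ⟨_, k, l, rfl⟩ := v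
  apply Subtype.ext
  show el d i j * el d k l = el d k l * el d i j
  rw [el_mul_el, el_mul_el, add_comm i k, add_comm j l]

theorem card_sq_eq_one_A : Nat.card {u : A d // u * u = 1} = 4 := by
  have e : {c : ZMod (2 ^ d.n) // 2 * c = 0} × {c : ZMod (2 ^ d.n) // 2 * c = 0} ≃
      {u : A d // u * u = 1} :=
    Equiv.ofBijective (fun p => ⟨⟨el d p.1.1 p.2.1, el_mem_A d _ _⟩, by
      apply Subtype.ext
      show el d p.1.1 p.2.1 * el d p.1.1 p.2.1 = 1
      rw [el_sq, p.1.2, p.2.2, el_zero]⟩) ⟨by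
      rintro ⟨⟨i, hi⟩, ⟨j, hj⟩⟩ ⟨⟨k, hk⟩, ⟨l, hl⟩⟩ h
      have h1 : el d i j = el d k l := congrArg (fun u => ((u : {u : A d // u * u = 1}) : S)) h
      obtain ⟨h2, h3⟩ := el_injective d _ _ _ _ h1
      subst h2; subst h3
      rfl, by
      rintro ⟨⟨_, i, j, rfl⟩, hu⟩
      have h1 : el d i j * el d i j = 1 := congrArg Subtype.val hu
      rw [el_sq, el_eq_one_iff] at h1
      exact ⟨(⟨i, h1.1⟩, ⟨j, h1.2⟩), rfl⟩⟩
  rw [← Nat.card_congr e, Nat.card_prod, card_two_torsion]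

theorem card_mulAut_A_dvd [Finite S] :
    Nat.card (MulAut (A d)) ∣ 2 ^ (2 * (2 * d.n - 2)) * 6 := by
  have : Fact (Nat.Prime 2) := ⟨Nat.prime_two⟩
  have hcard := card_A d
  have hP : IsPGroup 2 (A d) := IsPGroup.of_card hcard
  have hidx : (frattini (A d)).index = 2 ^ 2 := by
    rw [Cfsg.Agent.Helper6.NC.frattini_index_of_comm hP (A_comm d), card_sq_eq_one_A]
    norm_num
  have h := Cfsg.Agent.S4208.result (p := 2) (n := 2 * d.n) (r := 2) hcard hidx
  have h6 : ∏ i ∈ Finset.range 2, (2 ^ 2 - 2 ^ i) = 6 := by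
    simp [Finset.prod_range_succ]
  rwa [h6] at h

end Cfsg.Agent.Helper6.Wr
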