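import Mathlib
import Cfsg.Agent.Lib.Helper6.Wreathed
import Cfsg.Agent.Lib.Helper6.WreathedSub
import Cfsg.Agent.Lib.Helper6.WreathedQ8
import Cfsg.Agent.Lib.Helper6.FusionLemmas
import Cfsg.Agent.Lib.Helper6.OddAction

/-!
Fusion of involutions in a finite group with a wreathed Sylow `2`-subgroup.
-/

set_option autoImplicit false

namespace Cfsg.Agent.Helper6.Fus

variable {G : Type*} [Group G]

/-- a fixed-point-free element on the involutions of a four-group -/
theorem exists_fpf (c t g s : G) (hcc : c * c = 1) (htt : t * t = 1) (hct : c * t = t * c)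
    (hc1 : c ≠ 1) (ht1 : t ≠ 1) (hne : c ≠ t)
    (hsc : s * c * s⁻¹ = c) (hst : s * t * s⁻¹ = c * t)
    (hgc : g * c * g⁻¹ = t ∨ g * c * g⁻¹ = c * t)
    (hgt : g * t * g⁻¹ = c ∨ g * t * g⁻¹ = t ∨ g * t * g⁻¹ = c * t) :
    ∃ h, (h = g ∨ h = s * g) ∧ h * c * h⁻¹ ≠ c ∧ h * t * h⁻¹ ≠ t ∧
      h * (c * t) * h⁻¹ ≠ c * t := by
  have hct_ne_c : c * t ≠ c := by
    intro h; apply ht1
    have := congrArg (c⁻¹ * ·) h
    simpa using this
  have hct_ne_t : c * t ≠ t := by
    intro h; apply hc1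
    have := congrArg (· * t⁻¹) h
    simpa using this
  have hct_ne_one : c * t ≠ 1 := by
    intro h; apply hne
    have h1 : c * t = t * t := by rw [h, htt]
    exact mul_right_cancel h1
  have hinj : ∀ a b : G, g * a * g⁻¹ = g * b * g⁻¹ → a = b := by
    intro a b h
    have := congrArg (fun w => g⁻¹ * w * g) h
    simpa [mul_assoc] using this
  have hsct : s * (c * t) * s⁻¹ = t := by
    rw [conj_mul', hsc, hst, ← mul_assoc, hcc, one_mul]
  have hconj : ∀ a : G, (s * g) * a * (s * g)⁻¹ = s * (g * a * g⁻¹) * s⁻¹ := by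
    intro a; group
  have htc : t * c = c * t := hct.symm
  rcases hgc with h1 | h1 <;> rcases hgt with h2 | h2 | h2
  · -- c ↦ t, t ↦ c : use `s g`
    have h3 : g * (c * t) * g⁻¹ = c * t := by rw [conj_mul', h1, h2, htc]
    refine ⟨s * g, Or.inr rfl, ?_, ?_, ?_⟩
    · rw [hconj, h1, hst]; exact hct_ne_c
    · rw [hconj, h2, hsc]; exact hne
    · rw [hconj, h3, hsct]; exact hct_ne_t.symm
  · -- c ↦ t, t ↦ t impossible
    exact absurd (hinj _ _ (h1.trans h2.symm)) hne
  · -- c ↦ t, t ↦ ct : three-cycle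
    have h3 : g * (c * t) * g⁻¹ = c := by
      rw [conj_mul', h1, h2, ← mul_assoc, htc, mul_assoc, htt, mul_one]
    refine ⟨g, Or.inl rfl, ?_, ?_, ?_⟩
    · rw [h1]; exact hne.symm
    · rw [h2]; exact hct_ne_t
    · rw [h3]; exact hct_ne_c.symm
  · -- c ↦ ct, t ↦ c : three-cycle
    have h3 : g * (c * t) * g⁻¹ = t := by
      rw [conj_mul', h1, h2, htc.symm, mul_assoc, hcc, mul_one]
    refine ⟨g, Or.inl rfl, ?_, ?_, ?_⟩
    · rw [h1]; exact hct_ne_c
    · rw [h2]; exact hne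
    · rw [h3]; exact hct_ne_t.symm
  · -- c ↦ ct, t ↦ t : use `s g`
    have h3 : g * (c * t) * g⁻¹ = c := by
      rw [conj_mul', h1, h2, mul_assoc, htt, mul_one]
    refine ⟨s * g, Or.inr rfl, ?_, ?_, ?_⟩
    · rw [hconj, h1, hsct]; exact hne.symm
    · rw [hconj, h2, hst]; exact hct_ne_t
    · rw [hconj, h3, hsc]; exact hct_ne_c.symm
  · -- c ↦ ct, t ↦ ct impossible
    exact absurd (hinj _ _ (h1.trans h2.symm)) hne

end Cfsg.Agent.Helper6.Fus

namespace Cfsg.Agent.Helper6.Wr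

open Cfsg.Agent.Helper6.Z2

variable {S : Type*} [Group S] (d : Data S)

/-- the central involution -/
def cc : S := el d (half d.n) (half d.n)

/-- a noncentral involution of the abelian subgroup -/
def tt : S := el d (half d.n) 0

theorem cc_mul_tt : cc d * tt d = el d 0 (half d.n) := by
  unfold cc tt
  rw [el_mul_el, half_add_half d.n (hn1 d), add_zero]

theorem cc_sq : cc d * cc d = 1 := by
  unfold cc
  rw [el_sq, two_mul_half d.n (hn1 d), el_zero]

theorem tt_sq : tt d * tt d = 1 := by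
  unfold tt
  rw [el_sq, two_mul_half d.n (hn1 d), mul_zero, el_zero]

theorem cc_ne_one : cc d ≠ 1 := by
  unfold cc
  rw [Ne, el_eq_one_iff]
  rintro ⟨h, -⟩
  exact half_ne_zero d.n (hn1 d) h

theorem tt_ne_one : tt d ≠ 1 := by
  unfold tt
  rw [Ne, el_eq_one_iff]
  rintro ⟨h, -⟩
  exact half_ne_zero d.n (hn1 d) h

theorem cc_ne_tt : cc d ≠ tt d := by
  unfold cc tt
  intro h
  exact half_ne_zero d.n (hn1 d) (el_injective d _ _ _ _ h).2

theorem cc_tt_comm : cc d * tt d = tt d * cc d := by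
  unfold cc tt
  rw [el_mul_el, el_mul_el]
  congr 1; ring

theorem z_conj_cc : d.z * cc d * d.z⁻¹ = cc d := by
  unfold cc; rw [conj_z_el]

theorem z_conj_tt : d.z * tt d * d.z⁻¹ = cc d * tt d := by
  rw [cc_mul_tt]; unfold tt; rw [conj_z_el]

theorem el_invol (i j : ZMod (2 ^ d.n)) (h : el d i j * el d i j = 1) :
    el d i j = 1 ∨ el d i j = cc d ∨ el d i j = tt d ∨ el d i j = cc d * tt d := by
  rw [el_sq, el_eq_one_iff] at h
  obtain ⟨h1, h2⟩ := h
  rw [cc_mul_tt]
  unfold cc tt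
  rcases (two_mul_eq_zero_iff d.n (hn1 d) i).mp h1 with rfl | rfl <;>
    rcases (two_mul_eq_zero_iff d.n (hn1 d) j).mp h2 with rfl | rfl
  · left; exact el_zero d
  · right; right; right; rfl
  · right; right; left; rfl
  · right; left; rfl

theorem invol_cases [Finite S] (s : S) (h1 : s ≠ 1) (h2 : s * s = 1) :
    s = cc d ∨ s = tt d ∨ s = cc d * tt d ∨ ∃ i, s = el d i (-i) * d.z := by
  rcases cases d s with ⟨i, j, rfl⟩ | ⟨i, j, rfl⟩
  · rcases el_invol d i j h2 with h | h | h | h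
    · exact absurd h h1
    · left; exact h
    · right; left; exact h
    · right; right; left; exact h
  · right; right; right
    rw [elz_sq, el_eq_one_iff] at h2
    refine ⟨i, ?_⟩
    have : j = -i := by linear_combination h2.1
    rw [this]

theorem exists_conj_elz (i : ZMod (2 ^ d.n)) : ∃ r : S, r * d.z * r⁻¹ = el d i (-i) * d.z := by
  refine ⟨el d i 0, ?_⟩
  have h := conj_el_elz d i 0 0 0
  rw [el_zero, one_mul] at h
  rw [h]
  congr 2 <;> ring

theorem orderOf_cc : orderOf (cc d) = 2 := (orderOf_two_iff _).mpr ⟨cc_ne_one d, cc_sq d⟩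

theorem mem_center_cc [Finite S] : cc d ∈ Subgroup.center S :=
  (mem_center_iff d _).mpr ⟨_, rfl⟩

end Cfsg.Agent.Helper6.Wr

namespace Cfsg.Agent.Helper6.Wr

open Subgroup Cfsg.Agent.Helper6.Z2

variable {G : Type*} [Group G] (P : Sylow 2 G) (d : Data ↥(P : Subgroup G))

theorem two_pow_of_mem [Finite G] (s : G) (hs : s ∈ (P : Subgroup G)) :
    ∃ k : ℕ, s ^ (2 ^ k) = 1 := by
  obtain ⟨k, hk⟩ := P.2 ⟨s, hs⟩
  refine ⟨k, ?_⟩
  have := congrArg Subtype.val hk
  simpa using this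

theorem mem_U_iff (U : Subgroup G) (hUP : U ≤ (P : Subgroup G))
    (hUA : U.subgroupOf (P : Subgroup G) = A d) (u : G) :
    u ∈ U ↔ ∃ i j, u = ((el d i j : ↥(P : Subgroup G)) : G) := by
  constructor
  · intro hu
    have h1 : (⟨u, hUP hu⟩ : ↥(P : Subgroup G)) ∈ U.subgroupOf (P : Subgroup G) := hu
    rw [hUA] at h1
    obtain ⟨i, j, h⟩ := h1
    exact ⟨i, j, congrArg Subtype.val h⟩
  · rintro ⟨i, j, rfl⟩
    have h1 : el d i j ∈ U.subgroupOf (P : Subgroup G) := hUA ▸ el_mem_A d i j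
    exact h1

theorem coe_el_comm (i j k l : ZMod (2 ^ d.n)) :
    ((el d i j : ↥(P : Subgroup G)) : G) * ((el d k l : ↥(P : Subgroup G)) : G) =
      ((el d k l : ↥(P : Subgroup G)) : G) * ((el d i j : ↥(P : Subgroup G)) : G) := by
  rw [← Subgroup.coe_mul, ← Subgroup.coe_mul, el_mul_el, el_mul_el, add_comm i k, add_comm j l]

theorem coe_el_invol (i j : ZMod (2 ^ d.n))
    (h : ((el d i j : ↥(P : Subgroup G)) : G) * ((el d i j : ↥(P : Subgroup G)) : G) = 1) :
    ((el d i j : ↥(P : Subgroup G)) : G) = 1 ∨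
    ((el d i j : ↥(P : Subgroup G)) : G) = ((cc d : ↥(P : Subgroup G)) : G) ∨
    ((el d i j : ↥(P : Subgroup G)) : G) = ((tt d : ↥(P : Subgroup G)) : G) ∨
    ((el d i j : ↥(P : Subgroup G)) : G) =
      ((cc d : ↥(P : Subgroup G)) : G) * ((tt d : ↥(P : Subgroup G)) : G) := by
  have h1 : el d i j * el d i j = 1 := Subtype.ext h
  rcases el_invol d i j h1 with h2 | h2 | h2 | h2
  · left; rw [h2]; rfl
  · right; left; rw [h2]
  · right; right; left; rw [h2]
  · right; right; right; rw [h2]; rfl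

theorem coe_cc_sq : ((cc d : ↥(P : Subgroup G)) : G) * ((cc d : ↥(P : Subgroup G)) : G) = 1 := by
  rw [← Subgroup.coe_mul, cc_sq]; rfl

theorem coe_tt_sq : ((tt d : ↥(P : Subgroup G)) : G) * ((tt d : ↥(P : Subgroup G)) : G) = 1 := by
  rw [← Subgroup.coe_mul, tt_sq]; rfl

theorem coe_cc_ne_tt : ((cc d : ↥(P : Subgroup G)) : G) ≠ ((tt d : ↥(P : Subgroup G)) : G) :=
  fun h => cc_ne_tt d (Subtype.ext h)

theorem coe_tt_ne_one : ((tt d : ↥(P : Subgroup G)) : G) ≠ 1 :=
  fun h => tt_ne_one d (Subtype.ext h)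

theorem coe_cc_ne_one : ((cc d : ↥(P : Subgroup G)) : G) ≠ 1 :=
  fun h => cc_ne_one d (Subtype.ext h)

/-- if `3 ∣ |N(U) : C(U)|` some element of `N(U)` moves the central involution -/
theorem exists_fusion_U [Finite G] (U : Subgroup G) (hUP : U ≤ (P : Subgroup G))
    (hUA : U.subgroupOf (P : Subgroup G) = A d)
    (h3 : 3 ∣ (centralizer (U : Set G)).relIndex (normalizer (U : Set G))) :
    ∃ g ∈ normalizer (U : Set G),
      g * ((cc d : ↥(P : Subgroup G)) : G) * g⁻¹ ≠ ((cc d : ↥(P : Subgroup G)) : G) := by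
  by_contra hne
  push Not at hne
  have hmem := mem_U_iff P d U hUP hUA
  refine Fus.not_three_dvd_relIndex U U le_rfl 1 ((cc d : ↥(P : Subgroup G)) : G)
    ((tt d : ↥(P : Subgroup G)) : G) (Subgroup.one_mem _) (fun v hv => Or.inl hv) ?_ ?_ ?_ ?_
    (coe_cc_sq P d) (coe_tt_sq P d) (coe_cc_ne_tt P d) (coe_tt_ne_one P d) ?_ h3
  · intro u hu v hv
    obtain ⟨i, j, rfl⟩ := (hmem u).mp hu
    obtain ⟨k, l, rfl⟩ := (hmem v).mp hv
    exact coe_el_comm P d i j k l
  · intro w hw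
    exact two_pow_of_mem P w (hUP hw)
  · intro w hw hww
    obtain ⟨i, j, rfl⟩ := (hmem w).mp hw
    exact coe_el_invol P d i j hww
  · exact (hmem _).mpr ⟨_, _, rfl⟩
  · intro g hg
    exact ⟨hne g hg, fun w hw => (mem_normalizer_iff.mp hg w).mp hw⟩

end Cfsg.Agent.Helper6.Wr

namespace Cfsg.Agent.Helper6.Wr

open Subgroup Cfsg.Agent.Helper6.Z2

variable {G : Type*} [Group G] (P : Sylow 2 G) (d : Data ↥(P : Subgroup G))

theorem mem_V_iff (V : Subgroup G) (k : ZMod (2 ^ d.n)) (hVP : V ≤ (P : Subgroup G))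
    (hVV : V.subgroupOf (P : Subgroup G) = VV d k) (v : G) :
    v ∈ V ↔ (∃ a b, 2 * (a - b) = 0 ∧ v = ((el d a b : ↥(P : Subgroup G)) : G)) ∨
      (∃ a b, 2 * (a - b - 2 * k) = 0 ∧ v = ((el d a b * d.z : ↥(P : Subgroup G)) : G)) := by
  constructor
  · intro hv
    have h1 : (⟨v, hVP hv⟩ : ↥(P : Subgroup G)) ∈ V.subgroupOf (P : Subgroup G) := hv
    rw [hVV] at h1
    rcases h1 with ⟨a, b, hab, h⟩ | ⟨a, b, hab, h⟩
    · left; exact ⟨a, b, hab, congrArg Subtype.val h⟩
    · right; exact ⟨a, b, hab, congrArg Subtype.val h⟩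
  · rintro (⟨a, b, hab, rfl⟩ | ⟨a, b, hab, rfl⟩)
    · have h1 : el d a b ∈ V.subgroupOf (P : Subgroup G) := hVV ▸ el_mem_VV d k a b hab
      exact h1
    · have h1 : el d a b * d.z ∈ V.subgroupOf (P : Subgroup G) :=
        hVV ▸ elz_mem_VV d k a b hab
      exact h1

/-- the abelian part `V ∩ A` as a subgroup of `G` -/
def WW (k : ZMod (2 ^ d.n)) : Subgroup G := (VV d k ⊓ A d).map (P : Subgroup G).subtype

theorem mem_WW_iff (k : ZMod (2 ^ d.n)) (w : G) :
    w ∈ WW P d k ↔ ∃ a b, 2 * (a - b) = 0 ∧ w = ((el d a b : ↥(P : Subgroup G)) : G) := by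
  unfold WW
  rw [Subgroup.mem_map]
  constructor
  · rintro ⟨s, hs, rfl⟩
    obtain ⟨hsV, ⟨a, b, rfl⟩⟩ := Subgroup.mem_inf.mp hs
    exact ⟨a, b, (el_mem_VV_iff d k a b).mp hsV, rfl⟩
  · rintro ⟨a, b, hab, rfl⟩
    exact ⟨el d a b, Subgroup.mem_inf.mpr ⟨el_mem_VV d k a b hab, el_mem_A d a b⟩, rfl⟩

/-- conjugates of central elements of `P` by elements of `N(V)` are central in `P` -/
theorem conj_center_mem [Finite G] (V : Subgroup G) (k : ZMod (2 ^ d.n))
    (hVP : V ≤ (P : Subgroup G)) (hVV : V.subgroupOf (P : Subgroup G) = VV d k) (g : G)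
    (hg : g ∈ normalizer (V : Set G)) (i : ZMod (2 ^ d.n)) :
    ∃ i', g * ((el d i i : ↥(P : Subgroup G)) : G) * g⁻¹ =
      ((el d i' i' : ↥(P : Subgroup G)) : G) := by
  have hmemV := mem_V_iff P d V k hVP hVV
  have h1 : ((el d i i : ↥(P : Subgroup G)) : G) ∈ V :=
    (hmemV _).mpr (Or.inl ⟨i, i, by ring, rfl⟩)
  have h2 : ((el d i i : ↥(P : Subgroup G)) : G) ∈ centralizer (V : Set G) := by
    rw [mem_centralizer_iff]
    intro v hv
    have hc : el d i i ∈ Subgroup.center ↥(P : Subgroup G) := (mem_center_iff d _).mpr ⟨i, rfl⟩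
    have := (Subgroup.mem_center_iff.mp hc) ⟨v, hVP hv⟩
    exact congrArg Subtype.val this
  have h3 : g * ((el d i i : ↥(P : Subgroup G)) : G) * g⁻¹ ∈ V :=
    (mem_normalizer_iff.mp hg _).mp h1
  have h4 : g * ((el d i i : ↥(P : Subgroup G)) : G) * g⁻¹ ∈ centralizer (V : Set G) := by
    have hg' := NC.normalizer_le_normalizer_centralizer V hg
    exact (mem_normalizer_iff.mp hg' _).mp h2
  have h5 := NC.mem_centralizer_subgroupOf (P : Subgroup G) V ⟨_, hVP h3⟩ h4
  rw [hVV, centralizer_VV, mem_center_iff d] at h5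
  obtain ⟨i', hi'⟩ := h5
  exact ⟨i', congrArg Subtype.val hi'⟩

/-- if `3 ∣ |N(V) : C(V)|` some element of `N(V)` moves `t` outside the abelian subgroup -/
theorem exists_fusion_V [Finite G] (V : Subgroup G) (k : ZMod (2 ^ d.n))
    (hVP : V ≤ (P : Subgroup G)) (hVV : V.subgroupOf (P : Subgroup G) = VV d k)
    (h3 : 3 ∣ (centralizer (V : Set G)).relIndex (normalizer (V : Set G))) :
    ∃ g ∈ normalizer (V : Set G), ∃ i, g * ((tt d : ↥(P : Subgroup G)) : G) * g⁻¹ =
      ((el d i (-i) * d.z : ↥(P : Subgroup G)) : G) := by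
  by_contra hne
  push Not at hne
  have hn1 := hn1 d
  have hh := two_mul_half d.n hn1
  have hmemV := mem_V_iff P d V k hVP hVV
  have hmemW := mem_WW_iff P d k
  have hWV : WW P d k ≤ V := by
    intro w hw
    obtain ⟨a, b, hab, rfl⟩ := (hmemW w).mp hw
    exact (hmemV _).mpr (Or.inl ⟨a, b, hab, rfl⟩)
  have htW : ((tt d : ↥(P : Subgroup G)) : G) ∈ WW P d k :=
    (hmemW _).mpr ⟨half d.n, 0, by rw [sub_zero]; exact hh, rfl⟩
  have hbV : ((el d k (half d.n - k) * d.z : ↥(P : Subgroup G)) : G) ∈ V :=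
    (hmemV _).mpr (Or.inr ⟨k, half d.n - k, by linear_combination (-1 : ZMod (2 ^ d.n)) * hh, rfl⟩)
  -- conjugates of `t`
  have htconj : ∀ g ∈ normalizer (V : Set G),
      g * ((tt d : ↥(P : Subgroup G)) : G) * g⁻¹ ∈ WW P d k := by
    intro g hg
    have h1 : g * ((tt d : ↥(P : Subgroup G)) : G) * g⁻¹ ∈ V :=
      (mem_normalizer_iff.mp hg _).mp (hWV htW)
    rcases (hmemV _).mp h1 with ⟨a, b, hab, h⟩ | ⟨a, b, hab, h⟩
    · exact (hmemW _).mpr ⟨a, b, hab, h⟩
    · exfalso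
      have h2 : (g * ((tt d : ↥(P : Subgroup G)) : G) * g⁻¹) *
          (g * ((tt d : ↥(P : Subgroup G)) : G) * g⁻¹) = 1 := by
        rw [← Fus.conj_mul', coe_tt_sq]; group
      rw [h, ← Subgroup.coe_mul, elz_sq] at h2
      have h3 : el d (a + b) (a + b) = 1 := Subtype.ext h2
      rw [el_eq_one_iff] at h3
      have h4 : b = -a := by linear_combination h3.1
      rw [h4] at h
      exact hne g hg a h
  refine Fus.not_three_dvd_relIndex V (WW P d k) hWV
    ((el d k (half d.n - k) * d.z : ↥(P : Subgroup G)) : G)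
    ((cc d : ↥(P : Subgroup G)) : G) ((tt d : ↥(P : Subgroup G)) : G) hbV ?_ ?_ ?_ ?_ htW
    (coe_cc_sq P d) (coe_tt_sq P d) (coe_cc_ne_tt P d) (coe_tt_ne_one P d) ?_ h3
  · -- cover
    intro v hv
    rcases (hmemV v).mp hv with ⟨a, b, hab, rfl⟩ | ⟨a, b, hab, rfl⟩
    · left; exact (hmemW _).mpr ⟨a, b, hab, rfl⟩
    · right
      refine ⟨((el d (b + k - half d.n) (a - k) : ↥(P : Subgroup G)) : G), ?_, ?_⟩
      · refine (hmemW _).mpr ⟨_, _, ?_, rfl⟩
        linear_combination (-1 : ZMod (2 ^ d.n)) * hab - hh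
      · rw [← Subgroup.coe_mul, elz_mul_el]
        congr 3 <;> ring
  · intro u hu v hv
    obtain ⟨i, j, -, rfl⟩ := (hmemW u).mp hu
    obtain ⟨k', l, -, rfl⟩ := (hmemW v).mp hv
    exact coe_el_comm P d i j k' l
  · intro w hw
    exact two_pow_of_mem P w (hVP (hWV hw))
  · intro w hw hww
    obtain ⟨i, j, -, rfl⟩ := (hmemW w).mp hw
    exact coe_el_invol P d i j hww
  · intro g hg
    constructor
    · -- `c` is fixed
      obtain ⟨i', hi'⟩ := conj_center_mem P d V k hVP hVV g hg (half d.n)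
      have hcc : ((cc d : ↥(P : Subgroup G)) : G) = ((el d (half d.n) (half d.n) :
          ↥(P : Subgroup G)) : G) := rfl
      rw [hcc, hi']
      have h2 : (g * ((el d (half d.n) (half d.n) : ↥(P : Subgroup G)) : G) * g⁻¹) *
          (g * ((el d (half d.n) (half d.n) : ↥(P : Subgroup G)) : G) * g⁻¹) = 1 := by
        rw [← Fus.conj_mul', ← hcc, coe_cc_sq]; group
      rw [hi', ← Subgroup.coe_mul, el_sq] at h2
      have h3 : el d (2 * i') (2 * i') = 1 := Subtype.ext h2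
      rw [el_eq_one_iff] at h3
      rcases (two_mul_eq_zero_iff d.n hn1 i').mp h3.1 with h4 | h4
      · exfalso
        rw [h4, el_zero] at hi'
        have h5 : ((el d (half d.n) (half d.n) : ↥(P : Subgroup G)) : G) = 1 := by
          have := congrArg (fun w => g⁻¹ * w * g) hi'
          simpa [mul_assoc] using this
        exact coe_cc_ne_one P d h5
      · rw [h4]
    · intro w hw
      obtain ⟨a, b, hab, rfl⟩ := (hmemW w).mp hw
      rcases (two_mul_eq_zero_iff d.n hn1 _).mp hab with h0 | h0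
      · have hab' : a = b := by linear_combination h0
        rw [hab']
        obtain ⟨i', hi'⟩ := conj_center_mem P d V k hVP hVV g hg b
        rw [hi']
        exact (hmemW _).mpr ⟨i', i', by ring, rfl⟩
      · have hab' : a = half d.n + b := by linear_combination h0
        have h5 : ((el d a b : ↥(P : Subgroup G)) : G) =
            ((tt d : ↥(P : Subgroup G)) : G) * ((el d b b : ↥(P : Subgroup G)) : G) := by
          rw [← Subgroup.coe_mul]
          unfold tt
          rw [el_mul_el, hab', zero_add]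
        rw [h5, Fus.conj_mul']
        obtain ⟨i', hi'⟩ := conj_center_mem P d V k hVP hVV g hg b
        rw [hi']
        exact Subgroup.mul_mem _ (htconj g hg) ((hmemW _).mpr ⟨i', i', by ring, rfl⟩)

end Cfsg.Agent.Helper6.Wr

namespace Cfsg.Agent.Helper6.Wr

open Subgroup Cfsg.Agent.Helper6.Z2

variable {G : Type*} [Group G] (P : Sylow 2 G) (d : Data ↥(P : Subgroup G))

theorem coe_z_conj_cc : ((d.z : ↥(P : Subgroup G)) : G) * ((cc d : ↥(P : Subgroup G)) : G) *
    ((d.z : ↥(P : Subgroup G)) : G)⁻¹ = ((cc d : ↥(P : Subgroup G)) : G) := by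
  have := congrArg Subtype.val (z_conj_cc d)
  simpa using this

theorem coe_z_conj_tt : ((d.z : ↥(P : Subgroup G)) : G) * ((tt d : ↥(P : Subgroup G)) : G) *
    ((d.z : ↥(P : Subgroup G)) : G)⁻¹ =
    ((cc d : ↥(P : Subgroup G)) : G) * ((tt d : ↥(P : Subgroup G)) : G) := by
  have := congrArg Subtype.val (z_conj_tt d)
  simpa using this

/-- the image of `g c g⁻¹` for `g ∈ N(U)` moving `c` -/
theorem conj_cc_cases (U : Subgroup G) (hUP : U ≤ (P : Subgroup G))
    (hUA : U.subgroupOf (P : Subgroup G) = A d) (g : G) (hg : g ∈ normalizer (U : Set G))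
    (hgc : g * ((cc d : ↥(P : Subgroup G)) : G) * g⁻¹ ≠ ((cc d : ↥(P : Subgroup G)) : G)) :
    g * ((cc d : ↥(P : Subgroup G)) : G) * g⁻¹ = ((tt d : ↥(P : Subgroup G)) : G) ∨
    g * ((cc d : ↥(P : Subgroup G)) : G) * g⁻¹ =
      ((cc d : ↥(P : Subgroup G)) : G) * ((tt d : ↥(P : Subgroup G)) : G) := by
  have hmem := mem_U_iff P d U hUP hUA
  have h1 : g * ((cc d : ↥(P : Subgroup G)) : G) * g⁻¹ ∈ U :=
    (mem_normalizer_iff.mp hg _).mp ((hmem _).mpr ⟨_, _, rfl⟩)
  obtain ⟨i, j, h⟩ := (hmem _).mp h1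
  have h2 : (g * ((cc d : ↥(P : Subgroup G)) : G) * g⁻¹) *
      (g * ((cc d : ↥(P : Subgroup G)) : G) * g⁻¹) = 1 := by
    rw [← Fus.conj_mul', coe_cc_sq]; group
  rw [h] at h2 hgc ⊢
  rcases coe_el_invol P d i j h2 with h3 | h3 | h3 | h3
  · exfalso
    apply coe_cc_ne_one P d
    rw [h3] at h
    have := congrArg (fun w => g⁻¹ * w * g) h
    simpa [mul_assoc] using this
  · exact absurd h3 hgc
  · left; exact h3
  · right; exact h3

theorem conj_tt_cases (U : Subgroup G) (hUP : U ≤ (P : Subgroup G))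
    (hUA : U.subgroupOf (P : Subgroup G) = A d) (g : G) (hg : g ∈ normalizer (U : Set G)) :
    g * ((tt d : ↥(P : Subgroup G)) : G) * g⁻¹ = ((cc d : ↥(P : Subgroup G)) : G) ∨
    g * ((tt d : ↥(P : Subgroup G)) : G) * g⁻¹ = ((tt d : ↥(P : Subgroup G)) : G) ∨
    g * ((tt d : ↥(P : Subgroup G)) : G) * g⁻¹ =
      ((cc d : ↥(P : Subgroup G)) : G) * ((tt d : ↥(P : Subgroup G)) : G) := by
  have hmem := mem_U_iff P d U hUP hUA
  have h1 : g * ((tt d : ↥(P : Subgroup G)) : G) * g⁻¹ ∈ U :=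
    (mem_normalizer_iff.mp hg _).mp ((hmem _).mpr ⟨_, _, rfl⟩)
  obtain ⟨i, j, h⟩ := (hmem _).mp h1
  have h2 : (g * ((tt d : ↥(P : Subgroup G)) : G) * g⁻¹) *
      (g * ((tt d : ↥(P : Subgroup G)) : G) * g⁻¹) = 1 := by
    rw [← Fus.conj_mul', coe_tt_sq]; group
  rw [h] at h2 ⊢
  rcases coe_el_invol P d i j h2 with h3 | h3 | h3 | h3
  · exfalso
    apply coe_tt_ne_one P d
    rw [h3] at h
    have := congrArg (fun w => g⁻¹ * w * g) h
    simpa [mul_assoc] using this
  · left; exact h3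
  · right; left; exact h3
  · right; right; exact h3

/-- `P ≤ N_G(U)` -/
theorem sylow_le_normalizer_U [Finite G] (U : Subgroup G) (hUP : U ≤ (P : Subgroup G))
    (hUA : U.subgroupOf (P : Subgroup G) = A d) :
    (P : Subgroup G) ≤ normalizer (U : Set G) := by
  have hAnormal : (A d).Normal := Subgroup.normal_of_index_eq_two (index_A d)
  intro s hs
  apply NC.coe_mem_normalizer (P : Subgroup G) U hUP ⟨s, hs⟩
  rw [hUA, Subgroup.normalizer_eq_top]
  exact Subgroup.mem_top _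

/-- `U ≤ G'` when `N(U)` moves the central involution -/
theorem U_le_commutator [Finite G] (U : Subgroup G) (hUP : U ≤ (P : Subgroup G))
    (hUA : U.subgroupOf (P : Subgroup G) = A d) (g : G) (hg : g ∈ normalizer (U : Set G))
    (hgc : g * ((cc d : ↥(P : Subgroup G)) : G) * g⁻¹ ≠ ((cc d : ↥(P : Subgroup G)) : G)) :
    U ≤ commutator G := by
  have hmem := mem_U_iff P d U hUP hUA
  have hzN : ((d.z : ↥(P : Subgroup G)) : G) ∈ normalizer (U : Set G) :=
    sylow_le_normalizer_U P d U hUP hUA d.z.2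
  have hct : ((cc d : ↥(P : Subgroup G)) : G) * ((tt d : ↥(P : Subgroup G)) : G) =
      ((tt d : ↥(P : Subgroup G)) : G) * ((cc d : ↥(P : Subgroup G)) : G) := by
    rw [← Subgroup.coe_mul, ← Subgroup.coe_mul, cc_tt_comm]
  obtain ⟨h, hh, h1, h2, h3⟩ := Fus.exists_fpf ((cc d : ↥(P : Subgroup G)) : G)
    ((tt d : ↥(P : Subgroup G)) : G) g ((d.z : ↥(P : Subgroup G)) : G) (coe_cc_sq P d)
    (coe_tt_sq P d) hct (coe_cc_ne_one P d) (coe_tt_ne_one P d) (coe_cc_ne_tt P d)
    (coe_z_conj_cc P d) (coe_z_conj_tt P d) (conj_cc_cases P d U hUP hUA g hg hgc)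
    (conj_tt_cases P d U hUP hUA g hg)
  have hhN : h ∈ normalizer (U : Set G) := by
    rcases hh with rfl | rfl
    · exact hg
    · exact Subgroup.mul_mem _ hzN hg
  apply Fus.le_commutator_of_fixedPointFree U (fun w hw => two_pow_of_mem P w (hUP hw)) h
    (fun w hw => (mem_normalizer_iff.mp hhN w).mp hw)
  intro w hw hw1 hww
  obtain ⟨i, j, rfl⟩ := (hmem w).mp hw
  rcases coe_el_invol P d i j hww with h4 | h4 | h4 | h4
  · exact absurd h4 hw1
  · rw [h4]; exact h1
  · rw [h4]; exact h2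
  · rw [h4]; exact h3

/-- the Sylow subgroup lies in `G'` -/
theorem sylow_le_commutator [Finite G] (U : Subgroup G) (hUP : U ≤ (P : Subgroup G))
    (hUA : U.subgroupOf (P : Subgroup G) = A d) (g : G) (hg : g ∈ normalizer (U : Set G))
    (hgc : g * ((cc d : ↥(P : Subgroup G)) : G) * g⁻¹ ≠ ((cc d : ↥(P : Subgroup G)) : G))
    (hV : ∃ g' : G, ∃ i, g' * ((tt d : ↥(P : Subgroup G)) : G) * g'⁻¹ =
      ((el d i (-i) * d.z : ↥(P : Subgroup G)) : G)) :
    (P : Subgroup G) ≤ commutator G := by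
  have hU := U_le_commutator P d U hUP hUA g hg hgc
  have hmem := mem_U_iff P d U hUP hUA
  have hel : ∀ i j, ((el d i j : ↥(P : Subgroup G)) : G) ∈ commutator G :=
    fun i j => hU ((hmem _).mpr ⟨i, j, rfl⟩)
  have hz : ((d.z : ↥(P : Subgroup G)) : G) ∈ commutator G := by
    obtain ⟨g', i, hg'⟩ := hV
    have h1 : ((el d i (-i) * d.z : ↥(P : Subgroup G)) : G) ∈ commutator G := by
      rw [← hg']
      exact (inferInstance : (commutator G).Normal).conj_mem _ (hel _ _) g'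
    have h2 : ((d.z : ↥(P : Subgroup G)) : G) = ((el d i (-i) : ↥(P : Subgroup G)) : G)⁻¹ *
        ((el d i (-i) * d.z : ↥(P : Subgroup G)) : G) := by
      rw [Subgroup.coe_mul]; group
    rw [h2]
    exact Subgroup.mul_mem _ (Subgroup.inv_mem _ (hel _ _)) h1
  intro p hp
  rcases cases d ⟨p, hp⟩ with ⟨i, j, h⟩ | ⟨i, j, h⟩
  · have : p = ((el d i j : ↥(P : Subgroup G)) : G) := congrArg Subtype.val h
    rw [this]; exact hel i j
  · have : p = ((el d i j * d.z : ↥(P : Subgroup G)) : G) := congrArg Subtype.val h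
    rw [this, Subgroup.coe_mul]
    exact Subgroup.mul_mem _ (hel i j) hz

theorem isConj_of_eq {a b : G} (g : G) (h : g * a * g⁻¹ = b) : IsConj a b :=
  isConj_iff.mpr ⟨g, h⟩

/-- all involutions are conjugate -/
theorem invol_conj_cc [Finite G]
    (hU : ∃ g : G, g * ((cc d : ↥(P : Subgroup G)) : G) * g⁻¹ =
        ((tt d : ↥(P : Subgroup G)) : G) ∨
      g * ((cc d : ↥(P : Subgroup G)) : G) * g⁻¹ =
        ((cc d : ↥(P : Subgroup G)) : G) * ((tt d : ↥(P : Subgroup G)) : G))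
    (hV : ∃ g' : G, ∃ i, g' * ((tt d : ↥(P : Subgroup G)) : G) * g'⁻¹ =
      ((el d i (-i) * d.z : ↥(P : Subgroup G)) : G)) (t : G) (ht : orderOf t = 2) :
    ∃ g : G, g * t * g⁻¹ = ((cc d : ↥(P : Subgroup G)) : G) := by
  have : Fact (Nat.Prime 2) := ⟨Nat.prime_two⟩
  -- `ct ~ t`
  have h1 : IsConj (((cc d : ↥(P : Subgroup G)) : G) * ((tt d : ↥(P : Subgroup G)) : G))
      ((tt d : ↥(P : Subgroup G)) : G) :=
    (isConj_of_eq _ (coe_z_conj_tt P d)).symm
  -- `t ~ c`
  have h2 : IsConj ((tt d : ↥(P : Subgroup G)) : G) ((cc d : ↥(P : Subgroup G)) : G) := by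
    obtain ⟨g, hg | hg⟩ := hU
    · exact (isConj_of_eq g hg).symm
    · exact ((isConj_of_eq g hg).trans h1).symm
  -- `z ~ t`
  have h3 : ∀ i, IsConj ((el d i (-i) * d.z : ↥(P : Subgroup G)) : G)
      ((d.z : ↥(P : Subgroup G)) : G) := by
    intro i
    obtain ⟨r, hr⟩ := exists_conj_elz d i
    have h4 : (r : G) * ((d.z : ↥(P : Subgroup G)) : G) * (r : G)⁻¹ =
        ((el d i (-i) * d.z : ↥(P : Subgroup G)) : G) := by
      have := congrArg Subtype.val hr
      simpa using this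
    exact (isConj_of_eq _ h4).symm
  have h5 : IsConj ((d.z : ↥(P : Subgroup G)) : G) ((cc d : ↥(P : Subgroup G)) : G) := by
    obtain ⟨g', i, hg'⟩ := hV
    exact ((h3 i).symm.trans (isConj_of_eq g' hg').symm).trans h2
  obtain ⟨g₁, hg₁⟩ := Fus.exists_conj_mem_sylow P t 1 (by rw [ht, pow_one])
  have hs : orderOf (⟨g₁ * t * g₁⁻¹, hg₁⟩ : ↥(P : Subgroup G)) = 2 := by
    rw [Subgroup.orderOf_mk, Fus.orderOf_conj_eq, ht]
  obtain ⟨hs1, hs2⟩ := (orderOf_two_iff _).mp hs
  have h0 : IsConj t (g₁ * t * g₁⁻¹) := isConj_of_eq g₁ rfl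
  have key : IsConj t ((cc d : ↥(P : Subgroup G)) : G) := by
    rcases invol_cases d _ hs1 hs2 with h | h | h | ⟨i, h⟩
    · have h' : g₁ * t * g₁⁻¹ = ((cc d : ↥(P : Subgroup G)) : G) := congrArg Subtype.val h
      rw [h'] at h0; exact h0
    · have h' : g₁ * t * g₁⁻¹ = ((tt d : ↥(P : Subgroup G)) : G) := congrArg Subtype.val h
      rw [h'] at h0; exact h0.trans h2
    · have h' : g₁ * t * g₁⁻¹ = ((cc d : ↥(P : Subgroup G)) : G) *
          ((tt d : ↥(P : Subgroup G)) : G) := congrArg Subtype.val h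
      rw [h'] at h0; exact (h0.trans h1).trans h2
    · have h' : g₁ * t * g₁⁻¹ = ((el d i (-i) * d.z : ↥(P : Subgroup G)) : G) :=
        congrArg Subtype.val h
      rw [h'] at h0; exact (h0.trans (h3 i)).trans h5
  exact isConj_iff.mp key

theorem orderOf_coe_cc : orderOf ((cc d : ↥(P : Subgroup G)) : G) = 2 := by
  rw [Subgroup.orderOf_coe, orderOf_cc]

end Cfsg.Agent.Helper6.Wr

namespace Cfsg.Agent.Helper6.Wr

open Subgroup Cfsg.Agent.Helper6.Z2

variable {G : Type*} [Group G] (P : Sylow 2 G) (d : Data ↥(P : Subgroup G))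

/-- the abelian subgroup of index two is `A` -/
theorem setup_U [Finite G] (U : Subgroup G) (hUP : U ≤ (P : Subgroup G))
    (hUab : ∀ u ∈ U, ∀ v ∈ U, u * v = v * u) (hUcard : Nat.card U = 2 ^ (2 * d.n)) :
    U.subgroupOf (P : Subgroup G) = A d := by
  have e : U.subgroupOf (P : Subgroup G) ≃* U := Subgroup.subgroupOfEquivOfLe hUP
  apply eq_A_of_comm d
  · intro u hu v hv
    apply Subtype.ext
    exact hUab _ hu _ hv
  · rw [Nat.card_congr e.toEquiv, hUcard]

/-- the subgroup `V = Q Z(S)` in coordinates -/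
theorem setup_V [Finite G] (Q : Subgroup G) (hQP : Q ≤ (P : Subgroup G))
    (eQ : Q ≃* QuaternionGroup 2) :
    ∃ k, Q ⊔ (Subgroup.center ↥(P : Subgroup G)).map (P : Subgroup G).subtype ≤
        (P : Subgroup G) ∧
      (Q ⊔ (Subgroup.center ↥(P : Subgroup G)).map (P : Subgroup G).subtype).subgroupOf
        (P : Subgroup G) = VV d k := by
  have e : Q.subgroupOf (P : Subgroup G) ≃* Q := Subgroup.subgroupOfEquivOfLe hQP
  obtain ⟨k, hQ'⟩ := q8_mem d (Q.subgroupOf (P : Subgroup G)) (e.trans eQ)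
  have hsup : Q.subgroupOf (P : Subgroup G) ⊔ Subgroup.center ↥(P : Subgroup G) = VV d k :=
    sup_center_eq d _ k hQ'
  have hVmap : Q ⊔ (Subgroup.center ↥(P : Subgroup G)).map (P : Subgroup G).subtype =
      (VV d k).map (P : Subgroup G).subtype := by
    rw [← hsup, Subgroup.map_sup, Subgroup.map_subgroupOf_eq_of_le hQP]
  refine ⟨k, ?_, ?_⟩
  · rw [hVmap]; exact Subgroup.map_subtype_le _
  · rw [hVmap]
    exact Subgroup.comap_map_eq_self_of_injective (Subgroup.subtype_injective _) _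

/-- `3 ∣ |N(V) : C(V)|` when `3 ∣ |N(V) : V C(V)|` -/
theorem three_dvd_relIndex_centralizer (V : Subgroup G)
    (h : 3 ∣ (V ⊔ centralizer (V : Set G)).relIndex (normalizer (V : Set G))) :
    3 ∣ (centralizer (V : Set G)).relIndex (normalizer (V : Set G)) := by
  have hKN : V ⊔ centralizer (V : Set G) ≤ normalizer (V : Set G) :=
    sup_le Subgroup.le_normalizer (Fus.centralizer_le_normalizer' V)
  have hmul := Subgroup.relIndex_mul_relIndex (H := centralizer (V : Set G))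
    (K := V ⊔ centralizer (V : Set G)) (L := normalizer (V : Set G)) le_sup_right hKN
  rw [← hmul]
  exact Dvd.dvd.mul_left h _

end Cfsg.Agent.Helper6.Wr
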