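import Mathlib
import Cfsg.Agent.Lib.Helper6.NC

/-!
More `N/C` lemmas: Sylow arithmetic for `|N : C|`.
-/

set_option autoImplicit false

namespace Cfsg.Agent.Helper6.NC

open Subgroup

variable {G : Type*} [Group G]

/-- `|N : C| = |P : P ∩ C| · m` with `m` prime to `p`, for a Sylow `p`-subgroup `P ≤ N` and `C ⊴ N` -/
theorem relIndex_eq_mul_of_sylow [Finite G] {p : ℕ} [Fact p.Prime] (P : Sylow p G)
    (C N : Subgroup G) (hPN : (P : Subgroup G) ≤ N) (hCN : C ≤ N)
    (hnorm : (C.subgroupOf N).Normal) :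
    ∃ m, ¬ p ∣ m ∧ C.relIndex N = C.relIndex (P : Subgroup G) * m := by
  have : (C.subgroupOf N).Normal := hnorm
  have hKN : (P : Subgroup G) ⊔ C ≤ N := sup_le hPN hCN
  refine ⟨((P : Subgroup G) ⊔ C).relIndex N, ?_, ?_⟩
  · intro hdvd
    have h1 : ((P : Subgroup G) ⊔ C).relIndex N ∣ (P : Subgroup G).relIndex N :=
      Subgroup.relIndex_dvd_of_le_left N le_sup_left
    have h2 : (P : Subgroup G).relIndex N ∣ (P : Subgroup G).index :=
      Subgroup.relIndex_dvd_index_of_le hPN
    exact P.not_dvd_index (dvd_trans hdvd (dvd_trans h1 h2))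
  · have h1 := Subgroup.relIndex_mul_relIndex (H := C) (K := (P : Subgroup G) ⊔ C) (L := N)
      le_sup_right hKN
    rw [← h1]
    congr 1
    have h2 : C.relIndex ((P : Subgroup G) ⊔ C) =
        (C.subgroupOf N).relIndex (((P : Subgroup G) ⊔ C).subgroupOf N) :=
      (Subgroup.relIndex_subgroupOf hKN).symm
    rw [h2, Subgroup.subgroupOf_sup hPN hCN, Subgroup.relIndex_sup_right,
      Subgroup.relIndex_subgroupOf hPN]

theorem mem_normalizer_inf (A B : Subgroup G) (g : G) (hA : g ∈ normalizer (A : Set G))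
    (hB : g ∈ normalizer (B : Set G)) : g ∈ normalizer ((A ⊓ B : Subgroup G) : Set G) := by
  rw [mem_normalizer_iff] at hA hB ⊢
  intro h
  rw [Subgroup.mem_inf, Subgroup.mem_inf, ← hA h, ← hB h]

/-- a cyclic `2`-subgroup centralized by a Sylow `2`-subgroup has `N = C` -/
theorem normalizer_le_centralizer_of_cyclic [Finite G] (P : Sylow 2 G) (Z : Subgroup G)
    (hZ : IsCyclic Z) (hZ2 : IsPGroup 2 Z) (hPZ : (P : Subgroup G) ≤ centralizer (Z : Set G)) :
    normalizer (Z : Set G) ≤ centralizer (Z : Set G) := by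
  have : Fact (Nat.Prime 2) := ⟨Nat.prime_two⟩
  rw [← Subgroup.relIndex_eq_one]
  have h1 := relIndex_centralizer_dvd Z
  rw [IsCyclic.card_mulAut] at h1
  obtain ⟨k, hk⟩ := hZ2.exists_card_eq
  have hCN : centralizer (Z : Set G) ≤ normalizer (Z : Set G) := by
    intro c hc
    rw [mem_normalizer_iff]
    intro t
    have key : ∀ c : G, c ∈ centralizer (Z : Set G) → ∀ t ∈ Z, c * t * c⁻¹ ∈ Z := by
      intro c hc t ht
      have h2 : t * c = c * t := (mem_centralizer_iff.mp hc) t ht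
      have h3 : c * t * c⁻¹ = t := by rw [← h2]; group
      rw [h3]; exact ht
    constructor
    · exact key c hc t
    · intro ht
      have := key c⁻¹ (inv_mem hc) _ ht
      simpa [mul_assoc] using this
  have h2 : (centralizer (Z : Set G)).relIndex (normalizer (Z : Set G)) ∣
      (P : Subgroup G).relIndex (normalizer (Z : Set G)) :=
    Subgroup.relIndex_dvd_of_le_left _ hPZ
  have h3 : (P : Subgroup G).relIndex (normalizer (Z : Set G)) ∣ (P : Subgroup G).index :=
    Subgroup.relIndex_dvd_index_of_le (le_trans hPZ hCN)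
  have hodd : ¬ 2 ∣ (centralizer (Z : Set G)).relIndex (normalizer (Z : Set G)) := fun h =>
    P.not_dvd_index (dvd_trans h (dvd_trans h2 h3))
  -- a divisor of a power of two
  have hpow : (centralizer (Z : Set G)).relIndex (normalizer (Z : Set G)) ∣ 2 ^ k := by
    rw [hk] at h1
    rcases Nat.eq_zero_or_pos k with h0 | h0
    · rw [h0, pow_zero, Nat.totient_one] at h1
      rw [h0, pow_zero]; exact h1
    · rw [Nat.totient_prime_pow Nat.prime_two h0] at h1
      have : 2 ^ (k - 1) * (2 - 1) ∣ 2 ^ k := by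
        rw [show 2 - 1 = 1 by norm_num, mul_one]
        exact pow_dvd_pow 2 (by omega)
      exact dvd_trans h1 this
  obtain ⟨j, -, hj⟩ := (Nat.dvd_prime_pow Nat.prime_two).mp hpow
  rcases Nat.eq_zero_or_pos j with h0 | h0
  · rw [hj, h0, pow_zero]
  · exfalso
    apply hodd
    rw [hj]
    exact dvd_pow_self 2 (by omega)

/-- the arithmetic conclusion: `2m ∣ 2^k · 6` with `m` odd forces `2m ∈ {2, 6}` -/
theorem two_or_six_of_dvd (r m k : ℕ) (hr : r = 2 * m) (hm : ¬ 2 ∣ m) (hdvd : r ∣ 2 ^ k * 6) :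
    r = 2 ∨ r = 6 := by
  have h1 : m ∣ 2 ^ k * 6 := dvd_trans ⟨2, by rw [hr]; ring⟩ hdvd
  have hcop : Nat.Coprime m (2 ^ k) := by
    apply Nat.Coprime.pow_right
    rw [Nat.coprime_comm, Nat.Prime.coprime_iff_not_dvd Nat.prime_two]
    exact hm
  have h2 : m ∣ 6 := hcop.dvd_of_dvd_mul_left h1
  have h3 : m ≤ 6 := Nat.le_of_dvd (by norm_num) h2
  interval_cases m <;> omega

end Cfsg.Agent.Helper6.NC
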