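import Mathlib
import Cfsg.Agent.Lib.Helper23.ZS4Defs
import Cfsg.Agent.S2911
import Cfsg.Agent.S0111
import Cfsg.Agent.Lib.Helper6.ZS4H6Basic
import Cfsg.Agent.Lib.Helper23.ZS4SYLISO

/-!
# S3222, PIECE INDEX2: a normal subgroup of index 2 not containing `t`
-/

set_option autoImplicit false

namespace Cfsg.Agent.Helper23.ZS4

variable {G : Type*} [Group G]

/-- PIECE INDEX2. -/
theorem exists_index_two [Finite G] {t z v τ : G} (T : Sylow 2 G)
    (L : Loc t z v τ (T : Subgroup G)) :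
    ∃ M : Subgroup G, M.Normal ∧ M.index = 2 ∧ t ∉ M := by
  classical
  obtain ⟨M0, hM0⟩ := Cfsg.Agent.S2911.result T (syl_iso L)
  have hM0n : M0.Normal := Subgroup.normal_of_index_eq_two hM0
  by_cases htM : t ∉ M0
  · exact ⟨M0, hM0n, hM0, htM⟩
  rw [not_not] at htM
  obtain ⟨D, hDT, hD8, htD, hvD, hτD, hDinv⟩ := L.exD
  have hrel : D.relIndex (T : Subgroup G) = 2 := by
    have h1 : Nat.card (D.subgroupOf (T : Subgroup G)) = Nat.card D :=
      Nat.card_congr (Subgroup.subgroupOfEquivOfLe hDT).toEquiv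
    have h2 := Subgroup.card_mul_index (D.subgroupOf (T : Subgroup G))
    rw [h1, hD8, L.card_T] at h2
    rw [Subgroup.relIndex]
    omega
  rcases Cfsg.Agent.S0111.result T D hDT hrel t L.ht L.tT htD with h | ⟨g, hg⟩
  · exact h
  exfalso
  have hd2 : orderOf (g * t * g⁻¹) = 2 := by rw [H6.orderOf_conj', L.ht]
  have hdM : g * t * g⁻¹ ∈ M0 := hM0n.conj_mem t htM g
  obtain ⟨h1, h2, h3⟩ := H6.conj_t_ne L g
  have hzM : z ∈ M0 := H6.z_mem_of_index_two L M0 hM0
  have hvM : v ∈ M0 := H6.v_mem_of_z_mem L M0 hzM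
  have hτM : τ ∈ M0 := by
    rcases hDinv _ hg hd2 with h | h | h | h | h
    · exact absurd h h1
    · exact absurd h h2
    · exact absurd h h3
    · rw [← h]; exact hdM
    · have : τ = (g * t * g⁻¹) * z := by
        rw [h, mul_assoc, H6.sq_of_two L.hz, mul_one]
      rw [this]
      exact M0.mul_mem hdM hzM
  have hTM : (T : Subgroup G) ≤ M0 := by
    rw [← L.gen_T, Subgroup.closure_le]
    intro x hx
    rcases hx with rfl | rfl | rfl
    · exact htM
    · exact hvM
    · exact hτM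
  have hdvd : 2 ∣ (T : Subgroup G).index := by
    rw [← Subgroup.relIndex_mul_index hTM, hM0]
    exact dvd_mul_left 2 _
  exact T.not_dvd_index hdvd

end Cfsg.Agent.Helper23.ZS4
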