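import Mathlib
import Cfsg.Agent.Lib.Helper26.L33Defs
import Cfsg.Agent.Lib.Helper6.ZS4H6Basic

/-!
# S2916: generic lemmas shared by helper6's pieces (C3, C5, C6, C8B, C8C, C9)
-/

set_option autoImplicit false

namespace Cfsg.Agent.Helper26.L33.H6

open Cfsg.Agent.Helper23.ZS4.H6

variable {G : Type*} [Group G]

/-- An element of odd order lies in every subgroup of index 2. -/
theorem mem_of_index_two_of_odd {H : Subgroup G} (h2 : H.index = 2) (x : G)
    (hx : Odd (orderOf x)) : x ∈ H := by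
  obtain ⟨k, hk⟩ := hx
  have h1 : x ^ 2 ∈ H := Subgroup.sq_mem_of_index_two h2 x
  have h3 : x = (x ^ 2) ^ (k + 1) := by
    rw [← pow_mul, show 2 * (k + 1) = (2 * k + 1) + 1 by ring, pow_succ, ← hk, pow_orderOf_eq_one,
      one_mul]
  rw [h3]
  exact H.pow_mem h1 _

theorem mem_zpowers_two {t z : G} (ht : orderOf t = 2) (hz : z ∈ Subgroup.zpowers t) :
    z = 1 ∨ z = t := by
  obtain ⟨k, rfl⟩ := Subgroup.mem_zpowers_iff.1 hz
  have h2 : t ^ (2 : ℤ) = 1 := by
    have := pow_orderOf_eq_one t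
    rw [ht] at this
    exact_mod_cast this
  rcases Int.emod_two_eq_zero_or_one k with h | h
  · left
    rw [← Int.emod_add_mul_ediv k 2, h, zero_add, zpow_mul, h2, one_zpow]
  · right
    rw [← Int.emod_add_mul_ediv k 2, h, zpow_add, zpow_mul, h2, one_zpow, mul_one, zpow_one]

theorem mem_zpowers_three {u z : G} (hu : orderOf u = 3) (hz : z ∈ Subgroup.zpowers u) :
    z = 1 ∨ z = u ∨ z = u⁻¹ := by
  obtain ⟨k, rfl⟩ := Subgroup.mem_zpowers_iff.1 hz
  have h3 : u ^ (3 : ℤ) = 1 := by
    have := pow_orderOf_eq_one u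
    rw [hu] at this
    exact_mod_cast this
  have hinv : u⁻¹ = u ^ (2 : ℤ) := by
    rw [inv_eq_iff_mul_eq_one]
    calc u * u ^ (2 : ℤ) = u ^ (3 : ℤ) := by
          rw [show (3 : ℤ) = 1 + 2 by norm_num, zpow_add, zpow_one]
      _ = 1 := h3
  have hk : k % 3 = 0 ∨ k % 3 = 1 ∨ k % 3 = 2 := by omega
  rcases hk with h | h | h
  · left
    rw [← Int.emod_add_mul_ediv k 3, h, zero_add, zpow_mul, h3, one_zpow]
  · right; left
    rw [← Int.emod_add_mul_ediv k 3, h, zpow_add, zpow_mul, h3, one_zpow, mul_one, zpow_one]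
  · right; right
    rw [← Int.emod_add_mul_ediv k 3, h, zpow_add, zpow_mul, h3, one_zpow, mul_one, hinv]

/-- Fibre counting: if `f` maps `N` into a finite set `T` and two elements of `N` with the same image
differ by an element of `C`, then `|N| ≤ |T| · |C|`. -/
theorem card_le_mul_of_fiber {β : Type*} [Finite G] (N C : Subgroup G) (f : G → β) (T : Set β)
    (hT : T.Finite) (hf : ∀ n ∈ N, f n ∈ T)
    (hfib : ∀ n ∈ N, ∀ m ∈ N, f n = f m → m⁻¹ * n ∈ C) : Nat.card N ≤ T.ncard * Nat.card C := by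
  classical
  have : Fintype G := Fintype.ofFinite G
  have hN : Nat.card N = (Finset.univ.filter (· ∈ N)).card := by
    rw [Nat.card_eq_fintype_card, Fintype.card_subtype]
  have hC : Nat.card C = (Finset.univ.filter (· ∈ C)).card := by
    rw [Nat.card_eq_fintype_card, Fintype.card_subtype]
  rw [hN]
  have h1 := Finset.card_le_mul_card_image (f := f) (Finset.univ.filter (· ∈ N)) (Nat.card C) ?_
  · refine h1.trans ?_
    rw [mul_comm]
    apply Nat.mul_le_mul_right
    rw [Set.ncard_eq_toFinset_card T hT]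
    apply Finset.card_le_card
    intro b hb
    obtain ⟨n, hn, rfl⟩ := Finset.mem_image.1 hb
    rw [Set.Finite.mem_toFinset]
    exact hf n (Finset.mem_filter.1 hn).2
  · intro b hb
    obtain ⟨n0, hn0, rfl⟩ := Finset.mem_image.1 hb
    have hn0N : n0 ∈ N := (Finset.mem_filter.1 hn0).2
    rw [hC]
    apply Finset.card_le_card_of_injOn (fun x => n0⁻¹ * x)
    · intro x hx
      have hx' := Finset.mem_filter.1 (Finset.mem_coe.1 hx)
      have hxN : x ∈ N := (Finset.mem_filter.1 hx'.1).2
      simp only [Finset.coe_filter, Finset.mem_univ, true_and, Set.mem_ofPred_eq]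
      exact hfib x hxN n0 hn0N hx'.2
    · intro x _ y _ hxy
      exact mul_left_cancel hxy

end Cfsg.Agent.Helper26.L33.H6
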