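import Mathlib
import Cfsg.Agent.Lib.Helper26.L33Defs
import Cfsg.Agent.Lib.Helper6.L33H6Basic

/-!
# S2916, PIECE C5: `O₃(C(x))` for `x ~ u`
-/

set_option autoImplicit false
set_option linter.unusedSectionVars false

namespace Cfsg.Agent.Helper26.L33

open Cfsg.Agent.Helper23.ZS4.H6

universe u v

section C

variable {G : Type u} [Group G] [Finite G] [IsSimpleGroup G]

/-- the case `x = u` of `uniq27` gives `Q = P` -/
theorem uniq27_self {t u s : G} {P : Subgroup G} (h : Cfg2 G t u s P) :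
    Nat.card (Subgroup.centralizer ({u} : Set G)) = 54 ∧
      ∀ Q' : Subgroup G, Q' ≤ Subgroup.centralizer ({u} : Set G) → (∃ j : ℕ, Nat.card Q' = 3 ^ j) → Q' ≤ P := by
  have h54 : Nat.card (Subgroup.centralizer ({u} : Set G)) = 54 := by
    rw [h.cardCentU, h.cardP]
  refine ⟨h54, ?_⟩
  intro Q' hQ' ⟨j, hj⟩
  have hidx : (P.subgroupOf (Subgroup.centralizer ({u} : Set G))).index = 2 := by
    have h1 : Nat.card (P.subgroupOf (Subgroup.centralizer ({u} : Set G))) = 27 := by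
      rw [Nat.card_congr (Subgroup.subgroupOfEquivOfLe h.K_le).toEquiv, h.cardP]
    have h2 := Subgroup.card_mul_index (P.subgroupOf (Subgroup.centralizer ({u} : Set G)))
    rw [h1, h54] at h2
    omega
  intro x hx
  have hodd : Odd (orderOf x) := by
    have h1 : orderOf (⟨x, hx⟩ : ↥Q') ∣ Nat.card Q' := orderOf_dvd_natCard _
    rw [← Subgroup.orderOf_coe, hj] at h1
    exact (Odd.pow (by decide : Odd 3)).of_dvd_nat h1
  have := H6.mem_of_index_two_of_odd hidx ⟨x, hQ' hx⟩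
    (by rw [← Subgroup.orderOf_coe]; exact hodd)
  exact Subgroup.mem_subgroupOf.1 this

/-- PIECE C5. -/
theorem uniq27 {t u s : G} {P : Subgroup G} (h : Cfg2 G t u s P) (x : G) (hx : IsConj u x) :
    ∃ Q : Subgroup G, Nat.card Q = 27 ∧ Q ≤ Subgroup.centralizer ({x} : Set G) ∧
      Nat.card (Subgroup.centralizer ({x} : Set G)) = 54 ∧
      ∀ Q' : Subgroup G, Q' ≤ Subgroup.centralizer ({x} : Set G) → (∃ j : ℕ, Nat.card Q' = 3 ^ j) → Q' ≤ Q := by
  obtain ⟨h54, huniq⟩ := uniq27_self h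
  obtain ⟨c, hc⟩ := isConj_iff.1 hx
  -- `hc : c * u * c⁻¹ = x`
  refine ⟨P.map (MulAut.conj c).toMonoidHom, ?_, ?_, ?_, ?_⟩
  · rw [Subgroup.card_map_of_injective (MulAut.conj c).injective, h.cardP]
  · rintro _ ⟨p, hp, rfl⟩
    rw [mem_cent, ← hc]
    have hpu : p * u = u * p := mem_cent.1 (h.K_le hp)
    simp only [MulEquiv.coe_toMonoidHom, MulAut.conj_apply]
    calc c * p * c⁻¹ * (c * u * c⁻¹) = c * (p * u) * c⁻¹ := by group
      _ = c * (u * p) * c⁻¹ := by rw [hpu]
      _ = c * u * c⁻¹ * (c * p * c⁻¹) := by group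
  · rw [← hc, card_cent_conj, h54]
  · intro Q' hQ' hj
    have h1 : Q'.map (MulAut.conj c⁻¹).toMonoidHom ≤ P := by
      apply huniq
      · rintro _ ⟨q, hq, rfl⟩
        have hqx : q * x = x * q := mem_cent.1 (hQ' hq)
        rw [mem_cent]
        simp only [MulEquiv.coe_toMonoidHom, MulAut.conj_apply, inv_inv]
        calc c⁻¹ * q * c * u = c⁻¹ * (q * (c * u * c⁻¹)) * c := by group
          _ = c⁻¹ * (q * x) * c := by rw [hc]
          _ = c⁻¹ * (x * q) * c := by rw [hqx]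
          _ = c⁻¹ * (c * u * c⁻¹ * q) * c := by rw [hc]
          _ = u * (c⁻¹ * q * c) := by group
      · obtain ⟨j, hj⟩ := hj
        exact ⟨j, by rw [Subgroup.card_map_of_injective (MulAut.conj c⁻¹).injective, hj]⟩
    intro q hq
    refine ⟨c⁻¹ * q * c, ?_, ?_⟩
    · apply h1
      exact ⟨q, hq, by simp⟩
    · simp only [MulEquiv.coe_toMonoidHom, MulAut.conj_apply]
      group

end C

end Cfsg.Agent.Helper26.L33
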