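import Mathlib
import Cfsg.Agent.Lib.Helper26.L33Defs
import Cfsg.Agent.Lib.Helper15.ZS4TWOCOMP
import Cfsg.Agent.Lib.Helper6.L33H6Basic
import Cfsg.Agent.Lib.Helper3.L33_C1

/-!
# S2916, PIECE C3: the normal 2-complement of `C(u)`
-/

set_option autoImplicit false
set_option linter.unusedSectionVars false

namespace Cfsg.Agent.Helper26.L33

open Cfsg.Agent.Helper23.ZS4.H6

universe u v

section C

variable {G : Type u} [Group G] [Finite G] [IsSimpleGroup G]

namespace C3

/-- In a finite 2-subgroup `Q` of order at least 4 containing the involution `t` there is an element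
commuting with `t` other than `1` and `t`. -/
theorem exists_comm {G : Type u} [Group G] (Q : Subgroup G) [Finite Q] (hQ : IsPGroup 2 Q)
    (h4 : 2 < Nat.card Q)
    (t : G) (htQ : t ∈ Q) : ∃ z ∈ Q, z ≠ 1 ∧ z ≠ t ∧ z * t = t * z := by
  classical
  have : Fact (Nat.Prime 2) := ⟨Nat.prime_two⟩
  have : Nontrivial Q := by
    rw [← Finite.one_lt_card_iff_nontrivial]; omega
  have hc := hQ.center_nontrivial
  obtain ⟨⟨z0, hz0⟩, hz01⟩ := exists_ne (1 : Subgroup.center Q)
  have hz0c : ∀ q : Q, q * z0 = z0 * q := fun q => (Subgroup.mem_center_iff.1 hz0 q)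
  by_cases hzt : (z0 : G) = t
  · -- `t` central in `Q`: any third element works
    obtain ⟨z, hz1, hz2⟩ : ∃ z : Q, z ≠ 1 ∧ z ≠ ⟨t, htQ⟩ := by
      by_contra hcon
      push Not at hcon
      have hsub : (Set.univ : Set Q) ⊆ {1, ⟨t, htQ⟩} := by
        intro z _
        by_cases h : z = 1
        · exact Or.inl h
        · exact Or.inr (hcon z h)
      have h1 := Set.ncard_le_ncard hsub (Set.toFinite _)
      rw [Set.ncard_univ] at h1
      have h2 : ({1, ⟨t, htQ⟩} : Set Q).ncard ≤ 2 :=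
        (Set.ncard_insert_le _ _).trans (by rw [Set.ncard_singleton])
      omega
    refine ⟨z, z.2, fun h => hz1 (Subtype.ext h), fun h => hz2 (Subtype.ext h), ?_⟩
    have := hz0c z
    have h3 := congrArg Subtype.val this
    simp only [Subgroup.coe_mul, hzt] at h3
    exact h3
  · refine ⟨z0, z0.2, ?_, hzt, ?_⟩
    · intro h
      apply hz01
      apply Subtype.ext
      apply Subtype.ext
      exact h
    · have := hz0c ⟨t, htQ⟩
      have h3 := congrArg Subtype.val this
      simp only [Subgroup.coe_mul] at h3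
      exact h3.symm

end C3

/-- PIECE C3. -/
theorem exists_K {t u s : G} (h : Cfg G t u s) : ∃ K : Subgroup G, Cfg1 G t u s K := by
  classical
  have : Fact (Nat.Prime 2) := ⟨Nat.prime_two⟩
  obtain ⟨R, hRdef⟩ : ∃ R : Subgroup G, R = Subgroup.centralizer ({u} : Set G) := ⟨_, rfl⟩
  have hmemR : ∀ x : G, x ∈ R ↔ x * u = u * x := by
    intro x; rw [hRdef]; exact mem_cent
  have htR : t ∈ R := (hmemR t).2 h.tu
  have huR : u ∈ R := (hmemR u).2 rfl
  have hA6 : Nat.card ↥(Subgroup.centralizer ({t} : Set G) ⊓ R) = 6 := by rw [hRdef]; exact h.cardCu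
  -- Step 1: Sylow 2-subgroups of `R` have order at most 2
  have hstep1 : ∀ P : Sylow 2 ↥R, Nat.card P ≤ 2 := by
    intro P
    have h2t : IsPGroup 2 (Subgroup.zpowers (⟨t, htR⟩ : ↥R)) := by
      apply IsPGroup.of_card (n := 1)
      rw [Nat.card_zpowers, ← Subgroup.orderOf_coe]
      simpa using h.ot
    obtain ⟨P0, hP0⟩ := h2t.exists_le_sylow
    have hcardeq : Nat.card P = Nat.card P0 := by
      rw [Sylow.card_eq_multiplicity, Sylow.card_eq_multiplicity]
    rw [hcardeq]
    by_contra hgt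
    push Not at hgt
    -- `Q` the image of `P0` in `G`
    obtain ⟨Q, hQdef⟩ : ∃ Q : Subgroup G, Q = (P0 : Subgroup ↥R).map R.subtype := ⟨_, rfl⟩
    have hQp : IsPGroup 2 Q := by rw [hQdef]; exact P0.isPGroup'.map R.subtype
    have hQcard : Nat.card Q = Nat.card P0 := by
      rw [hQdef]; exact Subgroup.card_map_of_injective R.subtype_injective
    have hQR : Q ≤ R := by rw [hQdef]; exact Subgroup.map_subtype_le _
    have htQ : t ∈ Q := by
      rw [hQdef]
      exact ⟨⟨t, htR⟩, hP0 (Subgroup.mem_zpowers _), rfl⟩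
    obtain ⟨z, hzQ, hz1, hzt, hzc⟩ := C3.exists_comm Q hQp (by rw [hQcard]; exact hgt) t htQ
    -- `D = Q ∩ C(t)` has order at most 2
    obtain ⟨D, hDdef⟩ : ∃ D : Subgroup G, D = Q ⊓ Subgroup.centralizer ({t} : Set G) := ⟨_, rfl⟩
    have hDp : IsPGroup 2 D := by rw [hDdef]; exact hQp.to_le inf_le_left
    have hDle : D ≤ Subgroup.centralizer ({t} : Set G) ⊓ R := by
      rw [hDdef]; exact le_inf inf_le_right (inf_le_left.trans hQR)
    have hDdvd : Nat.card D ∣ 6 := hA6 ▸ Subgroup.card_dvd_of_le hDle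
    obtain ⟨k, hk⟩ := hDp.exists_card_eq
    have hk1 : k ≤ 1 := by
      by_contra hk2
      push Not at hk2
      have h4 : 2 ^ 2 ∣ 2 ^ k := pow_dvd_pow 2 hk2
      rw [← hk] at h4
      have := h4.trans hDdvd
      omega
    have hD2 : Nat.card D ≤ 2 := by
      rw [hk]
      calc 2 ^ k ≤ 2 ^ 1 := Nat.pow_le_pow_right (by norm_num) hk1
        _ = 2 := by norm_num
    have htD : t ∈ D := by rw [hDdef]; exact ⟨htQ, mem_cent.2 rfl⟩
    have hzD : z ∈ D := by rw [hDdef]; exact ⟨hzQ, mem_cent.2 hzc⟩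
    have hzp : Subgroup.zpowers t = D := by
      apply Subgroup.eq_of_le_of_card_ge
      · rw [Subgroup.zpowers_le]; exact htD
      · rw [Nat.card_zpowers, h.ot]; exact hD2
    rw [← hzp] at hzD
    rcases H6.mem_zpowers_two h.ot hzD with h' | h'
    · exact hz1 h'
    · exact hzt h'
  -- Step 2: the normal 2-complement
  obtain ⟨K0, hK0c, hK0odd, hK0i⟩ := Cfsg.Agent.Helper23.ZS4.exists_char_odd ↥R hstep1
  have hK0n : K0.Normal := by
    have := hK0c
    exact Subgroup.normal_of_characteristic K0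
  have hReven : 2 ∣ Nat.card R := by
    have := orderOf_dvd_natCard (⟨t, htR⟩ : ↥R)
    rw [← Subgroup.orderOf_coe] at this
    simpa [h.ot] using this
  have hcm := Subgroup.card_mul_index K0
  have hK0i2 : K0.index = 2 := by
    have hne1 : K0.index ≠ 1 := by
      intro h1
      rw [h1, mul_one] at hcm
      rw [← hcm] at hReven
      obtain ⟨m, hm⟩ := hK0odd
      omega
    have hne0 : K0.index ≠ 0 := by
      intro h0
      rw [h0, mul_zero] at hcm
      have := Nat.card_pos (α := ↥R)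
      omega
    omega
  rw [hK0i2] at hcm
  obtain ⟨K, hKdef⟩ : ∃ K : Subgroup G, K = K0.map R.subtype := ⟨_, rfl⟩
  have hKcard : Nat.card K = Nat.card K0 := by
    rw [hKdef]; exact Subgroup.card_map_of_injective R.subtype_injective
  have hKR : K ≤ R := by rw [hKdef]; exact Subgroup.map_subtype_le _
  -- membership in `K`: elements of `R` of odd order
  have hmemK : ∀ x : G, x ∈ R → Odd (orderOf x) → x ∈ K := by
    intro x hxR hxo
    rw [hKdef]
    refine ⟨⟨x, hxR⟩, ?_, rfl⟩
    apply H6.mem_of_index_two_of_odd hK0i2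
    rw [← Subgroup.orderOf_coe]
    exact hxo
  have hKodd : Odd (Nat.card K) := by rw [hKcard]; exact hK0odd
  have hoddK : ∀ x ∈ K, Odd (orderOf x) := by
    intro x hx
    have h1 : orderOf (⟨x, hx⟩ : ↥K) ∣ Nat.card K := orderOf_dvd_natCard _
    rw [← Subgroup.orderOf_coe] at h1
    exact hKodd.of_dvd_nat h1
  -- the order of `K`
  have hcardR : Nat.card R = 2 * Nat.card K := by rw [hKcard, ← hcm, mul_comm]
  have hKdvd : Nat.card K ∣ 351 := by
    have h1 : Nat.card K ∣ Nat.card G := Subgroup.card_subgroup_dvd_card K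
    rw [h.card, show (5616 : ℕ) = 16 * 351 by norm_num] at h1
    have hcop : Nat.Coprime (Nat.card K) 16 := by
      have : Nat.Coprime (Nat.card K) 2 := Nat.coprime_two_right.2 hKodd
      exact (Nat.Coprime.pow_right 4 this)
    exact hcop.dvd_of_dvd_mul_left h1
  have h13 : ¬ 13 ∣ Nat.card K := by
    intro hd
    have : Fact (Nat.Prime 13) := ⟨by norm_num⟩
    obtain ⟨y, hy⟩ := exists_prime_orderOf_dvd_card' (G := ↥K) 13 hd
    have hy' : orderOf (y : G) = 13 := by rw [Subgroup.orderOf_coe]; exact hy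
    have hyR : (y : G) ∈ R := hKR y.2
    have hu13 := cent13 h (y : G) u hy' ((hmemR _).1 hyR).symm
    have hdvd : orderOf u ∣ 13 := by
      have h1 := orderOf_dvd_natCard (⟨u, hu13⟩ : ↥(Subgroup.zpowers (y : G)))
      rw [← Subgroup.orderOf_coe, Nat.card_zpowers, hy'] at h1
      exact h1
    rw [h.ou] at hdvd
    omega
  have hK27 : Nat.card K ∣ 27 := by
    have hcop : Nat.Coprime (Nat.card K) 13 := by
      rw [Nat.coprime_comm]
      exact (Nat.Prime.coprime_iff_not_dvd (by norm_num)).2 h13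
    rw [show (351 : ℕ) = 13 * 27 by norm_num] at hKdvd
    exact hcop.dvd_of_dvd_mul_left hKdvd
  have hKpow : ∃ j : ℕ, Nat.card K = 3 ^ j := by
    rw [show (27 : ℕ) = 3 ^ 3 by norm_num] at hK27
    obtain ⟨j, -, hj⟩ := (Nat.dvd_prime_pow Nat.prime_three).1 hK27
    exact ⟨j, hj⟩
  refine ⟨K, Cfg1.mk h ?_ hKpow ?_ ?_ ?_ ?_ ?_⟩
  · rw [← hRdef]; exact hKR
  · rw [← hRdef]; exact hcardR
  · apply hmemK u huR
    rw [h.ou]; decide
  · intro r hr x hx
    rw [← hRdef] at hr
    rw [hKdef] at hx ⊢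
    obtain ⟨x0, hx0, rfl⟩ := hx
    exact ⟨⟨r, hr⟩ * x0 * ⟨r, hr⟩⁻¹, hK0n.conj_mem x0 hx0 ⟨r, hr⟩, rfl⟩
  · intro x hx
    apply hmemK
    · -- `s x s⁻¹` centralizes `u`
      rw [hmemR]
      have hxu : x * u = u * x := (hmemR x).1 (hKR hx)
      have hxui : x * u⁻¹ = u⁻¹ * x := by
        calc x * u⁻¹ = u⁻¹ * (u * x) * u⁻¹ := by group
          _ = u⁻¹ * (x * u) * u⁻¹ := by rw [hxu]
          _ = u⁻¹ * x := by group
      have hsu : s⁻¹ * u * s = u⁻¹ := by
        have hsi : s⁻¹ = s := inv_of_two h.os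
        calc s⁻¹ * u * s = s * u * s⁻¹ := by rw [hsi]
          _ = u⁻¹ := h.su
      calc s * x * s⁻¹ * u = s * (x * (s⁻¹ * u * s)) * s⁻¹ := by group
        _ = s * (x * u⁻¹) * s⁻¹ := by rw [hsu]
        _ = s * (u⁻¹ * x) * s⁻¹ := by rw [hxui]
        _ = s * (s⁻¹ * u * s * x) * s⁻¹ := by rw [hsu]
        _ = u * (s * x * s⁻¹) := by group
    · rw [orderOf_conj']; exact hoddK x hx
  · intro x hx hxt
    -- `x ∈ C(t) ∩ C(u)`, of odd order
    have hxA : x ∈ Subgroup.centralizer ({t} : Set G) ⊓ R :=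
      ⟨mem_cent.2 hxt.symm, hKR hx⟩
    have huA : Subgroup.zpowers u ≤ Subgroup.centralizer ({t} : Set G) ⊓ R := by
      rw [Subgroup.zpowers_le]
      exact ⟨mem_cent.2 h.tu.symm, huR⟩
    have hidx : ((Subgroup.zpowers u).subgroupOf
        (Subgroup.centralizer ({t} : Set G) ⊓ R)).index = 2 := by
      have h1 : Nat.card ((Subgroup.zpowers u).subgroupOf
          (Subgroup.centralizer ({t} : Set G) ⊓ R)) = 3 := by
        rw [Nat.card_congr (Subgroup.subgroupOfEquivOfLe huA).toEquiv, Nat.card_zpowers, h.ou]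
      have h2 := Subgroup.card_mul_index ((Subgroup.zpowers u).subgroupOf
          (Subgroup.centralizer ({t} : Set G) ⊓ R))
      rw [h1, hA6] at h2
      omega
    have := H6.mem_of_index_two_of_odd hidx ⟨x, hxA⟩
      (by rw [← Subgroup.orderOf_coe]; exact hoddK x hx)
    exact Subgroup.mem_subgroupOf.1 this

end C

end Cfsg.Agent.Helper26.L33
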