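import Mathlib
import Cfsg.Agent.Lib.Helper26.L33Defs
import Cfsg.Agent.Lib.Helper6.L33H6Basic

/-!
# S2916: `P⟨t, s⟩ ≤ N(E)` for `E = ⟨u, a'⟩` (shared by helper6's pieces C8C and C9)
-/

set_option autoImplicit false
set_option linter.unusedSectionVars false

namespace Cfsg.Agent.Helper26.L33.H6

open Cfsg.Agent.Helper23.ZS4.H6

universe u

variable {G : Type u} [Group G]

/-- An involution mapping the generators of `closure S` into `closure S` normalizes it. -/
theorem mem_normalizer_closure_of_invol {S : Set G} {n : G} (hn : n * n = 1)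
    (h : ∀ x ∈ S, n * x * n⁻¹ ∈ Subgroup.closure S) :
    n ∈ Subgroup.normalizer ((Subgroup.closure S : Subgroup G) : Set G) := by
  have fwd : ∀ x ∈ Subgroup.closure S, n * x * n⁻¹ ∈ Subgroup.closure S := by
    intro x hx
    induction hx using Subgroup.closure_induction with
    | mem x hx => exact h x hx
    | one => simp
    | mul x y _ _ hx hy =>
      have : n * (x * y) * n⁻¹ = (n * x * n⁻¹) * (n * y * n⁻¹) := by group
      rw [this]; exact Subgroup.mul_mem _ hx hy
    | inv x _ hx =>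
      have : n * x⁻¹ * n⁻¹ = (n * x * n⁻¹)⁻¹ := by group
      rw [this]; exact Subgroup.inv_mem _ hx
  have hni : n⁻¹ = n := inv_eq_of_mul_eq_one_right hn
  rw [Subgroup.mem_normalizer_iff]
  intro x
  refine ⟨fwd x, fun hx => ?_⟩
  have := fwd _ hx
  have e : n * (n * x * n⁻¹) * n⁻¹ = x := by
    rw [hni]
    calc n * (n * x * n) * n = (n * n) * x * (n * n) := by group
      _ = x := by rw [hn, one_mul, mul_one]
  rwa [e] at this

section cfg

variable [Finite G] {t u s : G} {P : Subgroup G}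

theorem t_sq (h : Cfg G t u s) : t * t = 1 := sq_of_two h.ot
theorem s_sq (h : Cfg G t u s) : s * s = 1 := sq_of_two h.os

theorem s_ne_t (h : Cfg G t u s) : s ≠ t := by
  intro hst
  have h1 := h.su
  rw [hst] at h1
  have h2 : t * u * t⁻¹ = u := by rw [h.tu]; group
  rw [h2] at h1
  -- `u = u⁻¹` is impossible for an element of order 3
  have h3 : u * u = 1 := by
    calc u * u = u * u⁻¹ := by rw [← h1]
      _ = 1 := mul_inv_cancel u
  have h4 : orderOf u ∣ 2 := orderOf_dvd_of_pow_eq_one (by rw [pow_two]; exact h3)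
  rw [h.ou] at h4
  omega

theorem tP (h : Cfg1 G t u s P) : ∀ x ∈ P, t * x * t⁻¹ ∈ P := fun x hx =>
  h.normK t (mem_cent.2 h.tu) x hx

theorem closure_le_P (h : Cfg1 G t u s P) {a' : G} (ha : a' ∈ P) :
    Subgroup.closure ({u, a'} : Set G) ≤ P := by
  rw [Subgroup.closure_le]
  intro x hx
  rcases hx with rfl | rfl
  · exact h.uK
  · exact ha

/-- `t` normalizes `E`. -/
theorem t_mem_normE (h : Cfg G t u s) {a' : G} (ht : t * a' * t⁻¹ = a'⁻¹) :
    t ∈ Subgroup.normalizer ((Subgroup.closure ({u, a'} : Set G) : Subgroup G) : Set G) := by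
  apply mem_normalizer_closure_of_invol (t_sq h)
  intro x hx
  rcases hx with rfl | rfl
  · have : t * x * t⁻¹ = x := by rw [h.tu]; group
    rw [this]; exact Subgroup.subset_closure (by simp)
  · rw [ht]; exact Subgroup.inv_mem _ (Subgroup.subset_closure (by simp))

/-- `s` normalizes `E`. -/
theorem s_mem_normE (h : Cfg G t u s) {a' : G} (hs : s * a' * s⁻¹ = a' ∨ s * a' * s⁻¹ = a'⁻¹) :
    s ∈ Subgroup.normalizer ((Subgroup.closure ({u, a'} : Set G) : Subgroup G) : Set G) := by
  apply mem_normalizer_closure_of_invol (s_sq h)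
  intro x hx
  rcases hx with rfl | rfl
  · rw [h.su]; exact Subgroup.inv_mem _ (Subgroup.subset_closure (by simp))
  · rcases hs with hs | hs
    · rw [hs]; exact Subgroup.subset_closure (by simp)
    · rw [hs]; exact Subgroup.inv_mem _ (Subgroup.subset_closure (by simp))

/-- A subgroup of order 27 normalizes each of its subgroups of order 9. -/
theorem le_normalizer_of_card (Q E : Subgroup G) (hEQ : E ≤ Q) (h27 : Nat.card Q = 27)
    (h9 : Nat.card E = 9) : Q ≤ Subgroup.normalizer (E : Set G) := by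
  have hnorm : (E.subgroupOf Q).Normal := by
    apply Subgroup.normal_of_index_eq_minFac_card
    have h1 : Nat.card (E.subgroupOf Q) = 9 := by
      rw [Nat.card_congr (Subgroup.subgroupOfEquivOfLe hEQ).toEquiv, h9]
    have h2 := Subgroup.card_mul_index (E.subgroupOf Q)
    rw [h1, h27] at h2
    have h3 : (E.subgroupOf Q).index = 3 := by omega
    rw [h3, h27]
    norm_num
  have fwd : ∀ p ∈ Q, ∀ x ∈ E, p * x * p⁻¹ ∈ E := by
    intro p hp x hx
    have := hnorm.conj_mem ⟨x, hEQ hx⟩ (Subgroup.mem_subgroupOf.2 hx) ⟨p, hp⟩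
    exact Subgroup.mem_subgroupOf.1 this
  intro p hp
  rw [Subgroup.mem_normalizer_iff]
  intro x
  refine ⟨fwd p hp x, fun hx => ?_⟩
  have := fwd p⁻¹ (Q.inv_mem hp) _ hx
  have e : p⁻¹ * (p * x * p⁻¹) * p⁻¹⁻¹ = x := by group
  rwa [e] at this

/-- `P` normalizes `E` (a subgroup of index 3). -/
theorem P_le_normE (h : Cfg2 G t u s P) {a' : G} (ha : a' ∈ P)
    (h9 : Nat.card (Subgroup.closure ({u, a'} : Set G)) = 9) :
    P ≤ Subgroup.normalizer ((Subgroup.closure ({u, a'} : Set G) : Subgroup G) : Set G) :=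
  le_normalizer_of_card P _ (closure_le_P h.toCfg1 ha) h.cardP h9

/-- For an involution `n` mapping `P` into itself, `x ∈ P ↔ n x n⁻¹ ∈ P`. -/
theorem conj_mem_iff_of_invol {n : G} (hn : n * n = 1) (Q : Subgroup G)
    (hQ : ∀ x ∈ Q, n * x * n⁻¹ ∈ Q) (x : G) : x ∈ Q ↔ n * x * n⁻¹ ∈ Q := by
  have hni : n⁻¹ = n := inv_eq_of_mul_eq_one_right hn
  refine ⟨hQ x, fun hx => ?_⟩
  have := hQ _ hx
  have e : n * (n * x * n⁻¹) * n⁻¹ = x := by
    rw [hni]
    calc n * (n * x * n) * n = (n * n) * x * (n * n) := by group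
      _ = x := by rw [hn, one_mul, mul_one]
  rwa [e] at this

theorem ts_order (h : Cfg G t u s) : orderOf (t * s) = 2 := by
  apply two_of_sq
  · calc t * s * (t * s) = t * (s * t) * s := by group
      _ = t * (t * s) * s := by rw [h.ts]
      _ = (t * t) * (s * s) := by group
      _ = 1 := by rw [t_sq h, s_sq h, one_mul]
  · intro h1
    apply s_ne_t h
    have : s = t⁻¹ := by
      rw [eq_inv_iff_mul_eq_one, ← h1, h.ts]
    rw [this, inv_of_two h.ot]

/-- A subgroup containing `P` (order 27) and `t`, `s` has order divisible by 108. -/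
theorem dvd_card_of_le (h : Cfg2 G t u s P) (N : Subgroup G) (hP : P ≤ N) (ht : t ∈ N) (hs : s ∈ N) :
    108 ∣ Nat.card N := by
  have h27 : 27 ∣ Nat.card N := h.cardP ▸ Subgroup.card_dvd_of_le hP
  have hc := h.toCfg1.toCfg
  have h4 : 4 ∣ Nat.card N := by
    have hV : four t s (t_sq hc) (s_sq hc) hc.ts ≤ N := by
      intro x hx
      rcases mem_four.1 hx with rfl | rfl | rfl | rfl
      · exact N.one_mem
      · exact ht
      · exact hs
      · exact N.mul_mem ht hs
    have hcard := card_four (t_sq hc) (s_sq hc) hc.ts (ne_one_of_two hc.ot) (ne_one_of_two hc.os)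
      (s_ne_t hc)
    exact hcard ▸ Subgroup.card_dvd_of_le hV
  have hcop : Nat.Coprime 27 4 := by norm_num
  exact hcop.mul_dvd_of_dvd_of_dvd h27 h4

end cfg

end Cfsg.Agent.Helper26.L33.H6
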