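import Mathlib
import Cfsg.Agent.Lib.Helper26.L33Defs
import Cfsg.Agent.Lib.Helper6.L33H6Basic
import Cfsg.Agent.Lib.Helper6.L33H6Norm

/-!
# S2916, PIECE C6: the elements `a ∈ C_P(s)`, `b ∈ C_P(ts)` outside `⟨u⟩`, both inverted by `t`
-/

set_option autoImplicit false
set_option linter.unusedSectionVars false

namespace Cfsg.Agent.Helper26.L33

open Cfsg.Agent.Helper23.ZS4.H6

universe u v

namespace C6

variable {G : Type u} [Group G]

/-- LIFT: if `σ` inverts `c`, `c³ = 1` and `σ y σ⁻¹ = y c`, then `σ` centralizes `y c²`. -/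
theorem lift {σ y c : G} (hσc : σ * c * σ⁻¹ = c⁻¹) (hc3 : c * c * c = 1)
    (hy : σ * y * σ⁻¹ = y * c) : σ * (y * (c * c)) * σ⁻¹ = y * (c * c) := by
  have hci : c⁻¹ = c * c := by
    rw [inv_eq_iff_mul_eq_one, ← mul_assoc]; exact hc3
  calc σ * (y * (c * c)) * σ⁻¹ = (σ * y * σ⁻¹) * (σ * c * σ⁻¹) * (σ * c * σ⁻¹) := by group
    _ = y * c * c⁻¹ * c⁻¹ := by rw [hy, hσc]
    _ = y * c⁻¹ := by group
    _ = y * (c * c) := by rw [hci]

/-- For an involution `σ`: with `x' = σ x σ⁻¹`, `y = x x'` one has `σ y σ⁻¹ = y (x'⁻¹ x⁻¹ x' x)`. -/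
theorem key_conj {σ x : G} (hσ : σ * σ = 1) :
    σ * (x * (σ * x * σ⁻¹)) * σ⁻¹ =
      (x * (σ * x * σ⁻¹)) * ((σ * x * σ⁻¹)⁻¹ * x⁻¹ * (σ * x * σ⁻¹) * x) := by
  have hσi : σ⁻¹ = σ := inv_eq_of_mul_eq_one_right hσ
  have e : σ * (σ * x * σ⁻¹) * σ⁻¹ = x := by
    rw [hσi]
    calc σ * (σ * x * σ) * σ = (σ * σ) * x * (σ * σ) := by group
      _ = x := by rw [hσ, one_mul, mul_one]
  calc σ * (x * (σ * x * σ⁻¹)) * σ⁻¹ = (σ * x * σ⁻¹) * (σ * (σ * x * σ⁻¹) * σ⁻¹) := by group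
    _ = (σ * x * σ⁻¹) * x := by rw [e]
    _ = _ := by group

end C6

section C

variable {G : Type u} [Group G] [Finite G] [IsSimpleGroup G]

/-- PIECE C6. -/
theorem exists_cfg3 {t u s : G} {P : Subgroup G} (h : Cfg2 G t u s P) : ∃ a b : G, Cfg3 G t u s P a b := by
  classical
  have : Fact (Nat.Prime 3) := ⟨Nat.prime_three⟩
  have h1 : Cfg1 G t u s P := h.toCfg1
  have h0 : Cfg G t u s := h1.toCfg
  obtain ⟨U, hUdef⟩ : ∃ U : Subgroup G, U = Subgroup.zpowers u := ⟨_, rfl⟩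
  have huU : u ∈ U := by rw [hUdef]; exact Subgroup.mem_zpowers u
  have hUP : U ≤ P := by rw [hUdef, Subgroup.zpowers_le]; exact h1.uK
  have hUcard : Nat.card U = 3 := by rw [hUdef, Nat.card_zpowers, h0.ou]
  have ht2 := H6.t_sq h0
  have hs2 := H6.s_sq h0
  have hts2 : (t * s) * (t * s) = 1 := sq_of_two (H6.ts_order h0)
  have hti : t⁻¹ = t := inv_eq_of_mul_eq_one_right ht2
  -- elements of `U` commute with `P`
  have hUc : ∀ c ∈ U, ∀ x ∈ P, c * x = x * c := by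
    intro c hc x hx
    rw [hUdef] at hc
    obtain ⟨k, rfl⟩ := Subgroup.mem_zpowers_iff.1 hc
    have hxu : Commute x u := mem_cent.1 (h1.K_le hx)
    exact (hxu.zpow_right k).symm.eq
  have hU3 : ∀ c ∈ U, c * c * c = 1 := by
    intro c hc
    have h3 : orderOf (⟨c, hc⟩ : ↥U) ∣ 3 := hUcard ▸ orderOf_dvd_natCard _
    rw [← Subgroup.orderOf_coe] at h3
    have := orderOf_dvd_iff_pow_eq_one.1 h3
    rw [pow_succ, pow_two] at this
    exact this
  have hU2 : ∀ c ∈ U, c * c = 1 → c = 1 := by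
    intro c hc h2
    have h3 := hU3 c hc
    rw [h2, one_mul] at h3
    exact h3
  -- `t` centralizes `U`; `s` and `t s` invert it
  have hconjpow : ∀ (g : G) (k : ℤ), g * u ^ k * g⁻¹ = (g * u * g⁻¹) ^ k := by
    intro g k
    rw [← MulAut.conj_apply, map_zpow, MulAut.conj_apply]
  have htU : ∀ c ∈ U, t * c * t⁻¹ = c := by
    intro c hc
    rw [hUdef] at hc
    obtain ⟨k, rfl⟩ := Subgroup.mem_zpowers_iff.1 hc
    have : t * u * t⁻¹ = u := by rw [h0.tu]; group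
    rw [hconjpow, this]
  have hsU : ∀ c ∈ U, s * c * s⁻¹ = c⁻¹ := by
    intro c hc
    rw [hUdef] at hc
    obtain ⟨k, rfl⟩ := Subgroup.mem_zpowers_iff.1 hc
    rw [hconjpow, h0.su, inv_zpow]
  have htsU : ∀ c ∈ U, (t * s) * c * (t * s)⁻¹ = c⁻¹ := by
    intro c hc
    calc (t * s) * c * (t * s)⁻¹ = t * (s * c * s⁻¹) * t⁻¹ := by group
      _ = t * c⁻¹ * t⁻¹ := by rw [hsU c hc]
      _ = c⁻¹ := htU c⁻¹ (U.inv_mem hc)
  -- normalization of `P`
  have htP := H6.tP h1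
  have hsP := h1.sK
  have htsP : ∀ x ∈ P, (t * s) * x * (t * s)⁻¹ ∈ P := by
    intro x hx
    have : (t * s) * x * (t * s)⁻¹ = t * (s * x * s⁻¹) * t⁻¹ := by group
    rw [this]; exact htP _ (hsP x hx)
  -- commutators of `P` lie in `U`
  have hcomm : ∀ x ∈ P, ∀ y ∈ P, x * y * x⁻¹ * y⁻¹ ∈ U := by
    intro x hx y hy
    have hUn : (U.subgroupOf P).Normal := by
      constructor
      intro n hn g
      rw [Subgroup.mem_subgroupOf] at hn ⊢
      have hc := hUc _ hn g g.2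
      have e : ((g * n * g⁻¹ : ↥P) : G) = (n : G) := by
        simp only [Subgroup.coe_mul, Subgroup.coe_inv]
        calc (g : G) * n * (g : G)⁻¹ = ((n : G) * g) * (g : G)⁻¹ := by rw [hc]
          _ = n := by group
      rw [e]; exact hn
    have hqcard : Nat.card (↥P ⧸ U.subgroupOf P) = 3 ^ 2 := by
      have hc1 := Subgroup.card_eq_card_quotient_mul_card_subgroup (U.subgroupOf P)
      have hc2 : Nat.card (U.subgroupOf P) = 3 := by
        rw [Nat.card_congr (Subgroup.subgroupOfEquivOfLe hUP).toEquiv, hUcard]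
      rw [hc2, h.cardP] at hc1
      omega
    have hq := IsPGroup.isMulCommutative_of_card_eq_prime_sq hqcard
    have hmk := (isMulCommutative_iff.1 hq)
      (QuotientGroup.mk (⟨y, hy⟩⁻¹ : ↥P)) (QuotientGroup.mk (⟨x, hx⟩⁻¹ : ↥P))
    rw [← QuotientGroup.mk_mul, ← QuotientGroup.mk_mul, QuotientGroup.eq,
      Subgroup.mem_subgroupOf] at hmk
    have e : (((⟨y, hy⟩⁻¹ * ⟨x, hx⟩⁻¹ : ↥P)⁻¹ * (⟨x, hx⟩⁻¹ * ⟨y, hy⟩⁻¹) : ↥P) : G) =
        x * y * x⁻¹ * y⁻¹ := by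
      simp only [Subgroup.coe_mul, Subgroup.coe_inv]
      group
    rw [e] at hmk
    exact hmk
  -- (i): `t` inverts `P` modulo `U`
  have hinvt : ∀ x ∈ P, x * (t * x * t⁻¹) ∈ U := by
    intro x hx
    have hx' : t * x * t⁻¹ ∈ P := htP x hx
    have hyP : x * (t * x * t⁻¹) ∈ P := P.mul_mem hx hx'
    have hcU : (t * x * t⁻¹)⁻¹ * x⁻¹ * (t * x * t⁻¹) * x ∈ U := by
      have := hcomm _ (P.inv_mem hx') _ (P.inv_mem hx)
      simpa using this
    have hk := C6.key_conj (σ := t) (x := x) ht2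
    obtain ⟨c, hcdef⟩ : ∃ c : G, c = (t * x * t⁻¹)⁻¹ * x⁻¹ * (t * x * t⁻¹) * x := ⟨_, rfl⟩
    obtain ⟨y, hydef⟩ : ∃ y : G, y = x * (t * x * t⁻¹) := ⟨_, rfl⟩
    rw [← hcdef] at hcU hk
    rw [← hydef] at hk hyP ⊢
    -- conjugating twice
    have h2 : y = y * (c * c) := by
      have e1 : t * (t * y * t⁻¹) * t⁻¹ = y := by
        rw [hti]
        calc t * (t * y * t) * t = (t * t) * y * (t * t) := by group
          _ = y := by rw [ht2, one_mul, mul_one]
      calc y = t * (t * y * t⁻¹) * t⁻¹ := e1.symm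
        _ = t * (y * c) * t⁻¹ := by rw [hk]
        _ = (t * y * t⁻¹) * (t * c * t⁻¹) := by group
        _ = y * c * c := by rw [hk, htU c hcU]
        _ = y * (c * c) := by group
    have hcc : c * c = 1 := by
      have := mul_left_cancel (a := y) (b := 1) (c := c * c) (by rw [mul_one]; exact h2)
      exact this.symm
    have hc1 : c = 1 := hU2 c hcU hcc
    rw [hc1, mul_one] at hk
    rw [hUdef]
    apply h1.fixt y hyP
    calc t * y = (t * y * t⁻¹) * t := by group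
      _ = y * t := by rw [hk]
  -- centralizers of involutions in `P` have order at most 3
  have hcentle : ∀ σ : G, orderOf σ = 2 → Nat.card ↥(P ⊓ Subgroup.centralizer ({σ} : Set G)) ≤ 3 := by
    intro σ hσ
    have hd1 : Nat.card ↥(P ⊓ Subgroup.centralizer ({σ} : Set G)) ∣ 27 :=
      h.cardP ▸ Subgroup.card_dvd_of_le inf_le_left
    have hd2 : Nat.card ↥(P ⊓ Subgroup.centralizer ({σ} : Set G)) ∣ 48 := by
      obtain ⟨g, hg⟩ := isConj_iff.1 (h0.one_class σ hσ)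
      have hc48 : Nat.card (Subgroup.centralizer ({σ} : Set G)) = 48 := by
        rw [← hg, card_cent_conj, h0.cardC]
      exact hc48 ▸ Subgroup.card_dvd_of_le inf_le_right
    have hd3 : Nat.card ↥(P ⊓ Subgroup.centralizer ({σ} : Set G)) ∣ Nat.gcd 27 48 :=
      Nat.dvd_gcd hd1 hd2
    have : Nat.gcd 27 48 = 3 := by norm_num
    rw [this] at hd3
    exact Nat.le_of_dvd (by norm_num) hd3
  -- (iv): existence of a fixed point outside `U`
  have hexists : ∀ σ σ' : G, σ * σ = 1 → orderOf σ' = 2 → σ' = t * σ →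
      (∀ x ∈ P, σ * x * σ⁻¹ ∈ P) → (∀ c ∈ U, σ * c * σ⁻¹ = c⁻¹) →
      (∀ c ∈ U, σ' * c * σ'⁻¹ = c⁻¹) →
      ∃ a ∈ P, σ * a = a * σ ∧ a ∉ U := by
    intro σ σ' hσ2 hσ'o hσ' hσP hσU hσ'U
    by_contra hcon
    push Not at hcon
    -- `σ` inverts `P` modulo `U`
    have hinvσ : ∀ x ∈ P, x * (σ * x * σ⁻¹) ∈ U := by
      intro x hx
      have hx' : σ * x * σ⁻¹ ∈ P := hσP x hx
      have hyP : x * (σ * x * σ⁻¹) ∈ P := P.mul_mem hx hx'
      have hcU : (σ * x * σ⁻¹)⁻¹ * x⁻¹ * (σ * x * σ⁻¹) * x ∈ U := by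
        have := hcomm _ (P.inv_mem hx') _ (P.inv_mem hx)
        simpa using this
      have hk := C6.key_conj (σ := σ) (x := x) hσ2
      obtain ⟨c, hcdef⟩ : ∃ c : G, c = (σ * x * σ⁻¹)⁻¹ * x⁻¹ * (σ * x * σ⁻¹) * x := ⟨_, rfl⟩
      obtain ⟨y, hydef⟩ : ∃ y : G, y = x * (σ * x * σ⁻¹) := ⟨_, rfl⟩
      rw [← hcdef] at hcU hk
      rw [← hydef] at hk hyP ⊢
      have hl := C6.lift (hσU c hcU) (hU3 c hcU) hk
      have hccU : c * c ∈ U := U.mul_mem hcU hcU
      have hmem : y * (c * c) ∈ U := by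
        apply hcon _ (P.mul_mem hyP (hUP hccU))
        calc σ * (y * (c * c)) = (σ * (y * (c * c)) * σ⁻¹) * σ := by group
          _ = y * (c * c) * σ := by rw [hl]
      have : y = (y * (c * c)) * (c * c)⁻¹ := by group
      rw [this]
      exact U.mul_mem hmem (U.inv_mem hccU)
    -- `σ'` centralizes `P` modulo `U`
    have hcentσ' : ∀ x ∈ P, x⁻¹ * (σ' * x * σ'⁻¹) ∈ U := by
      intro x hx
      obtain ⟨c1, hc1⟩ : ∃ c1 : G, c1 = x * (σ * x * σ⁻¹) := ⟨_, rfl⟩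
      obtain ⟨c2, hc2⟩ : ∃ c2 : G, c2 = x * (t * x * t⁻¹) := ⟨_, rfl⟩
      have hc1U : c1 ∈ U := hc1 ▸ hinvσ x hx
      have hc2U : c2 ∈ U := hc2 ▸ hinvt x hx
      have e1 : σ * x * σ⁻¹ = x⁻¹ * c1 := by rw [hc1]; group
      have e2 : t * x * t⁻¹ = x⁻¹ * c2 := by rw [hc2]; group
      have e3 : σ' * x * σ'⁻¹ = c2⁻¹ * x * c1 := by
        rw [hσ']
        calc t * σ * x * (t * σ)⁻¹ = t * (σ * x * σ⁻¹) * t⁻¹ := by group
          _ = t * (x⁻¹ * c1) * t⁻¹ := by rw [e1]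
          _ = (t * x * t⁻¹)⁻¹ * (t * c1 * t⁻¹) := by group
          _ = (x⁻¹ * c2)⁻¹ * c1 := by rw [e2, htU c1 hc1U]
          _ = c2⁻¹ * x * c1 := by group
      have e4 : c2⁻¹ * x = x * c2⁻¹ := hUc _ (U.inv_mem hc2U) x hx
      rw [e3, e4]
      have : x⁻¹ * (x * c2⁻¹ * c1) = c2⁻¹ * c1 := by group
      rw [this]
      exact U.mul_mem (U.inv_mem hc2U) hc1U
    -- counting
    have key := H6.card_le_mul_of_fiber P (P ⊓ Subgroup.centralizer ({σ'} : Set G))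
      (fun x => x⁻¹ * (σ' * x * σ'⁻¹)) (U : Set G) (Set.toFinite _) hcentσ' ?_
    · have hUn : (U : Set G).ncard = 3 := by
        rw [← Nat.card_coe_set_eq]; exact hUcard
      rw [hUn, h.cardP] at key
      have := hcentle σ' hσ'o
      omega
    · intro n hn m hm hnm
      have hnm' : n⁻¹ * (σ' * n * σ'⁻¹) = m⁻¹ * (σ' * m * σ'⁻¹) := hnm
      obtain ⟨c, hcdef⟩ : ∃ c : G, c = n⁻¹ * (σ' * n * σ'⁻¹) := ⟨_, rfl⟩
      have hcU : c ∈ U := hcdef ▸ hcentσ' n hn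
      have en : σ' * n * σ'⁻¹ = n * c := by rw [hcdef]; group
      have em : σ' * m * σ'⁻¹ = m * c := by rw [hcdef, hnm']; group
      refine ⟨P.mul_mem (P.inv_mem hm) hn, ?_⟩
      show m⁻¹ * n ∈ Subgroup.centralizer ({σ'} : Set G)
      rw [mem_cent]
      have e5 : c⁻¹ * (m⁻¹ * n) = (m⁻¹ * n) * c⁻¹ :=
        hUc _ (U.inv_mem hcU) _ (P.mul_mem (P.inv_mem hm) hn)
      have e6 : σ' * (m⁻¹ * n) * σ'⁻¹ = m⁻¹ * n := by
        calc σ' * (m⁻¹ * n) * σ'⁻¹ = (σ' * m * σ'⁻¹)⁻¹ * (σ' * n * σ'⁻¹) := by group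
          _ = (m * c)⁻¹ * (n * c) := by rw [en, em]
          _ = c⁻¹ * (m⁻¹ * n) * c := by group
          _ = (m⁻¹ * n) * c⁻¹ * c := by rw [e5]
          _ = m⁻¹ * n := by group
      calc m⁻¹ * n * σ' = (σ' * (m⁻¹ * n) * σ'⁻¹) * σ' := by rw [e6]
        _ = σ' * (m⁻¹ * n) := by group
  -- properties of a fixed point outside `U`
  have hprops : ∀ σ a : G, orderOf σ = 2 → t * σ = σ * t → a ∈ P → σ * a = a * σ → a ∉ U →
      orderOf a = 3 ∧ t * a * t⁻¹ = a⁻¹ := by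
    intro σ a hσo htσ haP haσ haU
    have ha1 : a ≠ 1 := fun h1 => haU (h1 ▸ U.one_mem)
    have haC : a ∈ P ⊓ Subgroup.centralizer ({σ} : Set G) := ⟨haP, mem_cent.2 haσ.symm⟩
    have hle := hcentle σ hσo
    have hzle : Subgroup.zpowers a ≤ P ⊓ Subgroup.centralizer ({σ} : Set G) := by
      rw [Subgroup.zpowers_le]; exact haC
    have hdvd : orderOf a ∣ Nat.card ↥(P ⊓ Subgroup.centralizer ({σ} : Set G)) := by
      rw [← Nat.card_zpowers]; exact Subgroup.card_dvd_of_le hzle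
    have hne1 : orderOf a ≠ 1 := fun h1 => ha1 (orderOf_eq_one_iff.1 h1)
    have hpos : 0 < Nat.card ↥(P ⊓ Subgroup.centralizer ({σ} : Set G)) := Nat.card_pos
    have hoa : orderOf a = 3 := by
      have h3 := Nat.le_of_dvd hpos hdvd
      have h4 : 0 < orderOf a := Nat.pos_of_dvd_of_pos hdvd hpos
      have hcases : Nat.card ↥(P ⊓ Subgroup.centralizer ({σ} : Set G)) = 1 ∨
          Nat.card ↥(P ⊓ Subgroup.centralizer ({σ} : Set G)) = 2 ∨
          Nat.card ↥(P ⊓ Subgroup.centralizer ({σ} : Set G)) = 3 := by omega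
      rcases hcases with hc | hc | hc
      · rw [hc] at hdvd; have := Nat.dvd_one.1 hdvd; omega
      · exfalso
        have h27 : Nat.card ↥(P ⊓ Subgroup.centralizer ({σ} : Set G)) ∣ 27 :=
          h.cardP ▸ Subgroup.card_dvd_of_le inf_le_left
        rw [hc] at h27
        omega
      · rw [hc] at hdvd
        rcases (Nat.dvd_prime Nat.prime_three).1 hdvd with h5 | h5
        · exact absurd h5 hne1
        · exact h5
    refine ⟨hoa, ?_⟩
    have hzeq : Subgroup.zpowers a = P ⊓ Subgroup.centralizer ({σ} : Set G) := by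
      apply Subgroup.eq_of_le_of_card_ge hzle
      rw [Nat.card_zpowers, hoa]; exact hle
    have hmem : t * a * t⁻¹ ∈ Subgroup.zpowers a := by
      rw [hzeq]
      refine ⟨htP a haP, ?_⟩
      show t * a * t⁻¹ ∈ Subgroup.centralizer ({σ} : Set G)
      rw [mem_cent]
      have hσt : σ * t = t * σ := htσ.symm
      have hσti : σ * t⁻¹ = t⁻¹ * σ := by rw [hti]; exact hσt
      calc t * a * t⁻¹ * σ = t * a * (t⁻¹ * σ) := by group
        _ = t * a * (σ * t⁻¹) := by rw [hσti]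
        _ = t * (a * σ) * t⁻¹ := by group
        _ = t * (σ * a) * t⁻¹ := by rw [haσ]
        _ = (t * σ) * a * t⁻¹ := by group
        _ = (σ * t) * a * t⁻¹ := by rw [htσ]
        _ = σ * (t * a * t⁻¹) := by group
    rcases H6.mem_zpowers_three hoa hmem with h5 | h5 | h5
    · exfalso
      apply ha1
      have : a = t⁻¹ * (t * a * t⁻¹) * t := by group
      rw [this, h5]; group
    · exfalso
      apply haU
      rw [hUdef]
      apply h1.fixt a haP
      calc t * a = (t * a * t⁻¹) * t := by group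
        _ = a * t := by rw [h5]
    · exact h5
  -- the two elements
  obtain ⟨a, haP, has, haU⟩ := hexists s (t * s) hs2 (H6.ts_order h0) rfl hsP hsU htsU
  obtain ⟨b, hbP, hbts, hbU⟩ := hexists (t * s) s hts2 h0.os
    (by rw [← mul_assoc, ht2, one_mul]) htsP htsU hsU
  have htts : t * (t * s) = (t * s) * t := by
    rw [← mul_assoc, ht2, one_mul, mul_assoc, ← h0.ts, ← mul_assoc, ht2, one_mul]
  obtain ⟨hoa, hta⟩ := hprops s a h0.os h0.ts haP has haU
  obtain ⟨hob, htb⟩ := hprops (t * s) b (H6.ts_order h0) htts hbP hbts hbU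
  have hUz : ∀ x, x ∉ U → x ∉ Subgroup.zpowers u := by
    intro x hx; rw [← hUdef]; exact hx
  have hsa : s * a * s⁻¹ = a := by rw [has]; group
  have hsb : s * b * s⁻¹ = b⁻¹ := by
    have e1 : (t * s) * b * (t * s)⁻¹ = b := by rw [hbts]; group
    calc s * b * s⁻¹ = t⁻¹ * ((t * s) * b * (t * s)⁻¹) * t := by group
      _ = t⁻¹ * b * t := by rw [e1]
      _ = t * b * t⁻¹ := by rw [hti]
      _ = b⁻¹ := htb
  exact ⟨a, b, Cfg3.mk h haP hbP (hUz a haU) (hUz b hbU) hoa hob hsa hsb hta htb⟩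

end C

end Cfsg.Agent.Helper26.L33
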