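import Mathlib
import Cfsg.Agent.Lib.Helper26.L33Defs
import Cfsg.Agent.Lib.Helper6.L33H6Basic
import Cfsg.Agent.Lib.Helper15.L33_C8A

/-!
# S2916, PIECE C8b: `|N(E)| ≤ 9 · 48` for `E = ⟨u, a'⟩`
-/

set_option autoImplicit false
set_option linter.unusedSectionVars false

namespace Cfsg.Agent.Helper26.L33

open Cfsg.Agent.Helper23.ZS4.H6

universe u v

section C

variable {G : Type u} [Group G] [Finite G] [IsSimpleGroup G]

namespace C8B

/-- The set of pairs `(x, y)` of a subgroup `E` of order 9 with `x ≠ 1`, `y ∉ ⟨x⟩` has at most 48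
elements. -/
theorem card_pairs {G : Type u} [Group G] [Finite G] (E : Subgroup G) (h9 : Nat.card E = 9) :
    Set.ncard {p : G × G | p.1 ∈ E ∧ p.2 ∈ E ∧ p.1 ≠ 1 ∧ p.2 ∉ Subgroup.zpowers p.1} ≤ 48 := by
  classical
  have : Fintype G := Fintype.ofFinite G
  obtain ⟨Ef, hEf⟩ : ∃ Ef : Finset G, Ef = Finset.univ.filter (· ∈ E) := ⟨_, rfl⟩
  have hEfcard : Ef.card = 9 := by
    rw [hEf, ← h9, Nat.card_eq_fintype_card, Fintype.card_subtype]
  have hmemEf : ∀ x, x ∈ Ef ↔ x ∈ E := by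
    intro x; rw [hEf]; simp
  -- the set as a `Finset`
  have hsub : {p : G × G | p.1 ∈ E ∧ p.2 ∈ E ∧ p.1 ≠ 1 ∧ p.2 ∉ Subgroup.zpowers p.1} ⊆
      ((Ef.erase 1).biUnion fun x =>
        (Ef.filter fun y => y ∉ Subgroup.zpowers x).image fun y => (x, y) : Finset (G × G)) := by
    rintro ⟨x, y⟩ ⟨hx, hy, hx1, hyx⟩
    simp only [Finset.coe_biUnion, Finset.coe_erase, Set.mem_iUnion, Finset.coe_image,
      Set.mem_image, Finset.coe_filter, Set.mem_ofPred_eq, Set.mem_sdiff, Finset.mem_coe,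
      Set.mem_singleton_iff, exists_prop]
    exact ⟨x, ⟨(hmemEf x).2 hx, hx1⟩, y, ⟨(hmemEf y).2 hy, hyx⟩, rfl⟩
  refine (Set.ncard_le_ncard hsub (Finset.finite_toSet _)).trans ?_
  rw [Set.ncard_coe_finset]
  refine Finset.card_biUnion_le.trans ?_
  have h1E : (1 : G) ∈ Ef := (hmemEf 1).2 E.one_mem
  have herase : (Ef.erase 1).card = 8 := by rw [Finset.card_erase_of_mem h1E, hEfcard]
  have hbound : ∀ x ∈ Ef.erase 1,
      ((Ef.filter fun y => y ∉ Subgroup.zpowers x).image fun y => (x, y)).card ≤ 6 := by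
    intro x hx
    obtain ⟨hx1, hxE⟩ := Finset.mem_erase.1 hx
    have hxE' : x ∈ E := (hmemEf x).1 hxE
    refine Finset.card_image_le.trans ?_
    -- `Ef.filter (∉ zpowers x) = Ef \ zpowers x`
    have hz : (Finset.univ.filter (· ∈ Subgroup.zpowers x)) ⊆ Ef := by
      intro y hy
      rw [hmemEf]
      have : y ∈ Subgroup.zpowers x := (Finset.mem_filter.1 hy).2
      exact (Subgroup.zpowers_le.2 hxE') this
    have hzcard : (Finset.univ.filter (· ∈ Subgroup.zpowers x)).card = orderOf x := by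
      rw [← Nat.card_zpowers, Nat.card_eq_fintype_card, Fintype.card_subtype]
    have h3 : 3 ≤ orderOf x := by
      have hd : orderOf x ∣ 9 := by
        have := orderOf_dvd_natCard (⟨x, hxE'⟩ : ↥E)
        rw [← Subgroup.orderOf_coe, h9] at this
        exact this
      have hne1 : orderOf x ≠ 1 := fun h => hx1 (orderOf_eq_one_iff.1 h)
      have hle : orderOf x ≤ 9 := Nat.le_of_dvd (by norm_num) hd
      interval_cases (orderOf x) <;> omega
    have heq : (Ef.filter fun y => y ∉ Subgroup.zpowers x) =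
        Ef \ (Finset.univ.filter (· ∈ Subgroup.zpowers x)) := by
      ext y
      simp only [Finset.mem_filter, Finset.mem_sdiff, Finset.mem_univ, true_and]
    rw [heq, Finset.card_sdiff_of_subset hz, hEfcard, hzcard]
    omega
  calc ∑ x ∈ Ef.erase 1,
        ((Ef.filter fun y => y ∉ Subgroup.zpowers x).image fun y => (x, y)).card
      ≤ ∑ _x ∈ Ef.erase 1, 6 := Finset.sum_le_sum hbound
    _ = 48 := by rw [Finset.sum_const, herase]; rfl

end C8B

/-- C8b -/
theorem card_normE_le {t u s : G} {P : Subgroup G} (h : Cfg2 G t u s P)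
    (hz : ∀ z ∈ P, (∀ x ∈ P, z * x = x * z) → z ∈ Subgroup.zpowers u) (a' : G) (ha : Good G t u s P a') :
    Nat.card (Subgroup.normalizer ((Subgroup.closure ({u, a'} : Set G) : Subgroup G) : Set G)) ≤ 432 := by
  classical
  obtain ⟨h9, hcent⟩ := cent_E h hz a' ha
  obtain ⟨E, hEdef⟩ : ∃ E : Subgroup G, E = Subgroup.closure ({u, a'} : Set G) := ⟨_, rfl⟩
  rw [← hEdef] at h9 hcent ⊢
  have huE : u ∈ E := by rw [hEdef]; exact Subgroup.subset_closure (by simp)
  have haE : a' ∈ E := by rw [hEdef]; exact Subgroup.subset_closure (by simp)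
  have hu1 : u ≠ 1 := by
    intro h1
    have := h.ou
    rw [h1, orderOf_one] at this
    omega
  have hconjE : ∀ n ∈ Subgroup.normalizer (E : Set G), ∀ x ∈ E, n * x * n⁻¹ ∈ E := by
    intro n hn x hx
    exact (Subgroup.mem_normalizer_iff.1 hn x).1 hx
  have key := H6.card_le_mul_of_fiber (Subgroup.normalizer (E : Set G)) E
    (fun n => (n * u * n⁻¹, n * a' * n⁻¹))
    {p : G × G | p.1 ∈ E ∧ p.2 ∈ E ∧ p.1 ≠ 1 ∧ p.2 ∉ Subgroup.zpowers p.1} (Set.toFinite _) ?_ ?_
  · refine key.trans ?_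
    rw [h9]
    have := C8B.card_pairs E h9
    omega
  · intro n hn
    refine ⟨hconjE n hn u huE, hconjE n hn a' haE, ?_, ?_⟩
    · intro h1
      apply hu1
      have h1' : n * u * n⁻¹ = 1 := h1
      have : u = n⁻¹ * (n * u * n⁻¹) * n := by group
      rw [this, h1']; group
    · intro hmem
      -- `n a' n⁻¹ ∈ ⟨n u n⁻¹⟩` gives `a' ∈ ⟨u⟩`
      apply ha.nmem
      obtain ⟨k, hk⟩ := Subgroup.mem_zpowers_iff.1 hmem
      rw [Subgroup.mem_zpowers_iff]
      refine ⟨k, ?_⟩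
      have h2 : (n * u * n⁻¹) ^ k = n * u ^ k * n⁻¹ := by
        rw [← MulAut.conj_apply, ← map_zpow, MulAut.conj_apply]
      have hk' : (n * u * n⁻¹) ^ k = n * a' * n⁻¹ := hk
      rw [h2] at hk'
      have hk := hk'
      have : u ^ k = n⁻¹ * (n * u ^ k * n⁻¹) * n := by group
      rw [this, hk]; group
  · intro n _ m _ hnm
    simp only [Prod.mk.injEq] at hnm
    obtain ⟨h1, h2⟩ := hnm
    apply hcent
    · calc m⁻¹ * n * u = m⁻¹ * (n * u * n⁻¹) * n := by group
        _ = m⁻¹ * (m * u * m⁻¹) * n := by rw [h1]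
        _ = u * (m⁻¹ * n) := by group
    · calc m⁻¹ * n * a' = m⁻¹ * (n * a' * n⁻¹) * n := by group
        _ = m⁻¹ * (m * a' * m⁻¹) * n := by rw [h2]
        _ = a' * (m⁻¹ * n) := by group

end C

end Cfsg.Agent.Helper26.L33
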