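import Mathlib
import Cfsg.Agent.Lib.Helper26.L33Defs
import Cfsg.Agent.Lib.Helper6.L33H6Basic
import Cfsg.Agent.Lib.Helper6.L33H6Norm
import Cfsg.Agent.Lib.Helper6.L33C5
import Cfsg.Agent.Lib.Helper15.L33_C8A
import Cfsg.Agent.Lib.Helper28.L33_C2

/-!
# S2916, PIECE C8c: `432 ≤ |N(E)|` for `E = ⟨u, a'⟩`
-/

set_option autoImplicit false
set_option linter.unusedSectionVars false

namespace Cfsg.Agent.Helper26.L33

open Cfsg.Agent.Helper23.ZS4.H6

universe u v

section C

variable {G : Type u} [Group G] [Finite G] [IsSimpleGroup G]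

namespace C8C

theorem factorization_5616 : (5616 : ℕ).factorization 3 = 3 := by
  have h : (5616 : ℕ) = 3 ^ 3 * 208 := by norm_num
  rw [h, Nat.factorization_mul (by norm_num) (by norm_num),
    Nat.Prime.factorization_pow Nat.prime_three]
  simp [Nat.factorization_eq_zero_of_not_dvd (show ¬ 3 ∣ 208 by norm_num)]

end C8C

/-- C8c -/
theorem card_normE_ge {t u s : G} {P : Subgroup G} (h : Cfg2 G t u s P)
    (hz : ∀ z ∈ P, (∀ x ∈ P, z * x = x * z) → z ∈ Subgroup.zpowers u) (a' : G) (ha : Good G t u s P a') :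
    432 ≤ Nat.card (Subgroup.normalizer ((Subgroup.closure ({u, a'} : Set G) : Subgroup G) : Set G)) := by
  classical
  have : Fact (Nat.Prime 3) := ⟨Nat.prime_three⟩
  have h1 : Cfg1 G t u s P := h.toCfg1
  have h0 : Cfg G t u s := h1.toCfg
  obtain ⟨h9, -⟩ := cent_E h hz a' ha
  have hPN := H6.P_le_normE h ha.mem h9
  have htN := H6.t_mem_normE h0 ha.inv_t
  have hsN := H6.s_mem_normE h0 ha.s_act
  obtain ⟨E, hEdef⟩ : ∃ E : Subgroup G, E = Subgroup.closure ({u, a'} : Set G) := ⟨_, rfl⟩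
  rw [← hEdef] at h9 hPN htN hsN ⊢
  have ha1 : a' ≠ 1 := fun h1 => ha.nmem (h1 ▸ Subgroup.one_mem _)
  have hua : u * a' = a' * u := (mem_cent.1 (h1.K_le ha.mem)).symm
  -- an involution commuting with `a'`
  obtain ⟨τ, hτ, hτc⟩ : ∃ τ : G, orderOf τ = 2 ∧ τ * a' = a' * τ := by
    rcases ha.s_act with hs | hs
    · refine ⟨s, h0.os, ?_⟩
      calc s * a' = (s * a' * s⁻¹) * s := by group
        _ = a' * s := by rw [hs]
    · refine ⟨t * s, H6.ts_order h0, ?_⟩
      have h3 : t * a'⁻¹ * t⁻¹ = a' := by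
        have : t * a'⁻¹ * t⁻¹ = (t * a' * t⁻¹)⁻¹ := by group
        rw [this, ha.inv_t, inv_inv]
      calc t * s * a' = t * (s * a' * s⁻¹) * s := by group
        _ = t * a'⁻¹ * s := by rw [hs]
        _ = (t * a'⁻¹ * t⁻¹) * (t * s) := by group
        _ = a' * (t * s) := by rw [h3]
  have hconj : IsConj u a' :=
    atype h0 a' τ hτ hτc ⟨1, by rw [ha.ord]; norm_num⟩ ha1
  obtain ⟨P', hP'27, hP'le, -, hP'uniq⟩ := uniq27 h a' hconj
  have hEP' : E ≤ P' := by
    apply hP'uniq E ?_ ⟨2, by rw [h9]; norm_num⟩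
    rw [hEdef, Subgroup.closure_le]
    intro x hx
    rcases hx with rfl | rfl
    · exact mem_cent.2 hua
    · exact mem_cent.2 rfl
  have hne : P' ≠ P := by
    intro hPP
    apply ha.nmem
    apply hz a' ha.mem
    intro x hx
    have : x ∈ Subgroup.centralizer ({a'} : Set G) := hP'le (hPP ▸ hx)
    exact (mem_cent.1 this).symm
  have hP'N : P' ≤ Subgroup.normalizer (E : Set G) := H6.le_normalizer_of_card P' E hEP' hP'27 h9
  -- Sylow 3-subgroups
  have hfac : Nat.card P = 3 ^ (Nat.card G).factorization 3 := by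
    rw [h.cardP, h0.card, C8C.factorization_5616]; norm_num
  have hfac' : Nat.card P' = 3 ^ (Nat.card G).factorization 3 := by
    rw [hP'27, h0.card, C8C.factorization_5616]; norm_num
  obtain ⟨PG, hPG⟩ : ∃ S : Sylow 3 G, (S : Subgroup G) = P := ⟨Sylow.ofCard P hfac, Sylow.coe_ofCard _ _⟩
  obtain ⟨PG', hPG'⟩ : ∃ S : Sylow 3 G, (S : Subgroup G) = P' :=
    ⟨Sylow.ofCard P' hfac', Sylow.coe_ofCard _ _⟩
  obtain ⟨N, hNdef⟩ : ∃ N : Subgroup G, N = Subgroup.normalizer (E : Set G) := ⟨_, rfl⟩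
  rw [← hNdef] at hPN htN hsN hP'N ⊢
  have hle : (PG : Subgroup G) ≤ N := by rw [hPG]; exact hPN
  have hle' : (PG' : Subgroup G) ≤ N := by rw [hPG']; exact hP'N
  have hcoe : ((PG.subtype hle : Sylow 3 ↥N) : Subgroup ↥N) = P.subgroupOf N := by
    rw [Sylow.coe_subtype, hPG]
  have hcoe' : ((PG'.subtype hle' : Sylow 3 ↥N) : Subgroup ↥N) = P'.subgroupOf N := by
    rw [Sylow.coe_subtype, hPG']
  have hneN : PG.subtype hle ≠ PG'.subtype hle' := by
    intro heq
    apply hne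
    have h3 : P.subgroupOf N = P'.subgroupOf N := by rw [← hcoe, ← hcoe', heq]
    symm
    apply Subgroup.eq_of_le_of_card_ge
    · intro x hx
      have : (⟨x, hPN hx⟩ : ↥N) ∈ P.subgroupOf N := Subgroup.mem_subgroupOf.2 hx
      rw [h3] at this
      exact Subgroup.mem_subgroupOf.1 this
    · rw [hP'27, h.cardP]
  have hn3 : 4 ≤ Nat.card (Sylow 3 ↥N) := by
    have hmod := card_sylow_modEq_one 3 ↥N
    have hnt : Nontrivial (Sylow 3 ↥N) := ⟨⟨_, _, hneN⟩⟩
    have h2 : 1 < Nat.card (Sylow 3 ↥N) := Finite.one_lt_card_iff_nontrivial.2 hnt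
    have h3 : Nat.card (Sylow 3 ↥N) % 3 = 1 := hmod
    omega
  have hidx : Nat.card (Sylow 3 ↥N) =
      (Subgroup.normalizer ((P.subgroupOf N : Subgroup ↥N) : Set ↥N)).index := by
    have h3 := Sylow.card_eq_index_normalizer (PG.subtype hle)
    rw [h3]
    have hset : ((PG.subtype hle : Sylow 3 ↥N) : Set ↥N) =
        ((P.subgroupOf N : Subgroup ↥N) : Set ↥N) := by
      rw [← hcoe]; rfl
    rw [hset]
  have hmul := Subgroup.card_mul_index
    (Subgroup.normalizer ((P.subgroupOf N : Subgroup ↥N) : Set ↥N))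
  -- the normalizer of `P` in `N` contains `P`, `t`, `s`
  have h108 : 108 ∣ Nat.card
      (Subgroup.normalizer ((P.subgroupOf N : Subgroup ↥N) : Set ↥N)) := by
    have hcard : Nat.card ((Subgroup.normalizer ((P.subgroupOf N : Subgroup ↥N) : Set ↥N)).map
        N.subtype) = Nat.card (Subgroup.normalizer ((P.subgroupOf N : Subgroup ↥N) : Set ↥N)) :=
      Subgroup.card_map_of_injective N.subtype_injective
    rw [← hcard]
    apply H6.dvd_card_of_le h
    · intro x hx
      refine ⟨⟨x, hPN hx⟩, ?_, rfl⟩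
      exact Subgroup.le_normalizer (Subgroup.mem_subgroupOf.2 hx)
    · refine ⟨⟨t, htN⟩, ?_, rfl⟩
      rw [SetLike.mem_coe, Subgroup.mem_normalizer_iff]
      intro x
      rw [Subgroup.mem_subgroupOf, Subgroup.mem_subgroupOf]
      exact H6.conj_mem_iff_of_invol (H6.t_sq h0) P (H6.tP h1) x
    · refine ⟨⟨s, hsN⟩, ?_, rfl⟩
      rw [SetLike.mem_coe, Subgroup.mem_normalizer_iff]
      intro x
      rw [Subgroup.mem_subgroupOf, Subgroup.mem_subgroupOf]
      exact H6.conj_mem_iff_of_invol (H6.s_sq h0) P h1.sK x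
  rw [← hidx] at hmul
  obtain ⟨k, hk⟩ := h108
  have hkpos : 0 < k := by
    rcases Nat.eq_zero_or_pos k with h0' | h0'
    · rw [h0', mul_zero] at hk
      have := Nat.card_pos (α := ↥(Subgroup.normalizer
        ((P.subgroupOf N : Subgroup ↥N) : Set ↥N)))
      omega
    · exact h0'
  rw [hk] at hmul
  calc 432 = 108 * 1 * 4 := by norm_num
    _ ≤ 108 * k * Nat.card (Sylow 3 ↥N) :=
        Nat.mul_le_mul (Nat.mul_le_mul_left 108 hkpos) hn3
    _ = Nat.card ↥N := hmul

end C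

end Cfsg.Agent.Helper26.L33
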