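import Mathlib
import Cfsg.Agent.Lib.Helper26.L33Defs
import Cfsg.Agent.Lib.Helper6.L33H6Basic
import Cfsg.Agent.Lib.Helper6.L33H6Norm
import Cfsg.Agent.Lib.Helper15.L33_C8A

/-!
# S2916, PIECE C9: `N(E_a) ∩ N(E_b)` has order 108
-/

set_option autoImplicit false
set_option linter.unusedSectionVars false

namespace Cfsg.Agent.Helper26.L33

open Cfsg.Agent.Helper23.ZS4.H6

universe u v

section C

variable {G : Type u} [Group G] [Finite G] [IsSimpleGroup G]

namespace C9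

/-- `s` inverts every element of `⟨u, b⟩`. -/
theorem s_inverts {G : Type u} [Group G] {u b s : G} (hub : u * b = b * u)
    (hsu : s * u * s⁻¹ = u⁻¹) (hsb : s * b * s⁻¹ = b⁻¹) :
    ∀ x ∈ Subgroup.closure ({u, b} : Set G), s * x * s⁻¹ = x⁻¹ := by
  have hcomm : ∀ x ∈ ({u, b} : Set G), ∀ y ∈ ({u, b} : Set G), x * y = y * x := by
    rintro x (rfl | rfl) y (rfl | rfl)
    · rfl
    · exact hub
    · exact hub.symm
    · rfl
  have hcc := Subgroup.isMulCommutative_closure hcomm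
  have hc : ∀ x ∈ Subgroup.closure ({u, b} : Set G), ∀ y ∈ Subgroup.closure ({u, b} : Set G),
      x * y = y * x := by
    intro x hx y hy
    have := (isMulCommutative_iff.1 hcc) (⟨x, hx⟩ : Subgroup.closure ({u, b} : Set G)) ⟨y, hy⟩
    exact congrArg Subtype.val this
  intro x hx
  induction hx using Subgroup.closure_induction with
  | mem x hx =>
    rcases hx with rfl | rfl
    · exact hsu
    · exact hsb
  | one => simp
  | mul x y hx hy ihx ihy =>
    have : s * (x * y) * s⁻¹ = (s * x * s⁻¹) * (s * y * s⁻¹) := by group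
    rw [this, ihx, ihy, mul_inv_rev, hc x⁻¹ (Subgroup.inv_mem _ hx) y⁻¹ (Subgroup.inv_mem _ hy)]
  | inv x _ ihx =>
    have : s * x⁻¹ * s⁻¹ = (s * x * s⁻¹)⁻¹ := by group
    rw [this, ihx]

end C9

/-- PIECE C9. -/
theorem card_inter {t u s : G} {P : Subgroup G} {a b : G} (h : Cfg3 G t u s P a b)
    (hz : ∀ z ∈ P, (∀ x ∈ P, z * x = x * z) → z ∈ Subgroup.zpowers u) :
    Nat.card ↥(Subgroup.normalizer ((Subgroup.closure ({u, a} : Set G) : Subgroup G) : Set G) ⊓
      Subgroup.normalizer ((Subgroup.closure ({u, b} : Set G) : Subgroup G) : Set G)) = 108 := by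
  classical
  have h2 : Cfg2 G t u s P := h.toCfg2
  have h1 : Cfg1 G t u s P := h2.toCfg1
  have h0 : Cfg G t u s := h1.toCfg
  have ga : Good G t u s P a := ⟨h.aP, h.au, h.oa, h.ta, Or.inl h.sa⟩
  have gb : Good G t u s P b := ⟨h.bP, h.bu, h.ob, h.tb, Or.inr h.sb⟩
  obtain ⟨h9a, -⟩ := cent_E h2 hz a ga
  obtain ⟨h9b, -⟩ := cent_E h2 hz b gb
  obtain ⟨Ea, hEa⟩ : ∃ E : Subgroup G, E = Subgroup.closure ({u, a} : Set G) := ⟨_, rfl⟩
  obtain ⟨Eb, hEb⟩ : ∃ E : Subgroup G, E = Subgroup.closure ({u, b} : Set G) := ⟨_, rfl⟩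
  -- lower bound
  have hPa := H6.P_le_normE h2 h.aP h9a
  have hPb := H6.P_le_normE h2 h.bP h9b
  have hta := H6.t_mem_normE h0 h.ta
  have htb := H6.t_mem_normE h0 h.tb
  have hsa := H6.s_mem_normE h0 (a' := a) (Or.inl h.sa)
  have hsb := H6.s_mem_normE h0 (a' := b) (Or.inr h.sb)
  rw [← hEa] at h9a hPa hta hsa ⊢
  rw [← hEb] at h9b hPb htb hsb ⊢
  have hdvd : 108 ∣ Nat.card ↥(Subgroup.normalizer (Ea : Set G) ⊓ Subgroup.normalizer (Eb : Set G)) :=
    H6.dvd_card_of_le h2 _ (le_inf hPa hPb) ⟨hta, htb⟩ ⟨hsa, hsb⟩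
  -- `Ea ⊓ Eb = ⟨u⟩`
  have huEa : u ∈ Ea := by rw [hEa]; exact Subgroup.subset_closure (by simp)
  have huEb : u ∈ Eb := by rw [hEb]; exact Subgroup.subset_closure (by simp)
  have haEa : a ∈ Ea := by rw [hEa]; exact Subgroup.subset_closure (by simp)
  have ha1 : a ≠ 1 := fun h1 => h.au (h1 ▸ Subgroup.one_mem _)
  have haEb : a ∉ Eb := by
    intro hmem
    rw [hEb] at hmem
    have hub : u * b = b * u := (mem_cent.1 (h1.K_le h.bP)).symm
    have hinv := C9.s_inverts hub h0.su h.sb a hmem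
    rw [h.sa] at hinv
    -- `a = a⁻¹`, so `a² = 1`, and `a³ = 1`: `a = 1`
    have haa : a * a = 1 := by
      calc a * a = a * a⁻¹ := by rw [← hinv]
        _ = 1 := mul_inv_cancel a
    have h4 : orderOf a ∣ 2 := orderOf_dvd_of_pow_eq_one (by rw [pow_two]; exact haa)
    rw [h.oa] at h4
    omega
  have hinter : Ea ⊓ Eb = Subgroup.zpowers u := by
    symm
    apply Subgroup.eq_of_le_of_card_ge
    · rw [Subgroup.zpowers_le]; exact ⟨huEa, huEb⟩
    · rw [Nat.card_zpowers, h0.ou]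
      have hd : Nat.card ↥(Ea ⊓ Eb) ∣ 9 := h9a ▸ Subgroup.card_dvd_of_le inf_le_left
      have hne : Nat.card ↥(Ea ⊓ Eb) ≠ 9 := by
        intro h9
        have : Ea ⊓ Eb = Ea := Subgroup.eq_of_le_of_card_ge inf_le_left (by rw [h9, h9a])
        apply haEb
        have h3 : a ∈ Ea ⊓ Eb := by rw [this]; exact haEa
        exact h3.2
      have hle : Nat.card ↥(Ea ⊓ Eb) ≤ 9 := Nat.le_of_dvd (by norm_num) hd
      interval_cases hcd : Nat.card ↥(Ea ⊓ Eb) <;> omega
  -- upper bound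
  have h54 : Nat.card (Subgroup.centralizer ({u} : Set G)) = 54 := by
    rw [h1.cardCentU, h2.cardP]
  have hu1 : u ≠ 1 := ne_of_apply_ne orderOf (by rw [h0.ou, orderOf_one]; norm_num)
  have key := H6.card_le_mul_of_fiber
    (Subgroup.normalizer (Ea : Set G) ⊓ Subgroup.normalizer (Eb : Set G))
    (Subgroup.centralizer ({u} : Set G)) (fun n => n * u * n⁻¹) ({u, u⁻¹} : Set G)
    (Set.toFinite _) ?_ ?_
  · have hle : Nat.card ↥(Subgroup.normalizer (Ea : Set G) ⊓ Subgroup.normalizer (Eb : Set G)) ≤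
        108 := by
      refine key.trans ?_
      rw [h54]
      have : ({u, u⁻¹} : Set G).ncard ≤ 2 :=
        (Set.ncard_insert_le _ _).trans (by rw [Set.ncard_singleton])
      omega
    obtain ⟨k, hk⟩ := hdvd
    have hpos : 0 < Nat.card ↥(Subgroup.normalizer (Ea : Set G) ⊓
        Subgroup.normalizer (Eb : Set G)) := Nat.card_pos
    rw [hk] at hle hpos ⊢
    have : k = 1 := by omega
    rw [this]
  · intro n hn
    have h3 : n * u * n⁻¹ ∈ Ea ⊓ Eb :=
      ⟨(Subgroup.mem_normalizer_iff.1 hn.1 u).1 huEa, (Subgroup.mem_normalizer_iff.1 hn.2 u).1 huEb⟩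
    rw [hinter] at h3
    rcases H6.mem_zpowers_three h0.ou h3 with h4 | h4 | h4
    · exfalso
      apply hu1
      have : u = n⁻¹ * (n * u * n⁻¹) * n := by group
      rw [this, h4]; group
    · exact Or.inl h4
    · exact Or.inr h4
  · intro n _ m _ hnm
    rw [mem_cent]
    have hnm' : n * u * n⁻¹ = m * u * m⁻¹ := hnm
    calc m⁻¹ * n * u = m⁻¹ * (n * u * n⁻¹) * n := by group
      _ = m⁻¹ * (m * u * m⁻¹) * n := by rw [hnm']
      _ = u * (m⁻¹ * n) := by group

end C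

end Cfsg.Agent.Helper26.L33
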