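import Mathlib
import Cfsg.Agent.Lib.Helper26.CG3Defs

/-!
# S3412 piece X4 (helper6): the local data `LD` for the commutation relation of a group gives `LG`.
-/

set_option autoImplicit false

namespace Cfsg.Agent.Helper26.CG3

theorem x4_cR_eq {H : Type*} [Group H] (g : H) :
    cR (fun x y : H => x * y = y * x) g = cc g := by
  unfold cR
  apply Nat.card_congr
  exact Equiv.subtypeEquivRight (fun h => by
    rw [Subgroup.mem_centralizer_singleton_iff]; exact eq_comm)

theorem x4_card_inf {H : Type*} [Group H] (t g : H) :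
    Nat.card {h : H // t * h = h * t ∧ g * h = h * g} =
    Nat.card ↥(Subgroup.centralizer ({t} : Set H) ⊓ Subgroup.centralizer ({g} : Set H)) := by
  apply Nat.card_congr
  exact Equiv.subtypeEquivRight (fun h => by
    rw [Subgroup.mem_inf, Subgroup.mem_centralizer_singleton_iff,
      Subgroup.mem_centralizer_singleton_iff]
    constructor
    · rintro ⟨a, b⟩; exact ⟨a.symm, b.symm⟩
    · rintro ⟨a, b⟩; exact ⟨a.symm, b.symm⟩)

/-- X4 -/
theorem LG.of_LD {H : Type*} [Group H] (t : H) (hcard : Nat.card H = 5616)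
    (h : LD (fun x y : H => x * y = y * x) 1 t) : LG H t := by
  exact
  { card := hcard
    t_ne := h.t_ne
    cct := by rw [← x4_cR_eq]; exact h.cct
    vals := fun g hg h1 h2 => by simpa only [x4_cR_eq] using h.vals g hg h1 h2
    s4 := fun g hg h1 hc => by
      rw [← x4_card_inf]; exact h.s4 g hg h1 (by rw [x4_cR_eq]; exact hc)
    scen := fun g hg hc y hy hh => h.scen g hg (by rw [x4_cR_eq]; exact hc) y hy hh
    u6 := fun g hg hc => by
      rw [← x4_card_inf]; exact h.u6 g hg (by rw [x4_cR_eq]; exact hc)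
    ucen := fun g hg hc => h.ucen g hg (by rw [x4_cR_eq]; exact hc)
    nU := by simpa only [x4_cR_eq] using h.nU
    nS := by simpa only [x4_cR_eq] using h.nS
    nY := by simpa only [x4_cR_eq] using h.nY
    w2 := fun g hg hc => by
      simpa only [x4_cR_eq] using h.w2 g hg (by rw [x4_cR_eq]; exact hc)
    yab := fun g hg hc => h.yab g hg (by rw [x4_cR_eq]; exact hc)
    yval := fun g hg hc k hk h1 h2 => by
      rw [← x4_cR_eq]; exact h.yval g hg (by rw [x4_cR_eq]; exact hc) k hk h1 h2
    x13 := by
      obtain ⟨x, hx⟩ := h.x13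
      exact ⟨x, by rw [← x4_cR_eq]; exact hx⟩ }

end Cfsg.Agent.Helper26.CG3
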