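import Mathlib
import Cfsg.Prelude.Def_JComponents
import Cfsg.Agent.Lib.Helper27.KUASM
import Cfsg.Agent.Lib.Helper27.KVDefs
import Cfsg.Agent.Lib.Helper15.KVBAS

/-!
# KS12c / S2951' (helper27's skeleton), PIECE LEMA (helper6): Lemma A and its consequences.
-/

set_option autoImplicit false
set_option linter.unusedVariables false
set_option linter.unusedSectionVars false
set_option linter.style.haveILetI false

namespace Cfsg.Agent.Helper27.KV

open Cfsg Cfsg.Agent.Helper13.JCFF Cfsg.Agent.Helper27.KU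

universe u

variable {G : Type u} [Group G] [Finite G]

/-- pure: two subgroups of a commutative, finite subgroup `Z` with trivial intersection satisfy
`|A| |B| ≤ |Z|`. -/
theorem lema_card_mul_le {Z A B : Subgroup G} (hA : A ≤ Z) (hB : B ≤ Z) (h : A ⊓ B = ⊥)
    (hcomm : ∀ x ∈ Z, ∀ y ∈ Z, x * y = y * x) :
    Nat.card ↥A * Nat.card ↥B ≤ Nat.card ↥Z := by
  classical
  rw [← Nat.card_prod]
  apply Nat.card_le_card_of_injective (fun x : ↥A × ↥B => (⟨(x.1 : G) * (x.2 : G),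
    Z.mul_mem (hA x.1.2) (hB x.2.2)⟩ : ↥Z))
  rintro ⟨a, b⟩ ⟨a', b'⟩ hab
  have h1 : (a : G) * (b : G) = (a' : G) * (b' : G) := congrArg Subtype.val hab
  have h2 : (a' : G)⁻¹ * (a : G) = (b' : G) * (b : G)⁻¹ := by
    calc (a' : G)⁻¹ * (a : G) = (a' : G)⁻¹ * ((a : G) * (b : G)) * (b : G)⁻¹ := by group
      _ = (a' : G)⁻¹ * ((a' : G) * (b' : G)) * (b : G)⁻¹ := by rw [h1]
      _ = (b' : G) * (b : G)⁻¹ := by group
  have h3 : (a' : G)⁻¹ * (a : G) ∈ A ⊓ B := by
    refine Subgroup.mem_inf.2 ⟨A.mul_mem (A.inv_mem a'.2) a.2, ?_⟩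
    rw [h2]
    exact B.mul_mem b'.2 (B.inv_mem b.2)
  rw [h, Subgroup.mem_bot] at h3
  have h4 : (a : G) = (a' : G) := by
    have := congrArg (fun g => (a' : G) * g) h3
    simpa using this
  have h5 : (b : G) = (b' : G) := by
    rw [h4] at h1
    exact mul_left_cancel h1
  exact Prod.ext (Subtype.ext h4) (Subtype.ext h5)

section ctx

open Cfsg.Agent.Helper7.JC48 Cfsg.Agent.Helper15

variable (hL : IsCharacteristicTwoType G)
  (hN : ∀ N : Subgroup G, IsTwoLocal N → Group.IsSolvable ↥N)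
  (hZ : ∀ S : Sylow 2 G, Subgroup.centralizer (omegaCenterOf (S : Subgroup G) : Set G) ≤
      Subgroup.normalizer ((S : Subgroup G) : Set G))
  (S : Sylow 2 G) {M : Subgroup G}
  (hMJ : Subgroup.normalizer (thompsonSubgroupOf 2 (S : Subgroup G) : Set G) ≤ M)
  {T : Subgroup G} (hT : T ∈ maxStraddlingTwoSubgroups M)

include hL hN hZ hMJ hT

/-- LEMA (1) = (G2). -/
theorem normalizer_le_of_le_dd {K : Subgroup G} (hK : IsJComponent T K) (hKM : ¬ K ≤ M)
    {L : Subgroup G} (hLmax : IsMaximalTwoLocal L) (hKL : K ≤ L) (hJL : thompsonSubgroupOf 2 T ≤ L)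
    {U : Subgroup G} (hU : U ≤ DD T K) (hU1 : U ≠ ⊥) : Subgroup.normalizer (U : Set G) ≤ L := by
  have hT2 : IsPGroup 2 ↥T := hT.1.1
  have hUT : U ≤ T := (hU.trans (dd_le_z0 T K)).trans (z0_le T)
  have hU2 : IsPGroup 2 ↥U := hT2.to_le hUT
  have hloc : IsTwoLocal (Subgroup.normalizer (U : Set G)) := ⟨U, hU2, hU1, rfl⟩
  obtain ⟨L'', hL'', hle⟩ := exists_maximalTwoLocal_ge hloc
  have hcen : K ⊔ thompsonSubgroupOf 2 T ≤ Subgroup.normalizer (U : Set G) := by
    intro x hx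
    have hxc : x ∈ Subgroup.centralizer (U : Set G) := by
      rw [Subgroup.mem_centralizer_iff]
      intro u hu
      have h1 := dd_le_centralizer T K (hU hu)
      rw [Subgroup.mem_centralizer_iff] at h1
      exact (h1 x hx).symm
    exact Subgroup.centralizer_le_normalizer _ hxc
  have e : L'' = L := unique_max_over hL hN hZ S hMJ hT hK hKM hL'' hLmax
    ((le_sup_left.trans hcen).trans hle) ((le_sup_right.trans hcen).trans hle) hKL hJL
  rw [← e]
  exact hle

/-- LEMA (2) = (G3), Lemma A. -/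
theorem eq_of_dd_inf_ne_bot {K K' : Subgroup G} (hK : IsJComponent T K) (hKM : ¬ K ≤ M)
    (hK' : IsJComponent T K') (hK'M : ¬ K' ≤ M)
    {L L' : Subgroup G} (hLmax : IsMaximalTwoLocal L) (hKL : K ≤ L) (hJL : thompsonSubgroupOf 2 T ≤ L)
    (hL'max : IsMaximalTwoLocal L') (hK'L' : K' ≤ L') (hJL' : thompsonSubgroupOf 2 T ≤ L')
    (h : DD T K ⊓ DD T K' ≠ ⊥) : L = L' := by
  have h1 : Subgroup.normalizer ((DD T K ⊓ DD T K' : Subgroup G) : Set G) ≤ L' :=
    normalizer_le_of_le_dd hL hN hZ S hMJ hT hK' hK'M hL'max hK'L' hJL' inf_le_right h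
  have hcen : K ≤ Subgroup.normalizer ((DD T K ⊓ DD T K' : Subgroup G) : Set G) := by
    intro x hx
    have hxc : x ∈ Subgroup.centralizer ((DD T K ⊓ DD T K' : Subgroup G) : Set G) := by
      rw [Subgroup.mem_centralizer_iff]
      intro u hu
      have h1 := dd_le_centralizer T K (Subgroup.mem_inf.1 hu).1
      rw [Subgroup.mem_centralizer_iff] at h1
      exact (h1 x (Subgroup.mem_sup_left hx)).symm
    exact Subgroup.centralizer_le_normalizer _ hxc
  exact unique_max_over hL hN hZ S hMJ hT hK hKM hLmax hL'max hKL hJL (hcen.trans h1) hJL'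

/-- LEMA (3). -/
theorem card_dd_le_two {K K' : Subgroup G} (hK : IsJComponent T K) (hKM : ¬ K ≤ M)
    (hK' : IsJComponent T K') (hK'M : ¬ K' ≤ M)
    {L L' : Subgroup G} (hLmax : IsMaximalTwoLocal L) (hKL : K ≤ L) (hJL : thompsonSubgroupOf 2 T ≤ L)
    (hL'max : IsMaximalTwoLocal L') (hK'L' : K' ≤ L') (hJL' : thompsonSubgroupOf 2 T ≤ L')
    (hne : L ≠ L') : Nat.card ↥(DD T K) ≤ 2 := by
  have hT2 : IsPGroup 2 ↥T := hT.1.1
  have hT1 : T ≠ ⊥ := hT.1.2.1
  have hbot : DD T K ⊓ DD T K' = ⊥ := by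
    by_contra h
    exact hne (eq_of_dd_inf_ne_bot hL hN hZ S hMJ hT hK hKM hK' hK'M hLmax hKL hJL hL'max hK'L'
      hJL' h)
  have h1 := lema_card_mul_le (dd_le_z0 T K) (dd_le_z0 T K') hbot (z0_comm T)
  have h2 := card_z0 hL hN hZ hT2 hT1 hK'
  have hpos : 0 < Nat.card ↥(DD T K') := Nat.card_pos
  rw [h2] at h1
  exact Nat.le_of_mul_le_mul_right h1 hpos

/-- LEMA (4) = (G4). -/
theorem conj_comp {K : Subgroup G} (hK : IsJComponent T K) (hKM : ¬ K ≤ M) {g : G}
    (hg : g ∈ Subgroup.normalizer (thompsonSubgroupOf 2 T : Set G)) :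
    IsJComponent T (K.map (MulAut.conj g).toMonoidHom) ∧ ¬ K.map (MulAut.conj g).toMonoidHom ≤ M := by
  have hgM : g ∈ M := normalizer_J_le_of_max S hMJ hT hg
  constructor
  · have h1 : IsJComponent (T.map (MulAut.conj g).toMonoidHom)
        (K.map (MulAut.conj g).toMonoidHom) := (isJComponent_map_conj g).2 hK
    refine (isJComponent_congr ?_).1 h1
    rw [Cfsg.Agent.Helper4.ZJ.thompsonSubgroupOf_map, map_conj_eq_of_mem_normalizer hg]
  · intro hle
    apply hKM
    have := map_conj_mono hle g⁻¹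
    rwa [map_conj_inv_map_conj, map_conj_eq_self_of_mem (M.inv_mem hgM)] at this

theorem dd_inf_map_conj_eq_bot {K : Subgroup G} (hK : IsJComponent T K) (hKM : ¬ K ≤ M)
    {L : Subgroup G} (hLmax : IsMaximalTwoLocal L) (hKL : K ≤ L) (hJL : thompsonSubgroupOf 2 T ≤ L)
    {g : G} (hg : g ∈ Subgroup.normalizer (thompsonSubgroupOf 2 T : Set G)) (hgL : g ∉ L) :
    DD T K ⊓ (DD T K).map (MulAut.conj g).toMonoidHom = ⊥ ∧ Nat.card ↥(DD T K) ≤ 2 := by
  obtain ⟨hKg, hKgM⟩ := conj_comp hL hN hZ S hMJ hT hK hKM hg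
  have hLg : IsMaximalTwoLocal (L.map (MulAut.conj g).toMonoidHom) :=
    isMaximalTwoLocal_map_conj g hLmax
  have hKgL : K.map (MulAut.conj g).toMonoidHom ≤ L.map (MulAut.conj g).toMonoidHom :=
    map_conj_mono hKL g
  have hJgL : thompsonSubgroupOf 2 T ≤ L.map (MulAut.conj g).toMonoidHom := by
    have := map_conj_mono hJL g
    rwa [map_conj_eq_of_mem_normalizer hg] at this
  have hne : L ≠ L.map (MulAut.conj g).toMonoidHom := by
    intro h
    apply hgL
    exact normalizer_le_of_max hLmax (mem_normalizer_of_map_conj_eq h.symm)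
  constructor
  · rw [dd_map_conj hg]
    by_contra h
    exact hne (eq_of_dd_inf_ne_bot hL hN hZ S hMJ hT hK hKM hKg hKgM hLmax hKL hJL hLg hKgL hJgL h)
  · exact card_dd_le_two hL hN hZ S hMJ hT hK hKM hKg hKgM hLmax hKL hJL hLg hKgL hJgL hne

end ctx

end Cfsg.Agent.Helper27.KV
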