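import Mathlib
import Cfsg.Agent.Lib.Helper26.NSEDefs

/-!
# S3431, piece A5ARITH (helper6, for helper26): `nse = {1, 15, 20, 24}` forces `N = 60`
-/

set_option autoImplicit false

namespace Cfsg.Agent.Helper26.NSE

variable {N : ℕ} {s np : ℕ → ℕ}

namespace A5ARITH

theorem vals (h : IsNse s {1, 15, 20, 24}) (m : ℕ) :
    s m = 0 ∨ s m = 1 ∨ s m = 15 ∨ s m = 20 ∨ s m = 24 := by
  rcases h.1 m with h0 | hm
  · exact Or.inl h0
  · right
    simpa using hm

/-- case (i): `N` is a power of `2` -/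
theorem case_two_pow (C : Ctx N s np) (h : IsNse s {1, 15, 20, 24}) (hs2 : s 2 = 15)
    (hpr : ∀ p, p.Prime → p ∣ N → p = 2) : False := by
  have e1 := C.s_one
  obtain ⟨a, ha⟩ : ∃ a, N = 2 ^ a :=
    ⟨_, Nat.eq_prime_pow_of_unique_prime_dvd C.pos.ne' (fun {d} hd hdN => hpr d hd hdN)⟩
  -- the support of `s` is inside `{1, 2, 4, 8, 16}`
  have ht32 := C.tot 32
  have hφ32 : Nat.totient 32 = 16 := by decide
  rw [hφ32] at ht32
  have hs32 : s 32 = 0 := by
    rcases vals h 32 with h0 | h0 | h0 | h0 | h0 <;> omega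
  have hsupp : ∀ m, s m ≠ 0 → m ∈ ({1, 2, 4, 8, 16} : Finset ℕ) := by
    intro m hm
    have hmN := C.dvd m hm
    rw [ha] at hmN
    obtain ⟨j, _, rfl⟩ := (Nat.dvd_prime_pow Nat.prime_two).1 hmN
    by_cases hj : 5 ≤ j
    · exfalso
      apply hm
      apply C.down_zero _ hs32
      have : (32 : ℕ) = 2 ^ 5 := by norm_num
      rw [this]
      exact pow_dvd_pow 2 hj
    · have hj' : j < 5 := by omega
      interval_cases j <;> simp
  have htot := C.total _ hsupp
  rw [Finset.sum_insert (by decide), Finset.sum_insert (by decide), Finset.sum_insert (by decide),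
    Finset.sum_pair (by decide)] at htot
  have h60 : 60 ≤ N := by
    have := C.sum_values_le h
    simpa using this
  have ht4 := C.tot 4
  have hφ4 : Nat.totient 4 = 2 := by decide
  rw [hφ4] at ht4
  have ht8 := C.tot 8
  have hφ8 : Nat.totient 8 = 4 := by decide
  rw [hφ8] at ht8
  have ht16 := C.tot 16
  have hφ16 : Nat.totient 16 = 8 := by decide
  rw [hφ16] at ht16
  have v4 := vals h 4
  have v8 := vals h 8
  have v16 := vals h 16
  have h88 : N ≤ 88 := by omega
  have ha7 : a < 7 := by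
    by_contra hcon
    have h7 : 7 ≤ a := by omega
    have : 2 ^ 7 ≤ 2 ^ a := Nat.pow_le_pow_right (by norm_num) h7
    omega
  have hN64 : N = 64 := by
    interval_cases a <;> omega
  -- the value `20` is not taken
  obtain ⟨m, hm⟩ := h.2 20 (by simp)
  have hmem := hsupp m (by rw [hm]; decide)
  simp only [Finset.mem_insert, Finset.mem_singleton] at hmem
  rcases hmem with rfl | rfl | rfl | rfl | rfl <;> omega

/-- case (iv): `30 ∣ N` -/
theorem case_thirty (C : Ctx N s np) (h : IsNse s {1, 15, 20, 24}) (hs2 : s 2 = 15)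
    (hpr : ∀ p, p.Prime → p ∣ N → p = 2 ∨ p = 3 ∨ p = 5) (hs3 : s 3 = 20) (hs5 : s 5 = 24)
    (h9 : ¬ 9 ∣ N) (h25 : ¬ 25 ∣ N) (h2N : 2 ∣ N) (h3N : 3 ∣ N) (h5N : 5 ∣ N) :
    N = 60 ∧ s 10 = 0 ∧ s 15 = 0 := by
  have e1 := C.s_one
  have h6N : 6 ∣ N := (by norm_num : Nat.Coprime 2 3).mul_dvd_of_dvd_of_dvd h2N h3N
  have h10N : 10 ∣ N := (by norm_num : Nat.Coprime 2 5).mul_dvd_of_dvd_of_dvd h2N h5N
  have h15N : 15 ∣ N := (by norm_num : Nat.Coprime 3 5).mul_dvd_of_dvd_of_dvd h3N h5N
  have h30N : 30 ∣ N := (by norm_num : Nat.Coprime 2 15).mul_dvd_of_dvd_of_dvd h2N h15N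
  -- s 15 = 0
  have ht15 := C.tot 15
  have hφ15 : Nat.totient 15 = 8 := by decide
  rw [hφ15] at ht15
  have hf15 := C.frob 15 h15N
  have hd15 : Nat.divisors 15 = {1, 3, 5, 15} := by decide
  rw [hd15, Finset.sum_insert (by decide), Finset.sum_insert (by decide),
    Finset.sum_pair (by decide)] at hf15
  have hs15 : s 15 = 0 := by
    rcases vals h 15 with h0 | h0 | h0 | h0 | h0 <;> omega
  have hs30 : s 30 = 0 := C.down_zero (by norm_num) hs15
  -- s 6, s 10
  have hf6 := C.frob 6 h6N
  have hd6 : Nat.divisors 6 = {1, 2, 3, 6} := by decide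
  rw [hd6, Finset.sum_insert (by decide), Finset.sum_insert (by decide),
    Finset.sum_pair (by decide)] at hf6
  have hf10 := C.frob 10 h10N
  have hd10 : Nat.divisors 10 = {1, 2, 5, 10} := by decide
  rw [hd10, Finset.sum_insert (by decide), Finset.sum_insert (by decide),
    Finset.sum_pair (by decide)] at hf10
  have hf30 := C.frob 30 h30N
  have hd30 : Nat.divisors 30 = {1, 2, 3, 5, 6, 10, 15, 30} := by decide
  rw [hd30, Finset.sum_insert (by decide), Finset.sum_insert (by decide),
    Finset.sum_insert (by decide), Finset.sum_insert (by decide), Finset.sum_insert (by decide),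
    Finset.sum_insert (by decide), Finset.sum_pair (by decide)] at hf30
  have hs6_10 : s 6 = 0 ∧ s 10 = 0 := by
    rcases vals h 6 with h0 | h0 | h0 | h0 | h0 <;>
      rcases vals h 10 with h1 | h1 | h1 | h1 | h1 <;> omega
  obtain ⟨hs6, hs10⟩ := hs6_10
  have hs12 : s 12 = 0 := C.down_zero (by norm_num) hs6
  have hs20 : s 20 = 0 := C.down_zero (by norm_num) hs10
  -- s 4 = 0
  have hs4 : s 4 = 0 := by
    by_cases h4N : 4 ∣ N
    · have h12N : 12 ∣ N := (by norm_num : Nat.Coprime 4 3).mul_dvd_of_dvd_of_dvd h4N h3N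
      have h20N : 20 ∣ N := (by norm_num : Nat.Coprime 4 5).mul_dvd_of_dvd_of_dvd h4N h5N
      have hf12 := C.frob 12 h12N
      have hd12 : Nat.divisors 12 = {1, 2, 3, 4, 6, 12} := by decide
      rw [hd12, Finset.sum_insert (by decide), Finset.sum_insert (by decide),
        Finset.sum_insert (by decide), Finset.sum_insert (by decide),
        Finset.sum_pair (by decide)] at hf12
      have hf20 := C.frob 20 h20N
      have hd20 : Nat.divisors 20 = {1, 2, 4, 5, 10, 20} := by decide
      rw [hd20, Finset.sum_insert (by decide), Finset.sum_insert (by decide),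
        Finset.sum_insert (by decide), Finset.sum_insert (by decide),
        Finset.sum_pair (by decide)] at hf20
      rcases vals h 4 with h0 | h0 | h0 | h0 | h0 <;> omega
    · exact C.eq_zero_of_not_dvd h4N
  have hs9 : s 9 = 0 := C.eq_zero_of_not_dvd h9
  have hs25 : s 25 = 0 := C.eq_zero_of_not_dvd h25
  -- products of two primes
  have hpq : ∀ p q, p.Prime → q.Prime → p ∣ N → q ∣ N → s (p * q) = 0 := by
    intro p q hp hq hpN hqN
    rcases hpr p hp hpN with rfl | rfl | rfl <;> rcases hpr q hq hqN with rfl | rfl | rfl <;>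
      simp only [Nat.reduceMul] <;> assumption
  have hsupp : ∀ m, s m ≠ 0 → m ∈ ({1, 2, 3, 5} : Finset ℕ) := by
    intro m hm
    have hmN := C.dvd m hm
    by_cases hm1 : m = 1
    · simp [hm1]
    · obtain ⟨p, hp, m', rfl⟩ := Nat.exists_prime_and_dvd hm1
      have hpN : p ∣ N := dvd_trans (dvd_mul_right p m') hmN
      by_cases hm'1 : m' = 1
      · subst hm'1
        rw [mul_one]
        rcases hpr p hp hpN with rfl | rfl | rfl <;> simp
      · exfalso
        obtain ⟨q, hq, m'', rfl⟩ := Nat.exists_prime_and_dvd hm'1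
        have hqN : q ∣ N := dvd_trans (Dvd.intro_left _ (by ring : p * m'' * q = p * (q * m''))) hmN
        apply hm
        apply C.down_zero _ (hpq p q hp hq hpN hqN)
        exact ⟨m'', by ring⟩
  have htot := C.total _ hsupp
  rw [Finset.sum_insert (by decide), Finset.sum_insert (by decide),
    Finset.sum_pair (by decide)] at htot
  refine ⟨by omega, hs10, hs15⟩

end A5ARITH

open A5ARITH in
/-- PIECE A5ARITH. -/
theorem a5_arith (C : Ctx N s np) (h : IsNse s {1, 15, 20, 24})
    (hf : s 2 = 15 ∧ (∀ p, p.Prime → p ∣ N → p = 2 ∨ p = 3 ∨ p = 5) ∧ (3 ∣ N → s 3 = 20) ∧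
      (5 ∣ N → s 5 = 24) ∧ ¬ 9 ∣ N ∧ ¬ 25 ∣ N) :
    N = 60 ∧ s 3 = 20 ∧ s 5 = 24 ∧ s 10 = 0 ∧ s 15 = 0 := by
  obtain ⟨hs2, hpr, hs3, hs5, h9, h25⟩ := hf
  have h2N : 2 ∣ N := C.dvd 2 (by rw [hs2]; decide)
  by_cases h3N : 3 ∣ N
  · have e3 := hs3 h3N
    by_cases h5N : 5 ∣ N
    · have e5 := hs5 h5N
      obtain ⟨hN, h10, h15⟩ := case_thirty C h hs2 hpr e3 e5 h9 h25 h2N h3N h5N
      exact ⟨hN, e3, e5, h10, h15⟩
    · -- case (ii)
      exfalso
      have hc := C.cyc 3 1 (by norm_num) (by norm_num) (by simpa using h3N) (by simpa using h9)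
        (by rw [pow_one, e3]; decide)
      have hφ3 : Nat.totient 3 = 2 := by decide
      rw [pow_one, hφ3, e3] at hc
      have hnp : np 3 = 10 := by omega
      have hd := C.np_dvd 3 1 (by norm_num) (by simpa using h3N) (by simpa using h9)
      rw [hnp] at hd
      exact h5N (dvd_trans (by norm_num) hd)
  · by_cases h5N : 5 ∣ N
    · -- case (iii)
      exfalso
      have e5 := hs5 h5N
      have hc := C.cyc 5 1 (by norm_num) (by norm_num) (by simpa using h5N) (by simpa using h25)
        (by rw [pow_one, e5]; decide)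
      have hφ5 : Nat.totient 5 = 4 := by decide
      rw [pow_one, hφ5, e5] at hc
      have hnp : np 5 = 6 := by omega
      have hd := C.np_dvd 5 1 (by norm_num) (by simpa using h5N) (by simpa using h25)
      rw [hnp] at hd
      exact h3N (dvd_trans (by norm_num) hd)
    · -- case (i)
      exfalso
      apply case_two_pow C h hs2
      intro p hp hpN
      rcases hpr p hp hpN with rfl | rfl | rfl
      · rfl
      · exact absurd hpN h3N
      · exact absurd hpN h5N

end Cfsg.Agent.Helper26.NSE
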