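import Mathlib
import Cfsg.Agent.Lib.Helper26.NSEDefs

/-!
# S3431, piece A5FACTS (helper6, for helper26): first arithmetic facts for `nse = {1, 15, 20, 24}`
-/

set_option autoImplicit false

namespace Cfsg.Agent.Helper26.NSE

variable {N : ℕ} {s np : ℕ → ℕ}

namespace A5FACTS

theorem vals (h : IsNse s {1, 15, 20, 24}) (m : ℕ) :
    s m = 0 ∨ s m = 1 ∨ s m = 15 ∨ s m = 20 ∨ s m = 24 := by
  rcases h.1 m with h0 | hm
  · exact Or.inl h0
  · right
    simpa using hm

theorem s_two (C : Ctx N s np) (h : IsNse s {1, 15, 20, 24}) : s 2 = 15 :=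
  C.s_two_of_odd h (v := 15) (by simp) (by decide) (by decide)

theorem two_dvd (C : Ctx N s np) (h : IsNse s {1, 15, 20, 24}) : 2 ∣ N :=
  C.dvd 2 (by rw [s_two C h]; decide)

/-- the odd prime divisors of `N` -/
theorem odd_prime (C : Ctx N s np) (h : IsNse s {1, 15, 20, 24}) (p : ℕ) (hp : p.Prime)
    (hpN : p ∣ N) (hp2 : p ≠ 2) : (p = 3 ∧ s p = 20) ∨ (p = 5 ∧ s p = 24) := by
  have hp3 : 3 ≤ p := by have := hp.two_le; omega
  have hne := C.cauchy p hp hpN
  have heven := C.even_of_three_le hp3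
  have htot := C.tot p
  rw [Nat.totient_prime hp] at htot
  have hfrob := C.frob p hpN
  rw [hp.divisors, Finset.sum_pair hp.one_lt.ne, C.s_one] at hfrob
  rcases vals h p with h0 | h1 | h15 | h20 | h24
  · exact absurd h0 hne
  · omega
  · omega
  · rw [h20] at hfrob htot
    have hfrob' : p ∣ 21 := hfrob
    have hmem : p ∈ Nat.divisors 21 := Nat.mem_divisors.2 ⟨hfrob', by norm_num⟩
    have hd : Nat.divisors 21 = {1, 3, 7, 21} := by decide
    rw [hd] at hmem
    simp only [Finset.mem_insert, Finset.mem_singleton] at hmem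
    rcases hmem with rfl | rfl | rfl | rfl
    · exact absurd hp (by norm_num)
    · left; exact ⟨rfl, h20⟩
    · norm_num at htot
    · exact absurd hp (by norm_num)
  · rw [h24] at hfrob htot
    have hfrob' : p ∣ 25 := hfrob
    have hmem : p ∈ Nat.divisors 25 := Nat.mem_divisors.2 ⟨hfrob', by norm_num⟩
    have hd : Nat.divisors 25 = {1, 5, 25} := by decide
    rw [hd] at hmem
    simp only [Finset.mem_insert, Finset.mem_singleton] at hmem
    rcases hmem with rfl | rfl | rfl
    · exact absurd hp (by norm_num)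
    · right; exact ⟨rfl, h24⟩
    · exact absurd hp (by norm_num)

theorem s_three (C : Ctx N s np) (h : IsNse s {1, 15, 20, 24}) (h3 : 3 ∣ N) : s 3 = 20 := by
  rcases odd_prime C h 3 (by norm_num) h3 (by norm_num) with ⟨_, h'⟩ | ⟨h', _⟩
  · exact h'
  · omega

theorem s_five (C : Ctx N s np) (h : IsNse s {1, 15, 20, 24}) (h5 : 5 ∣ N) : s 5 = 24 := by
  rcases odd_prime C h 5 (by norm_num) h5 (by norm_num) with ⟨h', _⟩ | ⟨_, h'⟩
  · omega
  · exact h'

theorem not_nine (C : Ctx N s np) (h : IsNse s {1, 15, 20, 24}) : ¬ 9 ∣ N := by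
  intro h9
  have h3 : 3 ∣ N := dvd_trans (by norm_num) h9
  have e3 := s_three C h h3
  have e1 := C.s_one
  have ht9 := C.tot 9
  have hφ9 : Nat.totient 9 = 6 := by decide
  rw [hφ9] at ht9
  have hf9 := C.frob 9 h9
  have hd9 : Nat.divisors 9 = {1, 3, 9} := by decide
  rw [hd9, Finset.sum_insert (by decide), Finset.sum_pair (by decide)] at hf9
  have hs9 : s 9 = 24 := by
    rcases vals h 9 with h0 | h0 | h0 | h0 | h0 <;> omega
  by_cases h27 : 27 ∣ N
  · have ht27 := C.tot 27
    have hφ27 : Nat.totient 27 = 18 := by decide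
    rw [hφ27] at ht27
    have hs27 : s 27 = 0 := by
      rcases vals h 27 with h0 | h0 | h0 | h0 | h0 <;> omega
    have hf27 := C.frob 27 h27
    have hd27 : Nat.divisors 27 = {1, 3, 9, 27} := by decide
    rw [hd27, Finset.sum_insert (by decide), Finset.sum_insert (by decide),
      Finset.sum_pair (by decide)] at hf27
    omega
  · have hc := C.cyc 3 2 (by norm_num) (by norm_num) (by simpa using h9) (by simpa using h27)
      (by
        have : (3 : ℕ) ^ 2 = 9 := by norm_num
        rw [this, hs9]; decide)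
    have e9 : (3 : ℕ) ^ 2 = 9 := by norm_num
    rw [e9, hφ9, hs9, e3] at hc
    omega

theorem not_twentyfive (C : Ctx N s np) (h : IsNse s {1, 15, 20, 24}) : ¬ 25 ∣ N := by
  intro h25
  have h5 : 5 ∣ N := dvd_trans (by norm_num) h25
  have e5 := s_five C h h5
  have e2 := s_two C h
  have e1 := C.s_one
  have h2 := two_dvd C h
  have ht25 := C.tot 25
  have hφ25 : Nat.totient 25 = 20 := by decide
  rw [hφ25] at ht25
  have hf25 := C.frob 25 h25
  have hd25 : Nat.divisors 25 = {1, 5, 25} := by decide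
  rw [hd25, Finset.sum_insert (by decide), Finset.sum_pair (by decide)] at hf25
  have hs25 : s 25 = 0 := by
    rcases vals h 25 with h0 | h0 | h0 | h0 | h0 <;> omega
  have hs50 : s 50 = 0 := C.down_zero (by norm_num) hs25
  have h50 : 50 ∣ N := by
    have : Nat.Coprime 2 25 := by norm_num
    exact this.mul_dvd_of_dvd_of_dvd h2 h25
  have ht10 := C.tot 10
  have hφ10 : Nat.totient 10 = 4 := by decide
  rw [hφ10] at ht10
  have hf50 := C.frob 50 h50
  have hd50 : Nat.divisors 50 = {1, 2, 5, 10, 25, 50} := by decide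
  rw [hd50, Finset.sum_insert (by decide), Finset.sum_insert (by decide),
    Finset.sum_insert (by decide), Finset.sum_insert (by decide),
    Finset.sum_pair (by decide)] at hf50
  rcases vals h 10 with h0 | h0 | h0 | h0 | h0 <;> omega

end A5FACTS

open A5FACTS in
/-- PIECE A5FACTS. -/
theorem a5_facts (C : Ctx N s np) (h : IsNse s {1, 15, 20, 24}) :
    s 2 = 15 ∧ (∀ p, p.Prime → p ∣ N → p = 2 ∨ p = 3 ∨ p = 5) ∧ (3 ∣ N → s 3 = 20) ∧
      (5 ∣ N → s 5 = 24) ∧ ¬ 9 ∣ N ∧ ¬ 25 ∣ N := by
  refine ⟨s_two C h, ?_, s_three C h, s_five C h, not_nine C h, not_twentyfive C h⟩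
  intro p hp hpN
  by_cases hp2 : p = 2
  · exact Or.inl hp2
  · rcases odd_prime C h p hp hpN hp2 with ⟨h', _⟩ | ⟨h', _⟩
    · exact Or.inr (Or.inl h')
    · exact Or.inr (Or.inr h')

end Cfsg.Agent.Helper26.NSE
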