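import Mathlib
import Cfsg.Prelude.Def_LieRecognition

set_option autoImplicit false

namespace Cfsg.Agent.Helper6.RankOne

open MulAction
open scoped Pointwise

variable {G Ω : Type*} [Group G] [MulAction G Ω] {a : Ω} {t : G} {Q : Subgroup G}

theorem t_inv (hS : Cfsg.IsRankOneSetup G Ω a t Q) : t⁻¹ = t :=
  inv_eq_of_mul_eq_one_left hS.mul_self

theorem ta_ne (hS : Cfsg.IsRankOneSetup G Ω a t Q) : t • a ≠ a := by
  intro h
  exact hS.not_mem (mem_stabilizer_iff.mpr h)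

theorem tta (hS : Cfsg.IsRankOneSetup G Ω a t Q) : t • t • a = a := by
  rw [← mul_smul, hS.mul_self, one_smul]

theorem two_trans (hS : Cfsg.IsRankOneSetup G Ω a t Q) {x y z w : Ω} (h1 : x ≠ y) (h2 : z ≠ w) :
    ∃ g : G, g • x = z ∧ g • y = w :=
  (MulAction.is_two_pretransitive_iff.mp hS.two_transitive) h1 h2

/-- `D ≤ G_a` normalises `Q`. -/
theorem D_le_normalizer (hS : Cfsg.IsRankOneSetup G Ω a t Q) :
    (stabilizer G a ⊓ stabilizer G (t • a)) ≤ Subgroup.normalizer (Q : Set G) := by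
  intro d hd
  rw [Subgroup.mem_normalizer_iff]
  intro x
  constructor
  · intro hx
    exact hS.conj_mem d hd.1 x hx
  · intro hx
    have := hS.conj_mem d⁻¹ (Subgroup.inv_mem _ hd.1) _ hx
    have e : d⁻¹ * (d * x * d⁻¹) * d⁻¹⁻¹ = x := by group
    rwa [e] at this

/-- Every element of `G_a` is a product `q * d`. -/
theorem exists_qd (hS : Cfsg.IsRankOneSetup G Ω a t Q) (h : G) (hh : h ∈ stabilizer G a) :
    ∃ q ∈ Q, ∃ d ∈ (stabilizer G a ⊓ stabilizer G (t • a)), h = q * d := by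
  have h1 : h ∈ ((Q ⊔ (stabilizer G a ⊓ stabilizer G (t • a)) : Subgroup G) : Set G) := by
    rw [hS.sup_eq]; exact hh
  rw [Subgroup.coe_mul_of_right_le_normalizer_left Q _ (D_le_normalizer hS)] at h1
  obtain ⟨q, hq, d, hd, rfl⟩ := h1
  exact ⟨q, hq, d, hd, rfl⟩

theorem Q_inf_D (hS : Cfsg.IsRankOneSetup G Ω a t Q) :
    Q ⊓ (stabilizer G a ⊓ stabilizer G (t • a)) = ⊥ := by
  apply le_antisymm _ bot_le
  rw [← hS.inf_eq_bot]
  exact inf_le_inf_left Q inf_le_right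

/-- uniqueness of the `q * d` decomposition -/
theorem qd_unique (hS : Cfsg.IsRankOneSetup G Ω a t Q) {q q' d d' : G} (hq : q ∈ Q) (hq' : q' ∈ Q)
    (hd : d ∈ (stabilizer G a ⊓ stabilizer G (t • a))) (hd' : d' ∈ (stabilizer G a ⊓ stabilizer G (t • a)))
    (h : q * d = q' * d') : q = q' ∧ d = d' := by
  have h1 : q'⁻¹ * q = d' * d⁻¹ := by
    calc q'⁻¹ * q = q'⁻¹ * (q * d) * d⁻¹ := by group
      _ = q'⁻¹ * (q' * d') * d⁻¹ := by rw [h]
      _ = d' * d⁻¹ := by group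
  have h2 : q'⁻¹ * q ∈ Q ⊓ (stabilizer G a ⊓ stabilizer G (t • a)) := by
    refine Subgroup.mem_inf.mpr ⟨Q.mul_mem (Q.inv_mem hq') hq, ?_⟩
    rw [h1]
    exact Subgroup.mul_mem _ hd' (Subgroup.inv_mem _ hd)
  rw [Q_inf_D hS, Subgroup.mem_bot] at h2
  have hqq : q = q' := by
    calc q = q' * (q'⁻¹ * q) := by group
      _ = q' := by rw [h2, mul_one]
  refine ⟨hqq, ?_⟩
  rw [hqq] at h
  exact mul_left_cancel h

/-- `Q` is transitive on the points other than `a`. -/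
theorem exists_q_smul (hS : Cfsg.IsRankOneSetup G Ω a t Q) (b : Ω) (hb : b ≠ a) :
    ∃ q ∈ Q, q • (t • a) = b := by
  obtain ⟨g, hga, hgb⟩ := two_trans hS (ta_ne hS).symm hb.symm
  obtain ⟨q, hq, d, hd, rfl⟩ := exists_qd hS g (mem_stabilizer_iff.mpr hga)
  refine ⟨q, hq, ?_⟩
  rw [mul_smul, mem_stabilizer_iff.mp hd.2] at hgb
  exact hgb

/-- `Q` is semiregular on the points other than `a`. -/
theorem eq_one_of_smul_eq (hS : Cfsg.IsRankOneSetup G Ω a t Q) (q : G) (hq : q ∈ Q) (b : Ω)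
    (hb : b ≠ a) (h : q • b = b) : q = 1 := by
  obtain ⟨q₀, hq₀, rfl⟩ := exists_q_smul hS b hb
  have h1 : q₀⁻¹ * q * q₀ ∈ Q ⊓ stabilizer G (t • a) := by
    refine Subgroup.mem_inf.mpr ⟨Q.mul_mem (Q.mul_mem (Q.inv_mem hq₀) hq) hq₀, ?_⟩
    rw [mem_stabilizer_iff, mul_smul, mul_smul, h, inv_smul_smul]
  rw [hS.inf_eq_bot, Subgroup.mem_bot] at h1
  calc q = q₀ * (q₀⁻¹ * q * q₀) * q₀⁻¹ := by group
    _ = 1 := by rw [h1]; group

/-- `Q` is regular on the points other than `a`. -/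
theorem existsUnique_smul (hS : Cfsg.IsRankOneSetup G Ω a t Q) (b c : Ω) (hb : b ≠ a) (hc : c ≠ a) :
    ∃! x : Q, (x : G) • b = c := by
  obtain ⟨qb, hqb, rfl⟩ := exists_q_smul hS b hb
  obtain ⟨qc, hqc, rfl⟩ := exists_q_smul hS c hc
  refine ⟨⟨qc * qb⁻¹, Q.mul_mem hqc (Q.inv_mem hqb)⟩, ?_, ?_⟩
  · show (qc * qb⁻¹) • qb • t • a = qc • t • a
    rw [mul_smul, inv_smul_smul]
  · rintro ⟨y, hy⟩ hy'
    have hy'' : y • qb • t • a = qc • t • a := hy'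
    apply Subtype.ext
    show y = qc * qb⁻¹
    have h1 : (qc * qb⁻¹)⁻¹ * y = 1 := by
      apply eq_one_of_smul_eq hS _ (Q.mul_mem (Q.inv_mem (Q.mul_mem hqc (Q.inv_mem hqb))) hy) _ hb
      rw [mul_smul, hy'', mul_inv_rev, inv_inv, mul_smul, inv_smul_smul]
    calc y = (qc * qb⁻¹) * ((qc * qb⁻¹)⁻¹ * y) := by group
      _ = qc * qb⁻¹ := by rw [h1, mul_one]

/-- `t` normalises `D`. -/
theorem t_conj_D (hS : Cfsg.IsRankOneSetup G Ω a t Q) (d : G)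
    (hd : d ∈ (stabilizer G a ⊓ stabilizer G (t • a))) :
    t * d * t ∈ (stabilizer G a ⊓ stabilizer G (t • a)) := by
  refine Subgroup.mem_inf.mpr ⟨?_, ?_⟩
  · rw [mem_stabilizer_iff, mul_smul, mul_smul, mem_stabilizer_iff.mp hd.2, tta hS]
  · rw [mem_stabilizer_iff, mul_smul, mul_smul, tta hS, mem_stabilizer_iff.mp hd.1]

/-- uniqueness of the canonical form `x t y` with `x ∈ G_a`, `y ∈ Q`. -/
theorem canonical_unique (hS : Cfsg.IsRankOneSetup G Ω a t Q) {x x' y y' : G}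
    (hx : x ∈ stabilizer G a) (hx' : x' ∈ stabilizer G a) (hy : y ∈ Q) (hy' : y' ∈ Q)
    (h : x * t * y = x' * t * y') : x = x' ∧ y = y' := by
  have hti := t_inv hS
  have h1 : y * y'⁻¹ = t * (x⁻¹ * x') * t := by
    calc y * y'⁻¹ = t⁻¹ * x⁻¹ * (x * t * y) * y'⁻¹ := by group
      _ = t⁻¹ * x⁻¹ * (x' * t * y') * y'⁻¹ := by rw [h]
      _ = t⁻¹ * (x⁻¹ * x') * t := by group
      _ = t * (x⁻¹ * x') * t := by rw [hti]
  have h2 : y * y'⁻¹ ∈ Q ⊓ stabilizer G (t • a) := by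
    refine Subgroup.mem_inf.mpr ⟨Q.mul_mem hy (Q.inv_mem hy'), ?_⟩
    rw [h1, mem_stabilizer_iff, mul_smul, mul_smul, tta hS]
    have : (x⁻¹ * x') • a = a := mem_stabilizer_iff.mp (Subgroup.mul_mem _ (Subgroup.inv_mem _ hx) hx')
    rw [this]
  rw [hS.inf_eq_bot, Subgroup.mem_bot] at h2
  have hyy : y = y' := by
    calc y = (y * y'⁻¹) * y' := by group
      _ = y' := by rw [h2, one_mul]
  refine ⟨?_, hyy⟩
  rw [hyy] at h
  exact mul_right_cancel (mul_right_cancel h)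

/-- uniqueness of the form `g h t f` with `g, f ∈ Q`, `h ∈ D`. -/
theorem ghtf_unique (hS : Cfsg.IsRankOneSetup G Ω a t Q) {g g' h h' f f' : G}
    (hg : g ∈ Q) (hg' : g' ∈ Q)
    (hh : h ∈ (stabilizer G a ⊓ stabilizer G (t • a))) (hh' : h' ∈ (stabilizer G a ⊓ stabilizer G (t • a)))
    (hf : f ∈ Q) (hf' : f' ∈ Q)
    (e : g * h * t * f = g' * h' * t * f') : g = g' ∧ h = h' ∧ f = f' := by
  have h1 : g * h ∈ stabilizer G a := Subgroup.mul_mem _ (hS.le hg) hh.1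
  have h2 : g' * h' ∈ stabilizer G a := Subgroup.mul_mem _ (hS.le hg') hh'.1
  obtain ⟨e1, e2⟩ := canonical_unique hS h1 h2 hf hf' e
  obtain ⟨e3, e4⟩ := qd_unique hS hg hg' hh hh' e1
  exact ⟨e3, e4, e2⟩

end Cfsg.Agent.Helper6.RankOne
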