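import Mathlib
import Cfsg.Agent.Lib.Helper3.BSWDefs
import Cfsg.Agent.Lib.Helper4.BSWHSTRUCT
import Cfsg.Agent.Lib.Helper8.BSWRCENT
import Cfsg.Agent.Lib.Helper8.BSWREALC
import Cfsg.Agent.Lib.Helper25.BSWVALSA
import Cfsg.Agent.Lib.Helper12.BSWCENTA

/-!
# S3282 piece QA (IIA3): the subgroup `Q = C(y0)` of order `2k+1` in case A.
-/

set_option autoImplicit false

namespace Cfsg.Agent.Helper3.BSW

universe u

variable {G : Type u} [Group G] [Fintype G] {t s : G} {K : Subgroup G} {St : G → ℤ}

namespace QA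

omit [Fintype G] in
/-- An involution inverting every element of `Q` normalizes `Q`. -/
theorem mem_normalizer_of_inverts {Q : Subgroup G} {v : G} (hv : orderOf v = 2)
    (hinv : ∀ c ∈ Q, v * c * v⁻¹ = c⁻¹) : v ∈ Subgroup.normalizer (Q : Set G) := by
  have hv2 : v * v = 1 := by
    have := pow_orderOf_eq_one v
    rw [hv, pow_two] at this
    exact this
  have hvinv : v⁻¹ = v := inv_eq_of_mul_eq_one_left hv2
  rw [Subgroup.mem_normalizer_iff]
  intro x
  constructor
  · intro hx
    rw [hinv x hx]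
    exact Q.inv_mem hx
  · intro hx
    have h1 := hinv _ hx
    have h2 : v * (v * x * v⁻¹) * v⁻¹ = x := by
      rw [hvinv]
      calc v * (v * x * v) * v = (v * v) * x * (v * v) := by group
        _ = x := by rw [hv2]; simp
    rw [h2] at h1
    rw [h1]
    exact Q.inv_mem hx

end QA

/-- PIECE QA (IIA3). -/
theorem exists_QA (h : Hyp t s K) (hA : StA K St) :
    ∃ (Q : Subgroup G) (v : G), Nat.card Q = 2 * Nat.card K + 1 ∧ SelfCent Q ∧
      (∀ x ∈ Q, x ≠ 1 → InR K x ∧ St x = 0) ∧ orderOf v = 2 ∧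
      v ∈ Subgroup.normalizer (Q : Set G) := by
  classical
  have hk := (even_card_K h).2
  -- a point of `R0`
  have hpos : 0 < Nat.card {y : G // InR K y ∧ St y = 0} := by
    rw [card_R0A h hA]
    have : 1 < (2 * Nat.card K + 1) ^ 2 := by nlinarith
    omega
  obtain ⟨⟨y0, hy0, hS0⟩⟩ := (Nat.card_pos_iff.mp hpos).1
  obtain ⟨⟨u, hu, huy⟩, hcard⟩ := cent_A h hA hy0
  obtain ⟨hinv, hcomm, -⟩ := real_cent h hy0 hu huy
  have hQcard : Nat.card (Subgroup.centralizer ({y0} : Set G)) = 2 * Nat.card K + 1 := by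
    rw [hS0] at hcard
    have : (Nat.card (Subgroup.centralizer ({y0} : Set G)) : ℤ) = ((2 * Nat.card K + 1 : ℕ) : ℤ) := by
      rw [hcard]; push_cast; ring
    exact_mod_cast this
  -- key: for `x ∈ Q#`, `C(x) = Q` and `St x = 0`
  have key : ∀ x ∈ Subgroup.centralizer ({y0} : Set G), x ≠ 1 →
      InR K x ∧ St x = 0 ∧ Subgroup.centralizer ({x} : Set G) = Subgroup.centralizer ({y0} : Set G) := by
    intro x hx hx1
    have hxR : InR K x := inR_of_mem_cent h hy0 hx hx1
    obtain ⟨-, hcx⟩ := cent_A h hA hxR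
    have hle : Subgroup.centralizer ({y0} : Set G) ≤ Subgroup.centralizer ({x} : Set G) := by
      intro q hq
      rw [Subgroup.mem_centralizer_iff]
      intro z hz
      rw [Set.mem_singleton_iff] at hz
      subst hz
      exact hcomm z hx q hq
    have hcle : Nat.card (Subgroup.centralizer ({y0} : Set G)) ≤
        Nat.card (Subgroup.centralizer ({x} : Set G)) :=
      Nat.card_mono (Set.toFinite _) hle
    have hSx : St x = 0 := by
      rcases stA_vals h hA hxR with h0 | h1
      · exact h0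
      · exfalso
        rw [h1] at hcx
        have : (Nat.card (Subgroup.centralizer ({x} : Set G)) : ℤ) = (Nat.card K : ℤ) + 1 := by
          rw [hcx]; ring
        have h2 : Nat.card (Subgroup.centralizer ({x} : Set G)) = Nat.card K + 1 := by
          exact_mod_cast this
        omega
    refine ⟨hxR, hSx, ?_⟩
    have hcx' : Nat.card (Subgroup.centralizer ({x} : Set G)) = 2 * Nat.card K + 1 := by
      rw [hSx] at hcx
      have : (Nat.card (Subgroup.centralizer ({x} : Set G)) : ℤ) = ((2 * Nat.card K + 1 : ℕ) : ℤ) := by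
        rw [hcx]; push_cast; ring
      exact_mod_cast this
    symm
    apply Subgroup.eq_of_le_of_card_ge hle
    rw [hcx', hQcard]
  refine ⟨Subgroup.centralizer ({y0} : Set G), u, hQcard, ?_, ?_, hu, ?_⟩
  · intro x hx hx1
    exact (key x hx hx1).2.2
  · intro x hx hx1
    exact ⟨(key x hx hx1).1, (key x hx hx1).2.1⟩
  · exact QA.mem_normalizer_of_inverts hu hinv

end Cfsg.Agent.Helper3.BSW
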