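import Mathlib
import Cfsg.Agent.Lib.Helper3.BSWDefs
import Cfsg.Agent.Lib.Helper4.BSWHSTRUCT
import Cfsg.Agent.Lib.Helper14.BSWSCTI
import Cfsg.Agent.Lib.Helper25.BSWVALSB
import Cfsg.Agent.Lib.Helper10.BSWFROBCOUNT

/-!
# S3282 piece NQB (IIB9): some `y ∈ R1` has `C(y) ≤ N(Q)`.
-/

set_option autoImplicit false

namespace Cfsg.Agent.Helper3.BSW

universe u

namespace NQB

/-- Membership in the centralizer of a singleton. -/
theorem mem_cent_iff {G : Type u} [Group G] (a x : G) :
    x ∈ Subgroup.centralizer ({a} : Set G) ↔ a * x = x * a := by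
  rw [Subgroup.mem_centralizer_iff]
  constructor
  · intro h
    exact h a rfl
  · intro h z hz
    rw [Set.mem_singleton_iff] at hz
    rw [hz]
    exact h

/-- Centralizers inside a subgroup. -/
theorem mem_cent_sub {G : Type u} [Group G] {N : Subgroup G} (a x : N) :
    x ∈ Subgroup.centralizer ({a} : Set N) ↔
      (x : G) ∈ Subgroup.centralizer ({(a : G)} : Set G) := by
  rw [mem_cent_iff, mem_cent_iff]
  constructor
  · intro h
    have := congrArg Subtype.val h
    simpa using this
  · intro h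
    apply Subtype.ext
    simpa using h

/-- An odd number `> 1` is at least `3`. -/
theorem three_le_of_odd {n : ℕ} (ho : Odd n) (h1 : 1 < n) : 3 ≤ n := by
  obtain ⟨m, rfl⟩ := ho
  omega

/-- `k` is coprime to `(2k-1)(k-1)`. -/
theorem coprime_aux (j : ℕ) : Nat.Coprime (j + 2) ((2 * j + 3) * (j + 1)) := by
  apply Nat.Coprime.mul_right
  · have : 2 * j + 3 = (j + 2) * 2 - 1 := by omega
    rw [Nat.coprime_comm]
    have h1 : (2 * j + 3) + 1 = (j + 2) * 2 := by ring
    have : Nat.Coprime (2 * j + 3) ((2 * j + 3) + 1) := by simp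
    rw [h1] at this
    exact Nat.Coprime.coprime_mul_right_right this
  · have : j + 2 = (j + 1) + 1 := by ring
    rw [this]
    simp

end NQB

variable {G : Type u} [Group G] [Fintype G] {t s : G} {K : Subgroup G} {St : G → ℤ}

/-- PIECE NQB (IIB9). -/
theorem exists_DB (h : Hyp t s K) (hB : StB K St) (hk : 2 < Nat.card K) {Q : Subgroup G}
    (hQc : Nat.card Q = 2 * Nat.card K - 1) (hQ : SelfCent Q)
    (hQR : ∀ x ∈ Q, x ≠ 1 → InR K x ∧ St x = 0)
    (hN : Nat.card (Subgroup.normalizer (Q : Set G)) = (2 * Nat.card K - 1) * (Nat.card K - 1))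
    (hQN : ∀ x ∈ Subgroup.normalizer (Q : Set G), (InR K x ∧ St x = 0) → x ∈ Q)
    (hR1 : ∀ y : G, InR K y → St y = 1 → SelfCent (Subgroup.centralizer ({y} : Set G)) ∧
      Nat.card (Subgroup.centralizer ({y} : Set G)) + 1 = Nat.card K ∧
      (∀ x ∈ Subgroup.centralizer ({y} : Set G), x ≠ 1 → InR K x ∧ St x = 1) ∧
      ∀ g ∈ Subgroup.normalizer ((Subgroup.centralizer ({y} : Set G) : Subgroup G) : Set G),
        Odd (orderOf g) → g ∈ Subgroup.centralizer ({y} : Set G)) :
    ∃ y : G, InR K y ∧ St y = 1 ∧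
      Subgroup.centralizer ({y} : Set G) ≤ Subgroup.normalizer (Q : Set G) := by
  classical
  obtain ⟨hev, -⟩ := even_card_K h
  obtain ⟨j, hj⟩ : ∃ j, Nat.card K = j + 2 := ⟨Nat.card K - 2, by omega⟩
  have hj1 : 1 ≤ j := by omega
  have e1 : 2 * (j + 2) - 1 = 2 * j + 3 := by omega
  have e2 : j + 2 - 1 = j + 1 := by omega
  rw [hj, e1, e2] at hN
  rw [hj, e1] at hQc
  set N : Subgroup G := Subgroup.normalizer (Q : Set G) with hNdef
  have hjodd : Odd (j + 1) := by
    rw [hj] at hev
    obtain ⟨c, hc⟩ := hev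
    exact ⟨c - 1, by omega⟩
  have hNodd : Odd (Nat.card N) := by
    rw [hN]
    exact Odd.mul ⟨j + 1, by ring⟩ hjodd
  have hQN' : Q ≤ N := Subgroup.le_normalizer
  -- Step A: elements of `N - Q` lie in `R1`
  have stepA : ∀ g ∈ N, g ∉ Q → InR K g ∧ St g = 1 := by
    intro g hgN hgQ
    have hg1 : g ≠ 1 := fun h1 => hgQ (h1 ▸ Q.one_mem)
    have hogN : orderOf g ∣ (2 * j + 3) * (j + 1) := by
      rw [← hN]
      have := orderOf_dvd_natCard (⟨g, hgN⟩ : N)
      rwa [Subgroup.orderOf_mk] at this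
    have hR : InR K g := by
      refine ⟨hg1, ?_⟩
      intro g' hg'
      have ho : orderOf (g' * g * g'⁻¹) ∣ Nat.card K := by
        have := orderOf_dvd_natCard (⟨g' * g * g'⁻¹, hg'⟩ : K)
        rwa [Subgroup.orderOf_mk] at this
      have hoc : orderOf (g' * g * g'⁻¹) = orderOf g := by
        have := orderOf_injective (MulAut.conj g').toMonoidHom (MulAut.conj g').injective g
        simpa using this
      rw [hoc, hj] at ho
      have h1 : orderOf g ∣ Nat.gcd (j + 2) ((2 * j + 3) * (j + 1)) := Nat.dvd_gcd ho hogN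
      rw [NQB.coprime_aux j] at h1
      exact hg1 (orderOf_eq_one_iff.mp (Nat.dvd_one.mp h1))
    refine ⟨hR, ?_⟩
    rcases stB_vals h hB hR with h0 | h1
    · exact absurd (hQN g hgN ⟨hR, h0⟩) hgQ
    · exact h1
  -- Step B: the counting lemma in `N`
  have hQ'card : Nat.card (Q.subgroupOf N) = 2 * j + 3 := by
    rw [← hQc]
    exact Nat.card_congr (Subgroup.subgroupOfEquivOfLe hQN').toEquiv
  have hQ'top : Q.subgroupOf N ≠ ⊤ := by
    intro htop
    have h1 : Nat.card (Q.subgroupOf N) = Nat.card N := by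
      rw [htop]
      exact Nat.card_congr (Subgroup.topEquiv).toEquiv
    rw [hQ'card, hN] at h1
    nlinarith
  have hE : ∀ g : N, g ∉ Q.subgroupOf N →
      SelfCent (Subgroup.centralizer ({g} : Set N)) ∧
      Subgroup.centralizer ({g} : Set N) ⊓ Q.subgroupOf N = ⊥ ∧
      Subgroup.normalizer ((Subgroup.centralizer ({g} : Set N) : Subgroup N) : Set N) =
        Subgroup.centralizer ({g} : Set N) ∧
      3 ≤ Nat.card (Subgroup.centralizer ({g} : Set N)) := by
    intro g hg
    have hgQ : (g : G) ∉ Q := by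
      rwa [Subgroup.mem_subgroupOf] at hg
    obtain ⟨hyR, hy1⟩ := stepA (g : G) g.2 hgQ
    obtain ⟨hself, -, hR1c, hnorm⟩ := hR1 (g : G) hyR hy1
    have hg1 : g ≠ 1 := by
      intro h1
      apply hgQ
      rw [h1]
      exact Q.one_mem
    have hgE : g ∈ Subgroup.centralizer ({g} : Set N) := by
      rw [NQB.mem_cent_iff]
    refine ⟨?_, ?_, ?_, ?_⟩
    · -- self-centralizing
      intro x hx hx1
      have hxG : (x : G) ∈ Subgroup.centralizer ({(g : G)} : Set G) := (NQB.mem_cent_sub g x).mp hx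
      have hx1G : (x : G) ≠ 1 := fun h1 => hx1 (Subtype.ext h1)
      have heq := hself (x : G) hxG hx1G
      ext z
      rw [NQB.mem_cent_sub, NQB.mem_cent_sub, heq]
    · -- meets `Q` trivially
      rw [eq_bot_iff]
      intro x hx
      rw [Subgroup.mem_bot]
      by_contra hx1
      obtain ⟨hxE, hxQ⟩ := Subgroup.mem_inf.mp hx
      have hxG : (x : G) ∈ Subgroup.centralizer ({(g : G)} : Set G) := (NQB.mem_cent_sub g x).mp hxE
      have hx1G : (x : G) ≠ 1 := fun h1 => hx1 (Subtype.ext h1)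
      have h1 := (hR1c (x : G) hxG hx1G).2
      have h0 := (hQR (x : G) (Subgroup.mem_subgroupOf.mp hxQ) hx1G).2
      rw [h0] at h1
      exact absurd h1 (by norm_num)
    · -- self-normalizing
      apply le_antisymm _ Subgroup.le_normalizer
      intro n hn
      rw [NQB.mem_cent_sub]
      apply hnorm
      · -- `n` normalizes `C(y)`
        have hX : Subgroup.centralizer ({(g : G)} : Set G) ⊓ N ≤
            Subgroup.centralizer ({(g : G)} : Set G) := inf_le_left
        have hXne : Subgroup.centralizer ({(g : G)} : Set G) ⊓ N ≠ ⊥ := by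
          intro hbot
          have : (g : G) ∈ Subgroup.centralizer ({(g : G)} : Set G) ⊓ N :=
            Subgroup.mem_inf.mpr ⟨(NQB.mem_cent_sub g g).mp hgE, g.2⟩
          rw [hbot, Subgroup.mem_bot] at this
          exact hg1 (Subtype.ext this)
        apply selfCent_normalizer hself hX hXne
        rw [Subgroup.mem_normalizer_iff]
        rw [Subgroup.mem_normalizer_iff] at hn
        intro z
        constructor
        · intro hz
          obtain ⟨hzC, hzN⟩ := Subgroup.mem_inf.mp hz
          have h1 := (hn ⟨z, hzN⟩).mp ((NQB.mem_cent_sub g ⟨z, hzN⟩).mpr hzC)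
          have h2 := (NQB.mem_cent_sub g _).mp h1
          exact Subgroup.mem_inf.mpr ⟨by simpa using h2, N.mul_mem (N.mul_mem n.2 hzN) (N.inv_mem n.2)⟩
        · intro hz
          obtain ⟨hzC, hzN⟩ := Subgroup.mem_inf.mp hz
          have hzN' : z ∈ N := by
            have : z = (n : G)⁻¹ * ((n : G) * z * (n : G)⁻¹) * (n : G) := by group
            rw [this]
            exact N.mul_mem (N.mul_mem (N.inv_mem n.2) hzN) n.2
          have h1 : n * ⟨z, hzN'⟩ * n⁻¹ ∈ Subgroup.centralizer ({g} : Set N) := by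
            rw [NQB.mem_cent_sub]
            simpa using hzC
          have h2 := (hn ⟨z, hzN'⟩).mpr h1
          exact Subgroup.mem_inf.mpr ⟨(NQB.mem_cent_sub g _).mp h2, hzN'⟩
      · -- odd order
        have hd : orderOf (n : G) ∣ Nat.card N := by
          have := orderOf_dvd_natCard n
          rwa [Subgroup.orderOf_coe]
        exact Odd.of_dvd_nat hNodd hd
    · -- order at least 3
      have hodd : Odd (Nat.card (Subgroup.centralizer ({g} : Set N))) :=
        Odd.of_dvd_nat hNodd (Subgroup.card_subgroup_dvd_card _)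
      apply NQB.three_le_of_odd hodd
      rw [Subgroup.one_lt_card_iff_ne_bot]
      intro hbot
      rw [hbot, Subgroup.mem_bot] at hgE
      exact hg1 hgE
  obtain ⟨g, hgQ', hcard⟩ := frob_count (Q.subgroupOf N) hQ'top hE
  have hgQ : (g : G) ∉ Q := by
    rwa [Subgroup.mem_subgroupOf] at hgQ'
  obtain ⟨hyR, hy1⟩ := stepA (g : G) g.2 hgQ
  obtain ⟨-, hcy, -, -⟩ := hR1 (g : G) hyR hy1
  refine ⟨(g : G), hyR, hy1, ?_⟩
  -- `|C_N(g)| = k - 1 = |C(g)|`
  rw [hQ'card, hN] at hcard
  have hcE : Nat.card (Subgroup.centralizer ({g} : Set N)) = j + 1 := by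
    have hpos : 0 < 2 * j + 3 := by omega
    apply Nat.eq_of_mul_eq_mul_right hpos
    rw [hcard]
    ring
  have hcy' : Nat.card (Subgroup.centralizer ({(g : G)} : Set G)) = j + 1 := by omega
  -- `C_N(g) = (C(g) ⊓ N).subgroupOf N`
  have hEeq : Subgroup.centralizer ({g} : Set N) =
      (Subgroup.centralizer ({(g : G)} : Set G) ⊓ N).subgroupOf N := by
    ext x
    rw [NQB.mem_cent_sub, Subgroup.mem_subgroupOf, Subgroup.mem_inf]
    exact ⟨fun hx => ⟨hx, x.2⟩, fun hx => hx.1⟩
  have hcX : Nat.card (Subgroup.centralizer ({(g : G)} : Set G) ⊓ N : Subgroup G) = j + 1 := by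
    rw [← hcE, hEeq]
    exact (Nat.card_congr (Subgroup.subgroupOfEquivOfLe (inf_le_right)).toEquiv).symm
  have hXeq : (Subgroup.centralizer ({(g : G)} : Set G) ⊓ N : Subgroup G) =
      Subgroup.centralizer ({(g : G)} : Set G) :=
    Subgroup.eq_of_le_of_card_ge inf_le_left (by rw [hcX, hcy'])
  rw [← hXeq]
  exact inf_le_right

end Cfsg.Agent.Helper3.BSW
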