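import Mathlib
import Cfsg.Agent.Lib.Helper3.BSWDefs
import Cfsg.Agent.Lib.Helper4.BSWHSTRUCT
import Cfsg.Agent.Lib.Helper14.BSWTICOUNT
import Cfsg.Agent.Lib.Helper25.BSWHYPCONJ
import Cfsg.Agent.Lib.Helper25.BSWVALSB
import Cfsg.Agent.Lib.Helper10.BSWSYLCONJ

/-!
# S3282 piece QB (IIB8): the Sylow `p`-subgroup `Q = C(y0)` of order `2k-1` in case B.
-/

set_option autoImplicit false

namespace Cfsg.Agent.Helper3.BSW

universe u

namespace QB

/-- A subgroup of order `p ^ a` in a group of order `m * p ^ a`, `p ∤ m`, is a Sylow `p`-subgroup. -/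
theorem exists_sylow_eq {G : Type u} [Group G] [Finite G] {p : ℕ} [hp : Fact p.Prime] {a m : ℕ}
    {H : Subgroup G} (hH : Nat.card H = p ^ a) (hG : Nat.card G = m * p ^ a) (hm : ¬ p ∣ m) :
    ∃ S : Sylow p G, (S : Subgroup G) = H := by
  have hHp : IsPGroup p H := IsPGroup.of_card hH
  obtain ⟨S, hS⟩ := hHp.exists_le_sylow
  refine ⟨S, ?_⟩
  obtain ⟨n, hn⟩ := IsPGroup.iff_card.mp S.isPGroup'
  have hdvd : Nat.card (S : Subgroup G) ∣ Nat.card G := Subgroup.card_subgroup_dvd_card _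
  rw [hn, hG] at hdvd
  have hcop : Nat.Coprime (p ^ n) m :=
    Nat.Coprime.pow_left n ((Nat.Prime.coprime_iff_not_dvd hp.out).mpr hm)
  have hdvd2 : p ^ n ∣ p ^ a := hcop.dvd_of_dvd_mul_left hdvd
  have hle : Nat.card H ≤ Nat.card (S : Subgroup G) := Nat.card_mono (Set.toFinite _) hS
  have hge : Nat.card (S : Subgroup G) ≤ Nat.card H := by
    rw [hn, hH]
    exact Nat.le_of_dvd (pow_pos hp.out.pos a) hdvd2
  exact (Subgroup.eq_of_le_of_card_ge hS hge).symm

end QB

variable {G : Type u} [Group G] [Fintype G] {t s : G} {K : Subgroup G} {St : G → ℤ}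

/-- PIECE QB (IIB8). -/
theorem exists_QB (h : Hyp t s K) (hB : StB K St) {p : ℕ} [Fact p.Prime]
    (ha : ∃ a : ℕ, 2 * Nat.card K - 1 = p ^ a)
    (hp0 : ∀ x : G, x ≠ 1 → (∃ j : ℕ, orderOf x = p ^ j) → InR K x ∧ St x = 0)
    (hord : ∀ y : G, InR K y → St y = 0 → orderOf y = p)
    (hcent : ∀ y : G, InR K y → St y = 0 →
      Nat.card (Subgroup.centralizer ({y} : Set G)) = 2 * Nat.card K - 1)
    (hti : ∀ S1 S2 : Sylow p G, (S1 : Subgroup G) ⊓ (S2 : Subgroup G) ≠ ⊥ → S1 = S2) :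
    ∃ Q : Subgroup G, Nat.card Q = 2 * Nat.card K - 1 ∧ SelfCent Q ∧
      (∀ x ∈ Q, x ≠ 1 → InR K x ∧ St x = 0) ∧
      Nat.card (Subgroup.normalizer (Q : Set G)) = (2 * Nat.card K - 1) * (Nat.card K - 1) ∧
      ∀ x ∈ Subgroup.normalizer (Q : Set G), (InR K x ∧ St x = 0) → x ∈ Q := by
  classical
  have hp : p.Prime := Fact.out
  have hk := (even_card_K h).2
  obtain ⟨j, hj⟩ : ∃ j, Nat.card K = j + 2 := ⟨Nat.card K - 2, by omega⟩
  obtain ⟨a, ha⟩ := ha
  -- the order of `G`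
  have hG : Nat.card G = (2 * (j + 2) * (j + 1)) * p ^ a := by
    have h1 := hB.card
    rw [hj] at h1
    have h2 : (Nat.card G : ℤ) = ((2 * (j + 2) * (j + 1) * (2 * (j + 2) - 1) : ℕ) : ℤ) := by
      rw [h1]
      have : 2 * (j + 2) - 1 = 2 * j + 3 := by omega
      rw [this]
      push_cast
      ring
    have h3 : Nat.card G = 2 * (j + 2) * (j + 1) * (2 * (j + 2) - 1) := by exact_mod_cast h2
    rw [h3, ← ha, hj]
  have ha' : p ^ a = 2 * j + 3 := by rw [← ha, hj]; omega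
  have ha0 : a ≠ 0 := by
    rintro rfl
    rw [pow_zero] at ha'
    omega
  have hpdvd : p ∣ 2 * j + 3 := by
    rw [← ha']
    exact dvd_pow_self p ha0
  have hm : ¬ p ∣ 2 * (j + 2) * (j + 1) := by
    intro hd
    have h1 : p ∣ (2 * (j + 2)) ∨ p ∣ (j + 1) := (Nat.Prime.dvd_mul hp).mp hd
    have hone : p ∣ 1 := by
      rcases h1 with h1 | h1
      · have : 2 * (j + 2) = (2 * j + 3) + 1 := by ring
        rw [this] at h1
        exact (Nat.dvd_add_right hpdvd).mp h1
      · have h2 : p ∣ 2 * (j + 1) := Dvd.dvd.mul_left h1 2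
        have : 2 * j + 3 = 2 * (j + 1) + 1 := by ring
        rw [this] at hpdvd
        exact (Nat.dvd_add_right h2).mp hpdvd
    exact hp.one_lt.ne' (Nat.dvd_one.mp hone)
  -- centralizers of elements of `R0` are Sylow
  have hsyl : ∀ y : G, InR K y → St y = 0 →
      ∃ S : Sylow p G, (S : Subgroup G) = Subgroup.centralizer ({y} : Set G) := by
    intro y hy h0
    have hc := hcent y hy h0
    rw [ha] at hc
    exact QB.exists_sylow_eq hc hG hm
  -- a point of `R0`
  have hpos : 0 < Nat.card {y : G // InR K y ∧ St y = 0} := by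
    rw [card_R0B h hB, hj]
    have : 2 * (j + 2) - 1 = 2 * j + 3 := by omega
    rw [this]
    have : 1 < (2 * j + 3) ^ 2 := by nlinarith
    omega
  obtain ⟨⟨y0, hy0, hS0⟩⟩ := (Nat.card_pos_iff.mp hpos).1
  obtain ⟨S0, hS0eq⟩ := hsyl y0 hy0 hS0
  have hQcard : Nat.card (Subgroup.centralizer ({y0} : Set G)) = 2 * Nat.card K - 1 :=
    hcent y0 hy0 hS0
  -- elements of `Q#`
  have key : ∀ x ∈ Subgroup.centralizer ({y0} : Set G), x ≠ 1 →
      (InR K x ∧ St x = 0) ∧
        Subgroup.centralizer ({x} : Set G) = Subgroup.centralizer ({y0} : Set G) := by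
    intro x hx hx1
    have hox : orderOf x ∣ p ^ a := by
      rw [← ha, ← hQcard]
      have := orderOf_dvd_natCard (⟨x, hx⟩ : Subgroup.centralizer ({y0} : Set G))
      rwa [Subgroup.orderOf_mk] at this
    obtain ⟨i, -, hi⟩ := (Nat.dvd_prime_pow hp).mp hox
    have hxR := hp0 x hx1 ⟨i, hi⟩
    refine ⟨hxR, ?_⟩
    obtain ⟨Sx, hSx⟩ := hsyl x hxR.1 hxR.2
    have hne : (Sx : Subgroup G) ⊓ (S0 : Subgroup G) ≠ ⊥ := by
      intro hbot
      have hxx : x ∈ Subgroup.centralizer ({x} : Set G) := by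
        rw [Subgroup.mem_centralizer_iff]
        intro z hz
        rw [Set.mem_singleton_iff] at hz
        rw [hz]
      have hmem : x ∈ (Sx : Subgroup G) ⊓ (S0 : Subgroup G) := by
        rw [hSx, hS0eq]
        exact Subgroup.mem_inf.mpr ⟨hxx, hx⟩
      rw [hbot, Subgroup.mem_bot] at hmem
      exact hx1 hmem
    have := hti Sx S0 hne
    rw [← hSx, ← hS0eq, this]
  set Q : Subgroup G := Subgroup.centralizer ({y0} : Set G) with hQdef
  have hQself : SelfCent Q := fun x hx hx1 => (key x hx hx1).2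
  have hQR : ∀ x ∈ Q, x ≠ 1 → InR K x ∧ St x = 0 := fun x hx hx1 => (key x hx hx1).1
  have hQc' : Nat.card Q = p ^ a := by rw [hQcard, ha]
  refine ⟨Q, hQcard, hQself, hQR, ?_, ?_⟩
  · -- the order of the normalizer
    have hidx : Q.index = 2 * (j + 2) * (j + 1) := by
      have h1 := Subgroup.card_mul_index Q
      rw [hQc', hG, mul_comm] at h1
      exact Nat.eq_of_mul_eq_mul_right (pow_pos hp.pos a) h1
    have hall : ∀ y : G, (InR K y ∧ St y = 0) → ∃ g : G, g * y * g⁻¹ ∈ Q ∧ y ≠ 1 := by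
      intro y hy
      have hcop : ¬ p ∣ Q.index := by rw [hidx]; exact hm
      obtain ⟨g, hg⟩ := conj_mem_of_sylow (A := Q) hp hcop (x := y)
        ⟨1, by rw [hord y hy.1 hy.2, pow_one]⟩
      exact ⟨g, hg, hy.1.1⟩
    have hP : ∀ g x : G, (InR K x ∧ St x = 0) → (InR K (g * x * g⁻¹) ∧ St (g * x * g⁻¹) = 0) := by
      intro g x hx
      exact ⟨(inR_conj K g x).mpr hx.1, by rw [hB.conj]; exact hx.2⟩
    have hcount := ti_count_eq hQself (fun y => InR K y ∧ St y = 0) hQR hall hP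
    rw [card_R0B h hB, hG, hQc', ha', hj] at hcount
    have e1 : 2 * (j + 2) - 1 = 2 * j + 3 := by omega
    have e2 : j + 2 - 1 = j + 1 := by omega
    have e3 : 2 * j + 3 - 1 = 2 * j + 2 := by omega
    have e4 : (2 * j + 3) ^ 2 - 1 = 4 * (j + 1) * (j + 2) := by
      have : (2 * j + 3) ^ 2 = 4 * (j + 1) * (j + 2) + 1 := by ring
      omega
    rw [e1, e4, e3] at hcount
    rw [hj, e1, e2]
    have hpos2 : 0 < 4 * (j + 1) * (j + 2) := by positivity
    apply Nat.eq_of_mul_eq_mul_right hpos2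
    rw [← hcount]
    ring
  · -- `R0`-elements of the normalizer
    intro x hxN hxR
    have hox : orderOf x = p := hord x hxR.1 hxR.2
    have hzp : IsPGroup p (Subgroup.zpowers x) := by
      apply IsPGroup.of_card (n := 1)
      rw [Nat.card_zpowers, hox, pow_one]
    have hQp : IsPGroup p Q := IsPGroup.of_card hQc'
    have hle : Subgroup.zpowers x ≤ Subgroup.normalizer (Q : Set G) := by
      rw [Subgroup.zpowers_le]
      exact hxN
    have hsup : IsPGroup p (Q ⊔ Subgroup.zpowers x : Subgroup G) :=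
      IsPGroup.to_sup_of_normal_left' hQp hzp hle
    have hmax := S0.is_maximal' hsup (by rw [hS0eq]; exact le_sup_left)
    have hx' : x ∈ (Q ⊔ Subgroup.zpowers x : Subgroup G) :=
      (le_sup_right : Subgroup.zpowers x ≤ _) (Subgroup.mem_zpowers x)
    rw [hmax, hS0eq] at hx'
    exact hx'

end Cfsg.Agent.Helper3.BSW
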