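import Mathlib
import Cfsg.Agent.Lib.Helper13.BR996CC
import Cfsg.Agent.Lib.Helper24.CharComplete
import Cfsg.Agent.Lib.Helper3.BSWCharDefs
import Cfsg.Agent.Lib.Helper4.BSWNCK
import Cfsg.Agent.Lib.Helper9.BSWDUAL

/-!
# S3282 piece EQC (C4): `∑_ψ b(μ,ψ) ψ(t)² / ψ(1) = 4k³/|G|`.
-/

set_option autoImplicit false
set_option linter.unusedSectionVars false

namespace Cfsg.Agent.Helper3.BSW

open Cfsg Cfsg.Agent.Helper24
open scoped ComplexConjugate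

universe u

namespace EQC

section
variable {A : Type u} [Group A] [Fintype A]

/-- A non-principal hom sums to zero. -/
theorem sum_hom_eq_zero {μ : A →* ℂˣ} (hμ : μ ≠ 1) : ∑ x : A, ((μ x : ℂˣ) : ℂ) = 0 := by
  classical
  have := hom_orth μ (1 : A →* ℂˣ)
  rw [if_neg hμ] at this
  simpa using this

/-- `∑_x (1 - μ x) = |A|` for a non-principal hom. -/
theorem sum_one_sub_hom {μ : A →* ℂˣ} (hμ : μ ≠ 1) :
    ∑ x : A, (1 - ((μ x : ℂˣ) : ℂ)) = (Nat.card A : ℂ) := by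
  rw [Finset.sum_sub_distrib, sum_hom_eq_zero hμ, sub_zero]
  simp [Nat.card_eq_fintype_card]

end

variable {G : Type u} [Group G] {t : G} {K : Subgroup G} [Fintype K]
  {a1 : IrrCharacter G → ℤ} {b : JK K → IrrCharacter G → ℤ} {sgn : JK K → ℤ}

/-- The conjugate form of `b μ ψ`: `(1/k) ∑_x conj ψ(x) (1 - μ x)`. -/
theorem b_conj (htK : t ∈ K) (cd : CharData K t htK a1 b sgn) (μ : JK K) (ψ : IrrCharacter G) :
    (b μ ψ : ℂ) = (Nat.card K : ℂ)⁻¹ *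
      ∑ x : K, conj ((ψ : G → ℂ) x) * (1 - ((μ.1 x : ℂˣ) : ℂ)) := by
  have h1 : conj (b μ ψ : ℂ) = (b μ ψ : ℂ) := map_intCast (starRingEnd ℂ) _
  rw [← h1, cd.hb μ ψ]
  unfold bC
  rw [map_mul, map_inv₀, map_natCast, map_sum]
  congr 1
  apply Finset.sum_congr rfl
  intro x _
  rw [map_mul, map_sub, map_one, Complex.conj_conj]

end EQC

variable {G : Type u} [Group G] [Fintype G] [Fintype (IrrCharacter G)] [DecidableEq (IrrCharacter G)]
  {t s : G} {K : Subgroup G} [Fintype K] [Fintype (JK K)] [DecidableEq (JK K)]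
  {a1 : IrrCharacter G → ℤ} {b : JK K → IrrCharacter G → ℤ} {sgn : JK K → ℤ}

/-- PIECE EQC (C4). -/
theorem eqC_K (h : Hyp t s K) (cd : CharData K t h.htK a1 b sgn) (μ : JK K) :
    ∑ ψ : IrrCharacter G, (b μ ψ : ℂ) * (ψ : G → ℂ) t ^ 2 / (ψ : G → ℂ) 1 =
      4 * (Nat.card K : ℂ) ^ 3 / (Nat.card G : ℂ) := by
  classical
  have hG0 : (Nat.card G : ℂ) ≠ 0 := by
    have : 0 < Nat.card G := Nat.card_pos
    exact_mod_cast this.ne'
  have hk0 : (Nat.card K : ℂ) ≠ 0 := by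
    have : 0 < Nat.card K := Nat.card_pos
    exact_mod_cast this.ne'
  -- the class constant on `K#`
  have hc : ∀ x : K, x ≠ 1 →
      ∑ ψ : IrrCharacter G, (ψ : G → ℂ) t ^ 2 * conj ((ψ : G → ℂ) x) / (ψ : G → ℂ) 1 =
        4 * (Nat.card K : ℂ) ^ 3 / (Nat.card G : ℂ) := by
    intro x hx1
    have hx1' : (x : G) ≠ 1 := fun h1 => hx1 (Subtype.ext h1)
    have h1 := Cfsg.Agent.Helper10.BR996.class_const t t (x : G)
    have h2 := NC_on_K h x.2 hx1'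
    unfold NC at h2
    rw [h2] at h1
    have h3 : ∑ ψ : IrrCharacter G, (ψ : G → ℂ) t ^ 2 * conj ((ψ : G → ℂ) x) / (ψ : G → ℂ) 1 =
        ∑ χ : IrrCharacter G, (χ : G → ℂ) t * (χ : G → ℂ) t * conj ((χ : G → ℂ) x) / (χ : G → ℂ) 1 := by
      apply Finset.sum_congr rfl
      intro ψ _
      rw [pow_two]
    rw [h3, eq_div_iff hG0, mul_comm, ← h1]
    push_cast
    ring
  -- rewrite `b μ ψ` and swap the sums
  have hkey : ∀ x : K, (1 - ((μ.1 x : ℂˣ) : ℂ)) *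
      ∑ ψ : IrrCharacter G, (ψ : G → ℂ) t ^ 2 * conj ((ψ : G → ℂ) x) / (ψ : G → ℂ) 1 =
      (1 - ((μ.1 x : ℂˣ) : ℂ)) * (4 * (Nat.card K : ℂ) ^ 3 / (Nat.card G : ℂ)) := by
    intro x
    by_cases hx1 : x = 1
    · subst hx1
      simp
    · rw [hc x hx1]
  calc ∑ ψ : IrrCharacter G, (b μ ψ : ℂ) * (ψ : G → ℂ) t ^ 2 / (ψ : G → ℂ) 1
      = ∑ ψ : IrrCharacter G, ∑ x : K, (Nat.card K : ℂ)⁻¹ * ((1 - ((μ.1 x : ℂˣ) : ℂ)) *
          ((ψ : G → ℂ) t ^ 2 * conj ((ψ : G → ℂ) x) / (ψ : G → ℂ) 1)) := by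
        apply Finset.sum_congr rfl
        intro ψ _
        rw [EQC.b_conj h.htK cd μ ψ, Finset.mul_sum, Finset.sum_mul, Finset.sum_div]
        apply Finset.sum_congr rfl
        intro x _
        ring
    _ = ∑ x : K, (Nat.card K : ℂ)⁻¹ * ((1 - ((μ.1 x : ℂˣ) : ℂ)) *
          ∑ ψ : IrrCharacter G, (ψ : G → ℂ) t ^ 2 * conj ((ψ : G → ℂ) x) / (ψ : G → ℂ) 1) := by
        rw [Finset.sum_comm]
        apply Finset.sum_congr rfl
        intro x _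
        rw [Finset.mul_sum, Finset.mul_sum]
    _ = ∑ x : K, (Nat.card K : ℂ)⁻¹ * ((1 - ((μ.1 x : ℂˣ) : ℂ)) *
          (4 * (Nat.card K : ℂ) ^ 3 / (Nat.card G : ℂ))) := by
        apply Finset.sum_congr rfl
        intro x _
        rw [hkey x]
    _ = (Nat.card K : ℂ)⁻¹ * ((∑ x : K, (1 - ((μ.1 x : ℂˣ) : ℂ))) *
          (4 * (Nat.card K : ℂ) ^ 3 / (Nat.card G : ℂ))) := by
        rw [Finset.sum_mul, Finset.mul_sum]
    _ = 4 * (Nat.card K : ℂ) ^ 3 / (Nat.card G : ℂ) := by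
        rw [EQC.sum_one_sub_hom μ.2]
        field_simp

end Cfsg.Agent.Helper3.BSW
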