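import Mathlib
import Cfsg.Agent.Lib.Helper24.CharComplete
import Cfsg.Agent.Lib.Helper3.BSWCharDefs
import Cfsg.Agent.Lib.Helper6.BSWEQC
import Cfsg.Agent.Lib.Helper9.BSWDUAL
import Cfsg.Agent.Lib.Helper17.BSWORTHK

/-!
# S3282 piece GRAM (C2): `∑_ψ b(μ,ψ) b(ν,ψ) = 2 + [μ = ν] + [μ = ν⁻¹]`.
-/

set_option autoImplicit false
set_option linter.unusedSectionVars false

namespace Cfsg.Agent.Helper3.BSW

open Cfsg Cfsg.Agent.Helper24
open scoped ComplexConjugate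

universe u

namespace GRAM

section
variable {A : Type u} [Group A] [Fintype A]

/-- `∑_x conj μ(x) = 0` for a non-principal hom. -/
theorem sum_conj_hom_eq_zero {μ : A →* ℂˣ} (hμ : μ ≠ 1) :
    ∑ x : A, conj ((μ x : ℂˣ) : ℂ) = 0 := by
  rw [← map_sum, EQC.sum_hom_eq_zero hμ, map_zero]

/-- `conj ν(x) = ν⁻¹(x)`. -/
theorem conj_eq_inv_apply (ν : A →* ℂˣ) (x : A) :
    conj ((ν x : ℂˣ) : ℂ) = (((ν⁻¹) x : ℂˣ) : ℂ) := by
  rw [hom_conj, MonoidHom.inv_apply, map_inv]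

/-- `∑_x conj μ(x) ν(x) = k [μ = ν]`. -/
theorem sum_conj_mul (μ ν : A →* ℂˣ) [Decidable (μ = ν)] :
    ∑ x : A, conj ((μ x : ℂˣ) : ℂ) * ((ν x : ℂˣ) : ℂ) =
      if μ = ν then (Nat.card A : ℂ) else 0 := by
  classical
  have h := hom_orth ν μ
  have h2 : ∑ x : A, conj ((μ x : ℂˣ) : ℂ) * ((ν x : ℂˣ) : ℂ) =
      ∑ x : A, ((ν x : ℂˣ) : ℂ) * conj ((μ x : ℂˣ) : ℂ) := by
    apply Finset.sum_congr rfl
    intro x _
    ring
  rw [h2, h]
  by_cases hc : μ = ν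
  · rw [if_pos hc, if_pos hc.symm]
  · rw [if_neg hc, if_neg (fun h' => hc h'.symm)]

/-- `∑_x conj μ(x) conj ν(x) = k [μ = ν⁻¹]`. -/
theorem sum_conj_mul_conj (μ ν : A →* ℂˣ) [Decidable (μ = ν⁻¹)] :
    ∑ x : A, conj ((μ x : ℂˣ) : ℂ) * conj ((ν x : ℂˣ) : ℂ) =
      if μ = ν⁻¹ then (Nat.card A : ℂ) else 0 := by
  have h2 : ∑ x : A, conj ((μ x : ℂˣ) : ℂ) * conj ((ν x : ℂˣ) : ℂ) =
      ∑ x : A, conj ((μ x : ℂˣ) : ℂ) * (((ν⁻¹) x : ℂˣ) : ℂ) := by
    apply Finset.sum_congr rfl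
    intro x _
    rw [conj_eq_inv_apply ν x]
  rw [h2, sum_conj_mul]

/-- The basic sum: `∑_x (1 - conj μ x)((1 - ν x) + (1 - ν x⁻¹)) = 2k + k[μ=ν] + k[μ=ν⁻¹]`. -/
theorem sum_main {μ ν : A →* ℂˣ} (hμ : μ ≠ 1) (hν : ν ≠ 1) [Decidable (μ = ν)]
    [Decidable (μ = ν⁻¹)] :
    ∑ x : A, (1 - conj ((μ x : ℂˣ) : ℂ)) * ((1 - ((ν x : ℂˣ) : ℂ)) + (1 - ((ν x⁻¹ : ℂˣ) : ℂ))) =
      2 * (Nat.card A : ℂ) + (if μ = ν then (Nat.card A : ℂ) else 0) +
        (if μ = ν⁻¹ then (Nat.card A : ℂ) else 0) := by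
  have h1 : ∀ x : A, (1 - conj ((μ x : ℂˣ) : ℂ)) *
      ((1 - ((ν x : ℂˣ) : ℂ)) + (1 - ((ν x⁻¹ : ℂˣ) : ℂ))) =
      2 - ((ν x : ℂˣ) : ℂ) - conj ((ν x : ℂˣ) : ℂ) - 2 * conj ((μ x : ℂˣ) : ℂ) +
        conj ((μ x : ℂˣ) : ℂ) * ((ν x : ℂˣ) : ℂ) +
        conj ((μ x : ℂˣ) : ℂ) * conj ((ν x : ℂˣ) : ℂ) := by
    intro x
    rw [← hom_conj ν x]
    ring
  simp only [h1]
  rw [Finset.sum_add_distrib, Finset.sum_add_distrib, Finset.sum_sub_distrib,
    Finset.sum_sub_distrib, Finset.sum_sub_distrib, ← Finset.mul_sum,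
    EQC.sum_hom_eq_zero hν, sum_conj_hom_eq_zero hν, sum_conj_hom_eq_zero hμ,
    sum_conj_mul, sum_conj_mul_conj]
  simp [Nat.card_eq_fintype_card]
  ring

end

end GRAM

variable {G : Type u} [Group G] [Fintype G] [Fintype (IrrCharacter G)] [DecidableEq (IrrCharacter G)]
  {t s : G} {K : Subgroup G} [Fintype K] [Fintype (JK K)] [DecidableEq (JK K)]
  {a1 : IrrCharacter G → ℤ} {b : JK K → IrrCharacter G → ℤ} {sgn : JK K → ℤ}

/-- PIECE GRAM (C2). -/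
theorem gram_K (h : Hyp t s K) (cd : CharData K t h.htK a1 b sgn) (μ ν : JK K) :
    ∑ ψ, b μ ψ * b ν ψ = 2 + (if μ = ν then 1 else 0) + (if μ = invJ K ν then 1 else 0) := by
  classical
  have hk0 : (Nat.card K : ℂ) ≠ 0 := by
    have : 0 < Nat.card K := Nat.card_pos
    exact_mod_cast this.ne'
  -- the inner sum over `x'`
  have hinner : ∀ x : K, (1 - conj ((μ.1 x : ℂˣ) : ℂ)) *
      ∑ x' : K, (1 - ((ν.1 x' : ℂˣ) : ℂ)) *
        ∑ ψ : IrrCharacter G, (ψ : G → ℂ) x * conj ((ψ : G → ℂ) x') =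
      (1 - conj ((μ.1 x : ℂˣ) : ℂ)) * ((Nat.card K : ℂ) *
        ((1 - ((ν.1 x : ℂˣ) : ℂ)) + (1 - ((ν.1 x⁻¹ : ℂˣ) : ℂ)))) := by
    intro x
    by_cases hx1 : x = 1
    · subst hx1
      simp
    · congr 1
      have hx1' : (x : G) ≠ 1 := fun h1 => hx1 (Subtype.ext h1)
      have h2 : ∀ x' : K, (1 - ((ν.1 x' : ℂˣ) : ℂ)) *
          ∑ ψ : IrrCharacter G, (ψ : G → ℂ) x * conj ((ψ : G → ℂ) x') =
          (Nat.card K : ℂ) * ((if x' = x then (1 - ((ν.1 x' : ℂˣ) : ℂ)) else 0) +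
            (if x' = x⁻¹ then (1 - ((ν.1 x' : ℂˣ) : ℂ)) else 0)) := by
        intro x'
        rw [orth_K h x.2 x'.2 hx1']
        have e2 : ((x : G))⁻¹ = ((x⁻¹ : K) : G) := (Subgroup.coe_inv K x).symm
        by_cases c1 : x' = x
        · have c1' : (x' : G) = (x : G) := congrArg Subtype.val c1
          by_cases c2 : x' = x⁻¹
          · have c2' : (x' : G) = (x : G)⁻¹ := by rw [e2]; exact congrArg Subtype.val c2
            rw [if_pos c1', if_pos c2', if_pos c1, if_pos c2]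
            ring
          · have c2' : ¬ (x' : G) = (x : G)⁻¹ := by
              rw [e2]; exact fun hh => c2 (Subtype.ext hh)
            rw [if_pos c1', if_neg c2', if_pos c1, if_neg c2]
            ring
        · have c1' : ¬ (x' : G) = (x : G) := fun hh => c1 (Subtype.ext hh)
          by_cases c2 : x' = x⁻¹
          · have c2' : (x' : G) = (x : G)⁻¹ := by rw [e2]; exact congrArg Subtype.val c2
            rw [if_neg c1', if_pos c2', if_neg c1, if_pos c2]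
            ring
          · have c2' : ¬ (x' : G) = (x : G)⁻¹ := by
              rw [e2]; exact fun hh => c2 (Subtype.ext hh)
            rw [if_neg c1', if_neg c2', if_neg c1, if_neg c2]
            ring
      simp only [h2]
      rw [← Finset.mul_sum, Finset.sum_add_distrib, Finset.sum_ite_eq', Finset.sum_ite_eq']
      simp
  -- main computation in `ℂ`
  have hmain : ∑ ψ : IrrCharacter G, (b μ ψ : ℂ) * (b ν ψ : ℂ) =
      (Nat.card K : ℂ)⁻¹ * (Nat.card K : ℂ)⁻¹ * ∑ x : K, (1 - conj ((μ.1 x : ℂˣ) : ℂ)) *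
        ((Nat.card K : ℂ) * ((1 - ((ν.1 x : ℂˣ) : ℂ)) + (1 - ((ν.1 x⁻¹ : ℂˣ) : ℂ)))) := by
    calc ∑ ψ : IrrCharacter G, (b μ ψ : ℂ) * (b ν ψ : ℂ)
        = ∑ ψ : IrrCharacter G, ∑ x : K, ∑ x' : K, (Nat.card K : ℂ)⁻¹ * (Nat.card K : ℂ)⁻¹ *
            ((1 - conj ((μ.1 x : ℂˣ) : ℂ)) * ((1 - ((ν.1 x' : ℂˣ) : ℂ)) *
              ((ψ : G → ℂ) x * conj ((ψ : G → ℂ) x')))) := by
          apply Finset.sum_congr rfl
          intro ψ _
          rw [cd.hb μ ψ, EQC.b_conj h.htK cd ν ψ]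
          unfold bC
          rw [mul_mul_mul_comm, Finset.sum_mul_sum, Finset.mul_sum]
          apply Finset.sum_congr rfl
          intro x _
          rw [Finset.mul_sum]
          apply Finset.sum_congr rfl
          intro x' _
          ring
      _ = ∑ x : K, ∑ x' : K, ∑ ψ : IrrCharacter G, (Nat.card K : ℂ)⁻¹ * (Nat.card K : ℂ)⁻¹ *
            ((1 - conj ((μ.1 x : ℂˣ) : ℂ)) * ((1 - ((ν.1 x' : ℂˣ) : ℂ)) *
              ((ψ : G → ℂ) x * conj ((ψ : G → ℂ) x')))) := by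
          rw [Finset.sum_comm]
          apply Finset.sum_congr rfl
          intro x _
          rw [Finset.sum_comm]
      _ = (Nat.card K : ℂ)⁻¹ * (Nat.card K : ℂ)⁻¹ * ∑ x : K, (1 - conj ((μ.1 x : ℂˣ) : ℂ)) *
            ∑ x' : K, (1 - ((ν.1 x' : ℂˣ) : ℂ)) *
              ∑ ψ : IrrCharacter G, (ψ : G → ℂ) x * conj ((ψ : G → ℂ) x') := by
          rw [Finset.mul_sum]
          apply Finset.sum_congr rfl
          intro x _
          rw [Finset.mul_sum, Finset.mul_sum]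
          apply Finset.sum_congr rfl
          intro x' _
          rw [Finset.mul_sum, Finset.mul_sum, Finset.mul_sum]
      _ = _ := by
          congr 1
          apply Finset.sum_congr rfl
          intro x _
          rw [hinner x]
  have hsum := GRAM.sum_main (A := K) μ.2 ν.2
  have e1 : (μ.1 = ν.1) ↔ μ = ν := Subtype.ext_iff.symm
  have e2 : (μ.1 = ν.1⁻¹) ↔ μ = invJ K ν := by
    rw [Subtype.ext_iff]
    rfl
  have hC : ((∑ ψ, b μ ψ * b ν ψ : ℤ) : ℂ) =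
      ((2 + (if μ = ν then 1 else 0) + (if μ = invJ K ν then 1 else 0) : ℤ) : ℂ) := by
    push_cast
    rw [hmain]
    have h3 : ∑ x : K, (1 - conj ((μ.1 x : ℂˣ) : ℂ)) *
        ((Nat.card K : ℂ) * ((1 - ((ν.1 x : ℂˣ) : ℂ)) + (1 - ((ν.1 x⁻¹ : ℂˣ) : ℂ)))) =
        (Nat.card K : ℂ) * ∑ x : K, (1 - conj ((μ.1 x : ℂˣ) : ℂ)) *
          ((1 - ((ν.1 x : ℂˣ) : ℂ)) + (1 - ((ν.1 x⁻¹ : ℂˣ) : ℂ))) := by
      rw [Finset.mul_sum]
      apply Finset.sum_congr rfl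
      intro x _
      ring
    rw [h3, hsum]
    by_cases c1 : μ = ν
    · have c1' : μ.1 = ν.1 := e1.mpr c1
      by_cases c2 : μ = invJ K ν
      · have c2' : μ.1 = ν.1⁻¹ := e2.mpr c2
        rw [if_pos c1', if_pos c2', if_pos c1, if_pos c2]
        field_simp
      · have c2' : ¬ μ.1 = ν.1⁻¹ := fun hh => c2 (e2.mp hh)
        rw [if_pos c1', if_neg c2', if_pos c1, if_neg c2]
        field_simp
        ring
    · have c1' : ¬ μ.1 = ν.1 := fun hh => c1 (e1.mp hh)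
      by_cases c2 : μ = invJ K ν
      · have c2' : μ.1 = ν.1⁻¹ := e2.mpr c2
        rw [if_neg c1', if_pos c2', if_neg c1, if_pos c2]
        field_simp
        ring
      · have c2' : ¬ μ.1 = ν.1⁻¹ := fun hh => c2 (e2.mp hh)
        rw [if_neg c1', if_neg c2', if_neg c1, if_neg c2]
        field_simp
        ring
  exact_mod_cast hC

end Cfsg.Agent.Helper3.BSW
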