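import Mathlib
import Cfsg.Agent.Lib.Helper13.BR996CC
import Cfsg.Agent.Lib.Helper24.CharComplete
import Cfsg.Agent.Lib.Helper3.BSWCharDefs
import Cfsg.Agent.Lib.Helper4.BSWNCR
import Cfsg.Agent.Lib.Lead.BSWSUMTAU
import Cfsg.Agent.Lib.Helper3.BSWCONG
import Cfsg.Agent.Lib.Helper14.BSWVANY

/-!
# S3282 piece RFORM (S2): `rc y` in terms of the Steinberg character on `R'`.
-/

set_option autoImplicit false
set_option linter.unusedSectionVars false

namespace Cfsg.Agent.Helper3.BSW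

open Cfsg Cfsg.Agent.Helper24
open scoped ComplexConjugate

universe u

namespace RFORM

/-- Case A algebra. -/
theorem alg_A {k r p g : ℂ} (hk : k ≠ 0) (h1 : 2 * k + 1 ≠ 0) (h2 : k + 1 ≠ 0)
    (hg : g = 2 * k * (2 * k + 1) * (k + 1))
    (hm : 4 * k ^ 2 * r = g * (1 + p / (2 * k + 1) + 2 * ((k - 2) * ((p + 1) / (2 * k + 1 + 1))) +
      (p + 1) / (k + 1))) : r = 2 * k + 1 + k * p := by
  have h3 : 2 * k + 1 + 1 ≠ 0 := by
    have : 2 * k + 1 + 1 = 2 * (k + 1) := by ring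
    rw [this]
    exact mul_ne_zero two_ne_zero h2
  have h4 : 4 * k ^ 2 * r = 4 * k ^ 2 * (2 * k + 1 + k * p) := by
    rw [hm, hg]
    field_simp
    ring
  have h5 : (4 * k ^ 2 : ℂ) ≠ 0 := mul_ne_zero (by norm_num) (pow_ne_zero 2 hk)
  exact mul_left_cancel₀ h5 h4

/-- Case B algebra. -/
theorem alg_B {k r p g : ℂ} (hk : k ≠ 0) (h1 : 2 * k - 1 ≠ 0) (h2 : k - 1 ≠ 0)
    (hg : g = 2 * k * (2 * k - 1) * (k - 1))
    (hm : 4 * k ^ 2 * r = g * (1 + p / (2 * k - 1) + 2 * ((k - 2) * ((p - 1) / (2 * k - 1 - 1))) +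
      (p - 1) / (k - 1))) : r = (k - 1) * p := by
  have h3 : 2 * k - 1 - 1 ≠ 0 := by
    have : 2 * k - 1 - 1 = 2 * (k - 1) := by ring
    rw [this]
    exact mul_ne_zero two_ne_zero h2
  have h4 : 4 * k ^ 2 * r = 4 * k ^ 2 * ((k - 1) * p) := by
    rw [hm, hg]
    field_simp
    ring
  have h5 : (4 * k ^ 2 : ℂ) ≠ 0 := mul_ne_zero (by norm_num) (pow_ne_zero 2 hk)
  exact mul_left_cancel₀ h5 h4

end RFORM

variable {G : Type u} [Group G] [Fintype G] [Fintype (IrrCharacter G)] [DecidableEq (IrrCharacter G)]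
  {t s : G} {K : Subgroup G} [Fintype K] [Fintype (JK K)] [DecidableEq (JK K)]
  {a1 : IrrCharacter G → ℤ} {b : JK K → IrrCharacter G → ℤ} {sgn : JK K → ℤ}

section St

variable {j0 : JK K} {P : IrrCharacter G} {S : JK K → IrrCharacter G} {Z1 Z2 : IrrCharacter G} {ε : ℤ}

/-- PIECE RFORM (S2). -/
theorem rform_K (h : Hyp t s K) (cd : CharData K t h.htK a1 b sgn) (hε : ε = 1 ∨ ε = -1)
    (H : ArithHyp (Nat.card K) (Nat.card G) (principalChar G) (invJ K) j0 sgn b degZ a1)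
    (hG : Good (Nat.card K) (Nat.card G) (principalChar G) (invJ K) j0 b degZ P S Z1 Z2 ε)
    {y : G} (hy : InR K y) :
    (ε = 1 → (rc y : ℂ) = 2 * (Nat.card K : ℂ) + 1 + (Nat.card K : ℂ) * conj ((P : G → ℂ) y)) ∧
      (ε = -1 → (rc y : ℂ) = ((Nat.card K : ℂ) - 1) * conj ((P : G → ℂ) y)) := by
  classical
  have hk2 : 2 ≤ Nat.card K := H.k_ge
  have hkC : (Nat.card K : ℂ) ≠ 0 := by
    have : Nat.card K ≠ 0 := by omega
    exact_mod_cast this
  -- degrees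
  have hdeg : ∀ ψ : IrrCharacter G, (ψ : G → ℂ) 1 = ((degZ ψ : ℤ) : ℂ) := by
    intro ψ
    rw [irr_one_eq_charDegree ψ.2]
    unfold degZ
    push_cast
    rfl
  have hdP : (P : G → ℂ) 1 = 2 * (Nat.card K : ℂ) + (ε : ℂ) := by
    rw [hdeg, hG.degP]; push_cast; ring
  have hdS : ∀ j, j ≠ j0 → (S j : G → ℂ) 1 = 2 * (Nat.card K : ℂ) + (ε : ℂ) + (ε : ℂ) := by
    intro j hj
    rw [hdeg, hG.shape.degS j hj, hG.degP]; push_cast; ring
  have hdZ1 : (Z1 : G → ℂ) 1 = (Nat.card K : ℂ) + (ε : ℂ) := by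
    rw [hdeg, hG.degZ1]; push_cast; ring
  have hdZ2 : (Z2 : G → ℂ) 1 = (Nat.card K : ℂ) + (ε : ℂ) := by
    rw [hdeg, hG.degZ2]; push_cast; ring
  have hgC : (Nat.card G : ℂ) = 2 * (Nat.card K : ℂ) * (2 * (Nat.card K : ℂ) + (ε : ℂ)) *
      ((Nat.card K : ℂ) + (ε : ℂ)) := by
    have := hG.g_eq
    have h' : ((Nat.card G : ℤ) : ℂ) = ((2 * (Nat.card K : ℤ) * (2 * (Nat.card K : ℤ) + ε) *
        ((Nat.card K : ℤ) + ε) : ℤ) : ℂ) := by rw [this]
    push_cast at h'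
    exact h'
  -- values on `y`
  obtain ⟨hvS, hvZ⟩ := van_shape h cd hε hG.shape hy
  have hεconj : conj (ε : ℂ) = (ε : ℂ) := map_intCast (starRingEnd ℂ) _
  -- the number of `j ≠ j0`
  have hcard : ((Finset.univ.filter (fun j : JK K => j ≠ j0)).card : ℂ) = (Nat.card K : ℂ) - 2 := by
    have h1 : (Finset.univ.filter (fun j : JK K => j ≠ j0)).card + 2 = Nat.card K := by
      rw [Finset.filter_ne' Finset.univ j0, Finset.card_erase_of_mem (Finset.mem_univ j0),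
        Finset.card_univ]
      have := H.card_J
      have hpos : 0 < Fintype.card (JK K) := Fintype.card_pos_iff.mpr ⟨j0⟩
      omega
    have h2 : (((Finset.univ.filter (fun j : JK K => j ≠ j0)).card + 2 : ℕ) : ℂ) =
        (Nat.card K : ℂ) := by rw [h1]
    push_cast at h2
    rw [← h2]
    ring
  -- class constant
  have h1 := Cfsg.Agent.Helper10.BR996.class_const t t y
  have h2 := NC_on_R h hy
  unfold NC at h2
  rw [h2] at h1
  have h3 : ∑ χ : IrrCharacter G,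
      (χ : G → ℂ) t * (χ : G → ℂ) t * conj ((χ : G → ℂ) y) / (χ : G → ℂ) 1 =
      ∑ χ : IrrCharacter G, ((tau sgn b χ : ℤ) : ℂ) ^ 2 *
        (conj ((χ : G → ℂ) y) / (χ : G → ℂ) 1) := by
    apply Finset.sum_congr rfl
    intro χ _
    rw [tau_K h cd χ]
    ring
  rw [h3, sum_tau_sq H hε hG.shape
    (fun χ : IrrCharacter G => conj ((χ : G → ℂ) y) / (χ : G → ℂ) 1)] at h1
  -- evaluate the terms
  have ho : conj ((principalChar G : G → ℂ) y) / (principalChar G : G → ℂ) 1 = 1 := by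
    show conj (1 : ℂ) / 1 = 1
    simp
  have hsumS : ∑ j ∈ Finset.univ.filter (fun j : JK K => j ≠ j0),
      conj ((S j : G → ℂ) y) / (S j : G → ℂ) 1 =
      ((Nat.card K : ℂ) - 2) * ((conj ((P : G → ℂ) y) + (ε : ℂ)) /
        (2 * (Nat.card K : ℂ) + (ε : ℂ) + (ε : ℂ))) := by
    have : ∀ j ∈ Finset.univ.filter (fun j : JK K => j ≠ j0),
        conj ((S j : G → ℂ) y) / (S j : G → ℂ) 1 =
        (conj ((P : G → ℂ) y) + (ε : ℂ)) / (2 * (Nat.card K : ℂ) + (ε : ℂ) + (ε : ℂ)) := by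
      intro j hj
      have hj' : j ≠ j0 := (Finset.mem_filter.mp hj).2
      rw [hvS j hj', hdS j hj', map_add, hεconj]
    rw [Finset.sum_congr rfl this, Finset.sum_const, nsmul_eq_mul, hcard]
  have hZ : conj ((Z1 : G → ℂ) y) / (Z1 : G → ℂ) 1 + conj ((Z2 : G → ℂ) y) / (Z2 : G → ℂ) 1 =
      (conj ((P : G → ℂ) y) + (ε : ℂ)) / ((Nat.card K : ℂ) + (ε : ℂ)) := by
    rw [hdZ1, hdZ2, ← add_div, ← map_add, hvZ, map_add, hεconj]
  have hmain : 4 * (Nat.card K : ℂ) ^ 2 * (rc y : ℂ) = (Nat.card G : ℂ) *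
      (1 + conj ((P : G → ℂ) y) / (2 * (Nat.card K : ℂ) + (ε : ℂ)) +
        2 * (((Nat.card K : ℂ) - 2) * ((conj ((P : G → ℂ) y) + (ε : ℂ)) /
          (2 * (Nat.card K : ℂ) + (ε : ℂ) + (ε : ℂ)))) +
        (conj ((P : G → ℂ) y) + (ε : ℂ)) / ((Nat.card K : ℂ) + (ε : ℂ))) := by
    rw [add_assoc (_ + _ + _) _ _, hZ, ho, hsumS, hdP] at h1
    rw [← h1]
    push_cast
    ring
  constructor
  · intro he
    rw [he] at hmain hgC
    push_cast at hmain hgC
    have hk1 : 2 * (Nat.card K : ℂ) + 1 ≠ 0 := by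
      have : (2 * Nat.card K + 1 : ℕ) ≠ 0 := by omega
      exact_mod_cast this
    have hk1' : (Nat.card K : ℂ) + 1 ≠ 0 := by
      have : (Nat.card K + 1 : ℕ) ≠ 0 := by omega
      exact_mod_cast this
    exact RFORM.alg_A hkC hk1 hk1' hgC hmain
  · intro he
    rw [he] at hmain hgC
    push_cast at hmain hgC
    have hk1 : 2 * (Nat.card K : ℂ) - 1 ≠ 0 := by
      have h' : (2 * (Nat.card K : ℂ) - 1) = ((2 * Nat.card K - 1 : ℕ) : ℂ) := by
        rw [Nat.cast_sub (by omega)]; push_cast; ring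
      rw [h']
      have : (2 * Nat.card K - 1 : ℕ) ≠ 0 := by omega
      exact_mod_cast this
    have hk1' : (Nat.card K : ℂ) - 1 ≠ 0 := by
      have h' : ((Nat.card K : ℂ) - 1) = ((Nat.card K - 1 : ℕ) : ℂ) := by
        rw [Nat.cast_sub (by omega)]; push_cast; ring
      rw [h']
      have : (Nat.card K - 1 : ℕ) ≠ 0 := by omega
      exact_mod_cast this
    have hmain' : 4 * (Nat.card K : ℂ) ^ 2 * (rc y : ℂ) =
        (Nat.card G : ℂ) * (1 + conj ((P : G → ℂ) y) / (2 * (Nat.card K : ℂ) - 1) +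
          2 * (((Nat.card K : ℂ) - 2) * ((conj ((P : G → ℂ) y) - 1) /
            (2 * (Nat.card K : ℂ) - 1 - 1))) +
          (conj ((P : G → ℂ) y) - 1) / ((Nat.card K : ℂ) - 1)) := by
      rw [hmain]
      ring_nf
    have hgC' : (Nat.card G : ℂ) = 2 * (Nat.card K : ℂ) * (2 * (Nat.card K : ℂ) - 1) *
        ((Nat.card K : ℂ) - 1) := by
      rw [hgC]; ring
    exact RFORM.alg_B hkC hk1 hk1' hgC' hmain'

end St

end Cfsg.Agent.Helper3.BSW
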