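import Mathlib
import Cfsg.Prelude.Def_JComponents
import Cfsg.Agent.Lib.Helper27.KUASM
import Cfsg.Agent.Lib.Helper27.KVDefs
import Cfsg.Agent.Lib.Helper15.KVBAS
import Cfsg.Agent.Lib.Helper15.KVMAXS
import Cfsg.Agent.Lib.Helper19.KVSYL
import Cfsg.Agent.Lib.Helper6.KVLEMA

/-!
# KS12c / S2951' (helper27's skeleton), PIECE COREB (helper6): the case `T = S` Sylow.
-/

set_option autoImplicit false
set_option linter.unusedVariables false
set_option linter.unusedSectionVars false
set_option linter.style.haveILetI false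

namespace Cfsg.Agent.Helper27.KV

open Cfsg Cfsg.Agent.Helper13.JCFF Cfsg.Agent.Helper27.KU

universe u

variable {G : Type u} [Group G] [Finite G]

/-- pure: a subgroup of order 2. -/
theorem coreb_two {H : Subgroup G} (hH : Nat.card ↥H = 2) {a : G} (ha : a ∈ H) (ha1 : a ≠ 1) :
    ∀ x ∈ H, x = 1 ∨ x = a := by
  classical
  let T : Finset G := {1, a}
  have hTcard : T.card = 2 := by
    have h1 : (1 : G) ∉ ({a} : Finset G) := by
      simp only [Finset.mem_singleton]
      exact fun h => ha1 h.symm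
    show (insert (1 : G) ({a} : Finset G)).card = 2
    rw [Finset.card_insert_of_notMem h1, Finset.card_singleton]
  have hTsub : (T : Set G) ⊆ (H : Set G) := by
    intro x hx
    have hx' : x = 1 ∨ x = a := by
      simpa [T] using hx
    rcases hx' with rfl | rfl
    · exact H.one_mem
    · exact ha
  have hEq : (T : Set G) = (H : Set G) := by
    apply Set.eq_of_subset_of_ncard_le hTsub _ (Set.toFinite _)
    rw [Set.ncard_coe_finset, hTcard]
    have h4 : (H : Set G).ncard = Nat.card ↥H := (_root_.Nat.card_coe_set_eq (H : Set G)).symm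
    rw [h4, hH]
  intro x hx
  have hx' : x ∈ (T : Set G) := by
    rw [hEq]
    exact hx
  simpa [T] using hx'

/-- pure: four distinct elements of a subgroup of order 4 exhaust it. -/
theorem coreb_four {H : Subgroup G} (hH : Nat.card ↥H = 4) {a b c d : G}
    (ha : a ∈ H) (hb : b ∈ H) (hc : c ∈ H) (hd : d ∈ H)
    (hab : a ≠ b) (hac : a ≠ c) (had : a ≠ d) (hbc : b ≠ c) (hbd : b ≠ d) (hcd : c ≠ d) :
    ∀ x ∈ H, x = a ∨ x = b ∨ x = c ∨ x = d := by
  classical
  let T : Finset G := {a, b, c, d}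
  have hTcard : T.card = 4 := by
    have h1 : a ∉ ({b, c, d} : Finset G) := by
      simp only [Finset.mem_insert, Finset.mem_singleton, not_or]
      exact ⟨hab, hac, had⟩
    have h2 : b ∉ ({c, d} : Finset G) := by
      simp only [Finset.mem_insert, Finset.mem_singleton, not_or]
      exact ⟨hbc, hbd⟩
    have h3 : c ∉ ({d} : Finset G) := by
      simp only [Finset.mem_singleton]
      exact hcd
    show (insert a (insert b (insert c ({d} : Finset G)))).card = 4
    rw [Finset.card_insert_of_notMem h1, Finset.card_insert_of_notMem h2,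
      Finset.card_insert_of_notMem h3, Finset.card_singleton]
  have hTsub : (T : Set G) ⊆ (H : Set G) := by
    intro x hx
    have hx' : x = a ∨ x = b ∨ x = c ∨ x = d := by
      simpa [T] using hx
    rcases hx' with rfl | rfl | rfl | rfl
    · exact ha
    · exact hb
    · exact hc
    · exact hd
  have hEq : (T : Set G) = (H : Set G) := by
    apply Set.eq_of_subset_of_ncard_le hTsub _ (Set.toFinite _)
    rw [Set.ncard_coe_finset, hTcard]
    have h4 : (H : Set G).ncard = Nat.card ↥H := (_root_.Nat.card_coe_set_eq (H : Set G)).symm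
    rw [h4, hH]
  intro x hx
  have hx' : x ∈ (T : Set G) := by
    rw [hEq]
    exact hx
  simpa [T] using hx'

/-- a nontrivial subgroup has a nonidentity element. -/
theorem coreb_exists_ne_one {H : Subgroup G} (h : H ≠ ⊥) : ∃ x ∈ H, x ≠ 1 := by
  by_contra hcon
  push Not at hcon
  apply h
  rw [Subgroup.eq_bot_iff_forall]
  exact hcon

section ctx

open Cfsg.Agent.Helper7.JC48 Cfsg.Agent.Helper15

variable (hL : IsCharacteristicTwoType G)
  (hN : ∀ N : Subgroup G, IsTwoLocal N → Group.IsSolvable ↥N)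
  (hZ : ∀ S : Sylow 2 G, Subgroup.centralizer (omegaCenterOf (S : Subgroup G) : Set G) ≤
      Subgroup.normalizer ((S : Subgroup G) : Set G))
  (S : Sylow 2 G) {M : Subgroup G}
  (hMJ : Subgroup.normalizer (thompsonSubgroupOf 2 (S : Subgroup G) : Set G) ≤ M)
  {T : Subgroup G} (hT : T ∈ maxStraddlingTwoSubgroups M)

include hL hN hZ hMJ hT

/-- the second component: a `J(T)`-component `K''` with a maximal 2-local `L'' ≠ L` over `K'' J(T)`. -/
theorem coreb_second (hTS : T = (S : Subgroup G))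
    (hT0 : T ∈ maxStraddlingTwoSubgroups
      (Subgroup.normalizer (thompsonSubgroupOf 2 (S : Subgroup G) : Set G)))
    {K : Subgroup G} (hKc : IsJComponent T K)
    {L : Subgroup G} (hLmax : IsMaximalTwoLocal L) (hKL : K ≤ L)
    (hJL : thompsonSubgroupOf 2 T ≤ L)
    {L' : Subgroup G} (hL'max : IsMaximalTwoLocal L') (hne : L' ≠ L) (hTL' : T ≤ L') :
    ∃ K'' L'' : Subgroup G, IsJComponent T K'' ∧ IsMaximalTwoLocal L'' ∧ K'' ≤ L'' ∧
      thompsonSubgroupOf 2 T ≤ L'' ∧ L ≠ L'' := by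
  subst hTS
  have hT2 : IsPGroup 2 ↥(S : Subgroup G) := hT.1.1
  have hT1 : (S : Subgroup G) ≠ ⊥ := hT.1.2.1
  have hJT : thompsonSubgroupOf 2 (S : Subgroup G) ≤ (S : Subgroup G) :=
    Cfsg.Agent.Helper4.ZJ.thompsonSubgroupOf_le_self _
  by_cases hL'M0 : L' ≤ Subgroup.normalizer (thompsonSubgroupOf 2 (S : Subgroup G) : Set G)
  · -- `L' = M₀`
    have hM0loc : IsTwoLocal
        (Subgroup.normalizer (thompsonSubgroupOf 2 (S : Subgroup G) : Set G)) :=
      ⟨thompsonSubgroupOf 2 (S : Subgroup G), isPGroup_J hT2, J_ne_bot hT2 hT1, rfl⟩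
    have hex : ∃ g ∈ Subgroup.normalizer (thompsonSubgroupOf 2 (S : Subgroup G) : Set G),
        g ∉ L := by
      by_contra hcon
      push Not at hcon
      have hle : L' ≤ L := fun x hx => hcon x (hL'M0 hx)
      exact hne (hL'max.2 L hLmax.1 hle).symm
    obtain ⟨g, hg, hgL⟩ := hex
    have hKM0 := comp_not_le_normalizer_J hT2 hKc
    obtain ⟨hKg, -⟩ := conj_comp hL hN hZ S le_rfl hT0 hKc hKM0 hg
    refine ⟨K.map (MulAut.conj g).toMonoidHom, L.map (MulAut.conj g).toMonoidHom, hKg,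
      isMaximalTwoLocal_map_conj g hLmax, map_conj_mono hKL g, ?_, ?_⟩
    · have := map_conj_mono hJL g
      rwa [map_conj_eq_of_mem_normalizer hg] at this
    · intro h
      apply hgL
      exact normalizer_le_of_max hLmax (mem_normalizer_of_map_conj_eq h.symm)
  · -- `L' ∈ 𝓛(T)` contains a component
    have hmem : L' ∈ jOvergroups (S : Subgroup G) :=
      mem_jOvergroups_self_of_max hL S le_rfl hT0 hL'max.1 hL'M0 hTL'
    obtain ⟨K'', hK'', hK''L'⟩ := exists_comp hN hZ _ hT1 L' hmem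
    exact ⟨K'', L', hK'', hL'max, hK''L', hJT.trans hTL', fun h => hne h.symm⟩

/-- COREB.  See `plans/KS12c_notes.md`, S2951', CASE `T = S`. -/
theorem s2951_sylow (hTS : T = (S : Subgroup G))
    {K : Subgroup G} (hK : K ∈ jComponentsOutside M T) {L : Subgroup G}
    (hLmax : IsMaximalTwoLocal L) (hKL : K ⊔ thompsonSubgroupOf 2 T ≤ L)
    {L' : Subgroup G} (hL'max : IsMaximalTwoLocal L') (hne : L' ≠ L) (hTL' : T ≤ L') :
    omegaCenterOf (S : Subgroup G) = Z0 T ∧ (Nat.card ↥(Z0 T) = 2 ∨ Nat.card ↥(Z0 T) = 4) := by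
  subst hTS
  have hT2 : IsPGroup 2 ↥(S : Subgroup G) := hT.1.1
  have hT1 : (S : Subgroup G) ≠ ⊥ := hT.1.2.1
  have hKc : IsJComponent (S : Subgroup G) K := hK.1.1
  have hKM : ¬ K ≤ M := hK.2.1
  have hKT : pCoreOf 2 (K ⊔ (S : Subgroup G)) ≠ ⊥ := hK.2.2
  have hKL' : K ≤ L := le_sup_left.trans hKL
  have hJL : thompsonSubgroupOf 2 (S : Subgroup G) ≤ L := le_sup_right.trans hKL
  -- `S ≤ L`
  obtain ⟨Lh, hLh, hKJLh, huniq, -, hTLh⟩ := main_S2950 hL hN hZ S hMJ hT hKc hKM hKT
  have hLeq : L = Lh := huniq L hLmax hKL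
  have hTL : (S : Subgroup G) ≤ L := by
    rw [hLeq]
    exact hTLh.1
  -- `M₀`
  have hLM0 : ¬ L ≤ Subgroup.normalizer (thompsonSubgroupOf 2 (S : Subgroup G) : Set G) :=
    fun h => hKM ((hKL'.trans h).trans hMJ)
  have hT0 : (S : Subgroup G) ∈ maxStraddlingTwoSubgroups
      (Subgroup.normalizer (thompsonSubgroupOf 2 (S : Subgroup G) : Set G)) :=
    sylow_mem_maxStraddling S hT1 hLmax.1 hTL hLM0
  obtain ⟨K'', L'', hK''c, hL''max, hK''L'', hJL'', hneL⟩ :=
    coreb_second hL hN hZ S hMJ hT rfl hT0 hKc hLmax hKL' hJL hL'max hne hTL'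
  have hKM0 := comp_not_le_normalizer_J hT2 hKc
  have hK''M0 := comp_not_le_normalizer_J hT2 hK''c
  -- orders
  have hD2 : Nat.card ↥(DD (S : Subgroup G) K) ≤ 2 :=
    card_dd_le_two hL hN hZ S le_rfl hT0 hKc hKM0 hK''c hK''M0 hLmax hKL' hJL hL''max hK''L''
      hJL'' hneL
  have hcz : Nat.card ↥(Z0 (S : Subgroup G)) = 2 * Nat.card ↥(DD (S : Subgroup G) K) :=
    card_z0 hL hN hZ hT2 hT1 hKc
  have hcz'' : Nat.card ↥(Z0 (S : Subgroup G)) = 2 * Nat.card ↥(DD (S : Subgroup G) K'') :=
    card_z0 hL hN hZ hT2 hT1 hK''c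
  have hDpos : 0 < Nat.card ↥(DD (S : Subgroup G) K) := Nat.card_pos
  have hcard : Nat.card ↥(Z0 (S : Subgroup G)) = 2 ∨ Nat.card ↥(Z0 (S : Subgroup G)) = 4 := by
    omega
  refine ⟨?_, hcard⟩
  have hZle : omegaCenterOf (S : Subgroup G) ≤ Z0 (S : Subgroup G) := omegaCenterOf_le_z0 _
  by_contra hZne
  have hZ1 : omegaCenterOf (S : Subgroup G) ≠ ⊥ := omegaCenterOf_ne_bot hT2 hT1
  have hZdvd : Nat.card ↥(omegaCenterOf (S : Subgroup G)) ∣ Nat.card ↥(Z0 (S : Subgroup G)) :=
    Subgroup.card_dvd_of_le hZle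
  have hZlt : Nat.card ↥(omegaCenterOf (S : Subgroup G)) < Nat.card ↥(Z0 (S : Subgroup G)) := by
    by_contra hcon
    push Not at hcon
    exact hZne (Subgroup.eq_of_le_of_card_ge hZle hcon)
  have hZc1 : Nat.card ↥(omegaCenterOf (S : Subgroup G)) ≠ 1 := by
    intro h
    exact hZ1 (Subgroup.card_eq_one.mp h)
  have hZpos : 0 < Nat.card ↥(omegaCenterOf (S : Subgroup G)) := Nat.card_pos
  have h4 : Nat.card ↥(Z0 (S : Subgroup G)) = 4 := by
    rcases hcard with h | h
    · exfalso
      rw [h] at hZdvd hZlt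
      have := Nat.le_of_dvd (by norm_num) hZdvd
      omega
    · exact h
  have hZc2 : Nat.card ↥(omegaCenterOf (S : Subgroup G)) = 2 := by
    rw [h4] at hZdvd hZlt
    have h1 : Nat.card ↥(omegaCenterOf (S : Subgroup G)) ∈ Nat.divisors 4 :=
      Nat.mem_divisors.2 ⟨hZdvd, by norm_num⟩
    have h2 : Nat.divisors 4 = {1, 2, 4} := by decide
    rw [h2] at h1
    simp only [Finset.mem_insert, Finset.mem_singleton] at h1
    omega
  have hDc : Nat.card ↥(DD (S : Subgroup G) K) = 2 := by omega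
  have hD''c : Nat.card ↥(DD (S : Subgroup G) K'') = 2 := by omega
  -- elements
  obtain ⟨z, hz, hz1⟩ := coreb_exists_ne_one hZ1
  have hz_all := coreb_two hZc2 hz hz1
  have hDne : DD (S : Subgroup G) K ≠ ⊥ := by
    intro h
    rw [h, Subgroup.card_bot] at hDc
    omega
  have hD''ne : DD (S : Subgroup G) K'' ≠ ⊥ := by
    intro h
    rw [h, Subgroup.card_bot] at hD''c
    omega
  obtain ⟨d, hd, hd1⟩ := coreb_exists_ne_one hDne
  obtain ⟨d'', hd'', hd''1⟩ := coreb_exists_ne_one hD''ne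
  -- `z` lies in no `D(K₁)`
  have hnoz : ∀ K₁ : Subgroup G, IsJComponent (S : Subgroup G) K₁ →
      z ∉ DD (S : Subgroup G) K₁ := by
    intro K₁ hK₁ hzD
    apply comp_not_le_normalizer_J hT2 hK₁
    have h1 := dd_le_centralizer _ _ hzD
    rw [Subgroup.mem_centralizer_iff] at h1
    have h2 : K₁ ≤ Subgroup.centralizer (omegaCenterOf (S : Subgroup G) : Set G) := by
      intro x hx
      rw [Subgroup.mem_centralizer_iff]
      intro y hy
      rcases hz_all y hy with rfl | rfl
      · simp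
      · exact (h1 x (Subgroup.mem_sup_left hx)).symm
    exact (h2.trans (hZ S)).trans (normalizer_le_normalizer_J _)
  have hdz : d ≠ z := fun h => hnoz K hKc (h ▸ hd)
  have hd''z : d'' ≠ z := fun h => hnoz K'' hK''c (h ▸ hd'')
  -- an element of `S` acting nontrivially on `Z₀`
  have hex : ∃ t ∈ (S : Subgroup G), ∃ x ∈ Z0 (S : Subgroup G), t * x ≠ x * t := by
    by_contra hcon
    push Not at hcon
    apply hZne
    refine le_antisymm hZle ?_
    intro x hx
    rw [Cfsg.Agent.Helper19.JC.mem_omegaCenterOf_iff]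
    refine ⟨z0_le _ hx, fun y hy => hcon y hy x hx, ?_⟩
    rw [pow_two]
    exact z0_sq _ x hx
  obtain ⟨t, ht, x, hx, htx⟩ := hex
  have htN : t ∈ Subgroup.normalizer (thompsonSubgroupOf 2 (S : Subgroup G) : Set G) :=
    le_normalizer_J _ ht
  have htL : t ∈ L := hTL ht
  have hzZ0 : z ∈ Z0 (S : Subgroup G) := hZle hz
  have hdZ0 : d ∈ Z0 (S : Subgroup G) := dd_le_z0 _ _ hd
  have hzz : z * z = 1 := z0_sq _ z hzZ0
  have hzdZ0 : z * d ∈ Z0 (S : Subgroup G) := Subgroup.mul_mem _ hzZ0 hdZ0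
  have hall := coreb_four h4 (Subgroup.one_mem _) hzZ0 hdZ0 hzdZ0 (Ne.symm hz1) (Ne.symm hd1)
    (by
      intro h
      apply hdz
      have : d = z⁻¹ := (eq_inv_of_mul_eq_one_right h.symm)
      rw [this]
      exact inv_eq_of_mul_eq_one_right hzz)
    (Ne.symm hdz)
    (by
      intro h
      apply hd1
      have := mul_left_cancel (a := z) (b := 1) (c := d) (by rw [mul_one]; exact h)
      exact this.symm)
    (by
      intro h
      apply hz1
      have : 1 * d = z * d := by rw [one_mul]; exact h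
      exact (mul_right_cancel this).symm)
  -- the conjugate `t d t⁻¹`
  have hdt_mem : t * d * t⁻¹ ∈ DD (S : Subgroup G) (K.map (MulAut.conj t).toMonoidHom) := by
    rw [← dd_map_conj htN]
    exact ⟨d, hd, by simp [MulAut.conj_apply]⟩
  have hdtZ0 : t * d * t⁻¹ ∈ Z0 (S : Subgroup G) := dd_le_z0 _ _ hdt_mem
  have htz : t * z = z * t := by
    have := (Cfsg.Agent.Helper19.JC.mem_omegaCenterOf_iff _ _).1 hz
    exact this.2.1 t ht
  have hdt : t * d * t⁻¹ = z * d := by
    rcases hall _ hdtZ0 with h | h | h | h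
    · exfalso
      apply hd1
      have : d = t⁻¹ * (t * d * t⁻¹) * t := by group
      rw [this, h]
      group
    · exfalso
      apply hdz
      have : d = t⁻¹ * (t * d * t⁻¹) * t := by group
      rw [this, h]
      calc t⁻¹ * z * t = t⁻¹ * (z * t) := by group
        _ = t⁻¹ * (t * z) := by rw [htz]
        _ = z := by group
    · exfalso
      have htd : t * d = d * t := by
        calc t * d = (t * d * t⁻¹) * t := by group
          _ = d * t := by rw [h]
      apply htx
      rcases hall x hx with rfl | rfl | rfl | rfl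
      · simp
      · exact htz
      · exact htd
      · calc t * (z * d) = (t * z) * d := by group
          _ = (z * t) * d := by rw [htz]
          _ = z * (t * d) := by group
          _ = z * (d * t) := by rw [htd]
          _ = z * d * t := by group
    · exact h
  -- the component `K^t`
  obtain ⟨hKt, hKtM0⟩ := conj_comp hL hN hZ S le_rfl hT0 hKc hKM0 htN
  have hKtL : K.map (MulAut.conj t).toMonoidHom ≤ L := by
    have := map_conj_mono hKL' t
    rwa [map_conj_eq_self_of_mem htL] at this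
  have hbot1 : DD (S : Subgroup G) K ⊓ DD (S : Subgroup G) K'' = ⊥ := by
    by_contra h
    exact hneL (eq_of_dd_inf_ne_bot hL hN hZ S le_rfl hT0 hKc hKM0 hK''c hK''M0 hLmax hKL' hJL
      hL''max hK''L'' hJL'' h)
  have hbot2 : DD (S : Subgroup G) (K.map (MulAut.conj t).toMonoidHom) ⊓
      DD (S : Subgroup G) K'' = ⊥ := by
    by_contra h
    exact hneL (eq_of_dd_inf_ne_bot hL hN hZ S le_rfl hT0 hKt hKtM0 hK''c hK''M0 hLmax hKtL hJL
      hL''max hK''L'' hJL'' h)
  have hd''Z0 : d'' ∈ Z0 (S : Subgroup G) := dd_le_z0 _ _ hd''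
  rcases hall d'' hd''Z0 with h | h | h | h
  · exact hd''1 h
  · exact hd''z h
  · apply hd1
    have : d ∈ DD (S : Subgroup G) K ⊓ DD (S : Subgroup G) K'' :=
      Subgroup.mem_inf.2 ⟨hd, h ▸ hd''⟩
    rw [hbot1, Subgroup.mem_bot] at this
    exact this
  · apply hd''1
    have : d'' ∈ DD (S : Subgroup G) (K.map (MulAut.conj t).toMonoidHom) ⊓
        DD (S : Subgroup G) K'' := by
      refine Subgroup.mem_inf.2 ⟨?_, hd''⟩
      rw [h, ← hdt]
      exact hdt_mem
    rw [hbot2, Subgroup.mem_bot] at this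
    exact this

end ctx

end Cfsg.Agent.Helper27.KV
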