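import Mathlib
import Cfsg.Prelude.Def_JComponents
import Cfsg.Agent.Lib.Helper14.Ambient
import Cfsg.Agent.Lib.Helper15.RUD6

/-!
# KS12c / S2954' piece MAXEQB (helper6 for helper27): `eq_of_four`

`L` a subgroup with `O₂(L) = E` elementary abelian of order at most 8 and self-centralizing, normalizing a four-group
`U ≤ E`, and `E ≤ P ≤ L` with `|P : E| = 6`: then `L = P`.
-/

set_option autoImplicit false
set_option linter.unusedVariables false
set_option linter.unusedSectionVars false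
set_option linter.style.haveILetI false

namespace Cfsg.Agent.Helper27.KV

open Cfsg

universe u

variable {G : Type u} [Group G] [Finite G]

/-- the index of `U` in `E` is at most two -/
theorem maxeqb_relIndex_le {E U : Subgroup G} (hUE : U ≤ E) (hU4 : Nat.card ↥U = 4)
    (hE8 : Nat.card ↥E ≤ 8) : U.relIndex E = 1 ∨ U.relIndex E = 2 := by
  have h1 : Nat.card ↥(U.subgroupOf E) * (U.subgroupOf E).index = Nat.card ↥E :=
    Subgroup.card_mul_index _
  have h2 : Nat.card ↥(U.subgroupOf E) = Nat.card ↥U :=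
    Nat.card_congr (Subgroup.subgroupOfEquivOfLe hUE).toEquiv
  rw [h2, hU4] at h1
  have h3 : (U.subgroupOf E).index ≠ 0 := Subgroup.index_ne_zero_of_finite
  unfold Subgroup.relIndex
  omega

/-- the commutator of an element centralizing `U` and normalizing `E` with an element of `E` lies in `U` -/
theorem maxeqb_comm_mem {E U : Subgroup G} (hUE : U ≤ E) (hU4 : Nat.card ↥U = 4)
    (hE8 : Nat.card ↥E ≤ 8) {c : G} (hcE : c ∈ Subgroup.normalizer (E : Set G))
    (hcU : c ∈ Subgroup.centralizer (U : Set G)) {e : G} (he : e ∈ E) :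
    c * e * c⁻¹ * e⁻¹ ∈ U := by
  have hcomm : ∀ u ∈ U, c * u * c⁻¹ = u := by
    intro u hu
    have := Subgroup.mem_centralizer_iff.mp hcU u hu
    rw [← this]; group
  by_cases heU : e ∈ U
  · rw [hcomm e heU]
    simp
  · have he' : c * e * c⁻¹ ∈ E := (Subgroup.mem_normalizer_iff.mp hcE e).mp he
    have he'U : c * e * c⁻¹ ∉ U := by
      intro h
      apply heU
      have hc' : c⁻¹ ∈ Subgroup.centralizer (U : Set G) := Subgroup.inv_mem _ hcU
      have := Subgroup.mem_centralizer_iff.mp hc' _ h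
      -- (c e c⁻¹) c⁻¹ = c⁻¹ (c e c⁻¹)
      have h2 : e = c⁻¹ * (c * e * c⁻¹) * c := by group
      rw [h2, ← this]
      have h3 : c * e * c⁻¹ * c⁻¹ * c = c * e * c⁻¹ := by group
      rw [h3]; exact h
    rcases maxeqb_relIndex_le hUE hU4 hE8 with h1 | h2
    · exact absurd ((Subgroup.relIndex_eq_one.mp h1) he) heU
    · have hidx : (U.subgroupOf E).index = 2 := h2
      have key := Subgroup.mul_mem_iff_of_index_two hidx
        (a := (⟨c * e * c⁻¹, he'⟩ : ↥E)) (b := (⟨e⁻¹, E.inv_mem he⟩ : ↥E))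
      rw [Subgroup.mem_subgroupOf, Subgroup.mem_subgroupOf, Subgroup.mem_subgroupOf] at key
      refine key.mpr ⟨fun h => absurd h he'U, fun h => ?_⟩
      exact absurd (by simpa using U.inv_mem h) heU

/-- `L` normalizes `C_L(U)` when it normalizes `U` -/
theorem maxeqb_le_normalizer {L U : Subgroup G} (hLU : L ≤ Subgroup.normalizer (U : Set G)) :
    L ≤ Subgroup.normalizer ((L ⊓ Subgroup.centralizer (U : Set G) : Subgroup G) : Set G) := by
  have key : ∀ g ∈ L, ∀ h ∈ L ⊓ Subgroup.centralizer (U : Set G),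
      g * h * g⁻¹ ∈ L ⊓ Subgroup.centralizer (U : Set G) := by
    intro g hg h hh
    obtain ⟨hhL, hhU⟩ := Subgroup.mem_inf.mp hh
    refine Subgroup.mem_inf.mpr ⟨L.mul_mem (L.mul_mem hg hhL) (L.inv_mem hg), ?_⟩
    rw [Subgroup.mem_centralizer_iff]
    intro u hu
    have hg' : g⁻¹ ∈ Subgroup.normalizer (U : Set G) := Subgroup.inv_mem _ (hLU hg)
    have hu' : g⁻¹ * u * g⁻¹⁻¹ ∈ U := (Subgroup.mem_normalizer_iff.mp hg' u).mp hu
    have := Subgroup.mem_centralizer_iff.mp hhU _ hu'
    calc u * (g * h * g⁻¹) = g * ((g⁻¹ * u * g⁻¹⁻¹) * h) * g⁻¹ := by group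
      _ = g * (h * (g⁻¹ * u * g⁻¹⁻¹)) * g⁻¹ := by rw [this]
      _ = g * h * g⁻¹ * u := by group
  intro g hg
  rw [Subgroup.mem_normalizer_iff]
  intro h
  refine ⟨fun hh => key g hg h hh, fun hh => ?_⟩
  have := key g⁻¹ (L.inv_mem hg) _ hh
  have e : g⁻¹ * (g * h * g⁻¹) * g⁻¹⁻¹ = h := by group
  rwa [e] at this

/-- MAXEQB.  `C := L ⊓ C_G(U)`.  For `c ∈ C`, `e ∈ E`: `⁅c, e⁆ ∈ U` (`|E : U| ≤ 2`), so `c²` centralizes `E`, `c² ∈ E`, `c⁴ = 1`: `C` is a
normal 2-subgroup of `L`, `C ≤ O₂(L) = E`.  `L/C` embeds in `Perm (U ∖ {1})`, so `|L| ≤ 6 |E| = |P|`. -/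
theorem eq_of_four {L P E U : Subgroup G} (hPL : P ≤ L) (hEL : pCoreOf 2 L = E)
    (hcent : Subgroup.centralizer (E : Set G) ≤ E) (hexp : ∀ x ∈ E, x * x = 1) (hUE : U ≤ E)
    (hU4 : Nat.card ↥U = 4) (hE8 : Nat.card ↥E ≤ 8) (hLU : L ≤ Subgroup.normalizer (U : Set G))
    (hEP : E ≤ P) (h6 : E.relIndex P = 6) : L = P := by
  classical
  have hEL' : E ≤ L := hEL ▸ Cfsg.Agent.Helper14.pCoreOf_le 2 L
  have hLE : L ≤ Subgroup.normalizer (E : Set G) := by
    have := Cfsg.Agent.Helper14.le_normalizer_pCoreOf 2 L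
    rwa [hEL] at this
  -- the subgroup `C`
  set C : Subgroup G := L ⊓ Subgroup.centralizer (U : Set G) with hC
  -- `C` is normalized by `L`
  have hLC : L ≤ Subgroup.normalizer (C : Set G) := maxeqb_le_normalizer hLU
  -- `C` is a 2-group
  have hC2 : IsPGroup 2 ↥C := by
    intro c
    refine ⟨2, ?_⟩
    have hcL : (c : G) ∈ L := (Subgroup.mem_inf.mp c.2).1
    have hcU : (c : G) ∈ Subgroup.centralizer (U : Set G) := (Subgroup.mem_inf.mp c.2).2
    have hcE : (c : G) ∈ Subgroup.normalizer (E : Set G) := hLE hcL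
    have hsq : (c : G) * c ∈ Subgroup.centralizer (E : Set G) := by
      rw [Subgroup.mem_centralizer_iff]
      intro e he
      have hu := maxeqb_comm_mem hUE hU4 hE8 hcE hcU he
      set u := (c : G) * e * (c : G)⁻¹ * e⁻¹ with hu_def
      have hce : (c : G) * e = u * e * c := by rw [hu_def]; group
      have hcu : (c : G) * u = u * c := (Subgroup.mem_centralizer_iff.mp hcU u hu).symm
      have huu : u * u = 1 := hexp u (hUE hu)
      calc e * ((c : G) * c) = (u * u) * e * (c * c) := by rw [huu, one_mul]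
        _ = u * (u * e * c) * c := by group
        _ = u * (c * e) * c := by rw [hce]
        _ = (u * c) * e * c := by group
        _ = (c * u) * e * c := by rw [hcu]
        _ = c * (u * e * c) := by group
        _ = c * (c * e) := by rw [hce]
        _ = (c : G) * c * e := by group
    have h4 : ((c : G) * c) * ((c : G) * c) = 1 := hexp _ (hcent hsq)
    apply Subtype.ext
    rw [Subgroup.coe_pow, Subgroup.coe_one]
    calc (c : G) ^ 2 ^ 2 = ((c : G) * c) * ((c : G) * c) := by
          norm_num [pow_succ, mul_assoc]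
      _ = 1 := h4
  have hCE : C ≤ E := by
    rw [← hEL]
    exact Cfsg.Agent.Helper14.le_pCoreOf inf_le_left hLC hC2
  -- the action on the nonidentity elements of `U`
  have hUL : U ≤ L := hUE.trans hEL'
  haveI hUn : (U.subgroupOf L).Normal := (Subgroup.normal_subgroupOf_iff_le_normalizer hUL).mpr hLU
  let f := Cfsg.Agent.Helper24.RU.conjPermNe (U.subgroupOf L)
  have hker : f.ker ≤ E.subgroupOf L := by
    intro x hx
    rw [Cfsg.Agent.Helper24.RU.conjPermNe_ker] at hx
    rw [Subgroup.mem_subgroupOf]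
    apply hCE
    refine Subgroup.mem_inf.mpr ⟨x.2, ?_⟩
    rw [Subgroup.mem_centralizer_iff]
    intro u hu
    have := Subgroup.mem_centralizer_iff.mp hx ⟨u, hUL hu⟩
      (by rw [SetLike.mem_coe, Subgroup.mem_subgroupOf]; exact hu)
    exact congrArg Subtype.val this
  have hcardU : Nat.card ↥(U.subgroupOf L) = 4 := by
    rw [← hU4]; exact Nat.card_congr (Subgroup.subgroupOfEquivOfLe hUL).toEquiv
  have hperm : Nat.card (Equiv.Perm {x : ↥(U.subgroupOf L) // x ≠ 1}) = 6 := by
    rw [Nat.card_perm]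
    have : Nat.card {x : ↥(U.subgroupOf L) // x ≠ 1} = 3 := by
      haveI := Fintype.ofFinite ↥(U.subgroupOf L)
      rw [Nat.card_eq_fintype_card, Fintype.card_subtype_compl, Fintype.card_subtype_eq,
        ← Nat.card_eq_fintype_card, hcardU]
    rw [this]; rfl
  have hrange : Nat.card f.range ≤ 6 := by
    have h1 : Nat.card f.range ∣ Nat.card (Equiv.Perm {x : ↥(U.subgroupOf L) // x ≠ 1}) :=
      Subgroup.card_subgroup_dvd_card _
    rw [hperm] at h1
    exact Nat.le_of_dvd (by norm_num) h1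
  have hcardL : Nat.card ↥L ≤ Nat.card ↥E * 6 := by
    have h1 : Nat.card ↥f.ker * f.ker.index = Nat.card ↥L := Subgroup.card_mul_index _
    rw [Subgroup.index_ker] at h1
    have h2 : Nat.card ↥f.ker ≤ Nat.card ↥E := by
      calc Nat.card ↥f.ker ≤ Nat.card ↥(E.subgroupOf L) := Subgroup.card_le_of_le hker
        _ = Nat.card ↥E := Nat.card_congr (Subgroup.subgroupOfEquivOfLe hEL').toEquiv
    rw [← h1]
    exact Nat.mul_le_mul h2 hrange
  have hcardP : Nat.card ↥P = Nat.card ↥E * 6 := by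
    have h1 : Nat.card ↥(E.subgroupOf P) * (E.subgroupOf P).index = Nat.card ↥P :=
      Subgroup.card_mul_index _
    have h2 : Nat.card ↥(E.subgroupOf P) = Nat.card ↥E :=
      Nat.card_congr (Subgroup.subgroupOfEquivOfLe hEP).toEquiv
    have h3 : (E.subgroupOf P).index = 6 := h6
    rw [h2, h3] at h1
    exact h1.symm
  exact (Subgroup.eq_of_le_of_card_ge hPL (by rw [hcardP]; exact hcardL)).symm

end Cfsg.Agent.Helper27.KV
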