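import Mathlib
import Cfsg.Agent.Lib.Helper6.InvNWORDS

/-!
# INVN piece TABLE, core (helper6): `table_frame_core` = `table_frame` with the statement of CAND
(`act_eq_cand`, for this `w`) as a hypothesis.
-/

set_option autoImplicit false
set_option linter.unusedSectionVars false
set_option linter.unusedVariables false

namespace Cfsg.Agent.Helper13.InvN

open Cfsg Cfsg.Lie Cfsg.Agent.Lead.Chev Cfsg.Agent.Helper6.ChevL

/-- the bits of `∑ i ∈ s, 2 ^ i` -/
theorem table_testBit_sum (s : Finset ℕ) (j : ℕ) : (∑ i ∈ s, 2 ^ i).testBit j = true ↔ j ∈ s := by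
  rw [← Nat.mem_bitIndices, ← List.mem_toFinset, Finset.toFinset_bitIndices_sum_two_pow]

/-- the letters of the word of a valid frame are indices of fundamental roots -/
theorem table_frameWord_ok {D : ChevalleyDatum} (S : Frame) (hS' : frameOK D S = true) :
    WOK D (frameWord S) := by
  unfold frameOK at hS'
  rw [Bool.and_eq_true] at hS'
  have h1 := hS'.1
  rw [List.all_eq_true] at h1
  intro i hi
  unfold frameWord at hi
  rw [List.mem_flatMap] at hi
  obtain ⟨e, he, hie⟩ := hi
  have h2 := h1 e he
  rw [Bool.and_eq_true, List.all_eq_true] at h2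
  have h3 : e.2 < D.rank := of_decide_eq_true h2.2
  have h4 : ∀ i ∈ e.1, i < D.rank := fun i hi => of_decide_eq_true (h2.1 i hi)
  rcases List.mem_append.1 hie with h5 | h5
  · rcases List.mem_append.1 h5 with h6 | h6
    · exact h4 i h6
    · rw [List.mem_singleton.1 h6]
      exact h3
  · exact h4 i (List.mem_reverse.1 h5)

variable {F : Type*} [Field F] {D : ChevalleyDatum} (hF : ChevFacts D F) (hS : CorSize D) (hI : CorInj D)
include hF hS hI

/-- PIECE TABLE, core -/
theorem table_frame_core (T : Table) (hT : tableChk D T = true) (w : List ℕ) (hw : WOK D w)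
    (hcand : ∀ (w0 : List ℕ) (hw0 : WOK D w0)
      (h0 : ∀ k < D.rank, D.IsNegRoot (reflWord D w0 (D.simple k)))
      (wJ : List ℕ) (hwJ : WOK D wJ) (hJ : ∀ j ∈ wJ, j ∈ fixJ D w)
      (hneg : ∀ j ∈ fixJ D w, D.IsNegRoot (reflWord D wJ (D.simple j))),
      ∀ r < D.nroots, reflWord D w r = reflWord D (candWord w0 wJ) r) :
    ∃ S ∈ T.frames, frameOK D S = true ∧ ∀ r < D.nroots, reflWord D w r = reflWord D (frameWord S) r := by
  -- unfold the check of the table
  unfold tableChk at hT
  rw [Bool.and_eq_true, Bool.and_eq_true, Bool.and_eq_true] at hT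
  obtain ⟨⟨⟨hT1, hT2⟩, hT3⟩, hT4⟩ := hT
  rw [List.all_eq_true] at hT1 hT2 hT4
  have hw0 : WOK D T.w0 := fun i hi => of_decide_eq_true (hT1 i hi)
  have h0 : ∀ k < D.rank, D.IsNegRoot (reflWord D T.w0 (D.simple k)) :=
    fun k hk => of_decide_eq_true (hT2 k (List.mem_range.2 hk))
  have hlen : T.entries.length = 2 ^ D.rank := of_decide_eq_true hT3
  -- the mask of `fixJ D w`
  set Jf : Finset ℕ := (Finset.range D.rank).filter
    fun j => reflWord D w (D.simple j) = D.simple j with hJf
  have hJfmem : ∀ j, j ∈ Jf ↔ j ∈ fixJ D w := by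
    intro j
    rw [hJf, Finset.mem_filter, Finset.mem_range]
    exact Iff.rfl
  set m : ℕ := ∑ i ∈ Jf, 2 ^ i with hm
  have hbit : ∀ j, m.testBit j = true ↔ j ∈ fixJ D w := by
    intro j
    rw [hm, table_testBit_sum, hJfmem]
  have hmlt : m < T.entries.length := by
    rw [hlen, hm]
    apply Nat.geomSum_lt le_rfl
    intro k hk
    exact ((hJfmem k).1 hk).1
  -- the entry
  set e : JEntry := T.entries[m] with he
  have hmem : (e, m) ∈ T.entries.zipIdx := by
    rw [List.mem_zipIdx_iff_getElem?]
    simp only [he]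
    exact List.getElem?_eq_getElem hmlt
  have hchk : entryChk D T.w0 m e = true := hT4 (e, m) hmem
  unfold entryChk at hchk
  rw [Bool.and_eq_true, Bool.and_eq_true] at hchk
  obtain ⟨⟨hc1, hc2⟩, hc3⟩ := hchk
  rw [List.all_eq_true] at hc1 hc2
  have hwJ : WOK D e.wJ := by
    intro j hj
    have := hc1 j hj
    rw [Bool.and_eq_true] at this
    exact of_decide_eq_true this.1
  have hJ : ∀ j ∈ e.wJ, j ∈ fixJ D w := by
    intro j hj
    have := hc1 j hj
    rw [Bool.and_eq_true] at this
    exact (hbit j).1 this.2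
  have hneg : ∀ j ∈ fixJ D w, D.IsNegRoot (reflWord D e.wJ (D.simple j)) := by
    intro j hj
    have := hc2 j (List.mem_range.2 hj.1)
    rw [Bool.or_eq_true] at this
    rcases this with h | h
    · have hb := (hbit j).2 hj
      rw [hb] at h
      exact absurd h (by decide)
    · exact of_decide_eq_true h
  have hact := hcand T.w0 hw0 h0 e.wJ hwJ hJ hneg
  have hcw : WOK D (candWord T.w0 e.wJ) := hw0.reverse.append hwJ.reverse
  -- the two cases
  cases hfr : e.frame with
  | none =>
    exfalso
    rw [hfr] at hc3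
    rw [List.any_eq_true] at hc3
    obtain ⟨j, hj, hne⟩ := hc3
    have hjr : j < D.rank := List.mem_range.1 hj
    have hiff : m.testBit j = true ↔
        reflWord D (candWord T.w0 e.wJ) (D.simple j) = D.simple j := by
      rw [hbit j, ← hact _ (hF.simple_lt j hjr)]
      exact ⟨fun h => h.2, fun h => ⟨hjr, h⟩⟩
    have : m.testBit j = decide (reflWord D (candWord T.w0 e.wJ) (D.simple j) = D.simple j) := by
      by_cases hb : m.testBit j = true
      · rw [hb, decide_eq_true (hiff.1 hb)]
      · have hb' : m.testBit j = false := by simpa using hb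
        rw [hb', decide_eq_false (fun h => hb (hiff.2 h))]
    rw [this] at hne
    simp at hne
  | some S =>
    rw [hfr] at hc3
    rw [Bool.and_eq_true, List.all_eq_true] at hc3
    obtain ⟨hok, hall⟩ := hc3
    refine ⟨S, ?_, hok, ?_⟩
    · unfold Table.frames
      rw [List.mem_filterMap]
      exact ⟨e, List.getElem_mem hmlt, hfr⟩
    · intro r hr
      rw [hact r hr]
      apply reflWord_eq_of_simple hF hS hI _ _ hcw (table_frameWord_ok S hok) _ r hr
      intro k hk
      exact (of_decide_eq_true (hall k (List.mem_range.2 hk))).symm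

end Cfsg.Agent.Helper13.InvN
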