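import Mathlib
import Cfsg.Agent.Lib.Helper6.InvNTABLECore
import Cfsg.Agent.Lib.Helper19.InvNCAND

/-!
# INVN piece TABLE (helper6): `table_frame`.
-/

set_option autoImplicit false
set_option linter.unusedSectionVars false
set_option linter.unusedVariables false

namespace Cfsg.Agent.Helper13.InvN

open Cfsg Cfsg.Lie Cfsg.Agent.Lead.Chev Cfsg.Agent.Helper6.ChevL

variable {F : Type*} [Field F] {D : ChevalleyDatum} (hF : ChevFacts D F) (hS : CorSize D) (hI : CorInj D)
include hF hS hI

/-- PIECE TABLE (needs CAND, WSIMPLE): the frame of `w` in the table -/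
theorem table_frame (T : Table) (hT : tableChk D T = true) (w : List ℕ) (hw : WOK D w) (hinv : Invol D w)
    (hM : CondM D w) :
    ∃ S ∈ T.frames, frameOK D S = true ∧ ∀ r < D.nroots, reflWord D w r = reflWord D (frameWord S) r :=
  table_frame_core hF hS hI T hT w hw
    (fun w0 hw0 h0 wJ hwJ hJ hneg => act_eq_cand hF hS hI w hw hinv hM w0 hw0 h0 wJ hwJ hJ hneg)

end Cfsg.Agent.Helper13.InvN
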