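import Mathlib
import Cfsg.Agent.Lib.Helper3.J1ArithDefs

/-!
# S0448 piece NATEQ (helper6): the arithmetic content of the NATURAL realization.
-/

set_option autoImplicit false
set_option linter.unusedSectionVars false
set_option linter.unusedVariables false

namespace Cfsg.Agent.Helper3.J1A

variable {ι : Type*} [Fintype ι]

theorem nateq_sum_four {R : Type*} [AddCommMonoid R] (f : ι → R) (p0 p1 p2 p3 : ι)
    (h01 : p0 ≠ p1) (h02 : p0 ≠ p2) (h03 : p0 ≠ p3) (h12 : p1 ≠ p2) (h13 : p1 ≠ p3) (h23 : p2 ≠ p3)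
    (h : ∀ X, X ≠ p0 → X ≠ p1 → X ≠ p2 → X ≠ p3 → f X = 0) :
    ∑ X, f X = f p0 + f p1 + f p2 + f p3 := by
  classical
  rw [← Finset.sum_subset (Finset.subset_univ ({p0, p1, p2, p3} : Finset ι))]
  · rw [Finset.sum_insert, Finset.sum_insert, Finset.sum_insert, Finset.sum_singleton]
    · simp only [add_assoc]
    all_goals simp [*]
  · intro X _ hX
    simp only [Finset.mem_insert, Finset.mem_singleton, not_or] at hX
    exact h X hX.1 hX.2.1 hX.2.2.1 hX.2.2.2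

theorem nateq_sum_two {R : Type*} [AddCommMonoid R] (f : ι → R) (p0 p1 : ι)
    (h01 : p0 ≠ p1) (h : ∀ X, X ≠ p0 → X ≠ p1 → f X = 0) :
    ∑ X, f X = f p0 + f p1 := by
  classical
  rw [← Finset.sum_subset (Finset.subset_univ ({p0, p1} : Finset ι))]
  · rw [Finset.sum_insert, Finset.sum_singleton]
    simp [*]
  · intro X _ hX
    simp only [Finset.mem_insert, Finset.mem_singleton, not_or] at hX
    exact h X hX.1 hX.2

theorem nateq_adm {o : ι} {u a b c D : ι → ℤ} {g : ℕ} (h : Lat o u a b c D g) (X : ι) (hX : X ≠ o)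
    (e τ : ℤ) (he : e = 1 ∨ e = -1) (ht : tau u a b c X = e * τ) : Adm τ (e * D X) := by
  have h8 := h.e8 X
  have h8a := h.e8a X hX
  have h8b := h.e8b X
  have hD := h.Dpos X
  rw [ht] at h8 h8a h8b
  rcases he with rfl | rfl
  · simp only [one_mul] at *
    exact ⟨h8, Or.inl ⟨hD, h8a, h8b⟩⟩
  · refine ⟨?_, Or.inr ⟨by linarith, by linarith, by linarith⟩⟩
    have : (-1 : ℤ) * D X - τ = -(D X - (-1) * τ) := by ring
    rw [this]; exact (dvd_neg).mpr h8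

theorem nateq_term (e τ tX aX DX : ℤ) (he : e = 1 ∨ e = -1) (ht : tX = e * τ) (ha : aX = e) :
    ((tX : ℚ)) ^ 2 * (aX : ℚ) / (DX : ℚ) = ((τ : ℚ)) ^ 2 / ((e * DX : ℤ) : ℚ) := by
  subst ht ha
  rcases he with rfl | rfl
  · push_cast; ring
  · push_cast
    rw [show (-1 : ℚ) * (DX : ℚ) = -(DX : ℚ) by ring, div_neg]
    ring

theorem nateq_bound {n : ℕ} (D : ι → ℤ) (o : ι) (y : Fin n → ι) (hinj : Function.Injective y)
    (hne : ∀ i, y i ≠ o) :
    D o * D o + ∑ i, D (y i) * D (y i) ≤ ∑ X, D X * D X := by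
  classical
  have : D o * D o + ∑ i, D (y i) * D (y i) =
      ∑ X ∈ insert o (Finset.univ.image y), D X * D X := by
    rw [Finset.sum_insert, Finset.sum_image]
    · intro i _ j _ hij; exact hinj hij
    · simp only [Finset.mem_image, Finset.mem_univ, true_and, not_exists]
      intro i hi; exact hne i hi
  rw [this]
  apply Finset.sum_le_sum_of_subset_of_nonneg (Finset.subset_univ _)
  intro X _ _; exact mul_self_nonneg _

section main

variable {o : ι} {u a b c D : ι → ℤ} {g : ℕ} {y : Fin 9 → ι} {e : Fin 9 → ℤ}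

theorem nateq_a_zero (hN : NatCfg o u a b c y e) (X : ι) (h0 : X ≠ o) (h1 : X ≠ y 0) (h2 : X ≠ y 1)
    (h3 : X ≠ y 2) : a X = 0 := by
  by_cases hX : ∃ i, X = y i
  · obtain ⟨i, rfl⟩ := hX
    fin_cases i
    · exact absurd rfl h1
    · exact absurd rfl h2
    · exact absurd rfl h3
    · exact hN.v3.2.1
    · exact hN.v4.2.1
    · exact hN.v5.2.1
    · exact hN.v6.2.1
    · exact hN.v7.2.1
    · exact hN.v8.2.1
  · push Not at hX
    exact (hN.zero X h0 hX).2.1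

theorem nateq_b_zero (hN : NatCfg o u a b c y e) (X : ι) (h0 : X ≠ o) (h1 : X ≠ y 0) (h2 : X ≠ y 3)
    (h3 : X ≠ y 4) : b X = 0 := by
  by_cases hX : ∃ i, X = y i
  · obtain ⟨i, rfl⟩ := hX
    fin_cases i
    · exact absurd rfl h1
    · exact hN.v1.2.2.1
    · exact hN.v2.2.2.1
    · exact absurd rfl h2
    · exact absurd rfl h3
    · exact hN.v5.2.2.1
    · exact hN.v6.2.2.1
    · exact hN.v7.2.2.1
    · exact hN.v8.2.2.1
  · push Not at hX
    exact (hN.zero X h0 hX).2.2.1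

theorem nateq_c_zero (hN : NatCfg o u a b c y e) (X : ι) (h0 : X ≠ o) (h1 : X ≠ y 0) (h2 : X ≠ y 5)
    (h3 : X ≠ y 6) : c X = 0 := by
  by_cases hX : ∃ i, X = y i
  · obtain ⟨i, rfl⟩ := hX
    fin_cases i
    · exact absurd rfl h1
    · exact hN.v1.2.2.2
    · exact hN.v2.2.2.2
    · exact hN.v3.2.2.2
    · exact hN.v4.2.2.2
    · exact absurd rfl h2
    · exact absurd rfl h3
    · exact hN.v7.2.2.2
    · exact hN.v8.2.2.2
  · push Not at hX
    exact (hN.zero X h0 hX).2.2.2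

theorem nateq_u_zero (h : Lat o u a b c D g) (hN : NatCfg o u a b c y e) (X : ι) (h2 : X ≠ y 7)
    (h3 : X ≠ y 8) : u X = 0 := by
  by_cases h0 : X = o
  · rw [h0]; exact h.ou
  by_cases hX : ∃ i, X = y i
  · obtain ⟨i, rfl⟩ := hX
    fin_cases i
    · exact hN.v0.1
    · exact hN.v1.1
    · exact hN.v2.1
    · exact hN.v3.1
    · exact hN.v4.1
    · exact hN.v5.1
    · exact hN.v6.1
    · exact absurd rfl h2
    · exact absurd rfl h3
  · push Not at hX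
    exact (hN.zero X h0 hX).1

/-- the generic three-term system of a support `{o, p1, p2, p3}` of a coordinate function `f` -/
theorem nateq_sys (h : Lat o u a b c D g) (f : ι → ℤ) (K : ℚ) (hfo : f o = 1)
    (hD : ∑ X, D X * f X = 0) (hC : ∑ X, ((tau u a b c X : ℚ) ^ 2 * f X / D X) = K / g)
    (p1 p2 p3 : ι) (e1 e2 e3 τ1 τ2 τ3 : ℤ)
    (hp1 : p1 ≠ o) (hp2 : p2 ≠ o) (hp3 : p3 ≠ o) (h12 : p1 ≠ p2) (h13 : p1 ≠ p3) (h23 : p2 ≠ p3)
    (hz : ∀ X, X ≠ o → X ≠ p1 → X ≠ p2 → X ≠ p3 → f X = 0)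
    (he1 : e1 = 1 ∨ e1 = -1) (he2 : e2 = 1 ∨ e2 = -1) (he3 : e3 = 1 ∨ e3 = -1)
    (hf1 : f p1 = e1) (hf2 : f p2 = e2) (hf3 : f p3 = e3)
    (ht1 : tau u a b c p1 = e1 * τ1) (ht2 : tau u a b c p2 = e2 * τ2)
    (ht3 : tau u a b c p3 = e3 * τ3) :
    Sys ((τ1 : ℚ) ^ 2) ((τ2 : ℚ) ^ 2) ((τ3 : ℚ) ^ 2) K g (e1 * D p1) (e2 * D p2) (e3 * D p3) := by
  constructor
  · rw [nateq_sum_four (fun X => D X * f X) o p1 p2 p3 hp1.symm hp2.symm hp3.symm h12 h13 h23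
      (fun X a0 a1 a2 a3 => by simp only [hz X a0 a1 a2 a3, mul_zero])] at hD
    simp only [hfo, hf1, hf2, hf3, h.oD] at hD
    linarith
  · rw [nateq_sum_four (fun X => ((tau u a b c X : ℚ) ^ 2 * f X / D X)) o p1 p2 p3 hp1.symm hp2.symm
      hp3.symm h12 h13 h23
      (fun X a0 a1 a2 a3 => by simp only [hz X a0 a1 a2 a3, Int.cast_zero, mul_zero, zero_div])] at hC
    rw [← hC]
    have hto : tau u a b c o = 1 := by
      unfold tau; rw [h.ou, h.oa, h.ob, h.oc]; norm_num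
    rw [nateq_term e1 τ1 _ _ (D p1) he1 ht1 hf1, nateq_term e2 τ2 _ _ (D p2) he2 ht2 hf2,
      nateq_term e3 τ3 _ _ (D p3) he3 ht3 hf3, hto, hfo, h.oD]
    norm_num

/-- PIECE NATEQ: the arithmetic content of the NATURAL realization -/
theorem nat_sol {o : ι} {u a b c D : ι → ℤ} {g : ℕ} (h : Lat o u a b c D g) {y : Fin 9 → ι}
    {e : Fin 9 → ℤ} (hN : NatCfg o u a b c y e) : NatSol g (fun i => e i * D (y i)) := by
  have hne : ∀ i j : Fin 9, i ≠ j → y i ≠ y j := fun i j hij => hN.inj.ne hij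
  have t0 : tau u a b c (y 0) = e 0 * 1 := by
    unfold tau; rw [hN.v0.1, hN.v0.2.1, hN.v0.2.2.1, hN.v0.2.2.2]; ring
  have t1 : tau u a b c (y 1) = e 1 * 3 := by
    unfold tau; rw [hN.v1.1, hN.v1.2.1, hN.v1.2.2.1, hN.v1.2.2.2]; ring
  have t2 : tau u a b c (y 2) = e 2 * 3 := by
    unfold tau; rw [hN.v2.1, hN.v2.2.1, hN.v2.2.2.1, hN.v2.2.2.2]; ring
  have t3 : tau u a b c (y 3) = e 3 * 3 := by
    unfold tau; rw [hN.v3.1, hN.v3.2.1, hN.v3.2.2.1, hN.v3.2.2.2]; ring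
  have t4 : tau u a b c (y 4) = e 4 * 3 := by
    unfold tau; rw [hN.v4.1, hN.v4.2.1, hN.v4.2.2.1, hN.v4.2.2.2]; ring
  have t5 : tau u a b c (y 5) = e 5 * (-5) := by
    unfold tau; rw [hN.v5.1, hN.v5.2.1, hN.v5.2.2.1, hN.v5.2.2.2]; ring
  have t6 : tau u a b c (y 6) = e 6 * (-5) := by
    unfold tau; rw [hN.v6.1, hN.v6.2.1, hN.v6.2.2.1, hN.v6.2.2.2]; ring
  have sa := nateq_sys h a 144000 h.oa h.Da h.Ca (y 0) (y 1) (y 2) (e 0) (e 1) (e 2) 1 3 3
    (hN.ne 0) (hN.ne 1) (hN.ne 2) (hne 0 1 (by decide)) (hne 0 2 (by decide)) (hne 1 2 (by decide))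
    (nateq_a_zero hN) (hN.sign 0) (hN.sign 1) (hN.sign 2) hN.v0.2.1 hN.v1.2.1 hN.v2.2.1 t0 t1 t2
  have sb := nateq_sys h b 144000 h.ob h.Db h.Cb (y 0) (y 3) (y 4) (e 0) (e 3) (e 4) 1 3 3
    (hN.ne 0) (hN.ne 3) (hN.ne 4) (hne 0 3 (by decide)) (hne 0 4 (by decide)) (hne 3 4 (by decide))
    (nateq_b_zero hN) (hN.sign 0) (hN.sign 3) (hN.sign 4) hN.v0.2.2.1 hN.v3.2.2.1 hN.v4.2.2.1 t0 t3 t4
  have sc := nateq_sys h c 86400 h.oc h.Dc h.Cc (y 0) (y 5) (y 6) (e 0) (e 5) (e 6) 1 (-5) (-5)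
    (hN.ne 0) (hN.ne 5) (hN.ne 6) (hne 0 5 (by decide)) (hne 0 6 (by decide)) (hne 5 6 (by decide))
    (nateq_c_zero hN) (hN.sign 0) (hN.sign 5) (hN.sign 6) hN.v0.2.2.2 hN.v5.2.2.2 hN.v6.2.2.2 t0 t5 t6
  norm_num at sa sb sc
  refine
  { a0 := nateq_adm h (y 0) (hN.ne 0) (e 0) 1 (hN.sign 0) t0
    a1 := nateq_adm h (y 1) (hN.ne 1) (e 1) 3 (hN.sign 1) t1
    a2 := nateq_adm h (y 2) (hN.ne 2) (e 2) 3 (hN.sign 2) t2
    a3 := nateq_adm h (y 3) (hN.ne 3) (e 3) 3 (hN.sign 3) t3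
    a4 := nateq_adm h (y 4) (hN.ne 4) (e 4) 3 (hN.sign 4) t4
    a5 := nateq_adm h (y 5) (hN.ne 5) (e 5) (-5) (hN.sign 5) t5
    a6 := nateq_adm h (y 6) (hN.ne 6) (e 6) (-5) (hN.sign 6) t6
    sa := sa
    sb := sb
    sc := sc
    su := ?_
    bound := ?_
    g8 := h.g8
    g16 := h.g16
    g120 := h.g120 }
  · have hDu := h.Du
    rw [nateq_sum_two (fun X => D X * u X) (y 7) (y 8) (hne 7 8 (by decide))
      (fun X a1 a2 => by simp only [nateq_u_zero h hN X a1 a2, mul_zero])] at hDu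
    simp only [hN.v7.1, hN.v8.1] at hDu
    linarith
  · have hb := nateq_bound D o y hN.inj hN.ne
    rw [h.dd, h.oD] at hb
    have : ∀ i, (e i * D (y i)) ^ 2 = D (y i) * D (y i) := by
      intro i
      rcases hN.sign i with hi | hi <;> rw [hi] <;> ring
    simp only [this]
    linarith

end main

end Cfsg.Agent.Helper3.J1A
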