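import Mathlib
import Cfsg.Agent.Lib.Helper3.J1ArithDefs
import Cfsg.Agent.Lib.Lead.J1SUPP
import Cfsg.Agent.Lib.Helper18.J1PAIR

/-!
# S0448 piece TRI (helper6): the `a, b, c` part of the realization is NATURAL or FANO.
-/

set_option autoImplicit false
set_option linter.unusedSectionVars false
set_option linter.unusedVariables false

namespace Cfsg.Agent.Helper3.J1A

variable {ι : Type*} [Fintype ι]

theorem tri_inj_of_lt {n : ℕ} (v : Fin n → ι) (h : ∀ i j, i < j → v i ≠ v j) :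
    Function.Injective v := by
  intro i j hij
  by_contra hne
  rcases lt_or_gt_of_ne hne with h1 | h1
  · exact h _ _ h1 hij
  · exact h _ _ h1 hij.symm

/-- support facts -/
theorem tri_supp [DecidableEq ι] (o : ι) (f : ι → ℤ) (ho : f o = 1) (h : ∑ X, f X * f X = 4) :
    (Finset.univ.filter (fun X => X ≠ o ∧ f X ≠ 0)).card = 3 ∧
    ∀ X, X ≠ o → f X ≠ 0 → (f X = 1 ∨ f X = -1) := by
  obtain ⟨p, hinj, hpo, hpv, hz⟩ := supp_three o f ho h
  have key : ∀ X, (X ≠ o ∧ f X ≠ 0) ↔ ∃ i, p i = X := by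
    intro X
    constructor
    · rintro ⟨h1, h2⟩
      by_contra hne
      push Not at hne
      exact h2 (hz X h1 (fun i => (hne i).symm))
    · rintro ⟨i, rfl⟩
      refine ⟨hpo i, ?_⟩
      rcases hpv i with h1 | h1 <;> rw [h1] <;> norm_num
  constructor
  · have : Finset.univ.filter (fun X => X ≠ o ∧ f X ≠ 0) = Finset.univ.image p := by
      ext X
      simp only [Finset.mem_filter, Finset.mem_univ, true_and, Finset.mem_image]
      exact key X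
    rw [this, Finset.card_image_of_injective _ hinj]
    simp
  · intro X h1 h2
    obtain ⟨i, rfl⟩ := (key X).mp ⟨h1, h2⟩
    exact hpv i

/-- the two other points of a support of size three containing `Y` -/
theorem tri_two [DecidableEq ι] (o Y : ι) (hYo : Y ≠ o) (f : ι → ℤ)
    (hS : (Finset.univ.filter (fun X => X ≠ o ∧ f X ≠ 0)).card = 3) (hfY : f Y ≠ 0) :
    ∃ P Q, P ≠ Q ∧ P ≠ Y ∧ Q ≠ Y ∧ P ≠ o ∧ Q ≠ o ∧ f P ≠ 0 ∧ f Q ≠ 0 ∧
      ∀ X, X ≠ o → f X ≠ 0 → X = Y ∨ X = P ∨ X = Q := by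
  have hmem : Y ∈ Finset.univ.filter (fun X => X ≠ o ∧ f X ≠ 0) := by simp [hYo, hfY]
  have hc : ((Finset.univ.filter (fun X => X ≠ o ∧ f X ≠ 0)).erase Y).card = 2 := by
    rw [Finset.card_erase_of_mem hmem, hS]
  obtain ⟨P, Q, hPQ, hE⟩ := Finset.card_eq_two.mp hc
  have hP : P ∈ (Finset.univ.filter (fun X => X ≠ o ∧ f X ≠ 0)).erase Y := by rw [hE]; simp
  have hQ : Q ∈ (Finset.univ.filter (fun X => X ≠ o ∧ f X ≠ 0)).erase Y := by rw [hE]; simp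
  simp only [Finset.mem_erase, Finset.mem_filter, Finset.mem_univ, true_and] at hP hQ
  refine ⟨P, Q, hPQ, hP.1, hQ.1, hP.2.1, hQ.2.1, hP.2.2, hQ.2.2, ?_⟩
  intro X hXo hfX
  by_cases hXY : X = Y
  · exact Or.inl hXY
  · right
    have : X ∈ (Finset.univ.filter (fun X => X ≠ o ∧ f X ≠ 0)).erase Y := by
      simp [hXY, hXo, hfX]
    rw [hE] at this
    simpa using this

/-- the third point of a support of size three containing `Y ≠ Z` -/
theorem tri_one [DecidableEq ι] (o Y Z : ι) (hYo : Y ≠ o) (hZo : Z ≠ o) (hYZ : Y ≠ Z) (f : ι → ℤ)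
    (hS : (Finset.univ.filter (fun X => X ≠ o ∧ f X ≠ 0)).card = 3) (hfY : f Y ≠ 0)
    (hfZ : f Z ≠ 0) :
    ∃ P, P ≠ Y ∧ P ≠ Z ∧ P ≠ o ∧ f P ≠ 0 ∧
      ∀ X, X ≠ o → f X ≠ 0 → X = Y ∨ X = Z ∨ X = P := by
  obtain ⟨P, Q, hPQ, hPY, hQY, hPo, hQo, hfP, hfQ, hall⟩ := tri_two o Y hYo f hS hfY
  rcases hall Z hZo hfZ with h | h | h
  · exact absurd h.symm hYZ
  · subst h
    refine ⟨Q, hQY, hPQ.symm, hQo, hfQ, ?_⟩
    intro X hXo hfX
    rcases hall X hXo hfX with h | h | h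
    · exact Or.inl h
    · exact Or.inr (Or.inl h)
    · exact Or.inr (Or.inr h)
  · subst h
    refine ⟨P, hPY, hPQ, hPo, hfP, ?_⟩
    intro X hXo hfX
    rcases hall X hXo hfX with h | h | h
    · exact Or.inl h
    · exact Or.inr (Or.inr h)
    · exact Or.inr (Or.inl h)

theorem tri_ne_of_val (f : ι → ℤ) (X Y : ι) (hX : f X ≠ 0) (hY : f Y = 0) : X ≠ Y :=
  fun h => hX (h ▸ hY)

theorem tri_nat [DecidableEq ι] (o : ι) (a b c : ι → ℤ)
    (Sa : (Finset.univ.filter (fun X => X ≠ o ∧ a X ≠ 0)).card = 3)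
    (Sb : (Finset.univ.filter (fun X => X ≠ o ∧ b X ≠ 0)).card = 3)
    (Sc : (Finset.univ.filter (fun X => X ≠ o ∧ c X ≠ 0)).card = 3)
    (va : ∀ X, X ≠ o → a X ≠ 0 → (a X = 1 ∨ a X = -1))
    (vb : ∀ X, X ≠ o → b X ≠ 0 → (b X = 1 ∨ b X = -1))
    (vc : ∀ X, X ≠ o → c X ≠ 0 → (c X = 1 ∨ c X = -1))
    (Y : ι) (hYo : Y ≠ o) (haY : a Y ≠ 0) (habY : a Y = b Y) (hacY : a Y = c Y)
    (hab : ∀ X, X ≠ o → X ≠ Y → a X = 0 ∨ b X = 0)
    (hac : ∀ X, X ≠ o → X ≠ Y → a X = 0 ∨ c X = 0)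
    (hbc : ∀ X, X ≠ o → X ≠ Y → b X = 0 ∨ c X = 0) :
    ∃ y e, NatABC o a b c y e := by
  have hbY : b Y ≠ 0 := habY ▸ haY
  have hcY : c Y ≠ 0 := hacY ▸ haY
  obtain ⟨A1, A2, hA12, hA1Y, hA2Y, hA1o, hA2o, haA1, haA2, hSa⟩ := tri_two o Y hYo a Sa haY
  obtain ⟨B1, B2, hB12, hB1Y, hB2Y, hB1o, hB2o, hbB1, hbB2, hSb⟩ := tri_two o Y hYo b Sb hbY
  obtain ⟨C1, C2, hC12, hC1Y, hC2Y, hC1o, hC2o, hcC1, hcC2, hSc⟩ := tri_two o Y hYo c Sc hcY
  have bA1 : b A1 = 0 := (hab A1 hA1o hA1Y).resolve_left haA1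
  have cA1 : c A1 = 0 := (hac A1 hA1o hA1Y).resolve_left haA1
  have bA2 : b A2 = 0 := (hab A2 hA2o hA2Y).resolve_left haA2
  have cA2 : c A2 = 0 := (hac A2 hA2o hA2Y).resolve_left haA2
  have aB1 : a B1 = 0 := (hab B1 hB1o hB1Y).resolve_right hbB1
  have cB1 : c B1 = 0 := (hbc B1 hB1o hB1Y).resolve_left hbB1
  have aB2 : a B2 = 0 := (hab B2 hB2o hB2Y).resolve_right hbB2
  have cB2 : c B2 = 0 := (hbc B2 hB2o hB2Y).resolve_left hbB2
  have aC1 : a C1 = 0 := (hac C1 hC1o hC1Y).resolve_right hcC1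
  have bC1 : b C1 = 0 := (hbc C1 hC1o hC1Y).resolve_right hcC1
  have aC2 : a C2 = 0 := (hac C2 hC2o hC2Y).resolve_right hcC2
  have bC2 : b C2 = 0 := (hbc C2 hC2o hC2Y).resolve_right hcC2
  have n01 : Y ≠ A1 := hA1Y.symm
  have n02 : Y ≠ A2 := hA2Y.symm
  have n03 : Y ≠ B1 := hB1Y.symm
  have n04 : Y ≠ B2 := hB2Y.symm
  have n05 : Y ≠ C1 := hC1Y.symm
  have n06 : Y ≠ C2 := hC2Y.symm
  have n13 : A1 ≠ B1 := tri_ne_of_val a _ _ haA1 aB1
  have n14 : A1 ≠ B2 := tri_ne_of_val a _ _ haA1 aB2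
  have n15 : A1 ≠ C1 := tri_ne_of_val a _ _ haA1 aC1
  have n16 : A1 ≠ C2 := tri_ne_of_val a _ _ haA1 aC2
  have n23 : A2 ≠ B1 := tri_ne_of_val a _ _ haA2 aB1
  have n24 : A2 ≠ B2 := tri_ne_of_val a _ _ haA2 aB2
  have n25 : A2 ≠ C1 := tri_ne_of_val a _ _ haA2 aC1
  have n26 : A2 ≠ C2 := tri_ne_of_val a _ _ haA2 aC2
  have n35 : B1 ≠ C1 := tri_ne_of_val b _ _ hbB1 bC1
  have n36 : B1 ≠ C2 := tri_ne_of_val b _ _ hbB1 bC2
  have n45 : B2 ≠ C1 := tri_ne_of_val b _ _ hbB2 bC1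
  have n46 : B2 ≠ C2 := tri_ne_of_val b _ _ hbB2 bC2
  refine ⟨![Y, A1, A2, B1, B2, C1, C2], ![a Y, a A1, a A2, b B1, b B2, c C1, c C2], ?_⟩
  exact
  { inj := by
      apply tri_inj_of_lt
      intro i j hij
      fin_cases i <;> fin_cases j <;>
        first
        | exact absurd hij (by decide)
        | exact n01 | exact n02 | exact n03 | exact n04 | exact n05 | exact n06
        | exact hA12 | exact n13 | exact n14 | exact n15 | exact n16
        | exact n23 | exact n24 | exact n25 | exact n26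
        | exact hB12 | exact n35 | exact n36 | exact n45 | exact n46 | exact hC12
    ne := by
      intro i
      fin_cases i
      exacts [hYo, hA1o, hA2o, hB1o, hB2o, hC1o, hC2o]
    sign := by
      intro i
      fin_cases i
      exacts [va Y hYo haY, va A1 hA1o haA1, va A2 hA2o haA2, vb B1 hB1o hbB1, vb B2 hB2o hbB2,
        vc C1 hC1o hcC1, vc C2 hC2o hcC2]
    zero := by
      intro X hXo hX
      have h0 : X ≠ Y := hX 0
      have h1 : X ≠ A1 := hX 1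
      have h2 : X ≠ A2 := hX 2
      have h3 : X ≠ B1 := hX 3
      have h4 : X ≠ B2 := hX 4
      have h5 : X ≠ C1 := hX 5
      have h6 : X ≠ C2 := hX 6
      refine ⟨?_, ?_, ?_⟩
      · by_contra hne
        rcases hSa X hXo hne with h | h | h
        · exact h0 h
        · exact h1 h
        · exact h2 h
      · by_contra hne
        rcases hSb X hXo hne with h | h | h
        · exact h0 h
        · exact h3 h
        · exact h4 h
      · by_contra hne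
        rcases hSc X hXo hne with h | h | h
        · exact h0 h
        · exact h5 h
        · exact h6 h
    v0 := ⟨rfl, habY.symm, hacY.symm⟩
    v1 := ⟨rfl, bA1, cA1⟩
    v2 := ⟨rfl, bA2, cA2⟩
    v3 := ⟨aB1, rfl, cB1⟩
    v4 := ⟨aB2, rfl, cB2⟩
    v5 := ⟨aC1, bC1, rfl⟩
    v6 := ⟨aC2, bC2, rfl⟩ }

theorem tri_fano [DecidableEq ι] (o : ι) (a b c : ι → ℤ)
    (Sa : (Finset.univ.filter (fun X => X ≠ o ∧ a X ≠ 0)).card = 3)
    (Sb : (Finset.univ.filter (fun X => X ≠ o ∧ b X ≠ 0)).card = 3)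
    (Sc : (Finset.univ.filter (fun X => X ≠ o ∧ c X ≠ 0)).card = 3)
    (va : ∀ X, X ≠ o → a X ≠ 0 → (a X = 1 ∨ a X = -1))
    (vb : ∀ X, X ≠ o → b X ≠ 0 → (b X = 1 ∨ b X = -1))
    (vc : ∀ X, X ≠ o → c X ≠ 0 → (c X = 1 ∨ c X = -1))
    (Z1 Z2 Z3 : ι) (h1o : Z1 ≠ o) (h2o : Z2 ≠ o) (h3o : Z3 ≠ o)
    (h12 : Z1 ≠ Z2) (h13 : Z1 ≠ Z3) (h23 : Z2 ≠ Z3)
    (ha1 : a Z1 ≠ 0) (hab1 : a Z1 = b Z1) (ha2 : a Z2 ≠ 0) (hac2 : a Z2 = c Z2)
    (hb3 : b Z3 ≠ 0) (hbc3 : b Z3 = c Z3)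
    (hab : ∀ X, X ≠ o → X ≠ Z1 → a X = 0 ∨ b X = 0)
    (hac : ∀ X, X ≠ o → X ≠ Z2 → a X = 0 ∨ c X = 0)
    (hbc : ∀ X, X ≠ o → X ≠ Z3 → b X = 0 ∨ c X = 0) :
    ∃ y e, FanoABC o a b c y e := by
  have hb1 : b Z1 ≠ 0 := hab1 ▸ ha1
  have hc2 : c Z2 ≠ 0 := hac2 ▸ ha2
  have hc3 : c Z3 ≠ 0 := hbc3 ▸ hb3
  have c1 : c Z1 = 0 := (hac Z1 h1o h12).resolve_left ha1
  have b2 : b Z2 = 0 := (hab Z2 h2o h12.symm).resolve_left ha2
  have a3 : a Z3 = 0 := (hab Z3 h3o h13.symm).resolve_right hb3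
  obtain ⟨A, hA1, hA2, hAo, haA, hSa⟩ := tri_one o Z1 Z2 h1o h2o h12 a Sa ha1 ha2
  obtain ⟨B, hB1, hB3, hBo, hbB, hSb⟩ := tri_one o Z1 Z3 h1o h3o h13 b Sb hb1 hb3
  obtain ⟨C, hC2, hC3, hCo, hcC, hSc⟩ := tri_one o Z2 Z3 h2o h3o h23 c Sc hc2 hc3
  have bA : b A = 0 := (hab A hAo hA1).resolve_left haA
  have cA : c A = 0 := (hac A hAo hA2).resolve_left haA
  have aB : a B = 0 := (hab B hBo hB1).resolve_right hbB
  have cB : c B = 0 := (hbc B hBo hB3).resolve_left hbB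
  have aC : a C = 0 := (hac C hCo hC2).resolve_right hcC
  have bC : b C = 0 := (hbc C hCo hC3).resolve_right hcC
  have n03 : Z1 ≠ A := hA1.symm
  have n04 : Z1 ≠ B := hB1.symm
  have n05 : Z1 ≠ C := (tri_ne_of_val c _ _ hcC c1).symm
  have n13 : Z2 ≠ A := hA2.symm
  have n14 : Z2 ≠ B := (tri_ne_of_val b _ _ hbB b2).symm
  have n15 : Z2 ≠ C := hC2.symm
  have n23 : Z3 ≠ A := (tri_ne_of_val a _ _ haA a3).symm
  have n24 : Z3 ≠ B := hB3.symm
  have n25 : Z3 ≠ C := hC3.symm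
  have n34 : A ≠ B := tri_ne_of_val a _ _ haA aB
  have n35 : A ≠ C := tri_ne_of_val a _ _ haA aC
  have n45 : B ≠ C := tri_ne_of_val b _ _ hbB bC
  refine ⟨![Z1, Z2, Z3, A, B, C], ![a Z1, a Z2, b Z3, a A, b B, c C], ?_⟩
  exact
  { inj := by
      apply tri_inj_of_lt
      intro i j hij
      fin_cases i <;> fin_cases j <;>
        first
        | exact absurd hij (by decide)
        | exact h12 | exact h13 | exact h23 | exact n03 | exact n04 | exact n05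
        | exact n13 | exact n14 | exact n15 | exact n23 | exact n24 | exact n25
        | exact n34 | exact n35 | exact n45
    ne := by
      intro i
      fin_cases i
      exacts [h1o, h2o, h3o, hAo, hBo, hCo]
    sign := by
      intro i
      fin_cases i
      exacts [va Z1 h1o ha1, va Z2 h2o ha2, vb Z3 h3o hb3, va A hAo haA, vb B hBo hbB,
        vc C hCo hcC]
    zero := by
      intro X hXo hX
      have h0 : X ≠ Z1 := hX 0
      have h1 : X ≠ Z2 := hX 1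
      have h2 : X ≠ Z3 := hX 2
      have h3 : X ≠ A := hX 3
      have h4 : X ≠ B := hX 4
      have h5 : X ≠ C := hX 5
      refine ⟨?_, ?_, ?_⟩
      · by_contra hne
        rcases hSa X hXo hne with h | h | h
        · exact h0 h
        · exact h1 h
        · exact h3 h
      · by_contra hne
        rcases hSb X hXo hne with h | h | h
        · exact h0 h
        · exact h2 h
        · exact h4 h
      · by_contra hne
        rcases hSc X hXo hne with h | h | h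
        · exact h1 h
        · exact h2 h
        · exact h5 h
    v0 := ⟨rfl, hab1.symm, c1⟩
    v1 := ⟨rfl, b2, hac2.symm⟩
    v2 := ⟨a3, rfl, hbc3.symm⟩
    v3 := ⟨rfl, bA, cA⟩
    v4 := ⟨aB, rfl, cB⟩
    v5 := ⟨aC, bC, rfl⟩ }

/-- PIECE TRI -/
theorem abc_cfg {o : ι} {u a b c D : ι → ℤ} {g : ℕ} (h : Lat o u a b c D g) :
    (∃ y e, NatABC o a b c y e) ∨ (∃ y e, FanoABC o a b c y e) := by
  classical
  obtain ⟨Sa, va⟩ := tri_supp o a h.oa h.aa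
  obtain ⟨Sb, vb⟩ := tri_supp o b h.ob h.bb
  obtain ⟨Sc, vc⟩ := tri_supp o c h.oc h.cc
  obtain ⟨Z1, h1o, ha1, hab1, hab⟩ :=
    pair_inter o a b D h.oa h.ob h.aa h.bb h.ab h.Da h.Db h.Dpos
  obtain ⟨Z2, h2o, ha2, hac2, hac⟩ :=
    pair_inter o a c D h.oa h.oc h.aa h.cc h.ac h.Da h.Dc h.Dpos
  obtain ⟨Z3, h3o, hb3, hbc3, hbc⟩ :=
    pair_inter o b c D h.ob h.oc h.bb h.cc h.bc h.Db h.Dc h.Dpos
  have hb1 : b Z1 ≠ 0 := hab1 ▸ ha1
  have hc2 : c Z2 ≠ 0 := hac2 ▸ ha2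
  have hc3 : c Z3 ≠ 0 := hbc3 ▸ hb3
  by_cases e12 : Z1 = Z2
  · -- common point
    left
    subst e12
    have e13 : Z1 = Z3 := by
      by_contra hne
      rcases hbc Z1 h1o hne with h0 | h0
      · exact hb1 h0
      · exact hc2 h0
    subst e13
    exact tri_nat o a b c Sa Sb Sc va vb vc Z1 h1o ha1 hab1 hac2 hab hac hbc
  by_cases e13 : Z1 = Z3
  · left
    subst e13
    -- a Z1 = b Z1 = c Z1 all nonzero, so Z1 = Z2
    exfalso
    apply e12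
    by_contra hne
    rcases hac Z1 h1o hne with h0 | h0
    · exact ha1 h0
    · exact hc3 h0
  by_cases e23 : Z2 = Z3
  · exfalso
    subst e23
    apply e12
    by_contra hne
    rcases hab Z2 h2o (fun h => hne h.symm) with h0 | h0
    · exact ha2 h0
    · exact hb3 h0
  right
  exact tri_fano o a b c Sa Sb Sc va vb vc Z1 Z2 Z3 h1o h2o h3o e12 e13 e23 ha1 hab1 ha2 hac2
    hb3 hbc3 hab hac hbc

end Cfsg.Agent.Helper3.J1A
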