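import Mathlib
import Cfsg.Agent.Lib.Helper24.CharAlgebra
import Cfsg.Agent.Lib.Helper24.CharOrtho
import Cfsg.Agent.Lib.Helper24.CharLinear
import Cfsg.Agent.Lib.Helper24.CharHom
import Cfsg.Agent.Lib.Helper3.J1Defs

/-!
# S0448 piece E8 (helper6): restriction of a character of `H0 = Z2 × A5` to a Sylow 2-subgroup `E8`.
-/

set_option autoImplicit false
set_option linter.unusedSectionVars false
set_option linter.unusedVariables false

namespace Cfsg.Agent.Helper3.J1

open Cfsg Cfsg.Agent.Helper24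
open scoped ComplexConjugate

/-- the model of the elementary abelian group of order 8 -/
abbrev e8_E : Type := Multiplicative (ZMod 2) × Multiplicative (ZMod 2) × Multiplicative (ZMod 2)

/-- the embedding `E8 → H0` with image `⟨z0, u0, u0'⟩` -/
def e8_phi : e8_E →* H0 where
  toFun e := (e.1, (if e.2.1 = 1 then 1 else p2) * (if e.2.2 = 1 then 1 else p2'))
  map_one' := by decide +kernel
  map_mul' := by decide +kernel

/-- a nontrivial linear character of `E8`, with values in `ℤˣ` -/
def e8_sig : e8_E →* ℤˣ where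
  toFun e := if e.1 = 1 then 1 else -1
  map_one' := by decide +kernel
  map_mul' := by decide +kernel

theorem e8_order (e : e8_E) (he : e ≠ 1) : orderOf (e8_phi e) = 2 := by
  have h : ∀ e : e8_E, e ≠ 1 → (e8_phi e) ^ 2 = 1 ∧ e8_phi e ≠ 1 := by decide +kernel
  exact orderOf_eq_prime (h e he).1 (h e he).2

theorem e8_sum_sig : ∑ e : e8_E, ((e8_sig e : ℤˣ) : ℤ) = 0 := by decide +kernel

theorem e8_card : Nat.card e8_E = 8 := by
  rw [Nat.card_eq_fintype_card]; decide +kernel

theorem e8_sum {ψ : H0 → ℂ} (D T : ℤ) (hD : ψ 1 = (D : ℂ))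
    (hT : ∀ h : H0, orderOf h = 2 → ψ h = (T : ℂ)) (c : e8_E → ℂ) :
    ∑ e : e8_E, ψ (e8_phi e) * c e = (T : ℂ) * ∑ e : e8_E, c e + ((D : ℂ) - (T : ℂ)) * c 1 := by
  have h1 : ∀ e : e8_E, ψ (e8_phi e) = (T : ℂ) + (if e = 1 then ((D : ℂ) - (T : ℂ)) else 0) := by
    intro e
    by_cases he : e = 1
    · rw [if_pos he, he, map_one, hD]; ring
    · rw [if_neg he, add_zero]; exact hT _ (e8_order e he)
  simp only [h1, add_mul, Finset.sum_add_distrib, ← Finset.mul_sum, ite_mul, zero_mul,
    Finset.sum_ite_eq', Finset.mem_univ, if_true]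

/-- PIECE E8 -/
theorem vals_e8 {ψ : H0 → ℂ} (hψ : IsCharacter H0 ψ) (D T : ℤ) (hD : ψ 1 = (D : ℂ))
    (hT : ∀ h : H0, orderOf h = 2 → ψ h = (T : ℂ)) :
    ∃ n1 n2 : ℕ, D + 7 * T = 8 * n1 ∧ D - T = 8 * n2 := by
  let _ : Fintype (IrrCharacter e8_E) := irrFintype
  have hres : IsCharacter e8_E (ψ ∘ e8_phi) := isCharacter_comp e8_phi hψ
  -- the trivial character
  obtain ⟨n1, hn1⟩ := classInner_char_nat hres (isCharacter_one (G := e8_E))
  -- the nontrivial linear character
  let lam : e8_E →* ℂˣ := (Units.map (Int.castRingHom ℂ : ℤ →* ℂ)).comp e8_sig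
  obtain ⟨n2, hn2⟩ := classInner_char_nat hres
    (isCharacter_of_isIrrCharacter (isIrrCharacter_of_monoidHom lam))
  refine ⟨n1, n2, ?_, ?_⟩
  · unfold classInner at hn1
    rw [e8_card] at hn1
    have := e8_sum D T hD hT (fun _ => conj (1 : ℂ))
    simp only [Function.comp_apply] at hn1
    rw [this] at hn1
    simp only [map_one, Finset.sum_const, Finset.card_univ, nsmul_eq_mul, mul_one] at hn1
    have hc : (Fintype.card e8_E : ℂ) = 8 := by
      have : Fintype.card e8_E = 8 := by decide +kernel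
      rw [this]; norm_num
    rw [hc] at hn1
    push_cast at hn1
    rw [inv_mul_eq_iff_eq_mul₀ (by norm_num)] at hn1
    have h2 : ((D + 7 * T : ℤ) : ℂ) = ((8 * n1 : ℤ) : ℂ) := by
      push_cast
      linear_combination hn1
    exact_mod_cast h2
  · unfold classInner at hn2
    rw [e8_card] at hn2
    have := e8_sum D T hD hT (fun e => conj (((lam e : ℂˣ) : ℂ)))
    simp only [Function.comp_apply] at hn2
    rw [this] at hn2
    have hl : ∀ e : e8_E, conj (((lam e : ℂˣ) : ℂ)) = (((e8_sig e : ℤˣ) : ℤ) : ℂ) := by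
      intro e
      simp only [lam, MonoidHom.comp_apply, Units.coe_map, MonoidHom.coe_coe, eq_intCast,
        map_intCast]
    simp only [hl] at hn2
    rw [← Int.cast_sum, e8_sum_sig, map_one] at hn2
    push_cast at hn2
    rw [inv_mul_eq_iff_eq_mul₀ (by norm_num)] at hn2
    have h2 : ((D - T : ℤ) : ℂ) = ((8 * n2 : ℤ) : ℂ) := by
      push_cast
      linear_combination hn2
    exact_mod_cast h2

end Cfsg.Agent.Helper3.J1
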