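import Mathlib
import Cfsg.Agent.Lib.Helper24.CharComplete
import Cfsg.Agent.Lib.Helper24.CharLinear
import Cfsg.Agent.Lib.Helper24.CharHom
import Cfsg.Agent.Lib.Helper24.J1MONO
import Cfsg.Agent.Lib.Helper3.J1Defs

/-!
# S0448 piece H0K1, computations (helper6): `res_mono` for `K1 = Z2 × A4 ≤ H0` and the linear character `ε`.
-/

set_option autoImplicit false
set_option linter.unusedSectionVars false
set_option linter.unusedVariables false

namespace Cfsg.Agent.Helper3.J1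

open Cfsg Cfsg.Agent.Helper24
open scoped ComplexConjugate

/-- the subgroup `K1 = Z2 × A4` (`A4` = stabilizer of the point `4`) -/
def h0k1_K : Subgroup H0 where
  carrier := {h | (h.2 : Equiv.Perm (Fin 5)) 4 = 4}
  mul_mem' := by
    intro a b ha hb
    simp only [Set.mem_ofPred_eq] at *
    rw [Prod.snd_mul, Subgroup.coe_mul, Equiv.Perm.mul_apply, hb, ha]
  one_mem' := by
    simp only [Set.mem_ofPred_eq, Prod.snd_one, Subgroup.coe_one, Equiv.Perm.one_apply]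
  inv_mem' := by
    intro a ha
    simp only [Set.mem_ofPred_eq] at *
    rw [Prod.snd_inv, Subgroup.coe_inv, Equiv.Perm.inv_eq_iff_eq]; exact ha.symm

instance h0k1_dec : DecidablePred (· ∈ h0k1_K) := fun h =>
  inferInstanceAs (Decidable ((h.2 : Equiv.Perm (Fin 5)) 4 = 4))

/-- the sign character of the first factor, with values in `ℤˣ` -/
def h0k1_sig : Multiplicative (ZMod 2) →* ℤˣ where
  toFun i := if i = 1 then 1 else -1
  map_one' := by decide +kernel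
  map_mul' := by decide +kernel

/-- the linear character `ε (i, σ) = (-1)^i` with values in `ℤˣ` -/
def h0k1_eps : H0 →* ℤˣ := h0k1_sig.comp (MonoidHom.fst _ _)

/-- the class label: `0`: identity, `1`: involutions, `2`: class of `x0`, `3`: class of `w0`, `4`: class of `y0`,
`5`: class of `y0²`, `6`: class of `v0`, `7`: class of `v0³` -/
def h0k1_lab (h : H0) : Fin 8 :=
  if h = 1 then 0 else if h * h = 1 then 1 else if h * h * h = 1 then 2
  else if (h * h * h) * (h * h * h) = 1 then 3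
  else if h * h * h * h * h = 1 then (if ∃ c : H0, c * y0 * c⁻¹ = h then 4 else 5)
  else (if ∃ c : H0, c * v0 * c⁻¹ = h then 6 else 7)

theorem h0k1_lab2 : ∀ h : H0, h0k1_lab h = 2 → ∃ c : H0, c * x0 * c⁻¹ = h := by decide +kernel

theorem h0k1_lab3 : ∀ h : H0, h0k1_lab h = 3 → ∃ c : H0, c * w0 * c⁻¹ = h := by decide +kernel

theorem h0k1_lab4 : ∀ h : H0, h0k1_lab h = 4 → ∃ c : H0, c * y0 * c⁻¹ = h := by decide +kernel

theorem h0k1_lab5 : ∀ h : H0, h0k1_lab h = 5 → ∃ c : H0, c * y0 ^ 2 * c⁻¹ = h := by decide +kernel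

theorem h0k1_lab6 : ∀ h : H0, h0k1_lab h = 6 → ∃ c : H0, c * v0 * c⁻¹ = h := by decide +kernel

theorem h0k1_lab7 : ∀ h : H0, h0k1_lab h = 7 → ∃ c : H0, c * v0 ^ 3 * c⁻¹ = h := by decide +kernel

theorem h0k1_lab0 : ∀ h : H0, h0k1_lab h = 0 → h = 1 := by decide +kernel

theorem h0k1_lab1 : ∀ h : H0, h0k1_lab h = 1 → h ≠ 1 ∧ h ^ 2 = 1 := by decide +kernel

/-- the values of a class function of `H0` in terms of the class label -/
theorem h0k1_val {ψ : H0 → ℂ} (hψ : IsCharacter H0 ψ) (D T ξ U : ℤ) (a b c d : ℂ)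
    (hD : ψ 1 = (D : ℂ)) (hT : ∀ h : H0, orderOf h = 2 → ψ h = (T : ℂ)) (hX : ψ x0 = (ξ : ℂ))
    (hU : ψ w0 = (U : ℂ)) (ha : ψ y0 = a) (hb : ψ (y0 ^ 2) = b) (hc : ψ v0 = c)
    (hd : ψ (v0 ^ 3) = d) (h : H0) :
    ψ h = ![(D : ℂ), (T : ℂ), (ξ : ℂ), (U : ℂ), a, b, c, d] (h0k1_lab h) := by
  have hcf := isClassFunction_of_isCharacter hψ
  generalize hk : h0k1_lab h = k
  fin_cases k
  · rw [h0k1_lab0 h hk]; exact hD
  · obtain ⟨h1, h2⟩ := h0k1_lab1 h hk
    exact hT h (orderOf_eq_prime h2 h1)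
  · obtain ⟨c, rfl⟩ := h0k1_lab2 h hk
    rw [hcf]; exact hX
  · obtain ⟨c, rfl⟩ := h0k1_lab3 h hk
    rw [hcf]; exact hU
  · obtain ⟨c, rfl⟩ := h0k1_lab4 h hk
    rw [hcf]; exact ha
  · obtain ⟨c, rfl⟩ := h0k1_lab5 h hk
    rw [hcf]; exact hb
  · obtain ⟨c, rfl⟩ := h0k1_lab6 h hk
    rw [hcf]; exact hc
  · obtain ⟨c, rfl⟩ := h0k1_lab7 h hk
    rw [hcf]; exact hd

theorem h0k1_fiber {R : Type*} [CommRing R] (val : Fin 8 → R) (w : H0 → ℤ) :
    ∑ h : H0, val (h0k1_lab h) * (w h : R) =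
      ∑ k : Fin 8, val k *
        ((∑ h ∈ Finset.univ.filter (fun h => h0k1_lab h = k), w h : ℤ) : R) := by
  rw [← Finset.sum_fiberwise Finset.univ h0k1_lab]
  refine Finset.sum_congr rfl fun k _ => ?_
  rw [Int.cast_sum, Finset.mul_sum]
  refine Finset.sum_congr rfl fun h hh => ?_
  rw [(Finset.mem_filter.mp hh).2]

/-- the weight of `ε` -/
def h0k1_w1 (h : H0) : ℤ := ((h0k1_eps h : ℤˣ) : ℤ)

/-- the weight of `ε` restricted to `K1` -/
def h0k1_w2 (h : H0) : ℤ := if h ∈ h0k1_K then ((h0k1_eps h : ℤˣ) : ℤ) else 0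

theorem h0k1_c1 : ∀ k : Fin 8, ∑ h ∈ Finset.univ.filter (fun h => h0k1_lab h = k), h0k1_w1 h =
    ![1, -1, 20, -20, 12, 12, -12, -12] k := by decide +kernel

theorem h0k1_c2 : ∀ k : Fin 8, ∑ h ∈ Finset.univ.filter (fun h => h0k1_lab h = k), h0k1_w2 h =
    ![1, -1, 8, -8, 0, 0, 0, 0] k := by decide +kernel

theorem h0k1_cardH : Nat.card H0 = 120 := by
  rw [Nat.card_eq_fintype_card]; decide +kernel

theorem h0k1_cardK : Nat.card h0k1_K = 24 := by
  rw [Nat.card_eq_fintype_card]; decide +kernel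

end Cfsg.Agent.Helper3.J1
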