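import Mathlib
import Cfsg.Agent.Lib.Helper6.J1H0K1Core

/-!
# S0448 piece H0K1 (helper6): `res_mono` for `K1 = Z2 × A4 ≤ H0` and the linear character `ε`.
-/

set_option autoImplicit false
set_option linter.unusedSectionVars false
set_option linter.unusedVariables false

namespace Cfsg.Agent.Helper3.J1

open Cfsg Cfsg.Agent.Helper24
open scoped ComplexConjugate

/-- the sum of a class function against an integer weight -/
theorem h0k1_sum {ψ : H0 → ℂ} (hψ : IsCharacter H0 ψ) (D T ξ U : ℤ) (a b c d : ℂ)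
    (hD : ψ 1 = (D : ℂ)) (hT : ∀ h : H0, orderOf h = 2 → ψ h = (T : ℂ)) (hX : ψ x0 = (ξ : ℂ))
    (hU : ψ w0 = (U : ℂ)) (ha : ψ y0 = a) (hb : ψ (y0 ^ 2) = b) (hc : ψ v0 = c)
    (hd : ψ (v0 ^ 3) = d) (w : H0 → ℤ) (C : Fin 8 → ℤ)
    (hC : ∀ k : Fin 8, ∑ h ∈ Finset.univ.filter (fun h => h0k1_lab h = k), w h = C k) :
    ∑ h : H0, ψ h * (w h : ℂ) =
      (D : ℂ) * C 0 + T * C 1 + ξ * C 2 + U * C 3 + a * C 4 + b * C 5 + c * C 6 + d * C 7 := by
  rw [Finset.sum_congr rfl (fun h _ => by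
    rw [h0k1_val hψ D T ξ U a b c d hD hT hX hU ha hb hc hd h])]
  rw [h0k1_fiber]
  simp only [hC, Fin.sum_univ_eight]
  rfl

/-- PIECE H0K1 -/
theorem res_h0_k1 {ψ : H0 → ℂ} (hψ : IsCharacter H0 ψ) (D T ξ U s M : ℤ) (hD : ψ 1 = (D : ℂ))
    (hT : ∀ h : H0, orderOf h = 2 → ψ h = (T : ℂ)) (hX : ψ x0 = (ξ : ℂ)) (hU : ψ w0 = (U : ℂ))
    (hS : ψ y0 + ψ (y0 ^ 2) = (s : ℂ)) (hM : ψ v0 + ψ (v0 ^ 3) = (M : ℂ)) :
    ∃ m n : ℕ, D - T + 20 * ξ - 20 * U + 12 * s - 12 * M = 120 * m ∧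
      D - T + 8 * ξ - 8 * U = 24 * n ∧ m ≤ n := by
  let lam : H0 →* ℂˣ := (Units.map (Int.castRingHom ℂ : ℤ →* ℂ)).comp h0k1_eps
  obtain ⟨m, n, hm, hn, hmn⟩ := res_mono h0k1_K hψ lam
  have hl : ∀ h : H0, conj (((lam h : ℂˣ) : ℂ)) = ((h0k1_w1 h : ℤ) : ℂ) := by
    intro h
    simp only [lam, h0k1_w1, MonoidHom.comp_apply, Units.coe_map, MonoidHom.coe_coe, eq_intCast,
      map_intCast]
  refine ⟨m, n, ?_, ?_, hmn⟩
  · unfold classInner at hm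
    simp only [hl] at hm
    rw [h0k1_sum hψ D T ξ U _ _ _ _ hD hT hX hU rfl rfl rfl rfl h0k1_w1 _ h0k1_c1,
      h0k1_cardH] at hm
    simp only [Matrix.cons_val_zero, Matrix.cons_val_one, Matrix.cons_val] at hm
    push_cast at hm
    rw [inv_mul_eq_iff_eq_mul₀ (by norm_num)] at hm
    have h2 : ((D - T + 20 * ξ - 20 * U + 12 * s - 12 * M : ℤ) : ℂ) = ((120 * m : ℤ) : ℂ) := by
      push_cast
      rw [← hS, ← hM]
      linear_combination hm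
    exact_mod_cast h2
  · unfold classInner at hn
    simp only [hl] at hn
    rw [← Finset.sum_subtype (Finset.univ.filter (· ∈ h0k1_K)) (by simp)
      (fun h => ψ h * ((h0k1_w1 h : ℤ) : ℂ))] at hn
    rw [Finset.sum_filter] at hn
    have hw : ∀ h : H0, (if h ∈ h0k1_K then ψ h * ((h0k1_w1 h : ℤ) : ℂ) else 0) =
        ψ h * ((h0k1_w2 h : ℤ) : ℂ) := by
      intro h
      unfold h0k1_w2 h0k1_w1
      split_ifs <;> simp
    simp only [hw] at hn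
    rw [h0k1_sum hψ D T ξ U _ _ _ _ hD hT hX hU rfl rfl rfl rfl h0k1_w2 _ h0k1_c2,
      h0k1_cardK] at hn
    simp only [Matrix.cons_val_zero, Matrix.cons_val_one, Matrix.cons_val] at hn
    push_cast at hn
    rw [inv_mul_eq_iff_eq_mul₀ (by norm_num)] at hn
    have h2 : ((D - T + 8 * ξ - 8 * U : ℤ) : ℂ) = ((24 * n : ℤ) : ℂ) := by
      push_cast
      linear_combination hn
    exact_mod_cast h2

end Cfsg.Agent.Helper3.J1
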