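import Mathlib
import Cfsg.Agent.Lib.Lead.NC2Defs

/-!
# S3894 (n = 2), PIECE N2-EIG (helper6, for lead): an element of `GL₂(F)` has no eigenvector, or it
normalises (up to a scalar) a nonzero nilpotent matrix built from an eigenvector.
-/

set_option autoImplicit false

namespace Cfsg.Agent.Lead.NC2

open Matrix

variable {F : Type*} [Field F]

/-- PIECE N2-EIG. -/
theorem noEig_or_exists_nilp (g : GL (Fin 2) F) :
    NoEig g ∨ ∃ (N : Matrix (Fin 2) (Fin 2) F) (c : F), N ≠ 0 ∧ N * N = 0 ∧ c ≠ 0 ∧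
      (g : Matrix (Fin 2) (Fin 2) F) * N = c • (N * (g : Matrix (Fin 2) (Fin 2) F)) := by
  by_cases h : NoEig g
  · exact Or.inl h
  right
  unfold NoEig at h
  push Not at h
  obtain ⟨v, l, hv, hgv⟩ := h
  set M : Matrix (Fin 2) (Fin 2) F := (g : Matrix (Fin 2) (Fin 2) F) with hM
  have e0 : M 0 0 * v 0 + M 0 1 * v 1 = l * v 0 := by
    have := congrFun hgv 0
    simpa [Matrix.mulVec, dotProduct, Fin.sum_univ_two] using this
  have e1 : M 1 0 * v 0 + M 1 1 * v 1 = l * v 1 := by
    have := congrFun hgv 1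
    simpa [Matrix.mulVec, dotProduct, Fin.sum_univ_two] using this
  obtain ⟨N, hNdef⟩ : ∃ N : Matrix (Fin 2) (Fin 2) F,
      N = !![-(v 0 * v 1), v 0 * v 0; -(v 1 * v 1), v 0 * v 1] := ⟨_, rfl⟩
  have hN0 : N ≠ 0 := by
    intro hN
    have h01 : v 0 * v 0 = 0 := by
      have := congrFun (congrFun hN 0) 1
      simpa [hNdef] using this
    have h10 : v 1 * v 1 = 0 := by
      have := congrFun (congrFun hN 1) 0
      simpa [hNdef] using this
    apply hv
    funext i
    fin_cases i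
    · exact mul_self_eq_zero.mp h01
    · exact mul_self_eq_zero.mp h10
  have hNN : N * N = 0 := by
    rw [hNdef]
    ext i j
    fin_cases i <;> fin_cases j <;> simp [Matrix.mul_apply, Fin.sum_univ_two] <;> ring
  have hMeta : M = !![M 0 0, M 0 1; M 1 0, M 1 1] := Matrix.eta_fin_two M
  have hgN : M * N = l • N := by
    rw [hNdef, hMeta]
    ext i j
    fin_cases i <;> fin_cases j <;> simp [Matrix.mul_apply, Fin.sum_univ_two]
    · linear_combination (-(v 1)) * e0
    · linear_combination (v 0) * e0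
    · linear_combination (-(v 1)) * e1
    · linear_combination (v 0) * e1
  have hNg : N * M = (M 0 0 + M 1 1 - l) • N := by
    rw [hNdef, hMeta]
    ext i j
    fin_cases i <;> fin_cases j <;> simp [Matrix.mul_apply, Fin.sum_univ_two]
    · linear_combination (v 0) * e1
    · linear_combination (-(v 0)) * e0
    · linear_combination (v 1) * e1
    · linear_combination (-(v 1)) * e0
  have hinv1 : ((g⁻¹ : GL (Fin 2) F) : Matrix (Fin 2) (Fin 2) F) * M = 1 := by
    rw [hM, ← Units.val_mul, inv_mul_cancel, Units.val_one]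
  have hinv2 : M * ((g⁻¹ : GL (Fin 2) F) : Matrix (Fin 2) (Fin 2) F) = 1 := by
    rw [hM, ← Units.val_mul, mul_inv_cancel, Units.val_one]
  have hl : l ≠ 0 := by
    intro hl0
    rw [hl0, zero_smul] at hgN
    apply hN0
    calc N = (((g⁻¹ : GL (Fin 2) F) : Matrix (Fin 2) (Fin 2) F) * M) * N := by
          rw [hinv1, Matrix.one_mul]
      _ = 0 := by rw [Matrix.mul_assoc, hgN, Matrix.mul_zero]
  have hμ : M 0 0 + M 1 1 - l ≠ 0 := by
    intro hμ0
    rw [hμ0, zero_smul] at hNg
    apply hN0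
    calc N = N * (M * ((g⁻¹ : GL (Fin 2) F) : Matrix (Fin 2) (Fin 2) F)) := by
          rw [hinv2, Matrix.mul_one]
      _ = 0 := by rw [← Matrix.mul_assoc, hNg, Matrix.zero_mul]
  refine ⟨N, l * (M 0 0 + M 1 1 - l)⁻¹, hN0, hNN, mul_ne_zero hl (inv_ne_zero hμ), ?_⟩
  rw [hgN, hNg, smul_smul, mul_assoc, inv_mul_cancel₀ hμ, mul_one]

end Cfsg.Agent.Lead.NC2
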