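import Mathlib
import Cfsg.Agent.Lib.Helper20.A5QDefs
import Cfsg.Agent.Lib.Helper6.A5QHYPERCore
import Cfsg.Agent.Lib.Helper15.A5QFREE

/-!
# S3106 piece HYPER (helper6): `no_hyper`.
-/

set_option autoImplicit false
set_option linter.unusedSectionVars false
set_option linter.unusedVariables false

namespace Cfsg.Agent.Helper20.A5Q

open Cfsg.Agent.Helper22.SecRank

variable {Y : Type*} [Group Y] [Finite Y] {P : Subgroup Y}

/-- **A5Q-HYPER.** An element of order `5` normalizes no maximal subgroup of `P`. -/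
theorem no_hyper (h : A5S Y P) (f : Y) (hf : orderOf f = 5) (P₀ : Subgroup Y)
    (h1 : Sq P ≤ P₀) (h2 : P₀ ≤ P) (h3 : Nat.card P = 2 * Nat.card P₀)
    (h4 : ∀ x ∈ P₀, f * x * f⁻¹ ∈ P₀) : False :=
  no_hyper_core P (Sq P) P₀ h.normal h.pgroup f hf (free_V h f hf) h1 h2 h3 h4

end Cfsg.Agent.Helper20.A5Q
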