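import Mathlib

/-!
# S2262 piece AO-S3D (helper6): every nonzero scalar is an eigenvalue of a `3 × 3` matrix.
-/

set_option autoImplicit false

namespace Cfsg.Agent.Helper17.AO

open Polynomial Matrix

section mat
variable {F : Type*} [Field F]

/-- the product of `X - a` over the units of `F` divides every polynomial vanishing on the units -/
theorem ao_s3d_prod_dvd [Fintype F] [DecidableEq F] (f : F[X]) (hf : ∀ a : Fˣ, f.IsRoot (a : F)) :
    (∏ a : Fˣ, (X - C (a : F))) ∣ f := by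
  apply Finset.prod_dvd_of_coprime
  · intro a _ b _ hab
    exact pairwise_coprime_X_sub_C (s := fun a : Fˣ => (a : F)) Units.val_injective hab
  · intro a _
    exact dvd_iff_isRoot.mpr (hf a)

theorem ao_s3d_dvd_pow_sub_one [Fintype F] [DecidableEq F] :
    (∏ a : Fˣ, (X - C (a : F))) ∣ (X ^ (Fintype.card F - 1) - 1 : F[X]) := by
  apply ao_s3d_prod_dvd
  intro a
  simp [IsRoot, FiniteField.pow_card_sub_one_eq_one (a : F) a.ne_zero]

theorem small_field_case [Fintype F] (A : GL (Fin 3) F) (hq : Fintype.card F ≠ 2)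
    (h : ∀ t : F, t ≠ 0 → (1 + t • (A : Matrix (Fin 3) (Fin 3) F)).det = 0) :
    ∃ N : ℕ, 0 < N ∧ A ^ N = 1 ∧ (Fintype.card F - 1) * (2 * N) ≤ Fintype.card F ^ 3 - 1 := by
  classical
  set M : Matrix (Fin 3) (Fin 3) F := (A : Matrix (Fin 3) (Fin 3) F) with hM
  set χ := M.charpoly with hχ
  set q := Fintype.card F with hqdef
  have hχmonic : χ.Monic := Matrix.charpoly_monic M
  have hχdeg : χ.natDegree = 3 := by
    rw [hχ, Matrix.charpoly_natDegree_eq_dim]; rfl
  -- every unit is a root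
  have hroot : ∀ a : Fˣ, χ.IsRoot (a : F) := by
    intro a
    rw [IsRoot, hχ, Matrix.eval_charpoly]
    have h1 := h (-(a : F)⁻¹) (neg_ne_zero.mpr (inv_ne_zero a.ne_zero))
    have h2 : (Matrix.scalar (Fin 3)) (a : F) - M = (a : F) • (1 + (-(a : F)⁻¹) • M) := by
      rw [smul_add, smul_smul, mul_neg, mul_inv_cancel₀ a.ne_zero, neg_one_smul]
      rw [← sub_eq_add_neg]
      congr 1
      ext i j
      simp [Matrix.scalar, Matrix.diagonal, Matrix.one_apply]
    rw [h2, Matrix.det_smul, h1, mul_zero]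
  set P : F[X] := ∏ a : Fˣ, (X - C (a : F)) with hP
  have hPχ : P ∣ χ := ao_s3d_prod_dvd χ hroot
  have hPU : P ∣ (X ^ (q - 1) - 1 : F[X]) := ao_s3d_dvd_pow_sub_one
  have hPmonic : P.Monic := monic_prod_of_monic _ _ (fun a _ => monic_X_sub_C _)
  have hPdeg : P.natDegree = q - 1 := by
    rw [hP, natDegree_finsetProd_X_sub_C_eq_card, Finset.card_univ, Fintype.card_units]
  have hq1 : 1 < q := Fintype.one_lt_card
  have hle : q - 1 ≤ 3 := by
    rw [← hPdeg, ← hχdeg]
    exact natDegree_le_of_dvd hPχ hχmonic.ne_zero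
  -- Cayley-Hamilton consequence
  have hfin : ∀ N : ℕ, χ ∣ (X ^ N - 1 : F[X]) → A ^ N = 1 := by
    intro N hdvd
    obtain ⟨g, hg⟩ := hdvd
    have h1 : aeval M (X ^ N - 1 : F[X]) = 0 := by
      rw [hg, map_mul, hχ, Matrix.aeval_self_charpoly, zero_mul]
    simp only [map_sub, map_pow, aeval_X, map_one] at h1
    apply Units.ext
    rw [Units.val_pow_eq_pow_val]
    exact sub_eq_zero.mp h1
  have hcases : q = 3 ∨ q = 4 := by omega
  rcases hcases with h3 | h4
  · -- q = 3
    refine ⟨6, by norm_num, ?_, by rw [h3]; norm_num⟩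
    apply hfin
    obtain ⟨L, hL⟩ := hPχ
    have hLmonic : L.Monic := hPmonic.of_mul_monic_left (hL ▸ hχmonic)
    have hLdeg : L.natDegree = 1 := by
      have := hPmonic.natDegree_mul hLmonic
      rw [← hL, hχdeg, hPdeg, h3] at this
      omega
    have hLeq := hLmonic.eq_X_add_C hLdeg
    set b := L.coeff 0 with hb
    -- b ≠ 0
    have hdet : M.det ≠ 0 := by
      have := (Matrix.isUnit_iff_isUnit_det M).mp A.isUnit
      exact this.ne_zero
    have hχ0 : χ.coeff 0 ≠ 0 := by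
      intro h0
      apply hdet
      rw [Matrix.det_eq_sign_charpoly_coeff, ← hχ, h0, mul_zero]
    have hb0 : b ≠ 0 := by
      intro hb0
      apply hχ0
      rw [hL, mul_coeff_zero, ← hb, hb0, mul_zero]
    -- L ∣ P
    have hLP : L ∣ P := by
      have hmem : (Units.mk0 (-b) (neg_ne_zero.mpr hb0)) ∈ (Finset.univ : Finset Fˣ) :=
        Finset.mem_univ _
      have h7 := Finset.dvd_prod_of_mem (fun a : Fˣ => (X - C (a : F))) hmem
      have h8 : (X - C ((Units.mk0 (-b) (neg_ne_zero.mpr hb0) : Fˣ) : F) : F[X]) = X + C b := by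
        rw [Units.val_mk0, C_neg, sub_neg_eq_add]
      rw [hLeq, ← h8]
      exact h7
    -- χ ∣ P * P ∣ (X^2-1)^2 ∣ X^6 - 1
    have h1 : χ ∣ P * P := by rw [hL]; exact mul_dvd_mul_left P hLP
    rw [h3] at hPU
    have h2 : P * P ∣ (X ^ (3 - 1) - 1 : F[X]) * (X ^ (3 - 1) - 1) := mul_dvd_mul hPU hPU
    have hthree : (3 : F[X]) = 0 := by
      have : ((Fintype.card F : ℕ) : F) = 0 := Nat.cast_card_eq_zero F
      rw [← hqdef, h3] at this
      have h4 : (3 : F[X]) = C ((3 : ℕ) : F) := by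
        rw [map_natCast]; rfl
      rw [h4, this, C_0]
    have h5 : (X ^ 6 - 1 : F[X]) = (X ^ (3 - 1) - 1) * (X ^ (3 - 1) - 1) * (X ^ 2 - 1) := by
      have : (X ^ (3 - 1) - 1 : F[X]) * (X ^ (3 - 1) - 1) * (X ^ 2 - 1)
          = X ^ 6 - 1 - 3 * (X ^ 4 - X ^ 2) := by ring
      rw [this, hthree, zero_mul, sub_zero]
    rw [h5]
    exact (h1.trans h2).mul_right _
  · -- q = 4
    refine ⟨3, by norm_num, ?_, by rw [h4]; norm_num⟩
    apply hfin
    have hχP : χ = P := by
      apply eq_of_monic_of_dvd_of_natDegree_le hPmonic hχmonic hPχ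
      rw [hχdeg, hPdeg, h4]
    rw [hχP]
    rw [h4] at hPU
    exact hPU

end mat

end Cfsg.Agent.Helper17.AO
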