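import Mathlib

/-!
# BG Appendix C, assembly (helper6): field arithmetic

For a finite field `F` with `p ^ q` elements and `n = (p ^ q - 1) / (p - 1)` coprime to `p - 1`:
polar decomposition, rational points of the norm-one group, no arithmetic progression of
length `p` among `n`-th roots of unity when `q < p`.
-/

set_option autoImplicit false

namespace Cfsg.Agent.Helper6.AppCAsm

open Polynomial

section field

variable {F : Type*} [Field F] [Fintype F] {p q : ℕ}

theorem cast_p_eq_zero (hF : Fintype.card F = p ^ q) (hq : q ≠ 0) : (p : F) = 0 := by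
  have h := Nat.cast_card_eq_zero F
  rw [hF, Nat.cast_pow] at h
  exact pow_eq_zero_iff hq |>.mp h

theorem charP_of_card (hp : p.Prime) (hF : Fintype.card F = p ^ q) (hq : q ≠ 0) : CharP F p :=
  (CharP.charP_iff_prime_eq_zero hp).mpr (cast_p_eq_zero hF hq)

/-- the number `n = (p^q - 1)/(p - 1)` -/
def nU (p q : ℕ) : ℕ := (p ^ q - 1) / (p - 1)

theorem nU_eq_sum (hp : p.Prime) : nU p q = ∑ k ∈ Finset.range q, p ^ k :=
  (Nat.geomSum_eq hp.two_le q).symm

theorem nU_mul (hp : p.Prime) : nU p q * (p - 1) = p ^ q - 1 := by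
  unfold nU
  apply Nat.div_mul_cancel
  exact Nat.sub_one_dvd_pow_sub_one p q

theorem nU_pos (hp : p.Prime) (hq : q ≠ 0) : 0 < nU p q := by
  rw [nU_eq_sum hp]
  have : 0 ∈ Finset.range q := Finset.mem_range.mpr (Nat.pos_of_ne_zero hq)
  calc 0 < p ^ 0 := by simp
    _ ≤ ∑ k ∈ Finset.range q, p ^ k := Finset.single_le_sum (f := fun k => p ^ k) (by intros; positivity) this

theorem one_lt_nU (hp : p.Prime) (hq : 2 ≤ q) : 1 < nU p q := by
  rw [nU_eq_sum hp]
  obtain ⟨r, rfl⟩ : ∃ r, q = r + 2 := ⟨q - 2, by omega⟩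
  rw [Finset.sum_range_succ', Finset.sum_range_succ']
  have := hp.two_le
  simp only [pow_zero, zero_add, pow_one]
  omega

theorem nU_coprime_p (hp : p.Prime) (hq : q ≠ 0) : (nU p q).Coprime p := by
  have h := nU_mul (q := q) hp
  have h1 : 1 ≤ p ^ q := Nat.one_le_pow _ _ hp.pos
  have h2 : nU p q * (p - 1) + 1 = p ^ q := by omega
  rw [Nat.coprime_comm, Nat.Prime.coprime_iff_not_dvd hp]
  intro hd
  have h3 : p ∣ p ^ q := dvd_pow_self p hq
  rw [← h2] at h3
  have h4 : p ∣ 1 := (Nat.dvd_add_right (Dvd.dvd.mul_right hd _)).mp h3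
  exact hp.one_lt.ne' (Nat.dvd_one.mp h4)

theorem pow_card_sub_one' (hp : p.Prime) (hF : Fintype.card F = p ^ q) (γ : F) (hγ : γ ≠ 0) :
    γ ^ (nU p q * (p - 1)) = 1 := by
  rw [nU_mul hp, ← hF]
  exact FiniteField.pow_card_sub_one_eq_one γ hγ

/-- natural numbers are fixed by Frobenius -/
theorem natCast_pow_p [Fact p.Prime] [CharP F p] (m : ℕ) : (m : F) ^ p = m := by
  induction m with
  | zero => simp [(Fact.out : p.Prime).ne_zero]
  | succ m ih => rw [Nat.cast_succ, add_pow_char, ih, one_pow]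

theorem natCast_pow_p_pow [Fact p.Prime] [CharP F p] (m i : ℕ) : (m : F) ^ p ^ i = m := by
  induction i with
  | zero => simp
  | succ i ih => rw [pow_succ, pow_mul, ih, natCast_pow_p]

/-- elements fixed by Frobenius are natural numbers -/
theorem exists_nat_of_pow_eq [Fact p.Prime] [CharP F p] (c : F) (hc : c ^ p = c) :
    ∃ m : ℕ, c = m := by
  classical
  have hp := (Fact.out : p.Prime)
  set P : F[X] := X ^ p - X with hPdef
  have hP : P ≠ 0 := FiniteField.X_pow_card_sub_X_ne_zero F hp.one_lt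
  have hdeg : P.natDegree = p := FiniteField.X_pow_card_sub_X_natDegree_eq F hp.one_lt
  let S : Finset F := (Finset.range p).image (fun m : ℕ => (m : F))
  have hS : S.card = p := by
    rw [Finset.card_image_of_injOn, Finset.card_range]
    intro a ha b hb hab
    exact CharP.natCast_injOn_Iio F p (by simpa using ha) (by simpa using hb) hab
  have hsub : S ⊆ P.roots.toFinset := by
    intro z hz
    obtain ⟨m, -, rfl⟩ := Finset.mem_image.mp hz
    rw [Multiset.mem_toFinset, mem_roots hP]
    simp [P, natCast_pow_p]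
  have hle : P.roots.toFinset.card ≤ S.card := by
    rw [hS]
    calc _ ≤ Multiset.card P.roots := Multiset.toFinset_card_le _
      _ ≤ P.natDegree := card_roots' _
      _ = p := hdeg
  have heq : S = P.roots.toFinset := Finset.eq_of_subset_of_card_le hsub hle
  have hc' : c ∈ P.roots.toFinset := by
    rw [Multiset.mem_toFinset, mem_roots hP]
    simp [P, hc]
  rw [← heq] at hc'
  obtain ⟨m, -, hm⟩ := Finset.mem_image.mp hc'
  exact ⟨m, hm.symm⟩

/-- polar decomposition -/
theorem polar_field [Fact p.Prime] (hF : Fintype.card F = p ^ q) (hq : q ≠ 0)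
    (hA : Nat.Coprime (nU p q) (p - 1)) (γ : F) (hγ : γ ≠ 0) :
    ∃ m : ℕ, ¬ p ∣ m ∧ ∃ v : F, v ^ nU p q = 1 ∧ γ = (m : F) * v := by
  have hp := (Fact.out : p.Prime)
  have : CharP F p := charP_of_card hp hF hq
  have hcard := pow_card_sub_one' hp hF γ hγ
  have hbez : ((nU p q : ℤ) * Nat.gcdA (nU p q) (p - 1) + ((p - 1 : ℕ) : ℤ) * Nat.gcdB (nU p q) (p - 1)) = 1 := by
    have := Nat.gcd_eq_gcd_ab (nU p q) (p - 1)
    rw [hA] at this
    simpa using this.symm
  set A := Nat.gcdA (nU p q) (p - 1)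
  set B := Nat.gcdB (nU p q) (p - 1)
  set c : F := γ ^ ((nU p q : ℤ) * A) with hc
  set v : F := γ ^ (((p - 1 : ℕ) : ℤ) * B) with hv
  have hcv : γ = c * v := by
    rw [hc, hv, ← zpow_add₀ hγ, hbez, zpow_one]
  have hc1 : c ^ (p - 1) = 1 := by
    rw [hc, ← zpow_natCast, ← zpow_mul, mul_comm, ← mul_assoc, mul_comm (((p - 1 : ℕ)) : ℤ), zpow_mul,
      ← Nat.cast_mul, zpow_natCast, hcard, one_zpow]
  have hv1 : v ^ nU p q = 1 := by
    rw [hv, ← zpow_natCast, ← zpow_mul, mul_comm, ← mul_assoc, zpow_mul,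
      ← Nat.cast_mul, zpow_natCast, hcard, one_zpow]
  have hc0 : c ≠ 0 := zpow_ne_zero _ hγ
  have hcp : c ^ p = c := by
    have : p = (p - 1) + 1 := by have := hp.one_lt; omega
    rw [this, pow_succ, hc1, one_mul]
  obtain ⟨m, hm⟩ := exists_nat_of_pow_eq c hcp
  refine ⟨m, ?_, v, hv1, by rw [← hm]; exact hcv⟩
  intro hd
  apply hc0
  rw [hm]
  exact (CharP.cast_eq_zero_iff F p m).mpr hd

/-- rational `n`-th roots of unity are trivial -/
theorem rat_field [Fact p.Prime] (hF : Fintype.card F = p ^ q) (hq : q ≠ 0)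
    (hA : Nat.Coprime (nU p q) (p - 1)) (c : F) (hc : c ^ nU p q = 1) (m : ℕ) (hm : c = m) :
    c = 1 := by
  have hp := (Fact.out : p.Prime)
  have : CharP F p := charP_of_card hp hF hq
  have hc0 : c ≠ 0 := by
    intro h0
    rw [h0, zero_pow (nU_pos hp hq).ne'] at hc
    exact zero_ne_one hc
  have hcp : c ^ p = c := by rw [hm, natCast_pow_p]
  have hc1 : c ^ (p - 1) = 1 := by
    have : p = (p - 1) + 1 := by have := hp.one_lt; omega
    rw [this, pow_succ] at hcp
    have h2 : c ^ (p - 1) * c = 1 * c := by rw [one_mul]; exact hcp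
    exact mul_right_cancel₀ hc0 h2
  have := (pow_gcd_eq_one (a := c) (m := nU p q) (n := p - 1)).mpr ⟨hc, hc1⟩
  rw [Nat.Coprime] at hA
  rwa [hA, pow_one] at this

/-- no arithmetic progression of length `p` among the `n`-th roots of unity when `q < p` -/
theorem noAP_field [Fact p.Prime] (hF : Fintype.card F = p ^ q) (hq : q ≠ 0) (hqp : q < p)
    (β δ : F) (h : ∀ j : ℕ, (β + (j : F) * δ) ^ nU p q = 1) : δ = 0 := by
  classical
  have hp := (Fact.out : p.Prime)
  have : CharP F p := charP_of_card hp hF hq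
  set R : F[X] := (∏ i ∈ Finset.range q, (C (β ^ p ^ i) + C (δ ^ p ^ i) * X)) - 1 with hR
  have hdegf : ∀ i ∈ Finset.range q, (C (β ^ p ^ i) + C (δ ^ p ^ i) * X : F[X]).natDegree ≤ 1 := by
    intro i _
    refine (natDegree_add_le _ _).trans ?_
    rw [max_le_iff]
    constructor
    · simp
    · exact (natDegree_C_mul_le _ _).trans (by simp)
  have hdeg : R.natDegree ≤ q := by
    refine (natDegree_sub_le _ _).trans ?_
    rw [max_le_iff]
    refine ⟨?_, by simp⟩
    refine (natDegree_prod_le _ _).trans ?_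
    calc ∑ i ∈ Finset.range q, (C (β ^ p ^ i) + C (δ ^ p ^ i) * X : F[X]).natDegree
        ≤ ∑ i ∈ Finset.range q, 1 := Finset.sum_le_sum hdegf
      _ = q := by simp
  have heval : ∀ j : ℕ, R.eval (j : F) = 0 := by
    intro j
    rw [hR, eval_sub, eval_prod, eval_one]
    have : ∀ i ∈ Finset.range q, (C (β ^ p ^ i) + C (δ ^ p ^ i) * X : F[X]).eval (j : F)
        = (β + (j : F) * δ) ^ p ^ i := by
      intro i _
      rw [eval_add, eval_C, eval_mul, eval_C, eval_X, add_pow_char_pow, mul_pow, natCast_pow_p_pow,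
        mul_comm]
    rw [Finset.prod_congr rfl this, Finset.prod_pow_eq_pow_sum, ← nU_eq_sum hp, h j, sub_self]
  let S : Finset F := (Finset.range p).image (fun m : ℕ => (m : F))
  have hS : S.card = p := by
    rw [Finset.card_image_of_injOn, Finset.card_range]
    intro a ha b hb hab
    exact CharP.natCast_injOn_Iio F p (by simpa using ha) (by simpa using hb) hab
  have hR0 : R = 0 := by
    apply eq_zero_of_natDegree_lt_card_of_eval_eq_zero' R S
    · intro z hz
      obtain ⟨m, -, rfl⟩ := Finset.mem_image.mp hz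
      exact heval m
    · rw [hS]; omega
  have hcoeff : R.coeff q = ∏ i ∈ Finset.range q, δ ^ p ^ i := by
    rw [hR, coeff_sub]
    have h1 := coeff_prod_of_natDegree_le (s := Finset.range q)
      (fun i => (C (β ^ p ^ i) + C (δ ^ p ^ i) * X : F[X])) 1 hdegf
    rw [Finset.card_range, mul_one] at h1
    rw [h1, coeff_one, if_neg hq, sub_zero]
    apply Finset.prod_congr rfl
    intro i _
    rw [coeff_add, coeff_C_succ, coeff_C_mul, coeff_X_one, zero_add, mul_one]
  rw [hR0, coeff_zero, Finset.prod_pow_eq_pow_sum, ← nU_eq_sum hp] at hcoeff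
  exact pow_eq_zero_iff (nU_pos hp hq).ne' |>.mp hcoeff.symm

/-- there are at most `n` `n`-th roots of unity: an injective family of `n` of them is everything -/
theorem surj_of_card {ι : Type*} [Fintype ι] (n : ℕ) (hn : 0 < n) (g : ι → F)
    (hg : Function.Injective g) (hcard : Fintype.card ι = n) (hroot : ∀ i, g i ^ n = 1)
    (γ : F) (hγ : γ ^ n = 1) : ∃ i, g i = γ := by
  classical
  have h1 : (Finset.univ.image g) ⊆ nthRootsFinset n (1 : F) := by
    intro z hz
    obtain ⟨i, -, rfl⟩ := Finset.mem_image.mp hz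
    rw [mem_nthRootsFinset hn]
    exact hroot i
  have h2 : (nthRootsFinset n (1 : F)).card ≤ (Finset.univ.image g).card := by
    rw [Finset.card_image_of_injective _ hg, Finset.card_univ, hcard]
    exact (Multiset.toFinset_card_le _).trans (card_nthRoots n 1)
  have h3 := Finset.eq_of_subset_of_card_le h1 h2
  have h4 : γ ∈ nthRootsFinset n (1 : F) := by rw [mem_nthRootsFinset hn]; exact hγ
  rw [← h3] at h4
  obtain ⟨i, -, hi⟩ := Finset.mem_image.mp h4
  exact ⟨i, hi⟩

end field

end Cfsg.Agent.Helper6.AppCAsm
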