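import Mathlib
import Cfsg.Agent.Lib.Helper6.AppCAsmA

/-!
# BG Appendix C, assembly (helper6): the group-theoretic part

`Hyp G F p q` bundles the hypotheses of the frozen statement S1472 together with `q < p`.
We derive all the fields of helper25's `Setup`.
-/

set_option autoImplicit false

namespace Cfsg.Agent.Helper6.AppCAsm

universe u v

/-- the hypotheses of S1472 together with `q < p` -/
structure Hyp (G : Type u) [Group G] (F : Type v) [Field F] [Fintype F] (p q : ℕ) where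
  P : Subgroup G
  U : Subgroup G
  Q : Subgroup G
  f : G → F
  ψ : G → F
  y : G
  hp : p.Prime
  hq : q.Prime
  hqp : q < p
  hA : Nat.Coprime (nU p q) (p - 1)
  hF : Fintype.card F = p ^ q
  hf : Set.BijOn f (P : Set G) Set.univ
  hfadd : ∀ x ∈ P, ∀ z ∈ P, f (x * z) = f x + f z
  hUP : U ≤ Subgroup.normalizer (P : Set G)
  hψ : ∀ u ∈ U, ψ u ≠ 0 ∧ ∀ x ∈ P, f (u * x * u⁻¹) = ψ u * f x
  hψmul : ∀ u ∈ U, ∀ v ∈ U, ψ (u * v) = ψ u * ψ v
  hψinj : Set.InjOn ψ (U : Set G)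
  hUcard : Nat.card U * (p - 1) = p ^ q - 1
  hQ : IsMulCommutative Q
  hQp : (Nat.card Q).Coprime p
  hP0Q : ∀ x ∈ P, f x ^ p = f x → x ∈ Subgroup.normalizer (Q : Set G)
  hy : y ∈ Q
  hP0U : ∀ x ∈ P, f x ^ p = f x → y * x * y⁻¹ ∈ Subgroup.normalizer (U : Set G)

namespace Hyp

variable {G : Type u} [Group G] {F : Type v} [Field F] [Fintype F] {p q : ℕ}
variable (h : Hyp G F p q)
include h

theorem hq0 : q ≠ 0 := h.hq.ne_zero

theorem cast_p : (p : F) = 0 := cast_p_eq_zero h.hF h.hq0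

/-- the parametrisation of `P` -/
noncomputable def x (a : F) : G := Function.invFunOn h.f (h.P : Set G) a

theorem exists_pre (a : F) : ∃ z ∈ (h.P : Set G), h.f z = a := by
  obtain ⟨z, hz, hza⟩ := h.hf.surjOn (Set.mem_univ a)
  exact ⟨z, hz, hza⟩

theorem x_mem (a : F) : h.x a ∈ h.P := Function.invFunOn_mem (h.exists_pre a)

theorem f_x (a : F) : h.f (h.x a) = a := Function.invFunOn_eq (h.exists_pre a)

theorem x_f {z : G} (hz : z ∈ h.P) : h.x (h.f z) = z :=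
  h.hf.injOn (h.x_mem _) hz (h.f_x _)

theorem x_add (a b : F) : h.x (a + b) = h.x a * h.x b := by
  apply h.hf.injOn (h.x_mem _) (h.P.mul_mem (h.x_mem a) (h.x_mem b))
  rw [h.f_x, h.hfadd _ (h.x_mem a) _ (h.x_mem b), h.f_x, h.f_x]

theorem x_inj : Function.Injective h.x := by
  intro a b hab
  rw [← h.f_x a, ← h.f_x b, hab]

theorem x_zero : h.x 0 = 1 := by
  have := h.x_add 0 0
  rw [add_zero] at this
  exact (mul_eq_left.mp this.symm)

theorem x_neg (a : F) : h.x (-a) = (h.x a)⁻¹ := by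
  rw [eq_inv_iff_mul_eq_one, ← h.x_add, neg_add_cancel, h.x_zero]

theorem x_sub (a b : F) : h.x (a - b) = h.x a * (h.x b)⁻¹ := by
  rw [sub_eq_add_neg, h.x_add, h.x_neg]

theorem x_nat_mul (n : ℕ) (a : F) : h.x ((n : F) * a) = h.x a ^ n := by
  induction n with
  | zero => simp [h.x_zero]
  | succ n ih => rw [Nat.cast_succ, add_mul, one_mul, h.x_add, ih, pow_succ]

theorem x_pow_p (a : F) : h.x a ^ p = 1 := by
  rw [← h.x_nat_mul, h.cast_p, zero_mul, h.x_zero]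

theorem pow_p_of_mem_P {z : G} (hz : z ∈ h.P) : z ^ p = 1 := by
  rw [← h.x_f hz, h.x_pow_p]

theorem x_eq_one_iff (a : F) : h.x a = 1 ↔ a = 0 := by
  rw [← h.x_zero]
  exact h.x_inj.eq_iff

theorem conj_mem_P {u : G} (hu : u ∈ h.U) {z : G} (hz : z ∈ h.P) : u * z * u⁻¹ ∈ h.P :=
  (Subgroup.mem_normalizer_iff.mp (h.hUP hu) z).mp hz

theorem conj (u : G) (hu : u ∈ h.U) (a : F) : u * h.x a * u⁻¹ = h.x (h.ψ u * a) := by
  have h1 := h.conj_mem_P hu (h.x_mem a)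
  rw [← h.x_f h1, (h.hψ u hu).2 _ (h.x_mem a), h.f_x]

theorem ψ_ne (u : G) (hu : u ∈ h.U) : h.ψ u ≠ 0 := (h.hψ u hu).1

theorem ψ_one : h.ψ 1 = 1 := by
  have h1 := h.hψmul 1 h.U.one_mem 1 h.U.one_mem
  rw [mul_one] at h1
  have h0 := h.ψ_ne 1 h.U.one_mem
  exact (mul_eq_left₀ h0).mp h1.symm

theorem ψ_pow (u : G) (hu : u ∈ h.U) (k : ℕ) : h.ψ (u ^ k) = h.ψ u ^ k := by
  induction k with
  | zero => simp [h.ψ_one]
  | succ k ih => rw [pow_succ, h.hψmul _ (h.U.pow_mem hu k) _ hu, ih, pow_succ]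

theorem ψ_inj (u : G) (hu : u ∈ h.U) (w : G) (hw : w ∈ h.U) (huw : h.ψ u = h.ψ w) : u = w :=
  h.hψinj hu hw huw

theorem card_U : Nat.card h.U = nU p q := by
  have h1 := h.hUcard
  rw [← nU_mul h.hp] at h1
  have : 0 < p - 1 := by have := h.hp.one_lt; omega
  exact Nat.eq_of_mul_eq_mul_right this h1

theorem pow_nU_of_mem_U {u : G} (hu : u ∈ h.U) : u ^ nU p q = 1 := by
  rw [← h.card_U]
  have := pow_card_eq_one' (G := h.U) (x := ⟨u, hu⟩)
  exact congrArg Subtype.val this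

theorem ψ_pow_nU (u : G) (hu : u ∈ h.U) : h.ψ u ^ nU p q = 1 := by
  rw [← h.ψ_pow u hu, h.pow_nU_of_mem_U hu, h.ψ_one]

/-- `P ∩ U = 1` -/
theorem P_inf_U {z : G} (hzP : z ∈ h.P) (hzU : z ∈ h.U) : z = 1 := by
  have h1 := h.pow_p_of_mem_P hzP
  have h2 := h.pow_nU_of_mem_U hzU
  have h3 := (pow_gcd_eq_one (a := z) (m := nU p q) (n := p)).mpr ⟨h2, h1⟩
  have h4 : (nU p q).gcd p = 1 := nU_coprime_p h.hp h.hq0
  rwa [h4, pow_one] at h3

/-- every `n`-th root of unity is a value of `ψ` on `U` -/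
theorem ψ_surj [Finite G] (γ : F) (hγ : γ ^ nU p q = 1) : ∃ u ∈ h.U, h.ψ u = γ := by
  classical
  haveI : Fintype h.U := Fintype.ofFinite _
  obtain ⟨i, hi⟩ := surj_of_card (ι := h.U) (nU p q) (nU_pos h.hp h.hq0) (fun u => h.ψ u.1)
    (fun a b hab => Subtype.ext (h.ψ_inj _ a.2 _ b.2 hab))
    (by rw [← Nat.card_eq_fintype_card, h.card_U]) (fun u => h.ψ_pow_nU _ u.2) γ hγ
  exact ⟨i.1, i.2, hi⟩

theorem polar [Finite G] (γ : F) (hγ : γ ≠ 0) :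
    ∃ n : ℕ, ¬ p ∣ n ∧ ∃ u ∈ h.U, γ = (n : F) * h.ψ u := by
  have : Fact p.Prime := ⟨h.hp⟩
  obtain ⟨m, hm, v, hv, hγv⟩ := polar_field h.hF h.hq0 h.hA γ hγ
  obtain ⟨u, hu, huv⟩ := h.ψ_surj v hv
  exact ⟨m, hm, u, hu, by rw [huv]; exact hγv⟩

theorem rat (u : G) (hu : u ∈ h.U) (n : ℕ) (hn : h.ψ u = (n : F)) : u = 1 := by
  have : Fact p.Prime := ⟨h.hp⟩
  have h1 := rat_field h.hF h.hq0 h.hA (h.ψ u) (h.ψ_pow_nU u hu) n hn
  exact h.ψ_inj u hu 1 h.U.one_mem (by rw [h1, h.ψ_one])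

theorem noAP (β δ : F) (hAP : ∀ j : ℕ, ∃ u ∈ h.U, h.ψ u = β + (j : F) * δ) : δ = 0 := by
  have : Fact p.Prime := ⟨h.hp⟩
  apply noAP_field h.hF h.hq0 h.hqp β δ
  intro j
  obtain ⟨u, hu, huj⟩ := hAP j
  rw [← huj]
  exact h.ψ_pow_nU u hu

end Hyp

end Cfsg.Agent.Helper6.AppCAsm
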