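import Mathlib
import Cfsg.Agent.Lib.Helper6.AppCAsmB

/-!
# BG Appendix C, assembly (helper6): `s`, `t`, `Y = [Q, s]`
-/

set_option autoImplicit false

namespace Cfsg.Agent.Helper6.AppCAsm

universe u v

namespace Hyp

variable {G : Type u} [Group G] {F : Type v} [Field F] [Fintype F] {p q : ℕ}
variable (h : Hyp G F p q)
include h

/-- `s = x 1` -/
noncomputable def s : G := h.x 1

/-- `t = y s y⁻¹` -/
noncomputable def t : G := h.y * h.s * h.y⁻¹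

theorem s_mem : h.s ∈ h.P := h.x_mem 1

theorem f_s : h.f h.s = 1 := h.f_x 1

theorem s_pow_p : h.s ^ p = 1 := h.x_pow_p 1

theorem s_normQ : h.s ∈ Subgroup.normalizer (h.Q : Set G) :=
  h.hP0Q _ h.s_mem (by rw [h.f_s, one_pow])

theorem t_normU : h.t ∈ Subgroup.normalizer (h.U : Set G) :=
  h.hP0U _ h.s_mem (by rw [h.f_s, one_pow])

theorem t_pow : h.t ^ p = 1 := by
  unfold t
  rw [conj_pow, h.s_pow_p, mul_one, mul_inv_cancel]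

theorem t_norm (u : G) (hu : u ∈ h.U) : h.t * u * h.t⁻¹ ∈ h.U :=
  (Subgroup.mem_normalizer_iff.mp h.t_normU u).mp hu

theorem Q_comm {a b : G} (ha : a ∈ h.Q) (hb : b ∈ h.Q) : a * b = b * a := by
  have := h.hQ.is_comm.comm (⟨a, ha⟩ : h.Q) ⟨b, hb⟩
  exact congrArg Subtype.val this

theorem s_conj_Q {v : G} (hv : v ∈ h.Q) : h.s * v * h.s⁻¹ ∈ h.Q :=
  (Subgroup.mem_normalizer_iff.mp h.s_normQ v).mp hv

theorem s_pow_conj_Q (i : ℕ) {v : G} (hv : v ∈ h.Q) : h.s ^ i * v * (h.s ^ i)⁻¹ ∈ h.Q := by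
  induction i with
  | zero => simpa using hv
  | succ i ih =>
    have := h.s_conj_Q ih
    have e : h.s ^ (i + 1) * v * (h.s ^ (i + 1))⁻¹ = h.s * (h.s ^ i * v * (h.s ^ i)⁻¹) * h.s⁻¹ := by
      rw [pow_succ']; group
    rw [e]; exact this

/-- `Y = [Q, s]` -/
noncomputable def Y : Subgroup G where
  carrier := {g | ∃ v ∈ h.Q, g = v * (h.s * v * h.s⁻¹)⁻¹}
  one_mem' := ⟨1, h.Q.one_mem, by simp⟩
  mul_mem' := by
    rintro a b ⟨v, hv, rfl⟩ ⟨w, hw, rfl⟩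
    refine ⟨v * w, h.Q.mul_mem hv hw, ?_⟩
    have hv' := h.s_conj_Q hv
    have hw' := h.s_conj_Q hw
    have e : h.s * (v * w) * h.s⁻¹ = (h.s * v * h.s⁻¹) * (h.s * w * h.s⁻¹) := by group
    rw [e]
    set v' := h.s * v * h.s⁻¹
    set w' := h.s * w * h.s⁻¹
    have c1 : v'⁻¹ * w = w * v'⁻¹ := h.Q_comm (h.Q.inv_mem hv') hw
    have c2 : w'⁻¹ * v'⁻¹ = v'⁻¹ * w'⁻¹ := h.Q_comm (h.Q.inv_mem hw') (h.Q.inv_mem hv')
    calc v * v'⁻¹ * (w * w'⁻¹) = v * (v'⁻¹ * w) * w'⁻¹ := by group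
      _ = v * (w * v'⁻¹) * w'⁻¹ := by rw [c1]
      _ = v * w * (v'⁻¹ * w'⁻¹) := by group
      _ = v * w * (w'⁻¹ * v'⁻¹) := by rw [c2]
      _ = v * w * (v' * w')⁻¹ := by rw [mul_inv_rev v' w']
  inv_mem' := by
    rintro a ⟨v, hv, rfl⟩
    refine ⟨v⁻¹, h.Q.inv_mem hv, ?_⟩
    have hv' := h.s_conj_Q hv
    have e : h.s * v⁻¹ * h.s⁻¹ = (h.s * v * h.s⁻¹)⁻¹ := by group
    rw [e, inv_inv, mul_inv_rev, inv_inv]
    exact h.Q_comm hv' (h.Q.inv_mem hv)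

theorem mem_Y {g : G} : g ∈ h.Y ↔ ∃ v ∈ h.Q, g = v * (h.s * v * h.s⁻¹)⁻¹ := Iff.rfl

theorem Y_le : h.Y ≤ h.Q := by
  rintro g ⟨v, hv, rfl⟩
  exact h.Q.mul_mem hv (h.Q.inv_mem (h.s_conj_Q hv))

theorem Y_comm (v : G) (hv : v ∈ h.Y) (w : G) (hw : w ∈ h.Y) : v * w = w * v :=
  h.Q_comm (h.Y_le hv) (h.Y_le hw)

theorem Y_conj (v : G) (hv : v ∈ h.Y) : h.x 1 * v * (h.x 1)⁻¹ ∈ h.Y := by
  obtain ⟨w, hw, rfl⟩ := hv
  refine ⟨h.s * w * h.s⁻¹, h.s_conj_Q hw, ?_⟩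
  show h.s * _ * h.s⁻¹ = _
  group

theorem Y_cop [Finite G] : (Nat.card h.Y).Coprime p :=
  Nat.Coprime.coprime_dvd_left (Subgroup.card_dvd_of_le h.Y_le) h.hQp

theorem eq_one_of_mem_Q_of_pow {w : G} (hw : w ∈ h.Q) (k : ℕ) (hk : w ^ p ^ k = 1) : w = 1 := by
  have h1 : orderOf w ∣ p ^ k := orderOf_dvd_of_pow_eq_one hk
  have h2 : orderOf w ∣ Nat.card h.Q := by
    have := orderOf_dvd_natCard (⟨w, hw⟩ : h.Q)
    rwa [Subgroup.orderOf_mk] at this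
  have h3 : (orderOf w).Coprime (orderOf w) :=
    Nat.Coprime.coprime_dvd_left h2 (Nat.Coprime.coprime_dvd_right h1 (Nat.Coprime.pow_right k h.hQp))
  rw [Nat.coprime_self] at h3
  exact orderOf_eq_one_iff.mp h3

theorem Y_fpf (v : G) (hv : v ∈ h.Y) (hfix : h.x 1 * v * (h.x 1)⁻¹ = v) : v = 1 := by
  obtain ⟨w, hw, rfl⟩ := hv
  set v := w * (h.s * w * h.s⁻¹)⁻¹ with hvdef
  have hfix' : h.s * v * h.s⁻¹ = v := hfix
  have hcomm : ∀ i : ℕ, h.s ^ i * v * (h.s ^ i)⁻¹ = v := by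
    intro i
    induction i with
    | zero => simp
    | succ i ih =>
      have e : h.s ^ (i + 1) * v * (h.s ^ (i + 1))⁻¹ = h.s * (h.s ^ i * v * (h.s ^ i)⁻¹) * h.s⁻¹ := by
        rw [pow_succ']; group
      rw [e, ih, hfix']
  have hci : ∀ i : ℕ, v = (h.s ^ i * w * (h.s ^ i)⁻¹) * (h.s ^ (i + 1) * w * (h.s ^ (i + 1))⁻¹)⁻¹ := by
    intro i
    rw [← hcomm i, hvdef, pow_succ']
    group
  have hpow : ∀ k : ℕ, v ^ k = w * (h.s ^ k * w * (h.s ^ k)⁻¹)⁻¹ := by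
    intro k
    induction k with
    | zero => simp
    | succ k ih =>
      rw [pow_succ, ih]
      nth_rewrite 1 [hci k]
      group
  have hp1 : v ^ p = 1 := by
    rw [hpow p, h.s_pow_p]; simp
  have hvQ : v ∈ h.Q := h.Q.mul_mem hw (h.Q.inv_mem (h.s_conj_Q hw))
  exact h.eq_one_of_mem_Q_of_pow hvQ 1 (by rwa [pow_one])

theorem t_mem : h.t * (h.x 1)⁻¹ ∈ h.Y := by
  refine ⟨h.y, h.hy, ?_⟩
  show h.y * h.s * h.y⁻¹ * h.s⁻¹ = _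
  group

end Hyp

end Cfsg.Agent.Helper6.AppCAsm
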