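import Mathlib
import Cfsg.Agent.Lib.Helper6.AppCAsmC

/-!
# BG Appendix C, assembly (helper6): Tool B, `H ∩ H^{t^j} = U`
-/

set_option autoImplicit false

namespace Cfsg.Agent.Helper6.AppCAsm

universe u v

namespace Hyp

variable {G : Type u} [Group G] {F : Type v} [Field F] [Fintype F] {p q : ℕ}
variable (h : Hyp G F p q)
include h

theorem two_le_q : 2 ≤ q := h.hq.two_le

/-- powers of `x a' * w` -/
theorem mul_pow_form (a' : F) (w : G) (hw : w ∈ h.U) (k : ℕ) :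
    ∃ b : F, (h.x a' * w) ^ k = h.x b * w ^ k := by
  induction k with
  | zero => exact ⟨0, by simp [h.x_zero]⟩
  | succ k ih =>
    obtain ⟨b, hb⟩ := ih
    refine ⟨b + h.ψ (w ^ k) * a', ?_⟩
    rw [pow_succ, hb, h.x_add, ← h.conj _ (h.U.pow_mem hw k), pow_succ]
    group

/-- an element of `U` of `p`-power order is trivial -/
theorem eq_one_of_mem_U_of_pow {w : G} (hw : w ∈ h.U) (hk : w ^ p = 1) : w = 1 := by
  have h2 := h.pow_nU_of_mem_U hw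
  have h3 := (pow_gcd_eq_one (a := w) (m := nU p q) (n := p)).mpr ⟨h2, hk⟩
  have h4 : (nU p q).gcd p = 1 := nU_coprime_p h.hp h.hq0
  rwa [h4, pow_one] at h3

/-- if `T` normalises `U` and conjugates `x a * u` into `H = P U`, it conjugates `x a` into `P` -/
theorem conj_x_mem_P_of (T : G) (hT : ∀ u ∈ h.U, T * u * T⁻¹ ∈ h.U) (a : F) (u : G) (hu : u ∈ h.U)
    (a' : F) (u' : G) (hu' : u' ∈ h.U) (heq : T * (h.x a * u) * T⁻¹ = h.x a' * u') :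
    T * h.x a * T⁻¹ ∈ h.P := by
  set w := u' * (T * u * T⁻¹)⁻¹ with hwdef
  have hw : w ∈ h.U := h.U.mul_mem hu' (h.U.inv_mem (hT u hu))
  have e1 : T * h.x a * T⁻¹ = h.x a' * w := by
    have : T * h.x a * T⁻¹ = (T * (h.x a * u) * T⁻¹) * (T * u * T⁻¹)⁻¹ := by group
    rw [this, heq, hwdef, mul_assoc]
  have e2 : (h.x a' * w) ^ p = 1 := by
    rw [← e1, conj_pow, h.x_pow_p, mul_one, mul_inv_cancel]
  obtain ⟨b, hb⟩ := h.mul_pow_form a' w hw p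
  rw [hb] at e2
  have e3 : w ^ p = (h.x b)⁻¹ := eq_inv_of_mul_eq_one_right e2
  have e4 : w ^ p = 1 :=
    h.P_inf_U (by rw [e3]; exact h.P.inv_mem (h.x_mem b)) (h.U.pow_mem hw p)
  have e5 : w = 1 := h.eq_one_of_mem_U_of_pow hw e4
  rw [e1, e5, mul_one]
  exact h.x_mem a'

/-- the set of `a` with `T x(a) T⁻¹ ∈ P` is everything as soon as it contains a nonzero element -/
theorem conj_P_of_one [Finite G] (T : G) (hT : ∀ u ∈ h.U, T * u * T⁻¹ ∈ h.U) (a : F) (ha : a ≠ 0)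
    (haT : T * h.x a * T⁻¹ ∈ h.P) (z : G) (hz : z ∈ h.P) : T * z * T⁻¹ ∈ h.P := by
  rw [← h.x_f hz]
  set b := h.f z
  by_cases hb : b = 0
  · rw [hb, h.x_zero]; simp [h.P.one_mem]
  have hγ : b * a⁻¹ ≠ 0 := mul_ne_zero hb (inv_ne_zero ha)
  obtain ⟨n, -, u, hu, hnu⟩ := h.polar (b * a⁻¹) hγ
  have hb' : b = (n : F) * (h.ψ u * a) := by
    rw [← mul_assoc, ← hnu, mul_assoc, inv_mul_cancel₀ ha, mul_one]
  rw [hb', h.x_nat_mul, ← conj_pow]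
  apply h.P.pow_mem
  rw [← h.conj u hu]
  have e : T * (u * h.x a * u⁻¹) * T⁻¹ = (T * u * T⁻¹) * (T * h.x a * T⁻¹) * (T * u * T⁻¹)⁻¹ := by
    group
  rw [e]
  exact h.conj_mem_P (hT u hu) haT

theorem pow_conj_P (T : G) (hT : ∀ z ∈ h.P, T * z * T⁻¹ ∈ h.P) (k : ℕ) (z : G) (hz : z ∈ h.P) :
    T ^ k * z * (T ^ k)⁻¹ ∈ h.P := by
  induction k with
  | zero => simpa using hz
  | succ k ih =>
    have e : T ^ (k + 1) * z * (T ^ (k + 1))⁻¹ = T * (T ^ k * z * (T ^ k)⁻¹) * T⁻¹ := by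
      rw [pow_succ']; group
    rw [e]; exact hT _ ih

/-- some natural power of `t ^ j` is `t` when `p ∤ j` -/
theorem exists_pow_eq_t (j : ℤ) (hj : ¬ (p : ℤ) ∣ j) : ∃ k : ℕ, (h.t ^ j) ^ k = h.t := by
  have : Fact p.Prime := ⟨h.hp⟩
  have hj0 : (j : ZMod p) ≠ 0 := by
    rwa [Ne, ZMod.intCast_zmod_eq_zero_iff_dvd]
  set k : ℕ := ((j : ZMod p)⁻¹).val with hk
  refine ⟨k, ?_⟩
  have h1 : ((j * (k : ℤ) : ℤ) : ZMod p) = ((1 : ℤ) : ZMod p) := by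
    rw [Int.cast_mul, Int.cast_natCast, hk, ZMod.natCast_zmod_val, mul_inv_cancel₀ hj0, Int.cast_one]
  rw [ZMod.intCast_eq_intCast_iff_dvd_sub] at h1
  obtain ⟨m, hm⟩ := h1
  have h2 : j * (k : ℤ) = 1 - (p : ℤ) * m := by linarith
  rw [← zpow_natCast, ← zpow_mul, h2, zpow_sub, zpow_one, zpow_mul, zpow_natCast, h.t_pow, one_zpow,
    inv_one, mul_one]

/-- `t` does not normalise `P` -/
theorem t_not_conj_P (hT : ∀ z ∈ h.P, h.t * z * h.t⁻¹ ∈ h.P) : False := by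
  -- `(t s⁻¹)^k = z_k t^k`
  have hform : ∀ k : ℕ, ∃ z ∈ h.P, (h.t * h.s⁻¹) ^ k = z * h.t ^ k := by
    intro k
    induction k with
    | zero => exact ⟨1, h.P.one_mem, by simp⟩
    | succ k ih =>
      obtain ⟨z, hz, hzk⟩ := ih
      refine ⟨h.t * (h.s⁻¹ * z) * h.t⁻¹, hT _ (h.P.mul_mem (h.P.inv_mem h.s_mem) hz), ?_⟩
      rw [pow_succ', hzk, pow_succ']
      group
  obtain ⟨z, hz, hzp⟩ := hform p
  rw [h.t_pow, mul_one] at hzp
  have hwQ : h.t * h.s⁻¹ ∈ h.Q := h.Y_le h.t_mem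
  have hw1 : h.t * h.s⁻¹ = 1 := by
    apply h.eq_one_of_mem_Q_of_pow hwQ 2
    rw [pow_two, pow_mul, hzp]
    exact h.pow_p_of_mem_P hz
  have hts : h.t = h.s := by
    rw [mul_inv_eq_one] at hw1; exact hw1
  -- now `s` normalises `U`, so `U = 1`
  have hU : ∀ u ∈ h.U, u = 1 := by
    intro u hu
    have h1 : h.s * u * h.s⁻¹ ∈ h.U := by
      have := h.t_norm u hu
      rwa [hts] at this
    have h2 : h.s * u * h.s⁻¹ * u⁻¹ ∈ h.U := h.U.mul_mem h1 (h.U.inv_mem hu)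
    have e : h.s * u * h.s⁻¹ * u⁻¹ = h.x (1 - h.ψ u) := by
      rw [h.x_sub, ← mul_one (h.ψ u), ← h.conj u hu]
      show h.x 1 * u * (h.x 1)⁻¹ * u⁻¹ = _
      group
    rw [e] at h2
    have h3 := h.P_inf_U (h.x_mem _) h2
    rw [h.x_eq_one_iff, sub_eq_zero] at h3
    exact h.ψ_inj u hu 1 h.U.one_mem (by rw [← h3, h.ψ_one])
  have hbot : h.U = ⊥ := (Subgroup.eq_bot_iff_forall _).mpr hU
  have hc := h.card_U
  rw [hbot, Subgroup.card_bot] at hc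
  have := one_lt_nU (p := p) (q := q) h.hp h.two_le_q
  omega

/-- Tool B -/
theorem toolB [Finite G] (j : ℤ) (hj : ¬ (p : ℤ) ∣ j) (a : F) (u : G) (hu : u ∈ h.U)
    (hex : ∃ (a' : F) (u' : G), u' ∈ h.U ∧ h.t ^ j * (h.x a * u) * (h.t ^ j)⁻¹ = h.x a' * u') :
    a = 0 := by
  by_contra ha
  obtain ⟨a', u', hu', heq⟩ := hex
  have hTn : h.t ^ j ∈ Subgroup.normalizer (h.U : Set G) := Subgroup.zpow_mem _ h.t_normU j
  have hT : ∀ u ∈ h.U, h.t ^ j * u * (h.t ^ j)⁻¹ ∈ h.U := fun u hu =>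
    (Subgroup.mem_normalizer_iff.mp hTn u).mp hu
  have h1 := h.conj_x_mem_P_of (h.t ^ j) hT a u hu a' u' hu' heq
  have h2 := h.conj_P_of_one (h.t ^ j) hT a ha h1
  obtain ⟨k, hk⟩ := h.exists_pow_eq_t j hj
  have h3 := h.pow_conj_P (h.t ^ j) h2 k
  rw [hk] at h3
  exact h.t_not_conj_P h3

end Hyp

end Cfsg.Agent.Helper6.AppCAsm
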