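import Mathlib
import Cfsg.Agent.Lib.Helper6.AppCAsmD
import Cfsg.Agent.Lib.Helper25.AppC0
import Cfsg.Agent.S1470
import Cfsg.Agent.S1471

/-!
# BG Appendix C, assembly (helper6): the `Setup` and the final contradiction
-/

set_option autoImplicit false

namespace Cfsg.Agent.Helper6.AppCAsm

universe u v

open Cfsg.Agent.Helper25.AppC

namespace Hyp

variable {G : Type u} [Group G] {F : Type v} [Field F] [Fintype F] {p q : ℕ}

theorem U_ne (h : Hyp G F p q) : ∃ u ∈ h.U, h.ψ u ≠ 1 := by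
  by_contra hall
  push Not at hall
  have hU : ∀ u ∈ h.U, u = 1 := fun u hu =>
    h.ψ_inj u hu 1 h.U.one_mem (by rw [hall u hu, h.ψ_one])
  have hbot : h.U = ⊥ := (Subgroup.eq_bot_iff_forall _).mpr hU
  have hc := h.card_U
  rw [hbot, Subgroup.card_bot] at hc
  have := one_lt_nU (p := p) (q := q) h.hp h.two_le_q
  omega

/-- helper25's configuration built from the hypotheses of S1472 and `q < p` -/
noncomputable def toSetup [Finite G] (h : Hyp G F p q) : Setup G F p where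
  x := h.x
  U := h.U
  ψ := h.ψ
  t := h.t
  Y := h.Y
  hp := h.hp
  hp2 := by have := h.hqp; have := h.two_le_q; omega
  x_add := h.x_add
  x_inj := h.x_inj
  charP := charP_of_card h.hp h.hF h.hq0
  ψ_ne := h.ψ_ne
  ψ_mul := h.hψmul
  ψ_inj := h.ψ_inj
  U_ne := h.U_ne
  conj := h.conj
  polar := h.polar
  rat := h.rat
  noAP := h.noAP
  t_pow := h.t_pow
  t_norm := h.t_norm
  Y_comm := h.Y_comm
  Y_conj := h.Y_conj
  Y_cop := h.Y_cop
  Y_fpf := h.Y_fpf
  t_mem := h.t_mem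
  toolB := h.toolB

theorem q_ne_two (h : Hyp G F p q) : q ≠ 2 := by
  intro hq2
  have hp2 : p ≠ 2 := by have := h.hqp; omega
  have hodd : p % 2 = 1 := (Nat.Prime.eq_two_or_odd h.hp).resolve_left hp2
  have hA := h.hA
  have hn : nU p q = 1 + p := by
    rw [nU_eq_sum h.hp, hq2]
    simp [Finset.sum_range_succ]
  rw [hn] at hA
  have h1 : 2 ∣ 1 + p := by omega
  have h2 : 2 ∣ p - 1 := by omega
  have h3 := Nat.dvd_gcd h1 h2
  rw [Nat.Coprime] at hA
  rw [hA] at h3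
  omega

/-- the final contradiction, given the core (closure of `E` under inversion) -/
theorem final [Finite G] (h : Hyp G F p q)
    (hcore : ∀ a ∈ h.U, ∀ b ∈ h.U, h.ψ a + h.ψ b = 2 → ∃ b' ∈ h.U, (h.ψ a)⁻¹ + h.ψ b' = 2) :
    False := by
  have hp := h.hp
  have : Fact p.Prime := ⟨h.hp⟩
  have : Fact q.Prime := ⟨h.hq⟩
  have hp2 : p ≠ 2 := by have := h.hqp; have := h.two_le_q; omega
  have hq2 : q ≠ 2 := h.q_ne_two
  have hq0 := h.hq0
  haveI : CharP F p := charP_of_card hp h.hF hq0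
  letI : Algebra (ZMod p) F := ZMod.algebra F p
  let e : F ≃ₐ[ZMod p] GaloisField p q := GaloisField.algEquivGaloisFieldOfFintype p q h.hF
  -- norm one means `n`-th root of unity
  have hnorm : ∀ a : GaloisField p q, Algebra.norm (ZMod p) a = 1 ↔ a ^ nU p q = 1 := by
    intro a
    have h1 := FiniteField.algebraMap_norm_eq_pow (K := ZMod p) (K' := GaloisField p q) (x := a)
    rw [GaloisField.card p q hq0, Nat.card_zmod] at h1
    change _ = a ^ nU p q at h1
    rw [← h1]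
    constructor
    · intro h2; rw [h2, map_one]
    · intro h2
      apply (algebraMap (ZMod p) (GaloisField p q)).injective
      rw [h2, map_one]
  -- closure of `E` under inversion, in `F`
  have hE : ∀ α : F, α ^ nU p q = 1 → (2 - α) ^ nU p q = 1 →
      (α⁻¹) ^ nU p q = 1 ∧ (2 - α⁻¹) ^ nU p q = 1 := by
    intro α h1 h2
    obtain ⟨a, ha, haα⟩ := h.ψ_surj α h1
    obtain ⟨b, hb, hbα⟩ := h.ψ_surj (2 - α) h2
    obtain ⟨b', hb', hb'α⟩ := hcore a ha b hb (by rw [haα, hbα]; ring)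
    refine ⟨by rw [inv_pow, h1, inv_one], ?_⟩
    have : 2 - α⁻¹ = h.ψ b' := by rw [← hb'α, haα]; ring
    rw [this]
    exact h.ψ_pow_nU b' hb'
  have hinv : ∀ a ∈ {a : GaloisField p q | Algebra.norm (ZMod p) a = 1 ∧ Algebra.norm (ZMod p) (2 - a) = 1},
      a⁻¹ ∈ {a : GaloisField p q | Algebra.norm (ZMod p) a = 1 ∧ Algebra.norm (ZMod p) (2 - a) = 1} := by
    intro a ha
    rw [Set.mem_setOf_eq, hnorm, hnorm] at ha ⊢
    obtain ⟨h1, h2⟩ := ha
    have h1' : (e.symm a) ^ nU p q = 1 := by rw [← map_pow, h1, map_one]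
    have h2' : (2 - e.symm a) ^ nU p q = 1 := by
      have : (2 : F) - e.symm a = e.symm (2 - a) := by
        rw [map_sub, map_ofNat]
      rw [this, ← map_pow, h2, map_one]
    obtain ⟨h3, h4⟩ := hE _ h1' h2'
    have e1 : a⁻¹ = e ((e.symm a)⁻¹) := by rw [map_inv₀, AlgEquiv.apply_symm_apply]
    have e2 : 2 - a⁻¹ = e (2 - (e.symm a)⁻¹) := by
      rw [map_sub, map_inv₀, AlgEquiv.apply_symm_apply, map_ofNat]
    constructor
    · rw [e1, ← map_pow, h3, map_one]
    · rw [e2, ← map_pow, h4, map_one]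
  have hA' : Nat.Coprime ((p ^ q - 1) / (p - 1)) (p - 1) := h.hA
  have := Cfsg.Agent.S1470.result p q hp2 hq2 hA' hinv (Cfsg.Agent.S1471.result p q hp2 hq2 hA')
  have := h.hqp
  omega

end Hyp

/-- S1472 from the core: if every `Setup` has `E` closed under inversion, then `p ≤ q`. -/
theorem assembly {G : Type u} [Group G] [Finite G] (p q : ℕ) [Fact p.Prime] [Fact q.Prime]
    (hA : Nat.Coprime ((p ^ q - 1) / (p - 1)) (p - 1))
    (F : Type v) [Field F] [Fintype F] (hF : Fintype.card F = p ^ q) (P U Q : Subgroup G) (f ψ : G → F)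
    (hf : Set.BijOn f (P : Set G) Set.univ) (hfadd : ∀ x ∈ P, ∀ z ∈ P, f (x * z) = f x + f z)
    (hUP : U ≤ Subgroup.normalizer (P : Set G))
    (hψ : ∀ u ∈ U, ψ u ≠ 0 ∧ ∀ x ∈ P, f (u * x * u⁻¹) = ψ u * f x)
    (hψmul : ∀ u ∈ U, ∀ v ∈ U, ψ (u * v) = ψ u * ψ v) (hψinj : Set.InjOn ψ (U : Set G))
    (hUcard : Nat.card U * (p - 1) = p ^ q - 1)
    (hQ : IsMulCommutative Q) (hQp : (Nat.card Q).Coprime p)
    (hP0Q : ∀ x ∈ P, f x ^ p = f x → x ∈ Subgroup.normalizer (Q : Set G))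
    (y : G) (hy : y ∈ Q)
    (hP0U : ∀ x ∈ P, f x ^ p = f x → y * x * y⁻¹ ∈ Subgroup.normalizer (U : Set G))
    (hcore : ∀ S : Setup G F p, ∀ a ∈ S.U, ∀ b ∈ S.U, S.ψ a + S.ψ b = 2 →
      ∃ b' ∈ S.U, (S.ψ a)⁻¹ + S.ψ b' = 2) :
    p ≤ q := by
  by_contra hlt
  push Not at hlt
  let h : Hyp G F p q :=
    { P := P, U := U, Q := Q, f := f, ψ := ψ, y := y, hp := Fact.out, hq := Fact.out, hqp := hlt,
      hA := hA, hF := hF, hf := hf, hfadd := hfadd, hUP := hUP, hψ := hψ, hψmul := hψmul,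
      hψinj := hψinj, hUcard := hUcard, hQ := hQ, hQp := hQp, hP0Q := hP0Q, hy := hy, hP0U := hP0U }
  exact h.final (hcore h.toSetup)

end Cfsg.Agent.Helper6.AppCAsm
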