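import Mathlib

set_option autoImplicit false

/-! S2984 piece BB-ALTIRR (helper6): the even-weight module of `A_{2m+1}` over `𝔽₂` is irreducible. -/

namespace Cfsg.Agent.Helper16.BB

/-- `e_a + e_b`. -/
def bb_altirr_E {n : ℕ} (a b : Fin n) : Fin n → ZMod 2 := Pi.single a 1 + Pi.single b 1

theorem bb_altirr_zmod2 : ∀ c : ZMod 2, c = 0 ∨ c = 1 := by decide

theorem bb_altirr_perm_single {n : ℕ} (σ : Equiv.Perm (Fin n)) (a : Fin n) :
    (fun x => (Pi.single a 1 : Fin n → ZMod 2) (σ⁻¹ x)) = Pi.single (σ a) 1 := by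
  funext x
  by_cases h : x = σ a
  · subst h
    simp
  · have h' : σ⁻¹ x ≠ a := by
      intro h2
      apply h
      rw [← h2]
      simp
    rw [Pi.single_apply, Pi.single_apply, if_neg h, if_neg h']

theorem bb_altirr_perm_E {n : ℕ} (σ : Equiv.Perm (Fin n)) (a b : Fin n) :
    (fun x => bb_altirr_E a b (σ⁻¹ x)) = bb_altirr_E (σ a) (σ b) := by
  unfold bb_altirr_E
  rw [← bb_altirr_perm_single σ a, ← bb_altirr_perm_single σ b]
  rfl

theorem bb_altirr_E_comm {n : ℕ} (a b : Fin n) : bb_altirr_E a b = bb_altirr_E b a := by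
  unfold bb_altirr_E
  rw [add_comm]

theorem bb_altirr_E_self {n : ℕ} (a : Fin n) : bb_altirr_E a a = 0 := by
  unfold bb_altirr_E
  funext x
  have h2 : ∀ c : ZMod 2, c + c = 0 := by decide
  simp [h2]

/-- `A_n` is transitive on unordered pairs. -/
theorem bb_altirr_trans {n : ℕ} (a b c d : Fin n) (hab : a ≠ b) (hcd : c ≠ d) :
    ∃ σ ∈ alternatingGroup (Fin n), (σ a = c ∧ σ b = d) ∨ (σ a = d ∧ σ b = c) := by
  classical
  let τ1 : Equiv.Perm (Fin n) := Equiv.swap a c
  let b' := τ1 b
  let τ2 : Equiv.Perm (Fin n) := Equiv.swap b' d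
  let τ := τ2 * τ1
  have h1a : τ1 a = c := Equiv.swap_apply_left a c
  have hcb' : c ≠ b' := by
    intro h
    apply hab
    apply τ1.injective
    rw [h1a]
    exact h
  have hτa : τ a = c := by
    change τ2 (τ1 a) = c
    rw [h1a]
    exact Equiv.swap_apply_of_ne_of_ne hcb' hcd
  have hτb : τ b = d := by
    change τ2 (τ1 b) = d
    exact Equiv.swap_apply_left b' d
  rcases Int.units_eq_one_or (Equiv.Perm.sign τ) with h | h
  · exact ⟨τ, Equiv.Perm.mem_alternatingGroup.mpr h, Or.inl ⟨hτa, hτb⟩⟩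
  · refine ⟨Equiv.swap c d * τ, ?_, Or.inr ⟨?_, ?_⟩⟩
    · rw [Equiv.Perm.mem_alternatingGroup, Equiv.Perm.sign_mul, Equiv.Perm.sign_swap hcd, h]
      rfl
    · change Equiv.swap c d (τ a) = d
      rw [hτa]
      exact Equiv.swap_apply_left c d
    · change Equiv.swap c d (τ b) = c
      rw [hτb]
      exact Equiv.swap_apply_right c d

/-- Every even-weight vector is a sum of `e_i + e_{i0}`. -/
theorem bb_altirr_decomp {n : ℕ} (v : Fin n → ZMod 2) (hv : ∑ i, v i = 0) (i0 : Fin n) :
    v = ∑ i, v i • bb_altirr_E i i0 := by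
  unfold bb_altirr_E
  funext x
  rw [Finset.sum_apply]
  simp only [Pi.smul_apply, Pi.add_apply, smul_eq_mul, mul_add, Finset.sum_add_distrib]
  rw [← Finset.sum_mul, hv, zero_mul, add_zero]
  simp [Pi.single_apply]

theorem alt_evenweight_irred (m : ℕ) (hm : 1 ≤ m) (X : AddSubgroup (Fin (2 * m + 1) → ZMod 2))
    (hXe : ∀ v ∈ X, ∑ i, v i = 0)
    (hX : ∀ σ ∈ alternatingGroup (Fin (2 * m + 1)), ∀ v ∈ X, (fun i => v (σ⁻¹ i)) ∈ X)
    (hne : X ≠ ⊥) : ∀ v : Fin (2 * m + 1) → ZMod 2, ∑ i, v i = 0 → v ∈ X := by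
  classical
  -- Step 1: some `e_a + e_b ∈ X`
  have step1 : ∃ a b : Fin (2 * m + 1), a ≠ b ∧ bb_altirr_E a b ∈ X := by
    obtain ⟨v, hvX, hv0⟩ : ∃ v ∈ X, v ≠ 0 := by
      by_contra hcon
      push Not at hcon
      exact hne ((AddSubgroup.eq_bot_iff_forall X).mpr hcon)
    obtain ⟨i, hi⟩ : ∃ i, v i ≠ 0 := by
      by_contra hcon
      push Not at hcon
      exact hv0 (funext hcon)
    have hi1 : v i = 1 := (bb_altirr_zmod2 (v i)).resolve_left hi
    obtain ⟨j, hj⟩ : ∃ j, v j = 0 := by
      by_contra hcon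
      push Not at hcon
      have hall : ∀ j, v j = 1 := fun j => (bb_altirr_zmod2 (v j)).resolve_left (hcon j)
      have hs := hXe v hvX
      rw [Finset.sum_congr rfl (fun j _ => hall j)] at hs
      rw [Finset.sum_const, Finset.card_univ, Fintype.card_fin, nsmul_eq_mul, mul_one] at hs
      have h2 : (2 : ZMod 2) = 0 := by decide
      push_cast at hs
      rw [h2, zero_mul, zero_add] at hs
      exact one_ne_zero hs
    have hij : i ≠ j := by
      rintro rfl
      rw [hj] at hi1
      exact zero_ne_one hi1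
    obtain ⟨k, hki, hkj⟩ : ∃ k : Fin (2 * m + 1), k ≠ i ∧ k ≠ j := by
      have hcard : ({i, j} : Finset (Fin (2 * m + 1))).card < (Finset.univ : Finset (Fin (2 * m + 1))).card := by
        rw [Finset.card_univ, Fintype.card_fin]
        have := Finset.card_le_two (a := i) (b := j)
        omega
      obtain ⟨k, _, hk⟩ := Finset.exists_mem_notMem_of_card_lt_card hcard
      simp only [Finset.mem_insert, Finset.mem_singleton, not_or] at hk
      exact ⟨k, hk.1, hk.2⟩
    let ρ : Equiv.Perm (Fin (2 * m + 1)) := Equiv.swap i j * Equiv.swap i k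
    have hρmem : ρ⁻¹ ∈ alternatingGroup (Fin (2 * m + 1)) := by
      apply inv_mem
      rw [Equiv.Perm.mem_alternatingGroup, Equiv.Perm.sign_mul, Equiv.Perm.sign_swap hij,
        Equiv.Perm.sign_swap hki.symm]
      rfl
    have hw : (fun x => v (ρ x)) ∈ X := by
      have := hX ρ⁻¹ hρmem v hvX
      rwa [inv_inv] at this
    have hρi : ρ i = k := by
      change Equiv.swap i j (Equiv.swap i k i) = k
      rw [Equiv.swap_apply_left]
      exact Equiv.swap_apply_of_ne_of_ne hki hkj
    have hρj : ρ j = i := by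
      change Equiv.swap i j (Equiv.swap i k j) = i
      rw [Equiv.swap_apply_of_ne_of_ne hij.symm hkj.symm]
      exact Equiv.swap_apply_right i j
    have hρk : ρ k = j := by
      change Equiv.swap i j (Equiv.swap i k k) = j
      rw [Equiv.swap_apply_right]
      exact Equiv.swap_apply_left i j
    have hρx : ∀ x, x ≠ i → x ≠ j → x ≠ k → ρ x = x := by
      intro x hxi hxj hxk
      change Equiv.swap i j (Equiv.swap i k x) = x
      rw [Equiv.swap_apply_of_ne_of_ne hxi hxk]
      exact Equiv.swap_apply_of_ne_of_ne hxi hxj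
    have hsum : v + (fun x => v (ρ x)) ∈ X := X.add_mem hvX hw
    have h2 : ∀ c : ZMod 2, c + c = 0 := by decide
    rcases bb_altirr_zmod2 (v k) with hk | hk
    · refine ⟨i, j, hij, ?_⟩
      convert hsum using 1
      funext x
      unfold bb_altirr_E
      by_cases hxi : x = i
      · subst hxi
        simp [hρi, hk, hi1, hij]
      · by_cases hxj : x = j
        · subst hxj
          simp [hρj, hj, hi1, hxi]
        · by_cases hxk : x = k
          · subst hxk
            simp [hρk, hj, hk, hxi, hxj]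
          · simp [hρx x hxi hxj hxk, h2, hxi, hxj]
    · refine ⟨j, k, hkj.symm, ?_⟩
      convert hsum using 1
      funext x
      unfold bb_altirr_E
      by_cases hxi : x = i
      · subst hxi
        simp [hρi, hk, hi1, hij, hki.symm, h2]
      · by_cases hxj : x = j
        · subst hxj
          simp [hρj, hj, hi1, hkj.symm]
        · by_cases hxk : x = k
          · subst hxk
            simp [hρk, hj, hk, hxj]
          · simp [hρx x hxi hxj hxk, h2, hxj, hxk]
  -- Step 2: all of them
  obtain ⟨a, b, hab, habX⟩ := step1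
  have step2 : ∀ c d : Fin (2 * m + 1), c ≠ d → bb_altirr_E c d ∈ X := by
    intro c d hcd
    obtain ⟨σ, hσ, h | h⟩ := bb_altirr_trans a b c d hab hcd
    · have := hX σ hσ _ habX
      rw [bb_altirr_perm_E, h.1, h.2] at this
      exact this
    · have := hX σ hσ _ habX
      rw [bb_altirr_perm_E, h.1, h.2, bb_altirr_E_comm] at this
      exact this
  -- Step 3
  intro v hv
  have i0 : Fin (2 * m + 1) := 0
  rw [bb_altirr_decomp v hv i0]
  apply X.sum_mem
  intro i _
  apply ZMod.smul_mem
  by_cases hi : i = i0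
  · rw [hi, bb_altirr_E_self]
    exact X.zero_mem
  · exact step2 i i0 hi

end Cfsg.Agent.Helper16.BB
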