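import Mathlib

set_option autoImplicit false

/-! S2984 piece BB-FIXMOD (helper6): a `p`-group `O` normalizing `p`-groups `U₀ < U` fixes a nontrivial coset of
`U/U₀`. -/

namespace Cfsg.Agent.Helper16.BB

/-- Conjugation action of `O` on `U` when `O` normalizes `U`. -/
@[reducible] def bb_fixmod_act {G : Type*} [Group G] (O U : Subgroup G)
    (hOU : O ≤ Subgroup.normalizer (U : Set G)) : MulAction ↥O ↥U where
  smul o u := ⟨(o : G) * u * (o : G)⁻¹, ((Subgroup.mem_normalizer_iff.mp (hOU o.2)) u).mp u.2⟩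
  one_smul u := by
    apply Subtype.ext
    change ((1 : ↥O) : G) * u * ((1 : ↥O) : G)⁻¹ = u
    simp
  mul_smul a b u := by
    apply Subtype.ext
    change ((a * b : ↥O) : G) * u * ((a * b : ↥O) : G)⁻¹ = (a : G) * ((b : G) * u * (b : G)⁻¹) * (a : G)⁻¹
    simp [mul_assoc]

theorem exists_fixed_mod {G : Type*} [Group G] [Finite G] {p : ℕ} [Fact p.Prime] (O U U₀ : Subgroup G)
    (hO : IsPGroup p ↥O) (hU : IsPGroup p ↥U)
    (hOU : O ≤ Subgroup.normalizer (U : Set G)) (hOU₀ : O ≤ Subgroup.normalizer (U₀ : Set G))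
    (hle : U₀ ≤ U) (hne : U₀ ≠ U) :
    ∃ u ∈ U, u ∉ U₀ ∧ ∀ o ∈ O, u⁻¹ * (o * u * o⁻¹) ∈ U₀ := by
  classical
  let _ : MulAction ↥O ↥U := bb_fixmod_act O U hOU
  have hsmul : ∀ (o : ↥O) (u : ↥U), ((o • u : ↥U) : G) = (o : G) * u * (o : G)⁻¹ := fun _ _ => rfl
  let H : Subgroup ↥U := U₀.subgroupOf U
  have hQA : MulAction.QuotientAction ↥O H := by
    constructor
    intro o a a' h
    rw [Subgroup.mem_subgroupOf] at h ⊢
    have h1 : (((o • a)⁻¹ * o • a' : ↥U) : G) = (o : G) * ((a : G)⁻¹ * a') * (o : G)⁻¹ := by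
      rw [Subgroup.coe_mul, Subgroup.coe_inv, hsmul, hsmul]
      group
    rw [h1]
    exact ((Subgroup.mem_normalizer_iff.mp (hOU₀ o.2)) _).mp h
  let _ : MulAction ↥O (↥U ⧸ H) := MulAction.quotient ↥O H
  have hsmulq : ∀ (o : ↥O) (u : ↥U), o • (QuotientGroup.mk u : ↥U ⧸ H) = QuotientGroup.mk (o • u) :=
    fun _ _ => rfl
  -- cardinality of the quotient
  have hHne : H ≠ ⊤ := by
    intro h
    apply hne
    apply le_antisymm hle
    exact Subgroup.subgroupOf_eq_top.mp h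
  obtain ⟨n, hn⟩ := hU.index H
  have hn0 : n ≠ 0 := by
    rintro rfl
    rw [pow_zero, Subgroup.index_eq_one] at hn
    exact hHne hn
  have hdvd : p ∣ Nat.card (↥U ⧸ H) := by
    change p ∣ H.index
    rw [hn]
    exact dvd_pow_self p hn0
  have hfix : (QuotientGroup.mk (1 : ↥U) : ↥U ⧸ H) ∈ MulAction.fixedPoints ↥O (↥U ⧸ H) := by
    intro o
    rw [hsmulq]
    congr 1
    apply Subtype.ext
    rw [hsmul]
    simp
  obtain ⟨b, hb, hb1⟩ := hO.exists_fixed_point_of_prime_dvd_card_of_fixed_point (↥U ⧸ H) hdvd hfix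
  obtain ⟨u, rfl⟩ := QuotientGroup.mk_surjective b
  refine ⟨u, u.2, ?_, ?_⟩
  · intro hu
    apply hb1
    rw [QuotientGroup.eq, Subgroup.mem_subgroupOf]
    simpa using hu
  · intro o ho
    have h1 := hb ⟨o, ho⟩
    rw [hsmulq, eq_comm, QuotientGroup.eq, Subgroup.mem_subgroupOf] at h1
    rw [Subgroup.coe_mul, Subgroup.coe_inv, hsmul] at h1
    exact h1

end Cfsg.Agent.Helper16.BB
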