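import Mathlib

set_option autoImplicit false
open scoped commutatorElement

/-! S2984 piece BB-SL2IRR (helper6): the natural module of `SL₂(F)'` is irreducible over the prime field,
for every finite field `F`. -/

namespace Cfsg.Agent.Helper16.BB

section
variable {F : Type*} [Field F]

/-- upper unipotent -/
def bb_sl2irr_u (x : F) : Matrix.SpecialLinearGroup (Fin 2) F :=
  ⟨!![1, x; 0, 1], by simp [Matrix.det_fin_two]⟩

/-- lower unipotent -/
def bb_sl2irr_l (x : F) : Matrix.SpecialLinearGroup (Fin 2) F :=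
  ⟨!![1, 0; x, 1], by simp [Matrix.det_fin_two]⟩

/-- diagonal -/
def bb_sl2irr_d (t s : F) (h : t * s = 1) : Matrix.SpecialLinearGroup (Fin 2) F :=
  ⟨!![t, 0; 0, s], by simp [Matrix.det_fin_two, h]⟩

/-- `⁅u(1), l(1)⁆` -/
def bb_sl2irr_w : Matrix.SpecialLinearGroup (Fin 2) F :=
  ⟨!![3, -1; 1, 0], by simp [Matrix.det_fin_two]⟩

theorem bb_sl2irr_u_coe (x : F) : ((bb_sl2irr_u x : Matrix.SpecialLinearGroup (Fin 2) F) :
    Matrix (Fin 2) (Fin 2) F) = !![1, x; 0, 1] := rfl

theorem bb_sl2irr_l_coe (x : F) : ((bb_sl2irr_l x : Matrix.SpecialLinearGroup (Fin 2) F) :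
    Matrix (Fin 2) (Fin 2) F) = !![1, 0; x, 1] := rfl

theorem bb_sl2irr_d_coe (t s : F) (h : t * s = 1) : ((bb_sl2irr_d t s h : Matrix.SpecialLinearGroup (Fin 2) F) :
    Matrix (Fin 2) (Fin 2) F) = !![t, 0; 0, s] := rfl

theorem bb_sl2irr_w_coe : ((bb_sl2irr_w : Matrix.SpecialLinearGroup (Fin 2) F) :
    Matrix (Fin 2) (Fin 2) F) = !![3, -1; 1, 0] := rfl

theorem bb_sl2irr_comm_of {G : Type*} [Group G] (g a b : G) (h : g * (b * a) = a * b) : g = ⁅a, b⁆ := by
  rw [commutatorElement_def, eq_mul_inv_of_mul_eq h, mul_inv_rev, mul_assoc, mul_assoc, mul_assoc]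

theorem bb_sl2irr_comm_mem {G : Type*} [Group G] (a b : G) : ⁅a, b⁆ ∈ commutator G := by
  rw [commutator_def]
  exact Subgroup.commutator_mem_commutator (Subgroup.mem_top _) (Subgroup.mem_top _)

theorem bb_sl2irr_u_mem (t s : F) (hts : t * s = 1) (x : F) :
    bb_sl2irr_u ((t ^ 2 - 1) * x) ∈ commutator (Matrix.SpecialLinearGroup (Fin 2) F) := by
  rw [bb_sl2irr_comm_of (bb_sl2irr_u ((t ^ 2 - 1) * x)) (bb_sl2irr_d t s hts) (bb_sl2irr_u x)]
  · exact bb_sl2irr_comm_mem _ _
  · apply Subtype.ext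
    rw [Matrix.SpecialLinearGroup.coe_mul, Matrix.SpecialLinearGroup.coe_mul, Matrix.SpecialLinearGroup.coe_mul]
    simp only [bb_sl2irr_u_coe, bb_sl2irr_d_coe, Matrix.mul_fin_two]
    ext i j
    fin_cases i <;> fin_cases j <;> simp
    linear_combination (t * x) * hts

theorem bb_sl2irr_l_mem (t s : F) (hts : t * s = 1) (y : F) :
    bb_sl2irr_l ((t ^ 2 - 1) * y) ∈ commutator (Matrix.SpecialLinearGroup (Fin 2) F) := by
  rw [bb_sl2irr_comm_of (bb_sl2irr_l ((t ^ 2 - 1) * y)) (bb_sl2irr_d s t ((mul_comm s t).trans hts))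
    (bb_sl2irr_l y)]
  · exact bb_sl2irr_comm_mem _ _
  · apply Subtype.ext
    rw [Matrix.SpecialLinearGroup.coe_mul, Matrix.SpecialLinearGroup.coe_mul, Matrix.SpecialLinearGroup.coe_mul]
    simp only [bb_sl2irr_l_coe, bb_sl2irr_d_coe, Matrix.mul_fin_two]
    ext i j
    fin_cases i <;> fin_cases j <;> simp
    linear_combination (t * y) * hts

theorem bb_sl2irr_w_mem : (bb_sl2irr_w : Matrix.SpecialLinearGroup (Fin 2) F) ∈
    commutator (Matrix.SpecialLinearGroup (Fin 2) F) := by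
  rw [bb_sl2irr_comm_of (bb_sl2irr_w : Matrix.SpecialLinearGroup (Fin 2) F) (bb_sl2irr_u 1) (bb_sl2irr_l 1)]
  · exact bb_sl2irr_comm_mem _ _
  · apply Subtype.ext
    rw [Matrix.SpecialLinearGroup.coe_mul, Matrix.SpecialLinearGroup.coe_mul, Matrix.SpecialLinearGroup.coe_mul]
    simp only [bb_sl2irr_l_coe, bb_sl2irr_u_coe, bb_sl2irr_w_coe, Matrix.mul_fin_two]
    ext i j
    fin_cases i <;> fin_cases j <;> simp <;> ring

theorem bb_sl2irr_u_mulVec (z : F) (w : Fin 2 → F) :
    ((bb_sl2irr_u z : Matrix.SpecialLinearGroup (Fin 2) F) : Matrix (Fin 2) (Fin 2) F).mulVec w =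
      ![w 0 + z * w 1, w 1] := by
  ext i
  fin_cases i <;> simp [bb_sl2irr_u_coe, Matrix.mulVec, dotProduct, Fin.sum_univ_two]

theorem bb_sl2irr_l_mulVec (z : F) (w : Fin 2 → F) :
    ((bb_sl2irr_l z : Matrix.SpecialLinearGroup (Fin 2) F) : Matrix (Fin 2) (Fin 2) F).mulVec w =
      ![w 0, z * w 0 + w 1] := by
  ext i
  fin_cases i <;> simp [bb_sl2irr_l_coe, Matrix.mulVec, dotProduct, Fin.sum_univ_two]

theorem bb_sl2irr_w_mulVec (w : Fin 2 → F) :
    ((bb_sl2irr_w : Matrix.SpecialLinearGroup (Fin 2) F) : Matrix (Fin 2) (Fin 2) F).mulVec w =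
      ![3 * w 0 - w 1, w 0] := by
  ext i
  fin_cases i <;> simp [bb_sl2irr_w_coe, Matrix.mulVec, dotProduct, Fin.sum_univ_two] <;> ring

/-- The generic case: all unipotents are available. -/
theorem bb_sl2irr_of_unip (X : AddSubgroup (Fin 2 → F))
    (hu : ∀ z : F, ∀ v ∈ X, ((bb_sl2irr_u z : Matrix.SpecialLinearGroup (Fin 2) F) :
      Matrix (Fin 2) (Fin 2) F).mulVec v ∈ X)
    (hl : ∀ z : F, ∀ v ∈ X, ((bb_sl2irr_l z : Matrix.SpecialLinearGroup (Fin 2) F) :
      Matrix (Fin 2) (Fin 2) F).mulVec v ∈ X)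
    (hne : X ≠ ⊥) : X = ⊤ := by
  obtain ⟨v, hvX, hv0⟩ : ∃ v ∈ X, v ≠ 0 := by
    by_contra hcon
    push Not at hcon
    exact hne ((AddSubgroup.eq_bot_iff_forall X).mpr hcon)
  have hu' : ∀ z : F, ∀ w ∈ X, ![z * w 1, 0] ∈ X := by
    intro z w hw
    have h1 := X.sub_mem (hu z w hw) hw
    rw [bb_sl2irr_u_mulVec] at h1
    convert h1 using 1
    ext i
    fin_cases i <;> simp
  have hl' : ∀ z : F, ∀ w ∈ X, ![0, z * w 0] ∈ X := by
    intro z w hw
    have h1 := X.sub_mem (hl z w hw) hw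
    rw [bb_sl2irr_l_mulVec] at h1
    convert h1 using 1
    ext i
    fin_cases i <;> simp
  have key : (∀ c : F, ![c, 0] ∈ X) ∧ (∀ d : F, ![0, d] ∈ X) := by
    by_cases hb : v 1 = 0
    · have ha : v 0 ≠ 0 := by
        intro ha
        apply hv0
        ext i
        fin_cases i
        · exact ha
        · exact hb
      have h2 : ∀ d : F, ![0, d] ∈ X := by
        intro d
        have := hl' (d / v 0) v hvX
        rwa [div_mul_cancel₀ d ha] at this
      refine ⟨?_, h2⟩
      intro c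
      have := hu' c _ (h2 1)
      simpa using this
    · have h1 : ∀ c : F, ![c, 0] ∈ X := by
        intro c
        have := hu' (c / v 1) v hvX
        rwa [div_mul_cancel₀ c hb] at this
      refine ⟨h1, ?_⟩
      intro d
      have := hl' d _ (h1 1)
      simpa using this
  rw [eq_top_iff]
  intro w _
  have : w = ![w 0, 0] + ![0, w 1] := by
    ext i
    fin_cases i <;> simp
  rw [this]
  exact X.add_mem (key.1 _) (key.2 _)

theorem bb_sl2irr_D_ne (h5 : (5 : F) ≠ 0) (a b : F) (ha : a = 0 ∨ a = 1 ∨ a = -1)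
    (hb : b = 0 ∨ b = 1 ∨ b = -1) (hab : a ≠ 0 ∨ b ≠ 0) : a ^ 2 - 3 * a * b + b ^ 2 ≠ 0 := by
  rcases ha with rfl | rfl | rfl <;> rcases hb with rfl | rfl | rfl
  · simp at hab
  · norm_num
  · norm_num
  · norm_num
  · norm_num
  · norm_num
    exact h5
  · norm_num
  · norm_num
    exact h5
  · norm_num

/-- The small case: all scalars are `0, 1, -1` and `5 ≠ 0`. -/
theorem bb_sl2irr_small (X : AddSubgroup (Fin 2 → F)) (h5 : (5 : F) ≠ 0)
    (h3 : ∀ c : F, c = 0 ∨ c = 1 ∨ c = -1)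
    (hw : ∀ v ∈ X, ((bb_sl2irr_w : Matrix.SpecialLinearGroup (Fin 2) F) :
      Matrix (Fin 2) (Fin 2) F).mulVec v ∈ X)
    (hne : X ≠ ⊥) : X = ⊤ := by
  obtain ⟨v, hvX, hv0⟩ : ∃ v ∈ X, v ≠ 0 := by
    by_contra hcon
    push Not at hcon
    exact hne ((AddSubgroup.eq_bot_iff_forall X).mpr hcon)
  have hsm : ∀ c : F, ∀ u ∈ X, c • u ∈ X := by
    intro c u hu
    rcases h3 c with rfl | rfl | rfl
    · rw [zero_smul]
      exact X.zero_mem
    · rw [one_smul]
      exact hu
    · rw [neg_smul, one_smul]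
      exact X.neg_mem hu
  have hab : v 0 ≠ 0 ∨ v 1 ≠ 0 := by
    by_contra hcon
    push Not at hcon
    apply hv0
    ext i
    fin_cases i
    · exact hcon.1
    · exact hcon.2
  have hD := bb_sl2irr_D_ne h5 (v 0) (v 1) (h3 _) (h3 _) hab
  have hgv := hw v hvX
  rw [bb_sl2irr_w_mulVec] at hgv
  rw [eq_top_iff]
  intro u _
  set a := v 0 with ha
  set b := v 1 with hb
  set D := a ^ 2 - 3 * a * b + b ^ 2 with hDdef
  have : u = ((u 0 * a - u 1 * (3 * a - b)) / D) • v + ((a * u 1 - b * u 0) / D) • ![3 * a - b, a] := by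
    ext i
    fin_cases i
    · simp only [Fin.zero_eta, Pi.add_apply, Pi.smul_apply, smul_eq_mul, Matrix.cons_val_zero]
      rw [← ha]
      field_simp
      ring
    · simp only [Fin.mk_one, Pi.add_apply, Pi.smul_apply, smul_eq_mul, Matrix.cons_val_one, Matrix.cons_val_zero]
      rw [← hb]
      field_simp
      ring
  rw [this]
  exact X.add_mem (hsm _ _ hvX) (hsm _ _ hgv)

end

theorem sl2_comm_irred (F : Type*) [Field F] [Fintype F] (X : AddSubgroup (Fin 2 → F))
    (hX : ∀ g ∈ commutator (Matrix.SpecialLinearGroup (Fin 2) F), ∀ v ∈ X,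
      (g : Matrix (Fin 2) (Fin 2) F).mulVec v ∈ X)
    (hne : X ≠ ⊥) : X = ⊤ := by
  classical
  by_cases hcard : 4 ≤ Fintype.card F
  · -- generic case
    obtain ⟨t, ht0, ht1, htm⟩ : ∃ t : F, t ≠ 0 ∧ t ≠ 1 ∧ t ≠ -1 := by
      have hlt : ({0, 1, -1} : Finset F).card < (Finset.univ : Finset F).card := by
        rw [Finset.card_univ]
        have := Finset.card_le_three (a := (0 : F)) (b := 1) (c := -1)
        omega
      obtain ⟨t, _, ht⟩ := Finset.exists_mem_notMem_of_card_lt_card hlt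
      simp only [Finset.mem_insert, Finset.mem_singleton, not_or] at ht
      exact ⟨t, ht.1, ht.2.1, ht.2.2⟩
    have ht2 : t ^ 2 - 1 ≠ 0 := by
      intro h
      have : (t - 1) * (t + 1) = 0 := by ring_nf; ring_nf at h; exact h
      rcases mul_eq_zero.mp this with h | h
      · exact ht1 (sub_eq_zero.mp h)
      · exact htm (eq_neg_of_add_eq_zero_left h)
    have hts : t * t⁻¹ = 1 := mul_inv_cancel₀ ht0
    apply bb_sl2irr_of_unip X _ _ hne
    · intro z v hv
      have := bb_sl2irr_u_mem t t⁻¹ hts (z / (t ^ 2 - 1))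
      rw [mul_div_cancel₀ z ht2] at this
      exact hX _ this v hv
    · intro z v hv
      have := bb_sl2irr_l_mem t t⁻¹ hts (z / (t ^ 2 - 1))
      rw [mul_div_cancel₀ z ht2] at this
      exact hX _ this v hv
  · -- |F| = 2 or 3
    have h1 : 1 < Fintype.card F := Fintype.one_lt_card
    have hc : Fintype.card F = 2 ∨ Fintype.card F = 3 := by omega
    have hpow : ∀ c : F, c ^ Fintype.card F = c := FiniteField.pow_card
    have hcast : ((Fintype.card F : ℕ) : F) = 0 := FiniteField.cast_card_eq_zero F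
    apply bb_sl2irr_small X _ _ (fun v hv => hX _ bb_sl2irr_w_mem v hv) hne
    · rcases hc with hc | hc
      · rw [hc] at hcast
        have h2 : (2 : F) = 0 := by exact_mod_cast hcast
        have : (5 : F) = 1 := by linear_combination (2 : F) * h2
        rw [this]
        exact one_ne_zero
      · rw [hc] at hcast
        have h3 : (3 : F) = 0 := by exact_mod_cast hcast
        have : (5 : F) = -1 := by linear_combination (2 : F) * h3
        rw [this]
        exact neg_ne_zero.mpr one_ne_zero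
    · intro c
      rcases hc with hc | hc
      · have := hpow c
        rw [hc] at this
        have h : c * (c - 1) = 0 := by linear_combination this
        rcases mul_eq_zero.mp h with h | h
        · exact Or.inl h
        · exact Or.inr (Or.inl (sub_eq_zero.mp h))
      · have := hpow c
        rw [hc] at this
        have h : c * ((c - 1) * (c + 1)) = 0 := by linear_combination this
        rcases mul_eq_zero.mp h with h | h
        · exact Or.inl h
        · rcases mul_eq_zero.mp h with h | h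
          · exact Or.inr (Or.inl (sub_eq_zero.mp h))
          · exact Or.inr (Or.inr (eq_neg_of_add_eq_zero_left h))

end Cfsg.Agent.Helper16.BB
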