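import Mathlib

/-!
Generated tables for the torus argument, type B2.
-/

set_option autoImplicit false

namespace Cfsg.Agent.Helper6.CExt

def unitTabB2 : List (List ℤ) :=
  [[-1, 0], [0, -1], [0, 1], [0, -1], [0, 1], [0, -1], [0, 1], [1, 0]]

def selfTabB2 : List (ℕ × ℕ) :=
  [(1, 2), (0, 0), (0, 0), (1, 5), (2, 6), (0, 0), (0, 0), (5, 6)]

def killTabB2 : List (List (List ℤ)) :=
  [[[], [0, 1], [0, 1], [0, 1], [0, 1], [0, 1], [0, 1], []],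
   [[1, 0], [], [1, 0], [1, 0], [1, 0], [1, 0], [], [1, 0]],
   [[1, 2], [1, 2], [], [1, 2], [1, 2], [], [1, 2], [1, 2]],
   [[1, 1], [1, 1], [1, 1], [], [], [1, 1], [1, 1], [1, 1]],
   [[1, 1], [1, 1], [1, 1], [], [], [1, 1], [1, 1], [1, 1]],
   [[1, 2], [1, 2], [], [1, 2], [1, 2], [], [1, 2], [1, 2]],
   [[1, 0], [], [1, 0], [1, 0], [1, 0], [1, 0], [], [1, 0]],
   [[], [0, 1], [0, 1], [0, 1], [0, 1], [0, 1], [0, 1], []]]

def wordsB2 : List (List ℕ) :=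
  [[], [0, 1, 0], [1, 0], [0], [1, 0, 1], [1], [0, 1], [1, 0, 1, 0]]

def lwB2 : List (List ℕ) :=
  [[4, 5, 6, 7], [4, 1, 2, 0], [7, 1, 5, 3], [7, 2, 6, 4], [0, 5, 1, 3], [3, 6, 5, 7], [0, 6, 2, 4], [3, 2, 1, 0]]

/-- the torus cocharacter for a pair of roots -/
def kvB2 (r s : ℕ) : List ℤ := (killTabB2.getD r []).getD s []

end Cfsg.Agent.Helper6.CExt
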