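import Mathlib
import Cfsg.Agent.Lib.Helper6.CExtBasic

/-!
# Central extensions: lifting one root subgroup

`x : K → Γ` is additive, `ρ : E → Γ` is a central extension.  If there are elements of `Γ` acting on the root
subgroup by the scalars `ν` and `1 + ν` (with `ν ≠ 0`, `ν² + ν + 1 ≠ 0`), the lifts of the root elements commute
with each other; and an element acting by a scalar `λ₀ ≠ 1` then gives a canonical additive lift.
-/

set_option autoImplicit false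
set_option linter.unusedSectionVars false
set_option linter.unusedVariables false

namespace Cfsg.Agent.Helper6.CExt

open scoped IsMulCommutative

variable {K : Type*} [Field K] {E Γ : Type*} [Group E] [Group Γ] (ρ : E →* Γ)
  (hc : ρ.ker ≤ Subgroup.center E) (hs : Function.Surjective ρ) (x : K → Γ)
  (hadd : ∀ t u : K, x t * x u = x (t + u))

include hadd in
theorem root_zero : x 0 = 1 := by
  have := hadd 0 0
  rw [add_zero] at this
  exact mul_left_cancel (this.trans (mul_one _).symm)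

include hadd in
theorem root_inv (t : K) : (x t)⁻¹ = x (-t) := by
  apply inv_eq_of_mul_eq_one_right
  rw [hadd, add_neg_cancel, root_zero x hadd]

include hadd in
theorem root_commute (t u : K) : Commute (x t) (x u) := by
  show x t * x u = x u * x t
  rw [hadd, hadd, add_comm]

include hc hs hadd in
/-- lifts of root elements commute -/
theorem lifts_commute (ν : K) (hν : ν ≠ 0) (hν2 : ν * ν + ν + 1 ≠ 0)
    (h₁ h₂ : Γ) (hh₁ : ∀ t, h₁ * x t * h₁⁻¹ = x (ν * t)) (hh₂ : ∀ t, h₂ * x t * h₂⁻¹ = x ((1 + ν) * t))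
    (a b : E) (t u : K) (ha : ρ a = x t) (hb : ρ b = x u) : a * b = b * a := by
  obtain ⟨xh, hxh⟩ : ∃ xh : K → E, ∀ t, ρ (xh t) = x t :=
    ⟨fun t => (hs (x t)).choose, fun t => (hs (x t)).choose_spec⟩
  obtain ⟨g₁, hg₁⟩ := hs h₁
  obtain ⟨g₂, hg₂⟩ := hs h₂
  have hcomm : ∀ t u, Commute (ρ (xh t)) (ρ (xh u)) := by
    intro t u
    rw [hxh, hxh]
    exact root_commute x hadd t u
  have hρe : ∀ t u, ρ (xh t * xh u * (xh t)⁻¹ * (xh u)⁻¹) = 1 := by
    intro t u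
    simp only [map_mul, map_inv]
    rw [(hcomm t u).eq]
    group
  have hmem : ∀ t u, xh t * xh u * (xh t)⁻¹ * (xh u)⁻¹ ∈ Subgroup.center E :=
    fun t u => hc (MonoidHom.mem_ker.2 (hρe t u))
  let bb : K → K → Additive (Subgroup.center E) := fun t u => Additive.ofMul ⟨_, hmem t u⟩
  have hl : ∀ t t' u, bb (t + t') u = bb t u + bb t' u := by
    intro t t' u
    show Additive.ofMul _ = Additive.ofMul _ + Additive.ofMul _
    rw [← ofMul_mul]
    congr 1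
    apply Subtype.ext
    show xh (t + t') * xh u * (xh (t + t'))⁻¹ * (xh u)⁻¹ =
      (xh t * xh u * (xh t)⁻¹ * (xh u)⁻¹) * (xh t' * xh u * (xh t')⁻¹ * (xh u)⁻¹)
    rw [← comm_mul_left ρ hc (xh t) (xh t') (xh u) (hcomm t' u)]
    apply comm_eq ρ hc
    · rw [map_mul, hxh, hxh, hxh, hadd]
    · rfl
  have hr : ∀ t u u', bb t (u + u') = bb t u + bb t u' := by
    intro t u u'
    show Additive.ofMul _ = Additive.ofMul _ + Additive.ofMul _
    rw [← ofMul_mul]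
    congr 1
    apply Subtype.ext
    show xh t * xh (u + u') * (xh t)⁻¹ * (xh (u + u'))⁻¹ =
      (xh t * xh u * (xh t)⁻¹ * (xh u)⁻¹) * (xh t * xh u' * (xh t)⁻¹ * (xh u')⁻¹)
    rw [← comm_mul_right ρ hc (xh t) (xh u) (xh u') (hcomm t u')]
    apply comm_eq ρ hc
    · rfl
    · rw [map_mul, hxh, hxh, hxh, hadd]
  have hinv : ∀ (g : E) (h : Γ) (χ : K), ρ g = h → (∀ t, h * x t * h⁻¹ = x (χ * t)) →
      ∀ t u, bb (χ * t) (χ * u) = bb t u := by
    intro g h χ hg hh t u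
    show Additive.ofMul _ = Additive.ofMul _
    congr 1
    apply Subtype.ext
    show xh (χ * t) * xh (χ * u) * (xh (χ * t))⁻¹ * (xh (χ * u))⁻¹ =
      xh t * xh u * (xh t)⁻¹ * (xh u)⁻¹
    have e1 : xh (χ * t) * xh (χ * u) * (xh (χ * t))⁻¹ * (xh (χ * u))⁻¹ =
        (g * xh t * g⁻¹) * (g * xh u * g⁻¹) * (g * xh t * g⁻¹)⁻¹ * (g * xh u * g⁻¹)⁻¹ := by
      apply comm_eq ρ hc
      · rw [map_mul, map_mul, map_inv, hg, hxh, hxh, hh]
      · rw [map_mul, map_mul, map_inv, hg, hxh, hxh, hh]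
    rw [e1]
    have e2 : (g * xh t * g⁻¹) * (g * xh u * g⁻¹) * (g * xh t * g⁻¹)⁻¹ * (g * xh u * g⁻¹)⁻¹ =
        g * (xh t * xh u * (xh t)⁻¹ * (xh u)⁻¹) * g⁻¹ := by group
    rw [e2, central_of_map_one ρ hc _ (hρe t u) g]
    group
  have hz := biadd_zero bb hl hr ν hν hν2 (hinv g₁ h₁ ν hg₁ hh₁) (hinv g₂ h₂ (1 + ν) hg₂ hh₂) t u
  have hz' : xh t * xh u * (xh t)⁻¹ * (xh u)⁻¹ = 1 := by
    have := congrArg (fun z : Additive (Subgroup.center E) => ((Additive.toMul z : Subgroup.center E) : E)) hz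
    exact this
  have h3 : a * b * a⁻¹ * b⁻¹ = 1 := by
    rw [← hz']
    apply comm_eq ρ hc
    · rw [ha, hxh]
    · rw [hb, hxh]
  have : a * b = (a * b * a⁻¹ * b⁻¹) * (b * a) := by group
  rw [this, h3, one_mul]

include hc hs hadd in
/-- the canonical additive lift of a root subgroup -/
theorem exists_lift (lam : K) (hlam : lam ≠ 1) (h₀ : Γ) (hh₀ : ∀ t, h₀ * x t * h₀⁻¹ = x (lam * t))
    (hcomm : ∀ (a b : E) (t u : K), ρ a = x t → ρ b = x u → a * b = b * a) :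
    ∃ φ : K → E, (∀ t, ρ (φ t) = x t) ∧ (∀ t u, φ t * φ u = φ (t + u)) ∧
      ∀ (g : E) (χ : K), Commute (ρ g) h₀ → (∀ t, ρ g * x t * (ρ g)⁻¹ = x (χ * t)) →
        ∀ t, g * φ t * g⁻¹ = φ (χ * t) := by
  obtain ⟨xh, hxh⟩ : ∃ xh : K → E, ∀ t, ρ (xh t) = x t :=
    ⟨fun t => (hs (x t)).choose, fun t => (hs (x t)).choose_spec⟩
  obtain ⟨g₀, hg₀⟩ := hs h₀
  have hd : lam - 1 ≠ 0 := sub_ne_zero.2 hlam
  have hφρ : ∀ t, ρ (g₀ * xh (t / (lam - 1)) * g₀⁻¹ * (xh (t / (lam - 1)))⁻¹) = x t := by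
    intro t
    rw [map_mul, map_mul, map_mul, map_inv, map_inv, hg₀, hxh, hh₀, root_inv x hadd, hadd]
    congr 1
    field_simp
    ring
  refine ⟨fun t => g₀ * xh (t / (lam - 1)) * g₀⁻¹ * (xh (t / (lam - 1)))⁻¹, hφρ, ?_, ?_⟩
  · intro t u
    show (g₀ * xh (t / (lam - 1)) * g₀⁻¹ * (xh (t / (lam - 1)))⁻¹) *
        (g₀ * xh (u / (lam - 1)) * g₀⁻¹ * (xh (u / (lam - 1)))⁻¹) =
      g₀ * xh ((t + u) / (lam - 1)) * g₀⁻¹ * (xh ((t + u) / (lam - 1)))⁻¹
    have e1 : g₀ * xh ((t + u) / (lam - 1)) * g₀⁻¹ * (xh ((t + u) / (lam - 1)))⁻¹ =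
        g₀ * (xh (t / (lam - 1)) * xh (u / (lam - 1))) * g₀⁻¹ *
          (xh (t / (lam - 1)) * xh (u / (lam - 1)))⁻¹ := by
      apply comm_eq ρ hc
      · rfl
      · rw [map_mul, hxh, hxh, hxh, hadd, add_div]
    rw [e1]
    have e2 : g₀ * (xh (t / (lam - 1)) * xh (u / (lam - 1))) * g₀⁻¹ *
          (xh (t / (lam - 1)) * xh (u / (lam - 1)))⁻¹ =
        (g₀ * xh (t / (lam - 1)) * g₀⁻¹ * (xh (t / (lam - 1)))⁻¹) *
          (xh (t / (lam - 1)) * (g₀ * xh (u / (lam - 1)) * g₀⁻¹ * (xh (u / (lam - 1)))⁻¹)) *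
          (xh (t / (lam - 1)))⁻¹ := by group
    rw [e2, hcomm (xh (t / (lam - 1))) _ (t / (lam - 1)) u (hxh _) (hφρ u)]
    group
  · intro g χ hgc hg t
    show g * (g₀ * xh (t / (lam - 1)) * g₀⁻¹ * (xh (t / (lam - 1)))⁻¹) * g⁻¹ =
      g₀ * xh (χ * t / (lam - 1)) * g₀⁻¹ * (xh (χ * t / (lam - 1)))⁻¹
    have e1 : g * (g₀ * xh (t / (lam - 1)) * g₀⁻¹ * (xh (t / (lam - 1)))⁻¹) * g⁻¹ =
        (g * g₀ * g⁻¹) * (g * xh (t / (lam - 1)) * g⁻¹) * (g * g₀ * g⁻¹)⁻¹ *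
          (g * xh (t / (lam - 1)) * g⁻¹)⁻¹ := by group
    rw [e1]
    apply comm_eq ρ hc
    · rw [map_mul, map_mul, map_inv, hg₀, hgc.eq]
      group
    · rw [map_mul, map_mul, map_inv, hxh, hxh, hg, mul_div_assoc]

end Cfsg.Agent.Helper6.CExt
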