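import Mathlib
import Cfsg.Agent.Lib.Helper6.StInj
import Cfsg.Agent.Lib.Helper6.CExtRoot

/-!
# Central extensions: lifting the commutator relations

`ρ : E → Γ` is a central extension of a group `Γ` with Steinberg's relations which maps to the Chevalley group;
`φ r t` are additive lifts of the `X r t` on which suitable elements of `E` act by scalars.  Then the `φ r t`
satisfy Steinberg's relations.
-/

set_option autoImplicit false
set_option linter.unusedSectionVars false
set_option linter.unusedVariables false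

namespace Cfsg.Agent.Helper6.CExt

open Cfsg Cfsg.Lie Cfsg.Agent.Lead.Chev Cfsg.Agent.Helper6.StC

variable {K : Type*} [Field K] {E Γ : Type*} [Group E] [Group Γ]

/-- additivity of a family -/
def AddRel (D : ChevalleyDatum) (φ : ℕ → K → E) : Prop :=
  ∀ r < D.nroots, ∀ t u : K, φ r t * φ r u = φ r (t + u)

theorem wordG_mem' (φ : ℕ → K → E) (P : Subgroup E) (w : List (ℕ × K)) (hw : ∀ q ∈ w, φ q.1 q.2 ∈ P) :
    wordG φ w ∈ P := by
  induction w with
  | nil => rw [wordG_nil]; exact one_mem _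
  | cons q w ih =>
    rw [wordG_cons]
    exact mul_mem (hw q List.mem_cons_self) (ih fun q' hq' => hw q' (List.mem_cons_of_mem _ hq'))

namespace AddRel

variable {D : ChevalleyDatum} {φ : ℕ → K → E} (h : AddRel D φ)
include h

theorem zero (r : ℕ) (hr : r < D.nroots) : φ r 0 = 1 := by
  have := h r hr 0 0
  rw [add_zero] at this
  exact mul_left_cancel (this.trans (mul_one _).symm)

theorem inv (r : ℕ) (hr : r < D.nroots) (t : K) : (φ r t)⁻¹ = φ r (-t) := by
  apply inv_eq_of_mul_eq_one_right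
  rw [h r hr, add_neg_cancel, h.zero r hr]

theorem prodX_zero (L : List ℕ) (hL : ∀ s ∈ L, s < D.nroots) : prodX φ L (fun _ => (0 : K)) = 1 := by
  induction L with
  | nil => exact prodX_nil φ _
  | cons r L ih =>
    rw [prodX_cons, h.zero r (hL r List.mem_cons_self),
      ih (fun s hs => hL s (List.mem_cons_of_mem _ hs)), one_mul]

/-- moving `φ_r(a)` to the left through a word over `L'` -/
theorem word_mul_x (r : ℕ) (L' : List ℕ) (hL' : ∀ s ∈ L', s < D.nroots) (hc : ClosedL φ L')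
    (hcomm : ∀ s ∈ L', ∀ a b : K, ∃ w : List (ℕ × K), (∀ q ∈ w, q.1 ∈ L') ∧
      φ s b * φ r a = φ r a * φ s b * wordG φ w)
    (a : K) (w : List (ℕ × K)) (hw : ∀ q ∈ w, q.1 ∈ L') :
    ∃ t₂ : ℕ → K, wordG φ w * φ r a = φ r a * prodX φ L' t₂ := by
  induction w using List.reverseRecOn with
  | nil => exact ⟨fun _ => 0, by rw [wordG_nil, one_mul, h.prodX_zero L' hL', mul_one]⟩
  | append_singleton w q ih =>
    have hq : q.1 ∈ L' := hw q (by simp)
    obtain ⟨t₁, h₁⟩ := ih (fun q' hq' => hw q' (by simp [hq']))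
    obtain ⟨wq, hwq, hcq⟩ := hcomm q.1 hq a q.2
    obtain ⟨t₂, h₂⟩ := hc t₁ q.1 hq q.2
    obtain ⟨t₃, h₃⟩ := closed_mulWord φ L' hc wq hwq t₂
    refine ⟨t₃, ?_⟩
    rw [wordG_append, wordG_cons, wordG_nil, mul_one, mul_assoc, hcq, ← mul_assoc, ← mul_assoc,
      h₁, mul_assoc (φ r a), h₂, mul_assoc, h₃]

theorem closed_cons (r : ℕ) (L' : List ℕ) (hr : r < D.nroots)
    (hL' : ∀ s ∈ L', s < D.nroots) (hrL : r ∉ L') (hc : ClosedL φ L')
    (hcomm : ∀ s ∈ L', ∀ a b : K, ∃ w : List (ℕ × K), (∀ q ∈ w, q.1 ∈ L') ∧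
      φ s b * φ r a = φ r a * φ s b * wordG φ w) :
    ClosedL φ (r :: L') := by
  intro t s hs a
  rcases List.mem_cons.1 hs with rfl | hs
  · obtain ⟨t₂, h₂⟩ := h.word_mul_x s L' hL' hc hcomm a (L'.map fun r => (r, t r)) (by
      intro q hq
      obtain ⟨r', hr', rfl⟩ := List.mem_map.1 hq
      exact hr')
    refine ⟨Function.update t₂ s (t s + a), ?_⟩
    rw [prodX_cons, prodX_cons, prodX_update φ L' t₂ s _ hrL, mul_assoc]
    change φ s (t s) * (wordG φ _ * φ s a) = _
    rw [h₂, ← mul_assoc, h s hr]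
    simp [Function.update]
  · obtain ⟨t₁, h₁⟩ := hc t s hs a
    refine ⟨Function.update t₁ r (t r), ?_⟩
    rw [prodX_cons, prodX_cons, prodX_update φ L' t₁ r _ hrL, mul_assoc, h₁]
    simp [Function.update]

/-- every element of the subgroup generated by the `φ_s`, `s ∈ L`, is an ordered product -/
theorem exists_prodX_of_mem (L : List ℕ) (hL : ∀ s ∈ L, s < D.nroots) (hcl : ClosedL φ L) (g : E)
    (hg : g ∈ subL φ L) : ∃ t : ℕ → K, g = prodX φ L t := by
  unfold subL at hg
  induction hg using Subgroup.closure_induction_right with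
  | one => exact ⟨fun _ => 0, (h.prodX_zero L hL).symm⟩
  | mul_right x hx y hy ih =>
    obtain ⟨t, ht⟩ := ih
    obtain ⟨s, hs, a, rfl⟩ := hy
    obtain ⟨t', ht'⟩ := hcl t s hs a
    exact ⟨t', by rw [ht, ht']⟩
  | mul_inv_cancel x hx y hy ih =>
    obtain ⟨t, ht⟩ := ih
    obtain ⟨s, hs, a, rfl⟩ := hy
    obtain ⟨t', ht'⟩ := hcl t s hs (-a)
    exact ⟨t', by rw [ht, h.inv s (hL s hs), ht']⟩

end AddRel

/-- unique expression of ordered products -/
def UniqueL (X : ℕ → K → Γ) (L : List ℕ) : Prop :=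
  ∀ t t' : ℕ → K, prodX X L t = prodX X L t' → ∀ r ∈ L, t r = t' r

theorem UniqueL.tail {X : ℕ → K → Γ} {r : ℕ} {L' : List ℕ} (hz : X r 0 = 1) (hrL : r ∉ L')
    (h : UniqueL X (r :: L')) : UniqueL X L' := by
  intro t t' e q hq
  have h1 := h (Function.update t r 0) (Function.update t' r 0) (by
    rw [prodX_cons, prodX_cons, prodX_update X L' t r _ hrL, prodX_update X L' t' r _ hrL, e]
    simp [Function.update]) q (List.mem_cons_of_mem _ hq)
  have hqr : q ≠ r := fun hh => hrL (hh ▸ hq)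
  simpa [Function.update, hqr] using h1

/-- the images of the ordered products over `w(Φ⁺)` have unique expressions -/
theorem uniqueL_listW {D : ChevalleyDatum} {X : ℕ → K → Γ} {θ : Γ →* GL D.Idx K} (S : Setup D X θ)
    (w : List ℕ) (hw : ∀ i ∈ w, i < D.rank) : UniqueL X (listW D w) := by
  intro t t' h0
  have h := congrArg θ h0
  have hRC := S.rightClosed_listW w hw
  have hsg : ∀ c, ((signWord D (etaOf D) w c : ℤ) : K) * ((signWord D (etaOf D) w c : ℤ) : K) = 1 := by
    intro c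
    rcases signWord_sq D (etaOf D) w (fun j hj s => (S.facts.nsimple j (hw j hj)).sign s) c with h1 | h1 <;>
      rw [h1] <;> simp
  have key : ∀ τ : ℕ → K, θ (prodX X (listW D w) τ) =
      nWordGL D S.facts.xadd w * wordGL D S.facts.xadd (D.posRoots.map fun c =>
        (c, ((signWord D (etaOf D) w c : ℤ) : K) * τ (reflWord D w c))) *
        (nWordGL D S.facts.xadd w)⁻¹ := by
    intro τ
    unfold prodX
    rw [S.map_wordG _ (by
      intro q hq
      obtain ⟨r, hr, rfl⟩ := List.mem_map.1 hq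
      exact hRC.lt r hr)]
    rw [S.conj_wordGL w hw _ S.pos_lt]
    unfold listW
    rw [List.map_map]
    congr 1
    apply List.map_congr_left
    intro c hc
    simp only [Function.comp]
    rw [← mul_assoc, hsg, one_mul]
  rw [key, key] at h
  have h2 := mul_left_cancel (mul_right_cancel h)
  have h3 : prodL D D.posRoots (fun c => ((signWord D (etaOf D) w c : ℤ) : K) * t (reflWord D w c)) =
      prodL D D.posRoots (fun c => ((signWord D (etaOf D) w c : ℤ) : K) * t' (reflWord D w c)) := by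
    have := congrArg (fun g : GL D.Idx K => (g : Matrix D.Idx D.Idx K)) h2
    simp only [wordGL_val] at this
    exact this
  have h4 := prodL_posRoots_inj D S.facts.ufacts S.facts.xadd.add S.facts.xadd.zero _ _ h3
  intro r hr
  unfold listW at hr
  obtain ⟨c, hc, rfl⟩ := List.mem_map.1 hr
  have h5 := h4 c (S.pos_of_mem c hc)
  have h6 := congrArg (fun z => ((signWord D (etaOf D) w c : ℤ) : K) * z) h5
  rwa [← mul_assoc, ← mul_assoc, hsg, one_mul, one_mul] at h6

/-- lifted data: additive lifts of the root elements together with enough elements acting on them by scalars -/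
structure Lifted (D : ChevalleyDatum) (X : ℕ → K → Γ) (ρ : E →* Γ) (φ : ℕ → K → E) : Prop where
  map : ∀ r < D.nroots, ∀ t : K, ρ (φ r t) = X r t
  add : AddRel D φ
  kill : ∀ r < D.nroots, ∀ s < D.nroots, s ≠ r → s ≠ D.neg r →
    ∃ (g : E) (χ : ℕ → K), χ r = 1 ∧ χ s ≠ 1 ∧ (∀ c ∈ D.commTerms r s, χ c.1 = χ s ^ c.2.2.2) ∧
      ∀ q < D.nroots, ∀ t : K, g * φ q t * g⁻¹ = φ q (χ q * t)

theorem map_wordG {D : ChevalleyDatum} {X : ℕ → K → Γ} (ρ : E →* Γ) {φ : ℕ → K → E}
    (hmap : ∀ r < D.nroots, ∀ t : K, ρ (φ r t) = X r t) (w : List (ℕ × K))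
    (hw : ∀ q ∈ w, q.1 < D.nroots) : ρ (wordG φ w) = wordG X w := by
  induction w with
  | nil => rw [wordG_nil, wordG_nil, map_one]
  | cons q w ih =>
    rw [wordG_cons, wordG_cons, map_mul, hmap q.1 (hw q List.mem_cons_self),
      ih fun q' hq' => hw q' (List.mem_cons_of_mem _ hq')]

theorem map_prodX {D : ChevalleyDatum} {X : ℕ → K → Γ} (ρ : E →* Γ) {φ : ℕ → K → E}
    (hmap : ∀ r < D.nroots, ∀ t : K, ρ (φ r t) = X r t) (L : List ℕ) (hL : ∀ s ∈ L, s < D.nroots)
    (τ : ℕ → K) : ρ (prodX φ L τ) = prodX X L τ := by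
  unfold prodX
  apply map_wordG ρ hmap
  intro q hq
  obtain ⟨r, hr, rfl⟩ := List.mem_map.1 hq
  exact hL r hr

theorem conj_wordG {D : ChevalleyDatum} {φ : ℕ → K → E} (g : E) (χ : ℕ → K)
    (hg : ∀ q < D.nroots, ∀ t : K, g * φ q t * g⁻¹ = φ q (χ q * t)) (w : List (ℕ × K))
    (hw : ∀ q ∈ w, q.1 < D.nroots) :
    g * wordG φ w * g⁻¹ = wordG φ (w.map fun q => (q.1, χ q.1 * q.2)) := by
  induction w with
  | nil => rw [List.map_nil, wordG_nil]; group
  | cons q w ih =>
    rw [List.map_cons, wordG_cons, wordG_cons, ← ih fun q' hq' => hw q' (List.mem_cons_of_mem _ hq'),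
      ← hg q.1 (hw q List.mem_cons_self)]
    group

section main

variable {D : ChevalleyDatum} {X : ℕ → K → Γ} {θ : Γ →* GL D.Idx K} (S : Setup D X θ)
  (ρ : E →* Γ) (hc : ρ.ker ≤ Subgroup.center E) {φ : ℕ → K → E} (hL : Lifted D X ρ φ)

include S hc hL in
/-- the lifted commutator relation for a root `r` and a root `s` of a list on which everything is already
known -/
theorem lift_comm (r s : ℕ) (L' : List ℕ) (hr : r < D.nroots) (hs : s < D.nroots) (hne : s ≠ r)
    (hne' : s ≠ D.neg r) (hL'lt : ∀ q ∈ L', q < D.nroots) (hsL : s ∈ L')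
    (hterms : ∀ c ∈ D.commTerms r s, c.1 ∈ L') (hcl : ClosedL φ L') (hU : UniqueL X L') (t u : K) :
    φ s u * φ r t = φ r t * φ s u * wordG φ (D.commWord K r s t u) := by
  have hw : ∀ u : K, ∀ q ∈ ((s, u) :: D.commWord K r s t u), q.1 ∈ L' := by
    intro u q hq
    rcases List.mem_cons.1 hq with rfl | hq
    · exact hsL
    · unfold ChevalleyDatum.commWord at hq
      obtain ⟨c, hc', rfl⟩ := List.mem_map.1 hq
      exact hterms c hc'
  have hwlt : ∀ u : K, ∀ q ∈ D.commWord K r s t u, q.1 < D.nroots :=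
    fun u q hq => hL'lt _ (hw u q (List.mem_cons_of_mem _ hq))
  obtain ⟨n, hn⟩ : ∃ n : K → E, ∀ u, n u = φ s u * wordG φ (D.commWord K r s t u) := ⟨_, fun _ => rfl⟩
  have hn' : ∀ u, n u = wordG φ ((s, u) :: D.commWord K r s t u) := by
    intro u
    rw [hn, wordG_cons]
  have hρn : ∀ u, ρ (n u) = (X r t)⁻¹ * X s u * X r t := by
    intro u
    rw [hn', map_wordG ρ hL.map _ (fun q hq => hL'lt _ (hw u q hq)), wordG_cons, mul_assoc,
      S.rel.comm' r s hr hs hne hne' t u]
    group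
  obtain ⟨f, hf⟩ : ∃ f : K → E, ∀ u, f u = (φ r t)⁻¹ * φ s u * φ r t * (n u)⁻¹ := ⟨_, fun _ => rfl⟩
  have hρf : ∀ u, ρ (f u) = 1 := by
    intro u
    rw [hf, map_mul, map_inv, hρn, map_mul, map_mul, map_inv, hL.map r hr, hL.map s hs]
    group
  have hfc : ∀ u y, y * f u = f u * y := fun u y => central_of_map_one ρ hc _ (hρf u) y
  have hfn : ∀ u, (φ r t)⁻¹ * φ s u * φ r t = f u * n u := by
    intro u
    rw [hf]
    group
  have hzero : prodX φ L' (fun _ => (0 : K)) = 1 := hL.add.prodX_zero L' hL'lt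
  have hnP : ∀ u, ∃ τ : ℕ → K, n u = prodX φ L' τ := by
    intro u
    obtain ⟨τ, hτ⟩ := closed_mulWord φ L' hcl _ (hw u) (fun _ => 0)
    exact ⟨τ, by rw [← hτ, hzero, one_mul, hn']⟩
  -- additivity
  have hfadd : ∀ u u', f (u + u') = f u * f u' := by
    intro u u'
    obtain ⟨τ, hτ⟩ := hnP u
    obtain ⟨τ₁, hτ₁⟩ := closed_mulWord φ L' hcl _ (hw u') τ
    obtain ⟨τ₂, hτ₂⟩ := hnP (u + u')
    have hnn : n u * n u' = prodX φ L' τ₁ := by rw [hτ, ← hτ₁, hn']
    have hρ1 : ρ (n (u + u')) = ρ (n u * n u') := by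
      rw [map_mul, hρn, hρn, hρn, ← S.rel.add s hs]
      group
    have hX : prodX X L' τ₂ = prodX X L' τ₁ := by
      rw [← map_prodX ρ hL.map L' hL'lt, ← map_prodX ρ hL.map L' hL'lt, ← hτ₂, ← hnn, hρ1]
    have hτeq : ∀ q ∈ L', τ₂ q = τ₁ q := hU τ₂ τ₁ hX
    have hnadd : n (u + u') = n u * n u' := by
      rw [hτ₂, hnn]
      exact prodX_congr φ L' _ _ hτeq
    have e1 : f (u + u') * n (u + u') = f u * n u * (f u' * n u') := by
      rw [← hfn, ← hfn, ← hfn, ← hL.add s hs u u']
      group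
    have e2 : f u * n u * (f u' * n u') = f u * f u' * (n u * n u') := by
      rw [mul_assoc, ← mul_assoc (n u), hfc u' (n u)]
      group
    rw [e2, ← hnadd] at e1
    exact mul_right_cancel e1
  -- invariance
  obtain ⟨gh, χ, hχr, hχs, hχc, hgh⟩ := hL.kill r hr s hs hne hne'
  have hinv : ∀ u, f (χ s * u) = f u := by
    intro u
    have h1 : gh * f u * gh⁻¹ = f u := by
      rw [hfc u gh]
      group
    have hg1 : gh * φ r t * gh⁻¹ = φ r t := by rw [hgh r hr t, hχr, one_mul]
    have hn1 : gh * n u * gh⁻¹ = n (χ s * u) := by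
      rw [hn, hn]
      have e : gh * (φ s u * wordG φ (D.commWord K r s t u)) * gh⁻¹ =
          (gh * φ s u * gh⁻¹) * (gh * wordG φ (D.commWord K r s t u) * gh⁻¹) := by group
      rw [e, hgh s hs u, conj_wordG gh χ hgh _ (hwlt u)]
      congr 2
      unfold ChevalleyDatum.commWord
      rw [List.map_map]
      apply List.map_congr_left
      intro c hc'
      simp only [Function.comp]
      rw [hχc c hc', mul_pow]
      congr 1
      ring
    have h2 : gh * f u * gh⁻¹ = f (χ s * u) := by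
      rw [hf, hf]
      have e : gh * ((φ r t)⁻¹ * φ s u * φ r t * (n u)⁻¹) * gh⁻¹ =
          (gh * φ r t * gh⁻¹)⁻¹ * (gh * φ s u * gh⁻¹) * (gh * φ r t * gh⁻¹) * (gh * n u * gh⁻¹)⁻¹ := by
        group
      rw [e, hg1, hgh s hs u, hn1]
    rw [← h2, h1]
  have hf0 : f 0 = 1 := by
    have h1 := hfadd 0 0
    rw [add_zero] at h1
    have h2 : f 0 * f 0 = f 0 * 1 := by rw [mul_one]; exact h1.symm
    exact mul_left_cancel h2
  have hfneg : ∀ u, f (-u) = (f u)⁻¹ := by
    intro u
    apply eq_inv_of_mul_eq_one_left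
    rw [← hfadd, neg_add_cancel, hf0]
  have hd : χ s - 1 ≠ 0 := sub_ne_zero.2 hχs
  have hf1 : ∀ v, f v = 1 := by
    intro v
    have e : v = χ s * (v / (χ s - 1)) + -(v / (χ s - 1)) := by
      field_simp
      ring
    rw [e, hfadd, hinv, hfneg, mul_inv_cancel]
  have h3 := hfn u
  rw [hf1, one_mul, hn] at h3
  calc φ s u * φ r t = φ r t * ((φ r t)⁻¹ * φ s u * φ r t) := by group
    _ = φ r t * (φ s u * wordG φ (D.commWord K r s t u)) := by rw [h3]
    _ = φ r t * φ s u * wordG φ (D.commWord K r s t u) := by group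

include S hc hL in
/-- ordered products of the lifts over a list closed to the right are closed under multiplication -/
theorem closedL_lift (L : List ℕ) (hRC : RightClosed D L) (hU : UniqueL X L) : ClosedL φ L := by
  induction L with
  | nil =>
    intro t s hs
    simp at hs
  | cons r L' ih =>
    obtain ⟨hr, hrL, hall, hL'⟩ := hRC
    have hU' : UniqueL X L' := hU.tail (S.rel.zero r hr) hrL
    have ih' := ih hL' hU'
    apply hL.add.closed_cons r L' hr hL'.lt hrL ih'
    intro s hs a b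
    obtain ⟨hs1, hs2, hs3, hs4⟩ := hall s hs
    refine ⟨D.commWord K r s a b, ?_,
      lift_comm S ρ hc hL r s L' hr hs1 hs2 hs3 hL'.lt hs hs4 ih' hU' a b⟩
    intro q hq
    unfold ChevalleyDatum.commWord at hq
    obtain ⟨c, hc', rfl⟩ := List.mem_map.1 hq
    exact hs4 c hc'

include S hc hL in
/-- `ρ` is injective on the subgroup generated by the lifts over such a list -/
theorem lift_inj (L : List ℕ) (hRC : RightClosed D L) (hU : UniqueL X L) (y y' : E)
    (hy : y ∈ subL φ L) (hy' : y' ∈ subL φ L) (h : ρ y = ρ y') : y = y' := by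
  have hcl := closedL_lift S ρ hc hL L hRC hU
  obtain ⟨τ, rfl⟩ := hL.add.exists_prodX_of_mem L hRC.lt hcl y hy
  obtain ⟨τ', rfl⟩ := hL.add.exists_prodX_of_mem L hRC.lt hcl y' hy'
  rw [map_prodX ρ hL.map L hRC.lt, map_prodX ρ hL.map L hRC.lt] at h
  exact prodX_congr φ L _ _ (hU τ τ' h)

include S hc hL in
/-- the lifts satisfy Steinberg's relations -/
theorem stRel_lift
    (hpairs : ∀ r < D.nroots, ∀ s < D.nroots, s ≠ r → s ≠ D.neg r →
      ∃ L : List ℕ, RightClosed D L ∧ UniqueL X L ∧ r ∈ L ∧ s ∈ L ∧ ∀ c ∈ D.commTerms r s, c.1 ∈ L) :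
    StRel D φ := by
  refine ⟨hL.add, ?_⟩
  intro r hr s hs hne hne' t u
  obtain ⟨L, hRC, hU, hrL, hsL, hcL⟩ := hpairs r hr s hs hne hne'
  apply lift_inj S ρ hc hL L hRC hU
  · exact mul_mem (mul_mem (mul_mem (inv_mem (mem_subL φ L s hsL u)) (inv_mem (mem_subL φ L r hrL t)))
      (mem_subL φ L s hsL u)) (mem_subL φ L r hrL t)
  · apply wordG_mem'
    intro q hq
    unfold ChevalleyDatum.commWord at hq
    obtain ⟨c, hc', rfl⟩ := List.mem_map.1 hq
    exact mem_subL φ L _ (hcL c hc') _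
  · rw [map_mul, map_mul, map_mul, map_inv, map_inv, hL.map r hr, hL.map s hs,
      S.rel.comm r hr s hs hne hne' t u]
    symm
    apply map_wordG ρ hL.map
    intro q hq
    unfold ChevalleyDatum.commWord at hq
    obtain ⟨c, hc', rfl⟩ := List.mem_map.1 hq
    exact hRC.lt _ (hcL c hc')

end main

end Cfsg.Agent.Helper6.CExt
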