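import Mathlib
import Cfsg.Agent.Lib.Helper6.CExtColl

/-!
# Central extensions of a group with Steinberg's relations and a torus: the relations lift
-/

set_option autoImplicit false
set_option linter.unusedSectionVars false
set_option linter.unusedVariables false

namespace Cfsg.Agent.Helper6.CExt

open Cfsg Cfsg.Lie Cfsg.Agent.Lead.Chev Cfsg.Agent.Helper6.StC

variable {K : Type*} [Field K] {E Γ : Type*} [Group E] [Group Γ]

/-- a commutative group acting on the root subgroups by scalars, with enough elements -/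
structure TorusData (D : ChevalleyDatum) (X : ℕ → K → Γ) {A : Type*} [CommGroup A] (tor : A →* Γ)
    (chr : A → ℕ → K) : Prop where
  conj : ∀ a : A, ∀ r < D.nroots, ∀ t : K, tor a * X r t * (tor a)⁻¹ = X r (chr a r * t)
  unit : ∀ r < D.nroots, ∀ v : K, v ≠ 0 → ∃ a : A, chr a r = v
  kill : ∀ r < D.nroots, ∀ s < D.nroots, s ≠ r → s ≠ D.neg r →
    ∃ a : A, chr a r = 1 ∧ chr a s ≠ 1 ∧ ∀ c ∈ D.commTerms r s, chr a c.1 = chr a s ^ c.2.2.2

section main

variable {D : ChevalleyDatum} {X : ℕ → K → Γ} {θ : Γ →* GL D.Idx K} (S : Setup D X θ)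
  (ρ : E →* Γ) (hc : ρ.ker ≤ Subgroup.center E) (hs : Function.Surjective ρ)
  {A : Type*} [CommGroup A] {tor : A →* Γ} {chr : A → ℕ → K} (T : TorusData D X tor chr)

include S hc hs T in
theorem exists_lifted (hK : ∃ ν : K, ν ≠ 0 ∧ 1 + ν ≠ 0 ∧ ν * ν + ν + 1 ≠ 0) :
    ∃ φ : ℕ → K → E, Lifted D X ρ φ ∧ ∀ r, D.nroots ≤ r → ∀ t, φ r t = 1 := by
  obtain ⟨ν, hν, hν1, hν2⟩ := hK
  have hone : ∀ r, ∃ φr : K → E, r < D.nroots → ∃ a₀ : A,
      (∀ t, ρ (φr t) = X r t) ∧ (∀ t u, φr t * φr u = φr (t + u)) ∧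
      ∀ (g : E) (χ : K), Commute (ρ g) (tor a₀) → (∀ t, ρ g * X r t * (ρ g)⁻¹ = X r (χ * t)) →
        ∀ t, g * φr t * g⁻¹ = φr (χ * t) := by
    intro r
    by_cases hr : r < D.nroots
    · obtain ⟨a₁, ha₁⟩ := T.unit r hr ν hν
      obtain ⟨a₂, ha₂⟩ := T.unit r hr (1 + ν) hν1
      have hadd : ∀ t u : K, X r t * X r u = X r (t + u) := S.rel.add r hr
      have hcomm := lifts_commute ρ hc hs (X r) hadd ν hν hν2 (tor a₁) (tor a₂)
        (fun t => by rw [T.conj a₁ r hr t, ha₁]) (fun t => by rw [T.conj a₂ r hr t, ha₂])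
      obtain ⟨φr, h1, h2, h3⟩ := exists_lift ρ hc hs (X r) hadd (1 + ν)
        (fun h => hν (by simpa using h)) (tor a₂) (fun t => by rw [T.conj a₂ r hr t, ha₂]) hcomm
      exact ⟨φr, fun _ => ⟨a₂, h1, h2, h3⟩⟩
    · exact ⟨fun _ => 1, fun h => absurd h hr⟩
  choose φ₀ hφ₀ using hone
  refine ⟨fun r t => if r < D.nroots then φ₀ r t else 1, ⟨?_, ?_, ?_⟩, ?_⟩
  · intro r hr t
    obtain ⟨a₀, h1, h2, h3⟩ := hφ₀ r hr
    simp only [if_pos hr]
    exact h1 t
  · intro r hr t u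
    obtain ⟨a₀, h1, h2, h3⟩ := hφ₀ r hr
    simp only [if_pos hr]
    exact h2 t u
  · intro r hr s hs' hne hne'
    obtain ⟨a, har, has, hac⟩ := T.kill r hr s hs' hne hne'
    obtain ⟨g, hg⟩ := hs (tor a)
    refine ⟨g, chr a, har, has, hac, ?_⟩
    intro q hq t
    obtain ⟨a₀, h1, h2, h3⟩ := hφ₀ q hq
    simp only [if_pos hq]
    apply h3 g (chr a q)
    · rw [hg]
      exact (Commute.all a a₀).map tor
    · intro t
      rw [hg]
      exact T.conj a q hq t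
  · intro r hr t
    simp only [if_neg (not_lt.2 hr)]

include S hc hs T in
/-- the relations lift -/
theorem exists_stRel (hK : ∃ ν : K, ν ≠ 0 ∧ 1 + ν ≠ 0 ∧ ν * ν + ν + 1 ≠ 0)
    (hpairs : ∀ r < D.nroots, ∀ s < D.nroots, s ≠ r → s ≠ D.neg r →
      ∃ w : List ℕ, (∀ i ∈ w, i < D.rank) ∧ r ∈ listW D w ∧ s ∈ listW D w ∧
        ∀ c ∈ D.commTerms r s, c.1 ∈ listW D w) :
    ∃ φ : ℕ → K → E, StRel D φ ∧ (∀ r < D.nroots, ∀ t, ρ (φ r t) = X r t) ∧
      ∀ r, D.nroots ≤ r → ∀ t, φ r t = 1 := by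
  obtain ⟨φ, hL, h1⟩ := exists_lifted S ρ hc hs T hK
  refine ⟨φ, ?_, hL.map, h1⟩
  apply stRel_lift S ρ hc hL
  intro r hr s hs' hne hne'
  obtain ⟨w, hw, hrw, hsw, hcw⟩ := hpairs r hr s hs' hne hne'
  exact ⟨listW D w, S.rightClosed_listW w hw, uniqueL_listW S w hw, hrw, hsw, hcw⟩

end main

section cover

variable {D : ChevalleyDatum} {φ : ℕ → K → E}

theorem lift_stX' (h1 : ∀ r, D.nroots ≤ r → ∀ t, φ r t = 1) (r : ℕ) (t : K) :
    FreeGroup.lift (fun q : Fin D.nroots × K => φ q.1.val q.2) (D.stX r t) = φ r t := by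
  unfold ChevalleyDatum.stX
  split_ifs with h
  · rw [FreeGroup.lift_apply_of]
  · rw [map_one, h1 r (not_lt.1 h)]

theorem lift_stWord' (h1 : ∀ r, D.nroots ≤ r → ∀ t, φ r t = 1) (w : List (ℕ × K)) :
    FreeGroup.lift (fun q : Fin D.nroots × K => φ q.1.val q.2) (D.stWord w) = wordG φ w := by
  unfold ChevalleyDatum.stWord wordG
  rw [map_list_prod, List.map_map]
  congr 1
  apply List.map_congr_left
  intro q hq
  exact lift_stX' h1 q.1 q.2

/-- a family with Steinberg's relations gives a homomorphism from the presented group -/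
theorem exists_hom_of_stRel (h : StRel D φ) (h1 : ∀ r, D.nroots ≤ r → ∀ t, φ r t = 1) :
    ∃ τ : D.SteinbergCover K →* E, ∀ (r : ℕ) (t : K), τ (D.scGen K r t) = φ r t := by
  have hrel : ∀ g ∈ D.steinbergRelsAB K,
      FreeGroup.lift (fun q : Fin D.nroots × K => φ q.1.val q.2) g = 1 := by
    rintro g (⟨r, t₁, t₂, hr, rfl⟩ | ⟨r, s, t, u, hr, hs, hne, hne', rfl⟩)
    · rw [map_mul, map_mul, map_inv, lift_stX' h1, lift_stX' h1, lift_stX' h1, h.add r hr,
        mul_inv_cancel]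
    · rw [map_mul, map_mul, map_mul, map_mul, map_inv, map_inv, map_inv, lift_stX' h1, lift_stX' h1,
        lift_stWord' h1, mul_inv_eq_one]
      exact h.comm r hr s hs hne hne' t u
  refine ⟨PresentedGroup.toGroup hrel, ?_⟩
  intro r t
  exact lift_stX' h1 r t

end cover

end Cfsg.Agent.Helper6.CExt
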