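import Mathlib
import Cfsg.Agent.Lib.Helper6.CExtMain
import Cfsg.Agent.Lib.Helper6.StPres
import Cfsg.Agent.Lib.Lead.ChevHCard

/-!
# Central extensions of a Chevalley group over a field with more than four elements

Every central extension `σ : E → G` of the Chevalley group admits a homomorphism from the group presented by
Steinberg's relators (R1), (R2) lifting the canonical map, provided the tables of the datum give enough torus
elements.
-/

set_option autoImplicit false
set_option linter.unusedSectionVars false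
set_option linter.unusedVariables false

namespace Cfsg.Agent.Helper6.CExt

open Cfsg Cfsg.Lie Cfsg.Agent.Lead.Chev Cfsg.Agent.Helper6.StC

variable {K : Type*} [Field K]

/-! ### the field -/

theorem exists_avoid (hK5 : ∃ s : Finset K, 4 < s.card) (a b : K) :
    ∃ ν : K, ν ≠ a ∧ ν ≠ b ∧ ν * ν + ν + 1 ≠ 0 := by
  classical
  obtain ⟨s, hs⟩ := hK5
  by_cases h : ∃ ν₁ : K, ν₁ * ν₁ + ν₁ + 1 = 0
  · obtain ⟨ν₁, h1⟩ := h
    have hne : (s \ {a, b, ν₁, -1 - ν₁}).Nonempty := by
      rw [← Finset.card_pos]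
      have h3 := Finset.le_card_sdiff ({a, b, ν₁, -1 - ν₁} : Finset K) s
      have h4 : ({a, b, ν₁, -1 - ν₁} : Finset K).card ≤ 4 := Finset.card_le_four
      omega
    obtain ⟨ν, hν⟩ := hne
    simp only [Finset.mem_sdiff, Finset.mem_insert, Finset.mem_singleton, not_or] at hν
    refine ⟨ν, hν.2.1, hν.2.2.1, ?_⟩
    intro h2
    have h5 : (ν - ν₁) * (ν + ν₁ + 1) = 0 := by linear_combination h2 - h1
    rcases mul_eq_zero.1 h5 with h3 | h3
    · exact hν.2.2.2.1 (sub_eq_zero.1 h3)
    · apply hν.2.2.2.2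
      linear_combination h3
  · push Not at h
    have hne : (s \ {a, b}).Nonempty := by
      rw [← Finset.card_pos]
      have h3 := Finset.le_card_sdiff ({a, b} : Finset K) s
      have h4 : ({a, b} : Finset K).card ≤ 2 := Finset.card_le_two
      omega
    obtain ⟨ν, hν⟩ := hne
    simp only [Finset.mem_sdiff, Finset.mem_insert, Finset.mem_singleton, not_or] at hν
    exact ⟨ν, hν.2.1, hν.2.2, h ν⟩

theorem exists_avoid3 (hK5 : ∃ s : Finset K, 4 < s.card) (a b c : K) :
    ∃ ν : K, ν ≠ a ∧ ν ≠ b ∧ ν ≠ c := by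
  classical
  obtain ⟨s, hs⟩ := hK5
  have hne : (s \ {a, b, c}).Nonempty := by
    rw [← Finset.card_pos]
    have h3 := Finset.le_card_sdiff ({a, b, c} : Finset K) s
    have h4 : ({a, b, c} : Finset K).card ≤ 3 := Finset.card_le_three
    omega
  obtain ⟨ν, hν⟩ := hne
  simp only [Finset.mem_sdiff, Finset.mem_insert, Finset.mem_singleton, not_or] at hν
  exact ⟨ν, hν.2.1, hν.2.2.1, hν.2.2.2⟩

theorem exists_pow_ne_one (hK5 : ∃ s : Finset K, 4 < s.card) (k : ℤ) (hk : k ≠ 0) (hk3 : |k| ≤ 3) :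
    ∃ v : Kˣ, v ^ k ≠ 1 := by
  have hcases : k = 1 ∨ k = -1 ∨ k = 2 ∨ k = -2 ∨ k = 3 ∨ k = -3 := by
    have := abs_le.1 hk3
    omega
  obtain ⟨v, hv0, hv1, hv2⟩ := exists_avoid3 hK5 (0 : K) 1 (-1)
  obtain ⟨w, hw0, hw1, hw2⟩ := exists_avoid hK5 (0 : K) 1
  have hvsq : (Units.mk0 v hv0) ^ (2 : ℤ) ≠ 1 := by
    intro h
    have h' := congrArg Units.val h
    rw [Units.val_zpow_eq_zpow_val, Units.val_mk0, Units.val_one] at h'
    have h5 : (v - 1) * (v + 1) = 0 := by
      have : v ^ (2 : ℤ) = v * v := by rw [zpow_ofNat]; ring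
      rw [this] at h'
      linear_combination h'
    rcases mul_eq_zero.1 h5 with h3 | h3
    · exact hv1 (sub_eq_zero.1 h3)
    · apply hv2
      linear_combination h3
  have hwcu : (Units.mk0 w hw0) ^ (3 : ℤ) ≠ 1 := by
    intro h
    have h' := congrArg Units.val h
    rw [Units.val_zpow_eq_zpow_val, Units.val_mk0, Units.val_one] at h'
    have h5 : (w - 1) * (w * w + w + 1) = 0 := by
      have : w ^ (3 : ℤ) = w * w * w := by rw [zpow_ofNat]; ring
      rw [this] at h'
      linear_combination h'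
    rcases mul_eq_zero.1 h5 with h3 | h3
    · exact hw1 (sub_eq_zero.1 h3)
    · exact hw2 h3
  have hv1' : (Units.mk0 v hv0) ^ (1 : ℤ) ≠ 1 := by
    rw [zpow_one]
    intro h
    apply hv1
    have h' := congrArg Units.val h
    rwa [Units.val_mk0, Units.val_one] at h'
  rcases hcases with rfl | rfl | rfl | rfl | rfl | rfl
  · exact ⟨_, hv1'⟩
  · refine ⟨Units.mk0 v hv0, ?_⟩
    rw [zpow_neg, ne_eq, inv_eq_one]
    exact hv1'
  · exact ⟨_, hvsq⟩
  · refine ⟨Units.mk0 v hv0, ?_⟩
    rw [zpow_neg, ne_eq, inv_eq_one]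
    exact hvsq
  · exact ⟨_, hwcu⟩
  · refine ⟨Units.mk0 w hw0, ?_⟩
    rw [zpow_neg, ne_eq, inv_eq_one]
    exact hwcu

theorem exists_nu (hK5 : ∃ s : Finset K, 4 < s.card) :
    ∃ ν : K, ν ≠ 0 ∧ 1 + ν ≠ 0 ∧ ν * ν + ν + 1 ≠ 0 := by
  obtain ⟨ν, h1, h2, h3⟩ := exists_avoid hK5 (0 : K) (-1)
  refine ⟨ν, h1, ?_, h3⟩
  intro h
  apply h2
  linear_combination h

/-! ### the tables -/

/-- the value of the cocharacter `m` on the root `r` -/
def ev (D : ChevalleyDatum) (m : Fin D.rank → ℤ) (r : ℕ) : ℤ := ∑ i : Fin D.rank, m i * D.cartan i.val r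

/-- the facts about the tables used below -/
structure TorusTab (D : ChevalleyDatum) : Prop where
  unit : ∀ r < D.nroots, ∃ m : Fin D.rank → ℤ, ev D m r = 1
  kill : ∀ r < D.nroots, ∀ s < D.nroots, s ≠ r → s ≠ D.neg r → ∃ m : Fin D.rank → ℤ,
    ev D m r = 0 ∧ ev D m s ≠ 0 ∧ |ev D m s| ≤ 3 ∧
      ∀ c ∈ D.commTerms r s, ev D m c.1 = (c.2.2.2 : ℤ) * ev D m s
  pairs : ∀ r < D.nroots, ∀ s < D.nroots, s ≠ r → s ≠ D.neg r →
    ∃ w : List ℕ, (∀ i ∈ w, i < D.rank) ∧ r ∈ listW D w ∧ s ∈ listW D w ∧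
      ∀ c ∈ D.commTerms r s, c.1 ∈ listW D w

theorem prod_zpow_sum {G ι : Type*} [CommGroup G] (s : Finset ι) (a : G) (f : ι → ℤ) :
    ∏ i ∈ s, a ^ f i = a ^ ∑ i ∈ s, f i := by
  classical
  induction s using Finset.induction_on with
  | empty => simp
  | insert i s hi ih => rw [Finset.prod_insert hi, Finset.sum_insert hi, zpow_add, ih]

theorem chiU_oneParam (D : ChevalleyDatum) (m : Fin D.rank → ℤ) (v : Kˣ) (r : ℕ) :
    chiU D (fun i => v ^ m i) r = v ^ ev D m r := by
  unfold chiU ev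
  rw [← prod_zpow_sum]
  apply Finset.prod_congr rfl
  intro i _
  rw [← zpow_mul]

/-! ### the Chevalley group -/

section chev

variable {D : ChevalleyDatum} (hD : D ∈ [chevG2, chevB2, chevD4, chevF4, chevE6, chevE7, chevE8])

/-- the root elements of the Chevalley group -/
noncomputable def XG (r : ℕ) (t : K) : D.group K :=
  ⟨xGL D (chevFacts_of_mem (F := K) D hD).xadd r t, xGL_mem_group D _ r t⟩

theorem XG_val (r : ℕ) (t : K) :
    ((XG hD r t : D.group K) : GL D.Idx K) = xGL D (chevFacts_of_mem (F := K) D hD).xadd r t := rfl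

theorem wordG_XG_val (w : List (ℕ × K)) :
    ((wordG (XG hD) w : D.group K) : GL D.Idx K) =
      wordGL D (chevFacts_of_mem (F := K) D hD).xadd w := by
  induction w with
  | nil => rw [wordG_nil, wordGL_nil]; rfl
  | cons q w ih => rw [wordG_cons, wordGL_cons, Subgroup.coe_mul, ih, XG_val]

theorem stRel_XG : StRel D (XG (K := K) hD) := by
  refine ⟨?_, ?_⟩
  · intro r hr t u
    apply Subtype.ext
    rw [Subgroup.coe_mul, XG_val, XG_val, XG_val, xGL_mul]
  · intro r hr s hs hne hne' t u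
    apply Subtype.ext
    rw [wordG_XG_val, ← comm_GL D _ r s ((chevFacts_of_mem (F := K) D hD).comm r hr s hs hne hne') t u,
      commutatorElement_def, inv_inv, inv_inv]
    rfl

theorem setupG : Setup D (XG (K := K) hD) (D.group K).subtype where
  rel := stRel_XG hD
  facts := chevFacts_of_mem D hD
  map := fun r hr t => rfl
  equiv := (stData_of_mem D hD).equiv
  rank_pos := (stData_of_mem D hD).rank_pos
  xinj := fun r hr t h => (Cfsg.Agent.S1024.result D hD r hr t).1 h

include hD in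
theorem torusHom_mem_group (c : Fin D.rank → Kˣ) : torusHom D K c ∈ D.group K := by
  have hF := chevFacts_of_mem (F := K) D hD
  apply hF.diagonal_le_group
  rw [← torusHom_range D hF.xadd hF.hsimple hF.hall hF.simple_lt]
  exact ⟨c, rfl⟩

/-- the torus of the Chevalley group -/
noncomputable def torG : (Fin D.rank → Kˣ) →* D.group K :=
  (torusHom D K).codRestrict (D.group K) (torusHom_mem_group hD)

/-- the characters of the torus -/
def chrG (D : ChevalleyDatum) (a : Fin D.rank → Kˣ) (r : ℕ) : K := ((chiU D a r : Kˣ) : K)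

theorem torG_conj (a : Fin D.rank → Kˣ) (r : ℕ) (hr : r < D.nroots) (t : K) :
    torG hD a * XG hD r t * (torG hD a)⁻¹ = XG hD r (chrG D a r * t) := by
  apply Subtype.ext
  have h := (chevFacts_of_mem (F := K) D hD).Tmat_conj_xGL (torusHom D K a) (extC D a)
    (fun i _ => extC_ne_zero D a i) (torusHom_val D a) r hr t
  rw [← chiU_val] at h
  exact h

theorem torusData (tab : TorusTab D) (hK5 : ∃ s : Finset K, 4 < s.card) :
    TorusData D (XG (K := K) hD) (torG hD) (chrG D) := by
  refine ⟨torG_conj hD, ?_, ?_⟩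
  · intro r hr v hv
    obtain ⟨m, hm⟩ := tab.unit r hr
    refine ⟨fun i => (Units.mk0 v hv) ^ m i, ?_⟩
    unfold chrG
    rw [chiU_oneParam, hm, zpow_one, Units.val_mk0]
  · intro r hr s hs hne hne'
    obtain ⟨m, hm0, hm1, hm3, hmc⟩ := tab.kill r hr s hs hne hne'
    obtain ⟨v, hv⟩ := exists_pow_ne_one hK5 (ev D m s) hm1 hm3
    refine ⟨fun i => v ^ m i, ?_, ?_, ?_⟩
    · unfold chrG
      rw [chiU_oneParam, hm0, zpow_zero, Units.val_one]
    · unfold chrG
      rw [chiU_oneParam]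
      intro h
      apply hv
      exact Units.ext h
    · intro c hc
      unfold chrG
      rw [chiU_oneParam, chiU_oneParam, hmc c hc, mul_comm, zpow_mul, zpow_natCast,
        Units.val_pow_eq_pow_val]

/-- every central extension of the Chevalley group receives a homomorphism from the presented group -/
theorem exists_cover_hom (tab : TorusTab D) (hK5 : ∃ s : Finset K, 4 < s.card) {E : Type*} [Group E]
    (σ : E →* D.group K) (hs : Function.Surjective σ) (hc : σ.ker ≤ Subgroup.center E) :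
    ∃ τ : D.SteinbergCover K →* E, ∀ (r : ℕ) (t : K), r < D.nroots →
      σ (τ (D.scGen K r t)) = XG hD r t := by
  obtain ⟨φ, hrel, hmap, h1⟩ := exists_stRel (setupG (K := K) hD) σ hc hs (torusData hD tab hK5)
    (exists_nu hK5) tab.pairs
  obtain ⟨τ, hτ⟩ := exists_hom_of_stRel hrel h1
  refine ⟨τ, ?_⟩
  intro r t hr
  rw [hτ, hmap r hr]

end chev

end Cfsg.Agent.Helper6.CExt
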