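import Mathlib
import Cfsg.Agent.Lib.Helper6.CExtChev

/-!
# The table facts for central extensions, checked for the type G₂
-/

set_option autoImplicit false
set_option linter.unusedSectionVars false
set_option linter.unusedVariables false

namespace Cfsg.Agent.Helper6.CExt

open Cfsg Cfsg.Lie Cfsg.Agent.Lead.Chev Cfsg.Agent.Helper6.StC

/-- the value of a cocharacter given as a list -/
def evL (D : ChevalleyDatum) (m : List ℤ) (r : ℕ) : ℤ :=
  ((List.range D.rank).map fun i => m.getD i 0 * D.cartan i r).sum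

theorem ev_eq (D : ChevalleyDatum) (m : List ℤ) (r : ℕ) :
    ev D (fun i => m.getD i.val 0) r = evL D m r := by
  unfold ev evL
  rw [Fin.sum_univ_eq_sum_range (fun i => m.getD i 0 * D.cartan i r) D.rank,
    ← List.sum_toFinset _ List.nodup_range, List.toFinset_range]

def unitChk (D : ChevalleyDatum) (tab : List (List ℤ)) (r : ℕ) : Bool :=
  decide (evL D (tab.getD r []) r = 1)

def killChk (D : ChevalleyDatum) (kv : ℕ → ℕ → List ℤ) (r : ℕ) : Bool :=
  (List.range D.nroots).all fun s => decide (s = r) || decide (s = D.neg r) ||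
    (decide (evL D (kv r s) r = 0) && decide (evL D (kv r s) s ≠ 0) &&
      decide (|evL D (kv r s) s| ≤ 3) &&
      (D.commTerms r s).all fun c => decide (evL D (kv r s) c.1 = (c.2.2.2 : ℤ) * evL D (kv r s) s))

def pairChk (D : ChevalleyDatum) (W : List (List ℕ)) (r : ℕ) : Bool :=
  (List.range D.nroots).all fun s => decide (s = r) || decide (s = D.neg r) ||
    W.any fun w => decide (r ∈ listW D w) && decide (s ∈ listW D w) &&
      (D.commTerms r s).all fun c => decide (c.1 ∈ listW D w)

theorem torusTab_of_chk (D : ChevalleyDatum) (tab : List (List ℤ)) (kv : ℕ → ℕ → List ℤ)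
    (W : List (List ℕ)) (hW : ∀ w ∈ W, ∀ i ∈ w, i < D.rank)
    (h1 : ∀ r < D.nroots, unitChk D tab r = true) (h2 : ∀ r < D.nroots, killChk D kv r = true)
    (h3 : ∀ r < D.nroots, pairChk D W r = true) : TorusTab D := by
  refine ⟨?_, ?_, ?_⟩
  · intro r hr
    refine ⟨fun i => (tab.getD r []).getD i.val 0, ?_⟩
    rw [ev_eq]
    have := h1 r hr
    unfold unitChk at this
    exact of_decide_eq_true this
  · intro r hr s hs hne hne'
    have h := h2 r hr
    unfold killChk at h
    rw [List.all_eq_true] at h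
    have h' := h s (List.mem_range.2 hs)
    simp only [Bool.or_eq_true, Bool.and_eq_true, decide_eq_true_eq, List.all_eq_true] at h'
    rcases h' with (h' | h') | h'
    · exact absurd h' hne
    · exact absurd h' hne'
    · obtain ⟨⟨⟨e1, e2⟩, e3⟩, e4⟩ := h'
      refine ⟨fun i => (kv r s).getD i.val 0, ?_, ?_, ?_, ?_⟩
      · rw [ev_eq]; exact e1
      · rw [ev_eq]; exact e2
      · rw [ev_eq]; exact e3
      · intro c hc
        rw [ev_eq, ev_eq]
        exact e4 c hc
  · intro r hr s hs hne hne'
    have h := h3 r hr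
    unfold pairChk at h
    rw [List.all_eq_true] at h
    have h' := h s (List.mem_range.2 hs)
    simp only [Bool.or_eq_true, Bool.and_eq_true, decide_eq_true_eq, List.all_eq_true,
      List.any_eq_true] at h'
    rcases h' with (h' | h') | h'
    · exact absurd h' hne
    · exact absurd h' hne'
    · obtain ⟨w, hw, ⟨e1, e2⟩, e3⟩ := h'
      exact ⟨w, hW w hw, e1, e2, e3⟩

/-- the cocharacters taking the value `1` on the roots of `G₂` -/
def unitTabG2 : List (List ℤ) :=
  [[0, -1], [0, 1], [-1, 0], [1, 0], [0, 1], [1, 1], [1, 2], [1, 1], [0, 1], [1, 0], [0, -1], [0, 1]]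

/-- in rank two: the cocharacter orthogonal to a root -/
def killVec2 (D : ChevalleyDatum) (r _s : ℕ) : List ℤ := [- D.cartan 1 r, D.cartan 0 r]

/-- the Weyl words of `G₂` -/
def wordsG2 : List (List ℕ) :=
  [[], [0], [1], [0, 1], [1, 0], [0, 1, 0], [1, 0, 1], [0, 1, 0, 1], [1, 0, 1, 0], [0, 1, 0, 1, 0],
    [1, 0, 1, 0, 1], [0, 1, 0, 1, 0, 1]]

theorem torusTab_G2 : TorusTab chevG2 := by
  apply torusTab_of_chk chevG2 unitTabG2 (killVec2 chevG2) wordsG2
  · decide
  · decide
  · decide
  · decide

end Cfsg.Agent.Helper6.CExt
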