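import Mathlib
import Cfsg.Agent.Lib.Helper6.CExtMain

/-!
# Central extensions: lifting the relations by commutator calculus (simply laced types of large rank)

For a simply laced datum in which every root `s` is a sum `c + d` of two roots commuting with any given root `r`
commuting with `s`, the relations (R1), (R2) lift to every central extension, over any field.  The argument uses
only commutators (no torus), following Steinberg and Stein.
-/

set_option autoImplicit false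
set_option linter.unusedSectionVars false
set_option linter.unusedVariables false

namespace Cfsg.Agent.Helper6.CExt

open Cfsg Cfsg.Lie Cfsg.Agent.Lead.Chev Cfsg.Agent.Helper6.StC

/-- the commutator `a⁻¹ b⁻¹ a b` -/
def Kc {E : Type*} [Group E] (a b : E) : E := a⁻¹ * b⁻¹ * a * b

section basic

variable {E G : Type*} [Group E] [Group G] (ρ : E →* G) (hc : ρ.ker ≤ Subgroup.center E)

include hc in
theorem Kc_eq (a a' b b' : E) (ha : ρ a = ρ a') (hb : ρ b = ρ b') : Kc a b = Kc a' b' := by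
  have h := comm_eq ρ hc a⁻¹ a'⁻¹ b⁻¹ b'⁻¹ (by rw [map_inv, map_inv, ha]) (by rw [map_inv, map_inv, hb])
  rw [inv_inv, inv_inv, inv_inv, inv_inv] at h
  exact h

theorem Kc_inv (a b : E) : (Kc a b)⁻¹ = Kc b a := by
  unfold Kc
  group

theorem Kc_conj (g a b : E) : g * Kc a b * g⁻¹ = Kc (g * a * g⁻¹) (g * b * g⁻¹) := by
  unfold Kc
  group

theorem Kc_mul_left (a a' b : E) : Kc (a * a') b = a'⁻¹ * Kc a b * a' * Kc a' b := by
  unfold Kc
  group

theorem Kc_one_left (b : E) : Kc 1 b = 1 := by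
  unfold Kc
  group

theorem map_Kc (a b : E) : ρ (Kc a b) = Kc (ρ a) (ρ b) := by
  unfold Kc
  simp only [map_mul, map_inv]

/-- the Hall–Witt identity -/
theorem hall_witt (x y z : E) :
    (y⁻¹ * Kc (Kc x y⁻¹) z * y) * (z⁻¹ * Kc (Kc y z⁻¹) x * z) * (x⁻¹ * Kc (Kc z x⁻¹) y * x) = 1 := by
  unfold Kc
  group

end basic

/-- the root of a table entry -/
def smRoot (e : ℤ) : ℕ := e.natAbs - 1

/-- the sign of a table entry -/
def smSign (e : ℤ) : ℤ := if 0 < e then 1 else -1

/-- decoding a table entry -/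
def decSum (e : ℤ) : List (ℕ × ℤ × ℕ × ℕ) := if e = 0 then [] else [(smRoot e, smSign e, 1, 1)]

/-- the roots `r`, `c` commute according to the table -/
def Cm (D : ChevalleyDatum) (sm : ℕ → ℕ → ℤ) (r c : ℕ) : Prop := c = r ∨ (c ≠ D.neg r ∧ sm r c = 0)

/-- the roots `r`, `s` have the sum `p` according to the table -/
def Sm (D : ChevalleyDatum) (sm : ℕ → ℕ → ℤ) (r s p : ℕ) : Prop :=
  s ≠ r ∧ s ≠ D.neg r ∧ sm r s ≠ 0 ∧ smRoot (sm r s) = p

/-- a configuration of type `A₃`: `c = r + q`, `s = q + d`, `p = r + q + d` -/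
def Conf (D : ChevalleyDatum) (sm : ℕ → ℕ → ℤ) (r q d c s p : ℕ) : Prop :=
  q < D.nroots ∧ Sm D sm r q c ∧ Sm D sm q d s ∧ Sm D sm c d p ∧ Sm D sm r s p ∧
    d ≠ r ∧ Cm D sm r d ∧ Cm D sm p q ∧ Cm D sm p r

/-- the pair `(r, s)` is linked to the distinguished decomposition of `p` -/
def LinkOK (D : ChevalleyDatum) (sm : ℕ → ℕ → ℤ) (dec : ℕ → ℕ × ℕ) (r s p : ℕ) : Prop :=
  (r = (dec p).1 ∧ s = (dec p).2) ∨ ∃ q, Conf D sm r q (dec p).2 (dec p).1 s p

/-- the facts about the tables -/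
structure SteinTab (D : ChevalleyDatum) (sm : ℕ → ℕ → ℤ) (dec : ℕ → ℕ × ℕ) : Prop where
  sum : ∀ r < D.nroots, ∀ s < D.nroots, s ≠ r → s ≠ D.neg r → D.commTerms r s = decSum (sm r s)
  lt : ∀ r < D.nroots, ∀ s < D.nroots, sm r s ≠ 0 → smRoot (sm r s) < D.nroots
  decomp : ∀ r < D.nroots, ∀ s < D.nroots, Cm D sm r s →
    ∃ c < D.nroots, ∃ d < D.nroots, Sm D sm c d s ∧ Cm D sm r c ∧ Cm D sm r d
  fixed : ∀ p < D.nroots, (dec p).1 < D.nroots ∧ (dec p).2 < D.nroots ∧
    Sm D sm (dec p).1 (dec p).2 p ∧ Cm D sm p (dec p).2 ∧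
    ∃ r q s, r < D.nroots ∧ s < D.nroots ∧ Conf D sm r q (dec p).2 (dec p).1 s p
  link : ∀ r < D.nroots, ∀ s < D.nroots, ∀ p, Sm D sm r s p →
    LinkOK D sm dec r s p ∨ LinkOK D sm dec s r p

section stein

variable {K : Type*} [Field K] {E Γ : Type*} [Group E] [Group Γ] (ρ : E →* Γ)
  (hc : ρ.ker ≤ Subgroup.center E) (hs : Function.Surjective ρ)
  {D : ChevalleyDatum} {X : ℕ → K → Γ} (hrel : StRel D X)
  (hinj : ∀ r < D.nroots, ∀ t t' : K, X r t = X r t' → t = t')
  {sm : ℕ → ℕ → ℤ} {dec : ℕ → ℕ × ℕ} (T : SteinTab D sm dec)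

theorem smSign_sq (e : ℤ) : ((smSign e : ℤ) : K) * ((smSign e : ℤ) : K) = 1 := by
  unfold smSign
  split_ifs <;> simp

include hrel T in
/-- commuting roots give commuting root elements -/
theorem X_comm (r c : ℕ) (hr : r < D.nroots) (hcn : c < D.nroots) (h : Cm D sm r c) (t u : K) :
    X r t * X c u = X c u * X r t := by
  rcases h with rfl | ⟨h1, h2⟩
  · rw [hrel.add c hcn, hrel.add c hcn, add_comm]
  · by_cases hcr : c = r
    · subst hcr
      rw [hrel.add c hcn, hrel.add c hcn, add_comm]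
    · have h3 := hrel.comm r hr c hcn hcr h1 t u
      unfold ChevalleyDatum.commWord at h3
      rw [T.sum r hr c hcn hcr h1, h2] at h3
      simp only [decSum, if_true, List.map_nil, wordG_nil] at h3
      have : X c u * X r t = X r t * X c u * ((X c u)⁻¹ * (X r t)⁻¹ * X c u * X r t) := by group
      rw [this, h3, mul_one]

include hrel T in
/-- the commutator formula for a pair of roots whose sum is a root -/
theorem X_sum (r s p : ℕ) (hr : r < D.nroots) (hsn : s < D.nroots) (h : Sm D sm r s p) (t u : K) :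
    Kc (X s u) (X r t) = X p (((smSign (sm r s) : ℤ) : K) * (-t) * u) := by
  obtain ⟨h1, h2, h3, h4⟩ := h
  have h5 := hrel.comm r hr s hsn h1 h2 t u
  unfold ChevalleyDatum.commWord at h5
  rw [T.sum r hr s hsn h1 h2] at h5
  simp only [decSum, if_neg h3, List.map_cons, List.map_nil, wordG_cons, wordG_nil, mul_one, pow_one,
    h4] at h5
  exact h5

include hc hs hrel T in
/-- lifts of commuting root elements commute -/
theorem lifts_comm (r s : ℕ) (hr : r < D.nroots) (hsn : s < D.nroots) (h : Cm D sm r s) (a b : E)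
    (t u : K) (ha : ρ a = X r t) (hb : ρ b = X s u) : a * b = b * a := by
  obtain ⟨c, hcn, d, hdn, hS, hCc, hCd⟩ := T.decomp r hr s hsn h
  obtain ⟨ch, hch⟩ := hs (X c (-((smSign (sm c d) : ℤ) : K)))
  obtain ⟨dh, hdh⟩ := hs (X d u)
  have himg : ρ (Kc dh ch) = X s u := by
    rw [map_Kc, hch, hdh, X_sum hrel T c d s hcn hdn hS, neg_neg, smSign_sq, one_mul]
  have hcomm : a * Kc dh ch = Kc dh ch * a := by
    have h1 : a * Kc dh ch * a⁻¹ = Kc dh ch := by
      rw [Kc_conj]
      apply Kc_eq ρ hc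
      · rw [map_mul, map_mul, map_inv, ha, hdh, X_comm hrel T r d hr hdn hCd]
        group
      · rw [map_mul, map_mul, map_inv, ha, hch, X_comm hrel T r c hr hcn hCc]
        group
    calc a * Kc dh ch = (a * Kc dh ch * a⁻¹) * a := by group
      _ = Kc dh ch * a := by rw [h1]
  obtain ⟨z, hz1, rfl, hzc⟩ := exists_central_of_map_eq ρ hc (Kc dh ch) b (himg.trans hb.symm)
  rw [← mul_assoc, hcomm, mul_assoc, hzc a, mul_assoc]

include hc hs hrel hinj T in
/-- the relations lift -/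
theorem exists_stRel_stein :
    ∃ φ : ℕ → K → E, StRel D φ ∧ (∀ r < D.nroots, ∀ t, ρ (φ r t) = X r t) ∧
      ∀ r, D.nroots ≤ r → ∀ t, φ r t = 1 := by
  obtain ⟨xh, hxh⟩ : ∃ xh : ℕ → K → E, ∀ r t, ρ (xh r t) = X r t :=
    ⟨fun r t => (hs (X r t)).choose, fun r t => (hs (X r t)).choose_spec⟩
  -- the commutators of lifts
  have hκ : ∀ (r s : ℕ) (t u : K) (a b : E), ρ a = X s u → ρ b = X r t →
      Kc a b = Kc (xh s u) (xh r t) := by
    intro r s t u a b ha hb
    apply Kc_eq ρ hc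
    · rw [ha, hxh]
    · rw [hb, hxh]
  have hXinv : ∀ r < D.nroots, ∀ t : K, (X r t)⁻¹ = X r (-t) := fun r hr t => hrel.inv r hr t
  -- images of the commutators
  have hκimg : ∀ (r s p : ℕ), r < D.nroots → s < D.nroots → Sm D sm r s p → ∀ t u : K,
      ρ (Kc (xh s u) (xh r t)) = X p (((smSign (sm r s) : ℤ) : K) * (-t) * u) := by
    intro r s p hr hsn hS t u
    rw [map_Kc, hxh, hxh, X_sum hrel T r s p hr hsn hS]
  -- the configurations
  have hconf : ∀ (r q d c s p : ℕ), r < D.nroots → d < D.nroots → c < D.nroots → s < D.nroots →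
      p < D.nroots → Conf D sm r q d c s p → ∀ a b e : K,
      Kc (xh s (((smSign (sm q d) : ℤ) : K) * (-b) * e)) (xh r a) =
        Kc (xh d e) (xh c (((smSign (sm r q) : ℤ) : K) * a * (-b))) := by
    intro r q d c s p hr hdn hcn hsn hpn ⟨hqn, hS1, hS2, hS3, hS4, hdr, hC1, hC2, hC3⟩ a b e
    have HW := hall_witt (xh d e) (xh q (-b)) (xh r a)
    -- the third factor is trivial
    have h3 : Kc (xh r a) (xh d e)⁻¹ = 1 := by
      have hcm : xh r a * xh d e = xh d e * xh r a :=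
        lifts_comm ρ hc hs hrel T r d hr hdn hC1 _ _ a e (hxh _ _) (hxh _ _)
      unfold Kc
      have : (xh r a)⁻¹ * (xh d e)⁻¹⁻¹ * xh r a * (xh d e)⁻¹ =
          (xh r a)⁻¹ * (xh d e * xh r a) * (xh d e)⁻¹ := by group
      rw [this, ← hcm]
      group
    rw [h3, Kc_one_left, mul_one, inv_mul_cancel, mul_one] at HW
    -- the first factor
    have e1 : Kc (Kc (xh d e) (xh q (-b))⁻¹) (xh r a) =
        Kc (xh s (((smSign (sm q d) : ℤ) : K) * (-b) * e)) (xh r a) := by
      apply Kc_eq ρ hc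
      · rw [hxh, map_Kc, map_inv, hxh, hxh, hXinv q hqn, neg_neg, X_sum hrel T q d s hqn hdn hS2]
      · rfl
    -- the second factor
    have e2 : Kc (Kc (xh q (-b)) (xh r a)⁻¹) (xh d e) =
        Kc (xh c (((smSign (sm r q) : ℤ) : K) * a * (-b))) (xh d e) := by
      apply Kc_eq ρ hc
      · rw [hxh, map_Kc, map_inv, hxh, hxh, hXinv r hr, X_sum hrel T r q c hr hqn hS1, neg_neg]
      · rfl
    rw [e1, e2] at HW
    -- the conjugations are trivial
    have hP1 := hκimg r s p hr hsn hS4 a (((smSign (sm q d) : ℤ) : K) * (-b) * e)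
    have hP2 : ρ (Kc (xh c (((smSign (sm r q) : ℤ) : K) * a * (-b))) (xh d e)) =
        X p (-(((smSign (sm c d) : ℤ) : K) * (-(((smSign (sm r q) : ℤ) : K) * a * (-b))) * e)) := by
      rw [← Kc_inv, map_inv, hκimg c d p hcn hdn hS3, hXinv p hpn]
    have c1 := lifts_comm ρ hc hs hrel T p q hpn hqn hC2 _ (xh q (-b)) _ _ hP1 (hxh _ _)
    have c2 := lifts_comm ρ hc hs hrel T p r hpn hr hC3 _ (xh r a) _ _ hP2 (hxh _ _)
    have f1 : (xh q (-b))⁻¹ * Kc (xh s (((smSign (sm q d) : ℤ) : K) * (-b) * e)) (xh r a) * xh q (-b) =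
        Kc (xh s (((smSign (sm q d) : ℤ) : K) * (-b) * e)) (xh r a) := by
      rw [mul_assoc, c1]
      group
    have f2 : (xh r a)⁻¹ * Kc (xh c (((smSign (sm r q) : ℤ) : K) * a * (-b))) (xh d e) * xh r a =
        Kc (xh c (((smSign (sm r q) : ℤ) : K) * a * (-b))) (xh d e) := by
      rw [mul_assoc, c2]
      group
    rw [f1, f2, ← Kc_inv (xh d e), mul_inv_eq_one] at HW
    exact HW
  -- consequences of a configuration
  have heq1 : ∀ (r q d c s p : ℕ), r < D.nroots → d < D.nroots → c < D.nroots → s < D.nroots →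
      p < D.nroots → Conf D sm r q d c s p → ∀ t u : K,
      Kc (xh s u) (xh r t) =
        Kc (xh d u) (xh c (((smSign (sm r q) : ℤ) : K) * ((smSign (sm q d) : ℤ) : K) * t)) := by
    intro r q d c s p hr hdn hcn hsn hpn hC t u
    have h := hconf r q d c s p hr hdn hcn hsn hpn hC t (-((smSign (sm q d) : ℤ) : K)) u
    rw [neg_neg, smSign_sq, one_mul] at h
    rw [h]
    congr 2
    ring
  have hbal : ∀ (r q d c s p : ℕ), r < D.nroots → d < D.nroots → c < D.nroots → s < D.nroots →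
      p < D.nroots → Conf D sm r q d c s p → ∀ A B e : K,
      Kc (xh d e) (xh c (A * B)) = Kc (xh d (B * e)) (xh c A) := by
    intro r q d c s p hr hdn hcn hsn hpn hC A B e
    have h1 := hconf r q d c s p hr hdn hcn hsn hpn hC
      (((smSign (sm r q) : ℤ) : K) * ((smSign (sm q d) : ℤ) : K) * A)
      (-((smSign (sm q d) : ℤ) : K) * B) e
    have h2 := heq1 r q d c s p hr hdn hcn hsn hpn hC
      (((smSign (sm r q) : ℤ) : K) * ((smSign (sm q d) : ℤ) : K) * A)
      (((smSign (sm q d) : ℤ) : K) * (-(-((smSign (sm q d) : ℤ) : K) * B)) * e)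
    rw [h2] at h1
    have hs1 := smSign_sq (K := K) (sm r q)
    have hs2 := smSign_sq (K := K) (sm q d)
    have g1 : ((smSign (sm r q) : ℤ) : K) * ((smSign (sm q d) : ℤ) : K) *
        (((smSign (sm r q) : ℤ) : K) * ((smSign (sm q d) : ℤ) : K) * A) = A := by
      calc _ = (((smSign (sm r q) : ℤ) : K) * ((smSign (sm r q) : ℤ) : K)) *
            (((smSign (sm q d) : ℤ) : K) * ((smSign (sm q d) : ℤ) : K)) * A := by ring
        _ = A := by rw [hs1, hs2, one_mul, one_mul]
    have g2 : ((smSign (sm q d) : ℤ) : K) * (-(-((smSign (sm q d) : ℤ) : K) * B)) * e = B * e := by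
      calc _ = (((smSign (sm q d) : ℤ) : K) * ((smSign (sm q d) : ℤ) : K)) * B * e := by ring
        _ = B * e := by rw [hs2, one_mul]
    have g3 : ((smSign (sm r q) : ℤ) : K) *
        (((smSign (sm r q) : ℤ) : K) * ((smSign (sm q d) : ℤ) : K) * A) *
        (-(-((smSign (sm q d) : ℤ) : K) * B)) = A * B := by
      calc _ = (((smSign (sm r q) : ℤ) : K) * ((smSign (sm r q) : ℤ) : K)) *
            (((smSign (sm q d) : ℤ) : K) * ((smSign (sm q d) : ℤ) : K)) * (A * B) := by ring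
        _ = A * B := by rw [hs1, hs2, one_mul, one_mul]
    rw [g1, g2, g3] at h1
    exact h1.symm
  -- the lifts
  obtain ⟨φ, hφ⟩ : ∃ φ : ℕ → K → E, ∀ p v, φ p v = if p < D.nroots then
      Kc (xh (dec p).2 v) (xh (dec p).1 (-((smSign (sm (dec p).1 (dec p).2) : ℤ) : K))) else 1 :=
    ⟨_, fun _ _ => rfl⟩
  have hφρ : ∀ p < D.nroots, ∀ v, ρ (φ p v) = X p v := by
    intro p hp v
    obtain ⟨h1, h2, h3, h4, h5⟩ := T.fixed p hp
    rw [hφ, if_pos hp, hκimg _ _ p h1 h2 h3, neg_neg, smSign_sq, one_mul]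
  have hφadd : ∀ p < D.nroots, ∀ v v', φ p v * φ p v' = φ p (v + v') := by
    intro p hp v v'
    obtain ⟨h1, h2, h3, h4, h5⟩ := T.fixed p hp
    have e1 : φ p (v + v') = Kc (xh (dec p).2 v * xh (dec p).2 v')
        (xh (dec p).1 (-((smSign (sm (dec p).1 (dec p).2) : ℤ) : K))) := by
      rw [hφ, if_pos hp]
      apply Kc_eq ρ hc
      · rw [map_mul, hxh, hxh, hxh, hrel.add _ h2]
      · rfl
    have ev : φ p v = Kc (xh (dec p).2 v)
        (xh (dec p).1 (-((smSign (sm (dec p).1 (dec p).2) : ℤ) : K))) := by rw [hφ, if_pos hp]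
    have ev' : φ p v' = Kc (xh (dec p).2 v')
        (xh (dec p).1 (-((smSign (sm (dec p).1 (dec p).2) : ℤ) : K))) := by rw [hφ, if_pos hp]
    rw [e1, Kc_mul_left, ← ev, ← ev']
    have hcm := lifts_comm ρ hc hs hrel T p (dec p).2 hp h2 h4 (φ p v) (xh (dec p).2 v') v v'
      (hφρ p hp v) (hxh _ _)
    rw [mul_assoc ((xh (dec p).2 v')⁻¹), hcm]
    group
  have hφinv : ∀ p < D.nroots, ∀ v, (φ p v)⁻¹ = φ p (-v) := by
    intro p hp v
    apply inv_eq_of_mul_eq_one_right
    rw [hφadd p hp, add_neg_cancel]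
    have h0 := hφadd p hp 0 0
    rw [add_zero] at h0
    exact mul_left_cancel (h0.trans (mul_one _).symm)
  -- linked pairs
  have hlink : ∀ (r s p : ℕ), r < D.nroots → s < D.nroots → p < D.nroots →
      LinkOK D sm dec r s p → ∀ t u : K, ∃ v, Kc (xh s u) (xh r t) = φ p v := by
    intro r s p hr hsn hp hl t u
    obtain ⟨h1, h2, h3, h4, r', q', s', hr', hs', hC'⟩ := T.fixed p hp
    have hB := hbal r' q' (dec p).2 (dec p).1 s' p hr' h2 h1 hs' hp hC'
    rcases hl with ⟨rfl, rfl⟩ | ⟨q, hC⟩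
    · refine ⟨-((smSign (sm (dec p).1 (dec p).2) : ℤ) : K) * t * u, ?_⟩
      rw [hφ, if_pos hp]
      have := hB (-((smSign (sm (dec p).1 (dec p).2) : ℤ) : K))
        (-((smSign (sm (dec p).1 (dec p).2) : ℤ) : K) * t) u
      rw [← mul_assoc] at this
      rw [← this]
      congr 2
      have hs1 := smSign_sq (K := K) (sm (dec p).1 (dec p).2)
      calc t = (((smSign (sm (dec p).1 (dec p).2) : ℤ) : K) *
            ((smSign (sm (dec p).1 (dec p).2) : ℤ) : K)) * t := by rw [hs1, one_mul]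
        _ = _ := by ring
    · rw [heq1 r q (dec p).2 (dec p).1 s p hr h2 h1 hsn hp hC t u]
      refine ⟨-((smSign (sm (dec p).1 (dec p).2) : ℤ) : K) *
        (((smSign (sm r q) : ℤ) : K) * ((smSign (sm q (dec p).2) : ℤ) : K) * t) * u, ?_⟩
      rw [hφ, if_pos hp]
      have := hB (-((smSign (sm (dec p).1 (dec p).2) : ℤ) : K))
        (-((smSign (sm (dec p).1 (dec p).2) : ℤ) : K) *
          (((smSign (sm r q) : ℤ) : K) * ((smSign (sm q (dec p).2) : ℤ) : K) * t)) u
      rw [← mul_assoc] at this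
      rw [← this]
      congr 2
      have hs1 := smSign_sq (K := K) (sm (dec p).1 (dec p).2)
      calc ((smSign (sm r q) : ℤ) : K) * ((smSign (sm q (dec p).2) : ℤ) : K) * t
          = (((smSign (sm (dec p).1 (dec p).2) : ℤ) : K) *
            ((smSign (sm (dec p).1 (dec p).2) : ℤ) : K)) *
            (((smSign (sm r q) : ℤ) : K) * ((smSign (sm q (dec p).2) : ℤ) : K) * t) := by
            rw [hs1, one_mul]
        _ = _ := by ring
  refine ⟨φ, ⟨hφadd, ?_⟩, hφρ, fun r hr t => by rw [hφ, if_neg (not_lt.2 hr)]⟩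
  intro r hr s hsn hne hne' t u
  have hK : (φ s u)⁻¹ * (φ r t)⁻¹ * φ s u * φ r t = Kc (xh s u) (xh r t) :=
    hκ r s t u _ _ (hφρ s hsn u) (hφρ r hr t)
  rw [hK]
  unfold ChevalleyDatum.commWord
  rw [T.sum r hr s hsn hne hne']
  by_cases h0 : sm r s = 0
  · simp only [h0, decSum, if_true, List.map_nil, wordG_nil]
    have hcm := lifts_comm ρ hc hs hrel T r s hr hsn (Or.inr ⟨hne', h0⟩) (xh r t) (xh s u) t u
      (hxh _ _) (hxh _ _)
    unfold Kc
    have : (xh s u)⁻¹ * (xh r t)⁻¹ * xh s u * xh r t =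
        (xh s u)⁻¹ * (xh r t)⁻¹ * (xh s u * xh r t) := by group
    rw [this, ← hcm]
    group
  · simp only [decSum, if_neg h0, List.map_cons, List.map_nil, wordG_cons, wordG_nil, mul_one, pow_one]
    have hp := T.lt r hr s hsn h0
    have hS : Sm D sm r s (smRoot (sm r s)) := ⟨hne, hne', h0, rfl⟩
    have hex : ∃ v, Kc (xh s u) (xh r t) = φ (smRoot (sm r s)) v := by
      rcases T.link r hr s hsn _ hS with hl | hl
      · exact hlink r s _ hr hsn hp hl t u
      · obtain ⟨v, hv⟩ := hlink s r _ hsn hr hp hl u t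
        refine ⟨-v, ?_⟩
        rw [← Kc_inv, hv, hφinv _ hp]
    obtain ⟨v, hv⟩ := hex
    rw [hv]
    congr 1
    apply hinj _ hp
    rw [← hφρ _ hp v, ← hv, hκimg r s _ hr hsn hS]

end stein

end Cfsg.Agent.Helper6.CExt
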