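import Mathlib
import Cfsg.Agent.Lib.Helper6.CExtMain
import Cfsg.Agent.Lib.Helper6.CExtStein

/-!
# Central extensions: the hybrid argument

The torus is used only for the pairs of roots whose sum is a root; that the lifts of commuting root elements
commute is an input, which can come from the torus or from a decomposition of one of the roots.
-/

set_option autoImplicit false
set_option linter.unusedSectionVars false
set_option linter.unusedVariables false

namespace Cfsg.Agent.Helper6.CExt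

open Cfsg Cfsg.Lie Cfsg.Agent.Lead.Chev Cfsg.Agent.Helper6.StC

variable {K : Type*} [Field K] {E Γ : Type*} [Group E] [Group Γ]

/-- lifted data: additive lifts of the root elements, commuting when the root elements commute, together with
enough elements acting on them by scalars -/
structure Lifted2 (D : ChevalleyDatum) (X : ℕ → K → Γ) (ρ : E →* Γ) (φ : ℕ → K → E) : Prop where
  map : ∀ r < D.nroots, ∀ t : K, ρ (φ r t) = X r t
  add : AddRel D φ
  commL : ∀ r < D.nroots, ∀ s < D.nroots, s ≠ r → s ≠ D.neg r → D.commTerms r s = [] →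
    ∀ t u : K, φ s u * φ r t = φ r t * φ s u
  kill : ∀ r < D.nroots, ∀ s < D.nroots, s ≠ r → s ≠ D.neg r → D.commTerms r s ≠ [] →
    ∃ (g : E) (χ : ℕ → K), χ r = 1 ∧ χ s ≠ 1 ∧ (∀ c ∈ D.commTerms r s, χ c.1 = χ s ^ c.2.2.2) ∧
      ∀ q < D.nroots, ∀ t : K, g * φ q t * g⁻¹ = φ q (χ q * t)

section main2

variable {D : ChevalleyDatum} {X : ℕ → K → Γ} {θ : Γ →* GL D.Idx K} (S : Setup D X θ)
  (ρ : E →* Γ) (hc : ρ.ker ≤ Subgroup.center E) {φ : ℕ → K → E} (hL : Lifted2 D X ρ φ)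

include S hc hL in
/-- the lifted commutator relation for a root `r` and a root `s` of a list on which everything is already
known -/
theorem lift_comm2 (r s : ℕ) (L' : List ℕ) (hr : r < D.nroots) (hs : s < D.nroots) (hne : s ≠ r)
    (hne' : s ≠ D.neg r) (hL'lt : ∀ q ∈ L', q < D.nroots) (hsL : s ∈ L')
    (hterms : ∀ c ∈ D.commTerms r s, c.1 ∈ L') (hcl : ClosedL φ L') (hU : UniqueL X L') (t u : K) :
    φ s u * φ r t = φ r t * φ s u * wordG φ (D.commWord K r s t u) := by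
  by_cases hnil : D.commTerms r s = []
  · have h1 := hL.commL r hr s hs hne hne' hnil t u
    unfold ChevalleyDatum.commWord
    rw [hnil, List.map_nil, wordG_nil, mul_one]
    exact h1
  have hw : ∀ u : K, ∀ q ∈ ((s, u) :: D.commWord K r s t u), q.1 ∈ L' := by
    intro u q hq
    rcases List.mem_cons.1 hq with rfl | hq
    · exact hsL
    · unfold ChevalleyDatum.commWord at hq
      obtain ⟨c, hc', rfl⟩ := List.mem_map.1 hq
      exact hterms c hc'
  have hwlt : ∀ u : K, ∀ q ∈ D.commWord K r s t u, q.1 < D.nroots :=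
    fun u q hq => hL'lt _ (hw u q (List.mem_cons_of_mem _ hq))
  obtain ⟨n, hn⟩ : ∃ n : K → E, ∀ u, n u = φ s u * wordG φ (D.commWord K r s t u) := ⟨_, fun _ => rfl⟩
  have hn' : ∀ u, n u = wordG φ ((s, u) :: D.commWord K r s t u) := by
    intro u
    rw [hn, wordG_cons]
  have hρn : ∀ u, ρ (n u) = (X r t)⁻¹ * X s u * X r t := by
    intro u
    rw [hn', map_wordG ρ hL.map _ (fun q hq => hL'lt _ (hw u q hq)), wordG_cons, mul_assoc,
      S.rel.comm' r s hr hs hne hne' t u]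
    group
  obtain ⟨f, hf⟩ : ∃ f : K → E, ∀ u, f u = (φ r t)⁻¹ * φ s u * φ r t * (n u)⁻¹ := ⟨_, fun _ => rfl⟩
  have hρf : ∀ u, ρ (f u) = 1 := by
    intro u
    rw [hf, map_mul, map_inv, hρn, map_mul, map_mul, map_inv, hL.map r hr, hL.map s hs]
    group
  have hfc : ∀ u y, y * f u = f u * y := fun u y => central_of_map_one ρ hc _ (hρf u) y
  have hfn : ∀ u, (φ r t)⁻¹ * φ s u * φ r t = f u * n u := by
    intro u
    rw [hf]
    group
  have hzero : prodX φ L' (fun _ => (0 : K)) = 1 := hL.add.prodX_zero L' hL'lt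
  have hnP : ∀ u, ∃ τ : ℕ → K, n u = prodX φ L' τ := by
    intro u
    obtain ⟨τ, hτ⟩ := closed_mulWord φ L' hcl _ (hw u) (fun _ => 0)
    exact ⟨τ, by rw [← hτ, hzero, one_mul, hn']⟩
  -- additivity
  have hfadd : ∀ u u', f (u + u') = f u * f u' := by
    intro u u'
    obtain ⟨τ, hτ⟩ := hnP u
    obtain ⟨τ₁, hτ₁⟩ := closed_mulWord φ L' hcl _ (hw u') τ
    obtain ⟨τ₂, hτ₂⟩ := hnP (u + u')
    have hnn : n u * n u' = prodX φ L' τ₁ := by rw [hτ, ← hτ₁, hn']
    have hρ1 : ρ (n (u + u')) = ρ (n u * n u') := by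
      rw [map_mul, hρn, hρn, hρn, ← S.rel.add s hs]
      group
    have hX : prodX X L' τ₂ = prodX X L' τ₁ := by
      rw [← map_prodX ρ hL.map L' hL'lt, ← map_prodX ρ hL.map L' hL'lt, ← hτ₂, ← hnn, hρ1]
    have hτeq : ∀ q ∈ L', τ₂ q = τ₁ q := hU τ₂ τ₁ hX
    have hnadd : n (u + u') = n u * n u' := by
      rw [hτ₂, hnn]
      exact prodX_congr φ L' _ _ hτeq
    have e1 : f (u + u') * n (u + u') = f u * n u * (f u' * n u') := by
      rw [← hfn, ← hfn, ← hfn, ← hL.add s hs u u']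
      group
    have e2 : f u * n u * (f u' * n u') = f u * f u' * (n u * n u') := by
      rw [mul_assoc, ← mul_assoc (n u), hfc u' (n u)]
      group
    rw [e2, ← hnadd] at e1
    exact mul_right_cancel e1
  -- invariance
  obtain ⟨gh, χ, hχr, hχs, hχc, hgh⟩ := hL.kill r hr s hs hne hne' hnil
  have hinv : ∀ u, f (χ s * u) = f u := by
    intro u
    have h1 : gh * f u * gh⁻¹ = f u := by
      rw [hfc u gh]
      group
    have hg1 : gh * φ r t * gh⁻¹ = φ r t := by rw [hgh r hr t, hχr, one_mul]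
    have hn1 : gh * n u * gh⁻¹ = n (χ s * u) := by
      rw [hn, hn]
      have e : gh * (φ s u * wordG φ (D.commWord K r s t u)) * gh⁻¹ =
          (gh * φ s u * gh⁻¹) * (gh * wordG φ (D.commWord K r s t u) * gh⁻¹) := by group
      rw [e, hgh s hs u, conj_wordG gh χ hgh _ (hwlt u)]
      congr 2
      unfold ChevalleyDatum.commWord
      rw [List.map_map]
      apply List.map_congr_left
      intro c hc'
      simp only [Function.comp]
      rw [hχc c hc', mul_pow]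
      congr 1
      ring
    have h2 : gh * f u * gh⁻¹ = f (χ s * u) := by
      rw [hf, hf]
      have e : gh * ((φ r t)⁻¹ * φ s u * φ r t * (n u)⁻¹) * gh⁻¹ =
          (gh * φ r t * gh⁻¹)⁻¹ * (gh * φ s u * gh⁻¹) * (gh * φ r t * gh⁻¹) * (gh * n u * gh⁻¹)⁻¹ := by
        group
      rw [e, hg1, hgh s hs u, hn1]
    rw [← h2, h1]
  have hf0 : f 0 = 1 := by
    have h1 := hfadd 0 0
    rw [add_zero] at h1
    have h2 : f 0 * f 0 = f 0 * 1 := by rw [mul_one]; exact h1.symm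
    exact mul_left_cancel h2
  have hfneg : ∀ u, f (-u) = (f u)⁻¹ := by
    intro u
    apply eq_inv_of_mul_eq_one_left
    rw [← hfadd, neg_add_cancel, hf0]
  have hd : χ s - 1 ≠ 0 := sub_ne_zero.2 hχs
  have hf1 : ∀ v, f v = 1 := by
    intro v
    have e : v = χ s * (v / (χ s - 1)) + -(v / (χ s - 1)) := by
      field_simp
      ring
    rw [e, hfadd, hinv, hfneg, mul_inv_cancel]
  have h3 := hfn u
  rw [hf1, one_mul, hn] at h3
  calc φ s u * φ r t = φ r t * ((φ r t)⁻¹ * φ s u * φ r t) := by group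
    _ = φ r t * (φ s u * wordG φ (D.commWord K r s t u)) := by rw [h3]
    _ = φ r t * φ s u * wordG φ (D.commWord K r s t u) := by group

include S hc hL in
/-- ordered products of the lifts over a list closed to the right are closed under multiplication -/
theorem closedL_lift2 (L : List ℕ) (hRC : RightClosed D L) (hU : UniqueL X L) : ClosedL φ L := by
  induction L with
  | nil =>
    intro t s hs
    simp at hs
  | cons r L' ih =>
    obtain ⟨hr, hrL, hall, hL'⟩ := hRC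
    have hU' : UniqueL X L' := hU.tail (S.rel.zero r hr) hrL
    have ih' := ih hL' hU'
    apply hL.add.closed_cons r L' hr hL'.lt hrL ih'
    intro s hs a b
    obtain ⟨hs1, hs2, hs3, hs4⟩ := hall s hs
    refine ⟨D.commWord K r s a b, ?_,
      lift_comm2 S ρ hc hL r s L' hr hs1 hs2 hs3 hL'.lt hs hs4 ih' hU' a b⟩
    intro q hq
    unfold ChevalleyDatum.commWord at hq
    obtain ⟨c, hc', rfl⟩ := List.mem_map.1 hq
    exact hs4 c hc'

include S hc hL in
/-- `ρ` is injective on the subgroup generated by the lifts over such a list -/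
theorem lift_inj2 (L : List ℕ) (hRC : RightClosed D L) (hU : UniqueL X L) (y y' : E)
    (hy : y ∈ subL φ L) (hy' : y' ∈ subL φ L) (h : ρ y = ρ y') : y = y' := by
  have hcl := closedL_lift2 S ρ hc hL L hRC hU
  obtain ⟨τ, rfl⟩ := hL.add.exists_prodX_of_mem L hRC.lt hcl y hy
  obtain ⟨τ', rfl⟩ := hL.add.exists_prodX_of_mem L hRC.lt hcl y' hy'
  rw [map_prodX ρ hL.map L hRC.lt, map_prodX ρ hL.map L hRC.lt] at h
  exact prodX_congr φ L _ _ (hU τ τ' h)

include S hc hL in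
/-- the lifts satisfy Steinberg's relations -/
theorem stRel_lift2
    (hpairs : ∀ r < D.nroots, ∀ s < D.nroots, s ≠ r → s ≠ D.neg r →
      ∃ L : List ℕ, RightClosed D L ∧ UniqueL X L ∧ r ∈ L ∧ s ∈ L ∧ ∀ c ∈ D.commTerms r s, c.1 ∈ L) :
    StRel D φ := by
  refine ⟨hL.add, ?_⟩
  intro r hr s hs hne hne' t u
  obtain ⟨L, hRC, hU, hrL, hsL, hcL⟩ := hpairs r hr s hs hne hne'
  apply lift_inj2 S ρ hc hL L hRC hU
  · exact mul_mem (mul_mem (mul_mem (inv_mem (mem_subL φ L s hsL u)) (inv_mem (mem_subL φ L r hrL t)))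
      (mem_subL φ L s hsL u)) (mem_subL φ L r hrL t)
  · apply wordG_mem'
    intro q hq
    unfold ChevalleyDatum.commWord at hq
    obtain ⟨c, hc', rfl⟩ := List.mem_map.1 hq
    exact mem_subL φ L _ (hcL c hc') _
  · rw [map_mul, map_mul, map_mul, map_inv, map_inv, hL.map r hr, hL.map s hs,
      S.rel.comm r hr s hs hne hne' t u]
    symm
    apply map_wordG ρ hL.map
    intro q hq
    unfold ChevalleyDatum.commWord at hq
    obtain ⟨c, hc', rfl⟩ := List.mem_map.1 hq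
    exact hRC.lt _ (hcL c hc')

end main2

section onepair

variable (ρ : E →* Γ) (hc : ρ.ker ≤ Subgroup.center E) (hs : Function.Surjective ρ)

include hc hs in
/-- lifts of commuting root elements commute: the certificate by a torus element -/
theorem lifts_comm_torus (x y : K → Γ) (hy : ∀ t u : K, y t * y u = y (t + u))
    (hxy : ∀ t u : K, x t * y u = y u * x t) (h : Γ) (μ : K) (hμ : μ ≠ 1)
    (hx : ∀ t, h * x t * h⁻¹ = x t) (hyh : ∀ u, h * y u * h⁻¹ = y (μ * u))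
    (a b : E) (t u : K) (ha : ρ a = x t) (hb : ρ b = y u) : a * b = b * a := by
  obtain ⟨yh, hyh'⟩ : ∃ yh : K → E, ∀ u, ρ (yh u) = y u :=
    ⟨fun u => (hs (y u)).choose, fun u => (hs (y u)).choose_spec⟩
  obtain ⟨g, hg⟩ := hs h
  have hcm : ∀ u, Commute (ρ a) (ρ (yh u)) := by
    intro u
    rw [ha, hyh']
    exact hxy t u
  have hρc : ∀ u, ρ (a * yh u * a⁻¹ * (yh u)⁻¹) = 1 := by
    intro u
    simp only [map_mul, map_inv]
    rw [(hcm u).eq]
    group
  have hcc : ∀ u z, z * (a * yh u * a⁻¹ * (yh u)⁻¹) = (a * yh u * a⁻¹ * (yh u)⁻¹) * z :=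
    fun u z => central_of_map_one ρ hc _ (hρc u) z
  have hadd : ∀ u u', a * yh (u + u') * a⁻¹ * (yh (u + u'))⁻¹ =
      (a * yh u * a⁻¹ * (yh u)⁻¹) * (a * yh u' * a⁻¹ * (yh u')⁻¹) := by
    intro u u'
    rw [← comm_mul_right ρ hc a (yh u) (yh u') (hcm u')]
    apply comm_eq ρ hc
    · rfl
    · rw [map_mul, hyh', hyh', hyh', hy]
  have hinv : ∀ u, a * yh (μ * u) * a⁻¹ * (yh (μ * u))⁻¹ = a * yh u * a⁻¹ * (yh u)⁻¹ := by
    intro u
    have e1 : a * yh (μ * u) * a⁻¹ * (yh (μ * u))⁻¹ =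
        (g * a * g⁻¹) * (g * yh u * g⁻¹) * (g * a * g⁻¹)⁻¹ * (g * yh u * g⁻¹)⁻¹ := by
      apply comm_eq ρ hc
      · rw [map_mul, map_mul, map_inv, hg, ha, hx]
      · rw [map_mul, map_mul, map_inv, hg, hyh', hyh', hyh]
    rw [e1]
    have e2 : (g * a * g⁻¹) * (g * yh u * g⁻¹) * (g * a * g⁻¹)⁻¹ * (g * yh u * g⁻¹)⁻¹ =
        g * (a * yh u * a⁻¹ * (yh u)⁻¹) * g⁻¹ := by group
    rw [e2, hcc u g]
    group
  have h0 : a * yh 0 * a⁻¹ * (yh 0)⁻¹ = 1 := by
    have h1 := hadd 0 0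
    rw [add_zero] at h1
    have h2 : (a * yh 0 * a⁻¹ * (yh 0)⁻¹) * (a * yh 0 * a⁻¹ * (yh 0)⁻¹) =
        (a * yh 0 * a⁻¹ * (yh 0)⁻¹) * 1 := by rw [mul_one]; exact h1.symm
    exact mul_left_cancel h2
  have hneg : ∀ u, a * yh (-u) * a⁻¹ * (yh (-u))⁻¹ = (a * yh u * a⁻¹ * (yh u)⁻¹)⁻¹ := by
    intro u
    apply eq_inv_of_mul_eq_one_left
    rw [← hadd, neg_add_cancel, h0]
  have hd : μ - 1 ≠ 0 := sub_ne_zero.2 hμ
  have hone : ∀ v, a * yh v * a⁻¹ * (yh v)⁻¹ = 1 := by
    intro v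
    have e : v = μ * (v / (μ - 1)) + -(v / (μ - 1)) := by
      field_simp
      ring
    rw [e, hadd, hinv, hneg, mul_inv_cancel]
  have h3 : a * b * a⁻¹ * b⁻¹ = 1 := by
    rw [← hone u]
    apply comm_eq ρ hc
    · rfl
    · rw [hb, hyh']
  have : a * b = (a * b * a⁻¹ * b⁻¹) * (b * a) := by group
  rw [this, h3, one_mul]

include hc hs in
/-- lifts of commuting root elements commute: the certificate by a decomposition -/
theorem lifts_comm_decomp (x yc yd ys : K → Γ) (N : K) (hN : N ≠ 0)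
    (hsum : ∀ t u : K, Kc (yd u) (yc t) = ys (N * (-t) * u))
    (hxc : ∀ t u : K, x t * yc u = yc u * x t) (hxd : ∀ t u : K, x t * yd u = yd u * x t)
    (a b : E) (t u : K) (ha : ρ a = x t) (hb : ρ b = ys u) : a * b = b * a := by
  obtain ⟨ch, hch⟩ := hs (yc (-1))
  obtain ⟨dh, hdh⟩ := hs (yd (u / N))
  have himg : ρ (Kc dh ch) = ys u := by
    rw [map_Kc, hch, hdh, hsum, neg_neg, mul_one, mul_div_cancel₀ _ hN]
  have hcomm : a * Kc dh ch = Kc dh ch * a := by
    have h1 : a * Kc dh ch * a⁻¹ = Kc dh ch := by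
      rw [Kc_conj]
      apply Kc_eq ρ hc
      · rw [map_mul, map_mul, map_inv, ha, hdh, hxd]
        group
      · rw [map_mul, map_mul, map_inv, ha, hch, hxc]
        group
    calc a * Kc dh ch = (a * Kc dh ch * a⁻¹) * a := by group
      _ = Kc dh ch * a := by rw [h1]
  obtain ⟨z, hz1, rfl, hzc⟩ := exists_central_of_map_eq ρ hc (Kc dh ch) b (himg.trans hb.symm)
  rw [← mul_assoc, hcomm, mul_assoc, hzc a, mul_assoc]

end onepair

/-- a commutative group acting on the root subgroups by scalars, with enough elements for the hybrid argument -/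
structure TorusData2 (D : ChevalleyDatum) (X : ℕ → K → Γ) {A : Type*} [CommGroup A] (tor : A →* Γ)
    (chr : A → ℕ → K) : Prop where
  conj : ∀ a : A, ∀ r < D.nroots, ∀ t : K, tor a * X r t * (tor a)⁻¹ = X r (chr a r * t)
  unit : ∀ r < D.nroots, ∃ a : A, chr a r ≠ 1
  kill : ∀ r < D.nroots, ∀ s < D.nroots, s ≠ r → s ≠ D.neg r → D.commTerms r s ≠ [] →
    ∃ a : A, chr a r = 1 ∧ chr a s ≠ 1 ∧ ∀ c ∈ D.commTerms r s, chr a c.1 = chr a s ^ c.2.2.2

section hyb

variable {D : ChevalleyDatum} {X : ℕ → K → Γ} {θ : Γ →* GL D.Idx K} (S : Setup D X θ)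
  (ρ : E →* Γ) (hc : ρ.ker ≤ Subgroup.center E) (hs : Function.Surjective ρ)
  {A : Type*} [CommGroup A] {tor : A →* Γ} {chr : A → ℕ → K} (T : TorusData2 D X tor chr)

include S hc hs T in
theorem exists_lifted2
    (hcl : ∀ r < D.nroots, ∀ s < D.nroots, (s = r ∨ (s ≠ D.neg r ∧ D.commTerms r s = [])) →
      ∀ (a b : E) (t u : K), ρ a = X r t → ρ b = X s u → a * b = b * a) :
    ∃ φ : ℕ → K → E, Lifted2 D X ρ φ ∧ ∀ r, D.nroots ≤ r → ∀ t, φ r t = 1 := by
  have hone : ∀ r, ∃ φr : K → E, r < D.nroots → ∃ a₀ : A,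
      (∀ t, ρ (φr t) = X r t) ∧ (∀ t u, φr t * φr u = φr (t + u)) ∧
      ∀ (g : E) (χ : K), Commute (ρ g) (tor a₀) → (∀ t, ρ g * X r t * (ρ g)⁻¹ = X r (χ * t)) →
        ∀ t, g * φr t * g⁻¹ = φr (χ * t) := by
    intro r
    by_cases hr : r < D.nroots
    · obtain ⟨a₂, ha₂⟩ := T.unit r hr
      have hadd : ∀ t u : K, X r t * X r u = X r (t + u) := S.rel.add r hr
      obtain ⟨φr, h1, h2, h3⟩ := exists_lift ρ hc hs (X r) hadd (chr a₂ r) ha₂ (tor a₂)
        (fun t => T.conj a₂ r hr t) (hcl r hr r hr (Or.inl rfl))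
      exact ⟨φr, fun _ => ⟨a₂, h1, h2, h3⟩⟩
    · exact ⟨fun _ => 1, fun h => absurd h hr⟩
  choose φ₀ hφ₀ using hone
  refine ⟨fun r t => if r < D.nroots then φ₀ r t else 1, ⟨?_, ?_, ?_, ?_⟩, ?_⟩
  · intro r hr t
    obtain ⟨a₀, h1, h2, h3⟩ := hφ₀ r hr
    simp only [if_pos hr]
    exact h1 t
  · intro r hr t u
    obtain ⟨a₀, h1, h2, h3⟩ := hφ₀ r hr
    simp only [if_pos hr]
    exact h2 t u
  · intro r hr s hs' hne hne' hnil t u
    obtain ⟨a₀, h1, h2, h3⟩ := hφ₀ r hr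
    obtain ⟨a₁, k1, k2, k3⟩ := hφ₀ s hs'
    simp only [if_pos hr, if_pos hs']
    exact (hcl r hr s hs' (Or.inr ⟨hne', hnil⟩) _ _ t u (h1 t) (k1 u)).symm
  · intro r hr s hs' hne hne' hnil
    obtain ⟨a, har, has, hac⟩ := T.kill r hr s hs' hne hne' hnil
    obtain ⟨g, hg⟩ := hs (tor a)
    refine ⟨g, chr a, har, has, hac, ?_⟩
    intro q hq t
    obtain ⟨a₀, h1, h2, h3⟩ := hφ₀ q hq
    simp only [if_pos hq]
    apply h3 g (chr a q)
    · rw [hg]
      exact (Commute.all a a₀).map tor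
    · intro t
      rw [hg]
      exact T.conj a q hq t
  · intro r hr t
    simp only [if_neg (not_lt.2 hr)]

include S hc hs T in
/-- the relations lift -/
theorem exists_stRel2
    (hcl : ∀ r < D.nroots, ∀ s < D.nroots, (s = r ∨ (s ≠ D.neg r ∧ D.commTerms r s = [])) →
      ∀ (a b : E) (t u : K), ρ a = X r t → ρ b = X s u → a * b = b * a)
    (hpairs : ∀ r < D.nroots, ∀ s < D.nroots, s ≠ r → s ≠ D.neg r →
      ∃ w : List ℕ, (∀ i ∈ w, i < D.rank) ∧ r ∈ listW D w ∧ s ∈ listW D w ∧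
        ∀ c ∈ D.commTerms r s, c.1 ∈ listW D w) :
    ∃ φ : ℕ → K → E, StRel D φ ∧ (∀ r < D.nroots, ∀ t, ρ (φ r t) = X r t) ∧
      ∀ r, D.nroots ≤ r → ∀ t, φ r t = 1 := by
  obtain ⟨φ, hL, h1⟩ := exists_lifted2 S ρ hc hs T hcl
  refine ⟨φ, ?_, hL.map, h1⟩
  apply stRel_lift2 S ρ hc hL
  intro r hr s hs' hne hne'
  obtain ⟨w, hw, hrw, hsw, hcw⟩ := hpairs r hr s hs' hne hne'
  exact ⟨listW D w, S.rightClosed_listW w hw, uniqueL_listW S w hw, hrw, hsw, hcw⟩

end hyb

end Cfsg.Agent.Helper6.CExt
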