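import Mathlib
import Cfsg.Agent.Lib.Helper6.CExtChev
import Cfsg.Agent.Lib.Helper6.CExtHyb

/-!
# Central extensions of a Chevalley group over a field with at least three elements: the hybrid argument
-/

set_option autoImplicit false
set_option linter.unusedSectionVars false
set_option linter.unusedVariables false

namespace Cfsg.Agent.Helper6.CExt

open Cfsg Cfsg.Lie Cfsg.Agent.Lead.Chev Cfsg.Agent.Helper6.StC

/-- the root `c` commutes with the root `r` -/
def XCm (D : ChevalleyDatum) (r c : ℕ) : Prop :=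
  c < D.nroots ∧ (c = r ∨ (c ≠ D.neg r ∧ D.commTerms r c = []))

/-- `s = c + d` with `c`, `d` commuting with `r`, the structure constant being `N` -/
def DecN (D : ChevalleyDatum) (r s : ℕ) (N : ℤ) : Prop :=
  ∃ c d, XCm D r c ∧ XCm D r d ∧ d ≠ c ∧ d ≠ D.neg c ∧ D.commTerms c d = [(s, N, 1, 1)]

/-- a cocharacter vanishing on `r` with value `k` on `s` -/
def TorK (D : ChevalleyDatum) (r s : ℕ) (k : ℤ) : Prop :=
  ∃ m : Fin D.rank → ℤ, ev D m r = 0 ∧ ev D m s = k

/-- a certificate that the lifts of the commuting root elements `x_r`, `x_s` commute -/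
def Cert (D : ChevalleyDatum) (r s : ℕ) : Prop :=
  DecN D r s 1 ∨ DecN D r s (-1) ∨ TorK D r s 1 ∨ TorK D r s (-1) ∨
    ((DecN D r s 2 ∨ DecN D r s (-2)) ∧ (TorK D r s 2 ∨ TorK D r s (-2)))

/-- the facts about the tables used by the hybrid argument -/
structure HybTab (D : ChevalleyDatum) : Prop where
  unit : ∀ r < D.nroots, ∃ m : Fin D.rank → ℤ, ev D m r = 1
  kill : ∀ r < D.nroots, ∀ s < D.nroots, s ≠ r → s ≠ D.neg r → D.commTerms r s ≠ [] →
    ∃ m : Fin D.rank → ℤ, ev D m r = 0 ∧ (ev D m s = 1 ∨ ev D m s = -1) ∧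
      ∀ c ∈ D.commTerms r s, ev D m c.1 = (c.2.2.2 : ℤ) * ev D m s
  cert : ∀ r < D.nroots, ∀ s < D.nroots, (s = r ∨ (s ≠ D.neg r ∧ D.commTerms r s = [])) → Cert D r s
  pairs : ∀ r < D.nroots, ∀ s < D.nroots, s ≠ r → s ≠ D.neg r →
    ∃ w : List ℕ, (∀ i ∈ w, i < D.rank) ∧ r ∈ listW D w ∧ s ∈ listW D w ∧
      ∀ c ∈ D.commTerms r s, c.1 ∈ listW D w

variable {K : Type*} [Field K] {D : ChevalleyDatum}
  (hD : D ∈ [chevG2, chevB2, chevD4, chevF4, chevE6, chevE7, chevE8])

theorem XG_comm_of (r c : ℕ) (hr : r < D.nroots) (h : XCm D r c) (t u : K) :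
    XG hD r t * XG hD c u = XG hD c u * XG hD r t := by
  obtain ⟨hcn, h⟩ := h
  have hrel := stRel_XG (K := K) hD
  rcases h with rfl | ⟨h1, h2⟩
  · rw [hrel.add c hcn, hrel.add c hcn, add_comm]
  · by_cases hcr : c = r
    · subst hcr
      rw [hrel.add c hcn, hrel.add c hcn, add_comm]
    · have h3 := hrel.comm r hr c hcn hcr h1 t u
      unfold ChevalleyDatum.commWord at h3
      rw [h2, List.map_nil, wordG_nil] at h3
      have : XG hD c u * XG hD r t =
          XG hD r t * XG hD c u * ((XG hD c u)⁻¹ * (XG hD r t)⁻¹ * XG hD c u * XG hD r t) := by group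
      rw [this, h3, mul_one]

theorem zpow_two_ne_one_of_char_two (h2 : (2 : K) = 0) (v : K) (hv0 : v ≠ 0) (hv1 : v ≠ 1) :
    (Units.mk0 v hv0) ^ (2 : ℤ) ≠ 1 := by
  intro h
  have h' := congrArg Units.val h
  rw [Units.val_zpow_eq_zpow_val, Units.val_mk0, Units.val_one] at h'
  have h5 : (v - 1) * (v - 1) = 0 := by
    have e : v ^ (2 : ℤ) = v * v := by rw [zpow_ofNat]; ring
    rw [e] at h'
    linear_combination h' - (v - 1) * h2
  rcases mul_eq_zero.1 h5 with h3 | h3 <;> exact hv1 (sub_eq_zero.1 h3)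

section cert

variable {E : Type*} [Group E] (σ : E →* D.group K) (hs : Function.Surjective σ)
  (hc : σ.ker ≤ Subgroup.center E)

include hs hc in
theorem lifts_comm_decN (r s : ℕ) (hr : r < D.nroots) (hsn : s < D.nroots) (N : ℤ) (h : DecN D r s N)
    (hN : (N : K) ≠ 0) (a b : E) (t u : K) (ha : σ a = XG hD r t) (hb : σ b = XG hD s u) :
    a * b = b * a := by
  obtain ⟨c, d, hc1, hd1, hdc, hdc', hct⟩ := h
  apply lifts_comm_decomp σ hc hs (XG hD r) (XG hD c) (XG hD d) (XG hD s) (N : K) hN ?_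
    (XG_comm_of hD r c hr hc1) (XG_comm_of hD r d hr hd1) a b t u ha hb
  intro t' u'
  have h3 := (stRel_XG (K := K) hD).comm c hc1.1 d hd1.1 hdc hdc' t' u'
  unfold ChevalleyDatum.commWord at h3
  rw [hct] at h3
  simp only [List.map_cons, List.map_nil, wordG_cons, wordG_nil, mul_one, pow_one] at h3
  exact h3

include hs hc in
theorem lifts_comm_torK (r s : ℕ) (hr : r < D.nroots) (hsn : s < D.nroots)
    (hrs : s = r ∨ (s ≠ D.neg r ∧ D.commTerms r s = [])) (k : ℤ) (h : TorK D r s k)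
    (v : Kˣ) (hv : v ^ k ≠ 1) (a b : E) (t u : K) (ha : σ a = XG hD r t) (hb : σ b = XG hD s u) :
    a * b = b * a := by
  obtain ⟨m, hm0, hmk⟩ := h
  have hrel := stRel_XG (K := K) hD
  apply lifts_comm_torus σ hc hs (XG hD r) (XG hD s) (hrel.add s hsn)
    (XG_comm_of hD r s hr ⟨hsn, hrs⟩) (torG hD fun i => v ^ m i) (chrG D (fun i => v ^ m i) s) ?_ ?_
    (fun u' => torG_conj hD _ s hsn u') a b t u ha hb
  · unfold chrG
    rw [chiU_oneParam, hmk]
    intro h
    exact hv (Units.ext h)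
  · intro t'
    rw [torG_conj hD _ r hr t']
    unfold chrG
    rw [chiU_oneParam, hm0, zpow_zero, Units.val_one, one_mul]

include hs hc in
theorem lifts_comm_cert (hK3 : ∃ v : K, v ≠ 0 ∧ v ≠ 1) (r s : ℕ) (hr : r < D.nroots)
    (hsn : s < D.nroots) (hrs : s = r ∨ (s ≠ D.neg r ∧ D.commTerms r s = [])) (h : Cert D r s)
    (a b : E) (t u : K) (ha : σ a = XG hD r t) (hb : σ b = XG hD s u) : a * b = b * a := by
  obtain ⟨v, hv0, hv1⟩ := hK3
  have hu1 : (Units.mk0 v hv0) ^ (1 : ℤ) ≠ 1 := by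
    rw [zpow_one]
    intro h
    apply hv1
    have h' := congrArg Units.val h
    rwa [Units.val_mk0, Units.val_one] at h'
  have hneg : ∀ k : ℤ, (Units.mk0 v hv0) ^ k ≠ 1 → (Units.mk0 v hv0) ^ (-k) ≠ 1 := by
    intro k hk
    rw [zpow_neg, ne_eq, inv_eq_one]
    exact hk
  rcases h with h | h | h | h | ⟨h1, h2⟩
  · exact lifts_comm_decN hD σ hs hc r s hr hsn 1 h (by simp) a b t u ha hb
  · exact lifts_comm_decN hD σ hs hc r s hr hsn (-1) h (by simp) a b t u ha hb
  · exact lifts_comm_torK hD σ hs hc r s hr hsn hrs 1 h _ hu1 a b t u ha hb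
  · exact lifts_comm_torK hD σ hs hc r s hr hsn hrs (-1) h _ (hneg 1 hu1) a b t u ha hb
  · by_cases h2K : (2 : K) = 0
    · have hu2 := zpow_two_ne_one_of_char_two h2K v hv0 hv1
      rcases h2 with h2 | h2
      · exact lifts_comm_torK hD σ hs hc r s hr hsn hrs 2 h2 _ hu2 a b t u ha hb
      · exact lifts_comm_torK hD σ hs hc r s hr hsn hrs (-2) h2 _ (hneg 2 hu2) a b t u ha hb
    · rcases h1 with h1 | h1
      · exact lifts_comm_decN hD σ hs hc r s hr hsn 2 h1 (by simpa using h2K) a b t u ha hb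
      · exact lifts_comm_decN hD σ hs hc r s hr hsn (-2) h1 (by simpa using h2K) a b t u ha hb

end cert

theorem torusData2 (tab : HybTab D) (hK3 : ∃ v : K, v ≠ 0 ∧ v ≠ 1) :
    TorusData2 D (XG (K := K) hD) (torG hD) (chrG D) := by
  obtain ⟨v, hv0, hv1⟩ := hK3
  have hval : ((Units.mk0 v hv0 : Kˣ) : K) ≠ 1 := by rwa [Units.val_mk0]
  refine ⟨torG_conj hD, ?_, ?_⟩
  · intro r hr
    obtain ⟨m, hm⟩ := tab.unit r hr
    refine ⟨fun i => (Units.mk0 v hv0) ^ m i, ?_⟩
    unfold chrG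
    rw [chiU_oneParam, hm, zpow_one]
    exact hval
  · intro r hr s hs hne hne' hnil
    obtain ⟨m, hm0, hm1, hmc⟩ := tab.kill r hr s hs hne hne' hnil
    refine ⟨fun i => (Units.mk0 v hv0) ^ m i, ?_, ?_, ?_⟩
    · unfold chrG
      rw [chiU_oneParam, hm0, zpow_zero, Units.val_one]
    · unfold chrG
      rw [chiU_oneParam]
      rcases hm1 with h | h
      · rw [h, zpow_one]
        exact hval
      · rw [h, zpow_neg, zpow_one, Units.val_inv_eq_inv_val, ne_eq, inv_eq_one]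
        exact hval
    · intro c hc
      unfold chrG
      rw [chiU_oneParam, chiU_oneParam, hmc c hc, mul_comm, zpow_mul, zpow_natCast,
        Units.val_pow_eq_pow_val]

/-- every central extension of the Chevalley group receives a homomorphism from the presented group -/
theorem exists_cover_hom_hyb (tab : HybTab D) (hK3 : ∃ v : K, v ≠ 0 ∧ v ≠ 1) {E : Type*} [Group E]
    (σ : E →* D.group K) (hs : Function.Surjective σ) (hc : σ.ker ≤ Subgroup.center E) :
    ∃ τ : D.SteinbergCover K →* E, ∀ (r : ℕ) (t : K), r < D.nroots →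
      σ (τ (D.scGen K r t)) = XG hD r t := by
  obtain ⟨φ, hrel, hmap, h1⟩ := exists_stRel2 (setupG (K := K) hD) σ hc hs (torusData2 hD tab hK3)
    (fun r hr s hsn hrs a b t u ha hb =>
      lifts_comm_cert hD σ hs hc hK3 r s hr hsn hrs (tab.cert r hr s hsn hrs) a b t u ha hb)
    tab.pairs
  obtain ⟨τ, hτ⟩ := exists_hom_of_stRel hrel h1
  refine ⟨τ, ?_⟩
  intro r t hr
  rw [hτ, hmap r hr]

end Cfsg.Agent.Helper6.CExt
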