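import Mathlib
import Cfsg.Agent.Lib.Helper6.CExtHybChev
import Cfsg.Agent.Lib.Helper6.CExtG2

/-!
# Boolean checkers for the table facts of the hybrid argument
-/

set_option autoImplicit false
set_option linter.unusedSectionVars false
set_option linter.unusedVariables false

namespace Cfsg.Agent.Helper6.CExt

open Cfsg Cfsg.Lie Cfsg.Agent.Lead.Chev Cfsg.Agent.Helper6.StC

/-- Boolean form of `XCm` -/
def xcmB (D : ChevalleyDatum) (r c : ℕ) : Bool :=
  decide (c < D.nroots) && (decide (c = r) || (decide (c ≠ D.neg r) && (D.commTerms r c).isEmpty))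

theorem xcm_of_B (D : ChevalleyDatum) (r c : ℕ) (h : xcmB D r c = true) : XCm D r c := by
  unfold xcmB at h
  simp only [Bool.and_eq_true, Bool.or_eq_true, decide_eq_true_eq, List.isEmpty_iff] at h
  exact h

/-- Boolean form of `DecN` with explicit witnesses -/
def decNB (D : ChevalleyDatum) (r s : ℕ) (N : ℤ) (c d : ℕ) : Bool :=
  xcmB D r c && xcmB D r d && decide (d ≠ c) && decide (d ≠ D.neg c) &&
    decide (D.commTerms c d = [(s, N, 1, 1)])

theorem decN_of_B (D : ChevalleyDatum) (r s : ℕ) (N : ℤ) (c d : ℕ) (h : decNB D r s N c d = true) :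
    DecN D r s N := by
  unfold decNB at h
  simp only [Bool.and_eq_true, decide_eq_true_eq] at h
  obtain ⟨⟨⟨⟨h1, h2⟩, h3⟩, h4⟩, h5⟩ := h
  exact ⟨c, d, xcm_of_B D r c h1, xcm_of_B D r d h2, h3, h4, h5⟩

/-- Boolean form of `TorK` with an explicit witness -/
def torKB (D : ChevalleyDatum) (r s : ℕ) (k : ℤ) (m : List ℤ) : Bool :=
  decide (evL D m r = 0) && decide (evL D m s = k)

theorem torK_of_B (D : ChevalleyDatum) (r s : ℕ) (k : ℤ) (m : List ℤ) (h : torKB D r s k m = true) :
    TorK D r s k := by
  unfold torKB at h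
  simp only [Bool.and_eq_true, decide_eq_true_eq] at h
  refine ⟨fun i => m.getD i.val 0, ?_, ?_⟩
  · rw [ev_eq]; exact h.1
  · rw [ev_eq]; exact h.2

/-- the check of a certificate entry `[N, c, d, k, m₀, m₁, …]` -/
def certEntry (D : ChevalleyDatum) (r s : ℕ) (e : List ℤ) : Bool :=
  (decide (e.getD 0 0 = 1 ∨ e.getD 0 0 = -1) &&
      decNB D r s (e.getD 0 0) (e.getD 1 0).toNat (e.getD 2 0).toNat) ||
    (decide (e.getD 3 0 = 1 ∨ e.getD 3 0 = -1) && torKB D r s (e.getD 3 0) (e.drop 4)) ||
    (decide (e.getD 0 0 = 2 ∨ e.getD 0 0 = -2) &&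
      decNB D r s (e.getD 0 0) (e.getD 1 0).toNat (e.getD 2 0).toNat &&
      decide (e.getD 3 0 = 2 ∨ e.getD 3 0 = -2) && torKB D r s (e.getD 3 0) (e.drop 4))

theorem cert_of_entry (D : ChevalleyDatum) (r s : ℕ) (e : List ℤ) (h : certEntry D r s e = true) :
    Cert D r s := by
  unfold certEntry at h
  simp only [Bool.or_eq_true, Bool.and_eq_true, decide_eq_true_eq] at h
  unfold Cert
  rcases h with (⟨hN, hd⟩ | ⟨hk, ht⟩) | ⟨⟨⟨hN, hd⟩, hk⟩, ht⟩
  · have := decN_of_B D r s _ _ _ hd
    rcases hN with hN | hN
    · rw [hN] at this; exact Or.inl this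
    · rw [hN] at this; exact Or.inr (Or.inl this)
  · have := torK_of_B D r s _ _ ht
    rcases hk with hk | hk
    · rw [hk] at this; exact Or.inr (Or.inr (Or.inl this))
    · rw [hk] at this; exact Or.inr (Or.inr (Or.inr (Or.inl this)))
  · have h1 := decN_of_B D r s _ _ _ hd
    have h2 := torK_of_B D r s _ _ ht
    refine Or.inr (Or.inr (Or.inr (Or.inr ⟨?_, ?_⟩)))
    · rcases hN with hN | hN
      · rw [hN] at h1; exact Or.inl h1
      · rw [hN] at h1; exact Or.inr h1
    · rcases hk with hk | hk
      · rw [hk] at h2; exact Or.inl h2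
      · rw [hk] at h2; exact Or.inr h2

/-- the check of the certificates for the commuting pairs `(r, s)`, `r` fixed -/
def certChk (D : ChevalleyDatum) (ct : ℕ → ℕ → List ℤ) (r : ℕ) : Bool :=
  (List.range D.nroots).all fun s =>
    !(decide (s = r) || (decide (s ≠ D.neg r) && (D.commTerms r s).isEmpty)) ||
      certEntry D r s (ct r s)

/-- the check of the torus elements for the non-commuting pairs `(r, s)`, `r` fixed -/
def killChkH (D : ChevalleyDatum) (kv : ℕ → ℕ → List ℤ) (r : ℕ) : Bool :=
  (List.range D.nroots).all fun s => decide (s = r) || decide (s = D.neg r) ||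
    (D.commTerms r s).isEmpty ||
    (decide (evL D (kv r s) r = 0) &&
      (decide (evL D (kv r s) s = 1) || decide (evL D (kv r s) s = -1)) &&
      (D.commTerms r s).all fun c => decide (evL D (kv r s) c.1 = (c.2.2.2 : ℤ) * evL D (kv r s) s))

/-- the check that pairs of roots lie in common positive systems given as explicit lists -/
def pairChkT (D : ChevalleyDatum) (LW : List (List ℕ)) (r : ℕ) : Bool :=
  (List.range D.nroots).all fun s => decide (s = r) || decide (s = D.neg r) ||
    LW.any fun L => L.contains r && L.contains s && (D.commTerms r s).all fun c => L.contains c.1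

theorem hybTab_of_chk (D : ChevalleyDatum) (tab : List (List ℤ)) (kv ct : ℕ → ℕ → List ℤ)
    (W : List (List ℕ)) (LW : List (List ℕ)) (hW : ∀ w ∈ W, ∀ i ∈ w, i < D.rank)
    (hLW : LW = W.map (listW D))
    (h1 : (List.range D.nroots).all (unitChk D tab) = true)
    (h2 : (List.range D.nroots).all (killChkH D kv) = true)
    (h3 : (List.range D.nroots).all (certChk D ct) = true)
    (h4 : (List.range D.nroots).all (pairChkT D LW) = true) : HybTab D := by
  rw [List.all_eq_true] at h1 h2 h3 h4
  refine ⟨?_, ?_, ?_, ?_⟩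
  · intro r hr
    refine ⟨fun i => (tab.getD r []).getD i.val 0, ?_⟩
    rw [ev_eq]
    have := h1 r (List.mem_range.2 hr)
    unfold unitChk at this
    exact of_decide_eq_true this
  · intro r hr s hs hne hne' hnil
    have h := h2 r (List.mem_range.2 hr)
    unfold killChkH at h
    rw [List.all_eq_true] at h
    have h' := h s (List.mem_range.2 hs)
    simp only [Bool.or_eq_true, Bool.and_eq_true, decide_eq_true_eq, List.all_eq_true,
      List.isEmpty_iff] at h'
    rcases h' with ((h' | h') | h') | h'
    · exact absurd h' hne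
    · exact absurd h' hne'
    · exact absurd h' hnil
    · obtain ⟨⟨e1, e2⟩, e4⟩ := h'
      refine ⟨fun i => (kv r s).getD i.val 0, ?_, ?_, ?_⟩
      · rw [ev_eq]; exact e1
      · rw [ev_eq]; exact e2
      · intro c hc
        rw [ev_eq, ev_eq]
        exact e4 c hc
  · intro r hr s hs hrs
    have h := h3 r (List.mem_range.2 hr)
    unfold certChk at h
    rw [List.all_eq_true] at h
    have h' := h s (List.mem_range.2 hs)
    rw [Bool.or_eq_true] at h'
    rcases h' with h' | h'
    · exfalso
      simp only [Bool.not_eq_true', Bool.or_eq_false_iff, Bool.and_eq_false_iff,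
        decide_eq_false_iff_not, List.isEmpty_eq_false_iff, ne_eq, not_not] at h'
      rcases hrs with hrs | hrs
      · exact h'.1 hrs
      · rcases h'.2 with h2 | h2
        · exact hrs.1 h2
        · exact h2 hrs.2
    · exact cert_of_entry D r s _ h'
  · intro r hr s hs hne hne'
    have h := h4 r (List.mem_range.2 hr)
    unfold pairChkT at h
    rw [List.all_eq_true] at h
    have h' := h s (List.mem_range.2 hs)
    simp only [Bool.or_eq_true, Bool.and_eq_true, decide_eq_true_eq, List.all_eq_true,
      List.any_eq_true, List.contains_iff_mem] at h'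
    rcases h' with (h' | h') | h'
    · exact absurd h' hne
    · exact absurd h' hne'
    · obtain ⟨L, hL, ⟨e1, e2⟩, e3⟩ := h'
      rw [hLW, List.mem_map] at hL
      obtain ⟨w, hw, rfl⟩ := hL
      exact ⟨w, hW w hw, e1, e2, e3⟩

end Cfsg.Agent.Helper6.CExt
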