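import Mathlib
import Cfsg.Agent.Lib.Helper6.CExtHybChk

/-!
# Central extensions of a Chevalley group over a field with at least five elements:
the torus argument, also for types where a root is twice a weight
-/

set_option autoImplicit false
set_option linter.unusedSectionVars false
set_option linter.unusedVariables false

namespace Cfsg.Agent.Helper6.CExt

open Cfsg Cfsg.Lie Cfsg.Agent.Lead.Chev Cfsg.Agent.Helper6.StC

/-- the facts about the tables used by the torus argument, second form -/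
structure TorusTab2 (D : ChevalleyDatum) : Prop where
  kill : ∀ r < D.nroots, ∀ s < D.nroots, s ≠ r → s ≠ D.neg r → ∃ m : Fin D.rank → ℤ,
    ev D m r = 0 ∧ ev D m s ≠ 0 ∧ |ev D m s| ≤ 3 ∧
      ∀ c ∈ D.commTerms r s, ev D m c.1 = (c.2.2.2 : ℤ) * ev D m s
  self : ∀ r < D.nroots, (∃ m : Fin D.rank → ℤ, ev D m r = 1) ∨
    ((∃ m : Fin D.rank → ℤ, ev D m r = 2) ∧ (DecN D r r 2 ∨ DecN D r r (-2)))
  pairs : ∀ r < D.nroots, ∀ s < D.nroots, s ≠ r → s ≠ D.neg r →
    ∃ w : List ℕ, (∀ i ∈ w, i < D.rank) ∧ r ∈ listW D w ∧ s ∈ listW D w ∧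
      ∀ c ∈ D.commTerms r s, c.1 ∈ listW D w

variable {K : Type*} [Field K] {D : ChevalleyDatum}
  (hD : D ∈ [chevG2, chevB2, chevD4, chevF4, chevE6, chevE7, chevE8])

section self

variable {E : Type*} [Group E] (σ : E →* D.group K) (hs : Function.Surjective σ)
  (hc : σ.ker ≤ Subgroup.center E)

include hs hc in
theorem lifts_comm_self (tab : TorusTab2 D) (hK5 : ∃ s : Finset K, 4 < s.card) (r : ℕ)
    (hr : r < D.nroots) (a b : E) (t u : K) (ha : σ a = XG hD r t) (hb : σ b = XG hD r u) :
    a * b = b * a := by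
  have hadd : ∀ t u : K, XG hD r t * XG hD r u = XG hD r (t + u) :=
    (stRel_XG (K := K) hD).add r hr
  obtain ⟨w, hw0, hw1, hw2⟩ := exists_nu hK5
  rcases tab.self r hr with ⟨m, hm⟩ | ⟨⟨m, hm⟩, hdec⟩
  · refine lifts_commute σ hc hs (XG hD r) hadd w hw0 hw2
      (torG hD fun i => (Units.mk0 w hw0) ^ m i) (torG hD fun i => (Units.mk0 (1 + w) hw1) ^ m i)
      ?_ ?_ a b t u ha hb
    · intro t'
      rw [torG_conj hD _ r hr t']
      unfold chrG
      rw [chiU_oneParam, hm, zpow_one, Units.val_mk0]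
    · intro t'
      rw [torG_conj hD _ r hr t']
      unfold chrG
      rw [chiU_oneParam, hm, zpow_one, Units.val_mk0]
  · by_cases h2K : (2 : K) = 0
    · have hν : w * w ≠ 0 := mul_ne_zero hw0 hw0
      have hν2 : (w * w) * (w * w) + w * w + 1 ≠ 0 := by
        have e : (w * w) * (w * w) + w * w + 1 = (w * w + w + 1) * (w * w + w + 1) := by
          linear_combination (-(w * w * w + w * w + w)) * h2K
        rw [e]
        exact mul_ne_zero hw2 hw2
      refine lifts_commute σ hc hs (XG hD r) hadd (w * w) hν hν2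
        (torG hD fun i => (Units.mk0 w hw0) ^ m i) (torG hD fun i => (Units.mk0 (1 + w) hw1) ^ m i)
        ?_ ?_ a b t u ha hb
      · intro t'
        rw [torG_conj hD _ r hr t']
        unfold chrG
        have e : w ^ (2 : ℤ) = w * w := by rw [zpow_ofNat]; ring
        rw [chiU_oneParam, hm, Units.val_zpow_eq_zpow_val, Units.val_mk0, e]
      · intro t'
        rw [torG_conj hD _ r hr t']
        unfold chrG
        have e : (1 + w) ^ (2 : ℤ) = 1 + w * w := by
          rw [zpow_ofNat]
          linear_combination w * h2K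
        rw [chiU_oneParam, hm, Units.val_zpow_eq_zpow_val, Units.val_mk0, e]
    · rcases hdec with h | h
      · exact lifts_comm_decN hD σ hs hc r r hr hr 2 h (by simpa using h2K) a b t u ha hb
      · exact lifts_comm_decN hD σ hs hc r r hr hr (-2) h (by simpa using h2K) a b t u ha hb

include hs hc in
theorem lifts_comm_tor2 (tab : TorusTab2 D) (hK5 : ∃ s : Finset K, 4 < s.card) (r s : ℕ)
    (hr : r < D.nroots) (hsn : s < D.nroots)
    (hrs : s = r ∨ (s ≠ D.neg r ∧ D.commTerms r s = []))
    (a b : E) (t u : K) (ha : σ a = XG hD r t) (hb : σ b = XG hD s u) : a * b = b * a := by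
  by_cases hsr : s = r
  · subst hsr
    exact lifts_comm_self hD σ hs hc tab hK5 s hr a b t u ha hb
  · have hneg : s ≠ D.neg r := by
      rcases hrs with h | h
      · exact absurd h hsr
      · exact h.1
    obtain ⟨m, hm0, hm1, hm3, -⟩ := tab.kill r hr s hsn hsr hneg
    obtain ⟨v, hv⟩ := exists_pow_ne_one hK5 (ev D m s) hm1 hm3
    exact lifts_comm_torK hD σ hs hc r s hr hsn hrs (ev D m s) ⟨m, hm0, rfl⟩ v hv a b t u ha hb

end self

theorem torusData2_tor2 (tab : TorusTab2 D) (hK5 : ∃ s : Finset K, 4 < s.card) :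
    TorusData2 D (XG (K := K) hD) (torG hD) (chrG D) := by
  refine ⟨torG_conj hD, ?_, ?_⟩
  · intro r hr
    have hk : ∃ (m : Fin D.rank → ℤ) (k : ℤ), ev D m r = k ∧ k ≠ 0 ∧ |k| ≤ 3 := by
      rcases tab.self r hr with ⟨m, hm⟩ | ⟨⟨m, hm⟩, -⟩
      · exact ⟨m, 1, hm, by norm_num, by norm_num⟩
      · exact ⟨m, 2, hm, by norm_num, by norm_num⟩
    obtain ⟨m, k, hm, hk0, hk3⟩ := hk
    obtain ⟨v, hv⟩ := exists_pow_ne_one hK5 k hk0 hk3
    refine ⟨fun i => v ^ m i, ?_⟩
    unfold chrG
    rw [chiU_oneParam, hm]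
    intro h
    exact hv (Units.ext h)
  · intro r hr s hs hne hne' _
    obtain ⟨m, hm0, hm1, hm3, hmc⟩ := tab.kill r hr s hs hne hne'
    obtain ⟨v, hv⟩ := exists_pow_ne_one hK5 (ev D m s) hm1 hm3
    refine ⟨fun i => v ^ m i, ?_, ?_, ?_⟩
    · unfold chrG
      rw [chiU_oneParam, hm0, zpow_zero, Units.val_one]
    · unfold chrG
      rw [chiU_oneParam]
      intro h
      apply hv
      exact Units.ext h
    · intro c hc
      unfold chrG
      rw [chiU_oneParam, chiU_oneParam, hmc c hc, mul_comm, zpow_mul, zpow_natCast,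
        Units.val_pow_eq_pow_val]

/-- every central extension of the Chevalley group receives a homomorphism from the presented group -/
theorem exists_cover_hom_tor2 (tab : TorusTab2 D) (hK5 : ∃ s : Finset K, 4 < s.card)
    {E : Type*} [Group E]
    (σ : E →* D.group K) (hs : Function.Surjective σ) (hc : σ.ker ≤ Subgroup.center E) :
    ∃ τ : D.SteinbergCover K →* E, ∀ (r : ℕ) (t : K), r < D.nroots →
      σ (τ (D.scGen K r t)) = XG hD r t := by
  obtain ⟨φ, hrel, hmap, h1⟩ := exists_stRel2 (setupG (K := K) hD) σ hc hs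
    (torusData2_tor2 hD tab hK5)
    (fun r hr s hsn hrs a b t u ha hb =>
      lifts_comm_tor2 hD σ hs hc tab hK5 r s hr hsn hrs a b t u ha hb)
    tab.pairs
  obtain ⟨τ, hτ⟩ := exists_hom_of_stRel hrel h1
  refine ⟨τ, ?_⟩
  intro r t hr
  rw [hτ, hmap r hr]

/-! ### the Boolean checks -/

/-- the check of the self-commutation certificate -/
def selfChk (D : ChevalleyDatum) (tab : List (List ℤ)) (dw : List (ℕ × ℕ)) (r : ℕ) : Bool :=
  decide (evL D (tab.getD r []) r = 1) ||
    (decide (evL D (tab.getD r []) r = 2) &&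
      (decNB D r r 2 (dw.getD r (0, 0)).1 (dw.getD r (0, 0)).2 ||
        decNB D r r (-2) (dw.getD r (0, 0)).1 (dw.getD r (0, 0)).2))

theorem torusTab2_of_chk (D : ChevalleyDatum) (tab : List (List ℤ)) (dw : List (ℕ × ℕ))
    (kv : ℕ → ℕ → List ℤ)
    (W : List (List ℕ)) (LW : List (List ℕ)) (hW : ∀ w ∈ W, ∀ i ∈ w, i < D.rank)
    (hLW : LW = W.map (listW D))
    (h1 : (List.range D.nroots).all (selfChk D tab dw) = true)
    (h2 : (List.range D.nroots).all (killChk D kv) = true)
    (h4 : (List.range D.nroots).all (pairChkT D LW) = true) : TorusTab2 D := by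
  rw [List.all_eq_true] at h1 h2 h4
  refine ⟨?_, ?_, ?_⟩
  · intro r hr s hs hne hne'
    have h := h2 r (List.mem_range.2 hr)
    unfold killChk at h
    rw [List.all_eq_true] at h
    have h' := h s (List.mem_range.2 hs)
    simp only [Bool.or_eq_true, Bool.and_eq_true, decide_eq_true_eq, List.all_eq_true] at h'
    rcases h' with (h' | h') | h'
    · exact absurd h' hne
    · exact absurd h' hne'
    · obtain ⟨⟨⟨e1, e2⟩, e3⟩, e4⟩ := h'
      refine ⟨fun i => (kv r s).getD i.val 0, ?_, ?_, ?_, ?_⟩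
      · rw [ev_eq]; exact e1
      · rw [ev_eq]; exact e2
      · rw [ev_eq]; exact e3
      · intro c hc
        rw [ev_eq, ev_eq]
        exact e4 c hc
  · intro r hr
    have h := h1 r (List.mem_range.2 hr)
    unfold selfChk at h
    simp only [Bool.or_eq_true, Bool.and_eq_true, decide_eq_true_eq] at h
    rcases h with h | ⟨h, hd⟩
    · left
      exact ⟨fun i => (tab.getD r []).getD i.val 0, by rw [ev_eq]; exact h⟩
    · right
      refine ⟨⟨fun i => (tab.getD r []).getD i.val 0, by rw [ev_eq]; exact h⟩, ?_⟩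
      rcases hd with hd | hd
      · exact Or.inl (decN_of_B D r r 2 _ _ hd)
      · exact Or.inr (decN_of_B D r r (-2) _ _ hd)
  · intro r hr s hs hne hne'
    have h := h4 r (List.mem_range.2 hr)
    unfold pairChkT at h
    rw [List.all_eq_true] at h
    have h' := h s (List.mem_range.2 hs)
    simp only [Bool.or_eq_true, Bool.and_eq_true, decide_eq_true_eq, List.all_eq_true,
      List.any_eq_true, List.contains_iff_mem] at h'
    rcases h' with (h' | h') | h'
    · exact absurd h' hne
    · exact absurd h' hne'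
    · obtain ⟨L, hL, ⟨e1, e2⟩, e3⟩ := h'
      rw [hLW, List.mem_map] at hL
      obtain ⟨w, hw, rfl⟩ := hL
      exact ⟨w, hW w hw, e1, e2, e3⟩

end Cfsg.Agent.Helper6.CExt
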