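import Mathlib
import Cfsg.Agent.Lib.Helper6.CExtTor2
import Cfsg.Agent.Lib.Helper6.CExtB2Data

/-!
# The table facts for the torus argument, type B2
-/

set_option autoImplicit false
set_option maxRecDepth 1000000
set_option maxHeartbeats 0

namespace Cfsg.Agent.Helper6.CExt

open Cfsg Cfsg.Lie Cfsg.Agent.Helper6.StC

theorem b2_words : ∀ w ∈ wordsB2, ∀ i ∈ w, i < chevB2.rank := by decide

theorem b2_lw : lwB2 = wordsB2.map (listW chevB2) := by decide

theorem b2_self : (List.range chevB2.nroots).all (selfChk chevB2 unitTabB2 selfTabB2) = true := by decide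

theorem b2_kill : (List.range chevB2.nroots).all (killChk chevB2 kvB2) = true := by decide

theorem b2_pair : (List.range chevB2.nroots).all (pairChkT chevB2 lwB2) = true := by decide

theorem torusTab2_B2 : TorusTab2 chevB2 :=
  torusTab2_of_chk chevB2 unitTabB2 selfTabB2 kvB2 wordsB2 lwB2 b2_words b2_lw b2_self b2_kill b2_pair

end Cfsg.Agent.Helper6.CExt
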