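import Mathlib

/-!
Generated tables for type B2 in characteristic two.
-/

set_option autoImplicit false

namespace Cfsg.Agent.Helper6.CExt

def unitTabB2C : List (List ℤ) :=
  [[-1, 0], [0, -1], [-1, 0], [-1, 0], [-1, 0], [-1, 0], [0, -1], [-1, 0]]

def selfTabB2C : List (ℕ × ℕ) :=
  [(1, 4), (0, 5), (0, 6), (0, 5), (0, 6), (1, 7), (2, 7), (3, 6)]

def killTabB2C : List (List (List ℤ)) :=
  [[[], [0, -1], [0, -1], [0, -1], [0, -1], [0, -1], [0, -1], []],
   [[-1, 0], [], [-1, 0], [-1, 0], [-1, 0], [-1, 0], [], [-1, 0]],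
   [[-1, -2], [-1, -2], [], [-1, -2], [-1, -2], [], [-1, -2], [-1, -2]],
   [[-1, -1], [-1, -1], [-1, -1], [], [], [-1, -1], [-1, -1], [-1, -1]],
   [[-1, -1], [-1, -1], [-1, -1], [], [], [-1, -1], [-1, -1], [-1, -1]],
   [[-1, -2], [-1, -2], [], [-1, -2], [-1, -2], [], [-1, -2], [-1, -2]],
   [[-1, 0], [], [-1, 0], [-1, 0], [-1, 0], [-1, 0], [], [-1, 0]],
   [[], [0, -1], [0, -1], [0, -1], [0, -1], [0, -1], [0, -1], []]]

/-- the torus cocharacter for a pair of roots -/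
def kvB2C (r s : ℕ) : List ℤ := (killTabB2C.getD r []).getD s []

end Cfsg.Agent.Helper6.CExt
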