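import Mathlib
import Cfsg.Agent.Lib.Helper6.CExtHyb

/-!
# Central extensions: commuting lifts by the Hall–Witt identity

Two certificates that the lifts of commuting root elements commute which use neither a decomposition into
commuting roots nor a torus element acting nontrivially: a comparison of two configurations of type `A₃`
(valid when `2 ≠ 0`), and a configuration of type `B₂` for two orthogonal long roots.
-/

set_option autoImplicit false
set_option linter.unusedSectionVars false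
set_option linter.unusedVariables false

namespace Cfsg.Agent.Helper6.CExt

variable {K : Type*} [Field K] {E Γ : Type*} [Group E] [Group Γ]

theorem Kc_of_comm {G : Type*} [Group G] (a b : G) (h : a * b = b * a) : Kc a b = 1 := by
  unfold Kc
  rw [mul_assoc, h]
  group

theorem comm_of_Kc {G : Type*} [Group G] (a b : G) (h : Kc a b = 1) : a * b = b * a := by
  have e : a * b = b * a * Kc a b := by
    unfold Kc
    group
  rw [e, h, mul_one]

section hw

variable (ρ : E →* Γ) (hc : ρ.ker ≤ Subgroup.center E)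

include hc in
/-- the commutator of two elements whose images commute is central -/
theorem Kc_central (R C : E) (h : ρ R * ρ C = ρ C * ρ R) (y : E) : y * Kc R C = Kc R C * y := by
  apply central_of_map_one ρ hc
  rw [map_Kc]
  exact Kc_of_comm _ _ h

include hc in
/-- the Hall–Witt identity for lifts of `y₁(a)`, `y₂(b)`, `y_s(c)` where `[y₁, y₂] ⊆ y_r`, `[y₂, y_s] ⊆ y_g` and
the pairs `(y_r, y_s)`, `(y_s, y₁)`, `(y_g, y₁)` commute -/
theorem hw_three (y1 y2 ys yg yr : K → Γ) (e1 e2 : K)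
    (hinv2 : ∀ t, (y2 t)⁻¹ = y2 (-t)) (hinvs : ∀ t, (ys t)⁻¹ = ys (-t))
    (C1 : ∀ t u : K, Kc (y1 u) (y2 t) = yr (e1 * (-t) * u))
    (C2 : ∀ t u : K, Kc (y2 u) (ys t) = yg (e2 * (-t) * u))
    (hrs : ∀ t u : K, yr t * ys u = ys u * yr t)
    (hs1 : ∀ t u : K, ys t * y1 u = y1 u * ys t)
    (hg1 : ∀ t u : K, yg t * y1 u = y1 u * yg t)
    (a b c : K) (A B C R G : E) (hA : ρ A = y1 a) (hB : ρ B = y2 b) (hC : ρ C = ys c)
    (hR : ρ R = yr (e1 * b * a)) (hG : ρ G = yg (e2 * c * b)) :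
    Kc R C * Kc G A = 1 := by
  have HW := hall_witt A B C
  have f1 : Kc (Kc A B⁻¹) C = Kc R C := by
    apply Kc_eq ρ hc
    · rw [map_Kc, map_inv, hA, hB, hinv2, C1, neg_neg, hR]
    · rfl
  have f2 : Kc (Kc B C⁻¹) A = Kc G A := by
    apply Kc_eq ρ hc
    · rw [map_Kc, map_inv, hB, hC, hinvs, C2, neg_neg, hG]
    · rfl
  have f3 : Kc (Kc C A⁻¹) B = 1 := by
    have hz : ρ (Kc C A⁻¹) = 1 := by
      rw [map_Kc, map_inv, hC, hA]
      apply Kc_of_comm
      exact ((show Commute (ys c) (y1 a) from hs1 c a).inv_right).eq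
    have hcz := central_of_map_one ρ hc _ hz
    exact Kc_of_comm _ _ (hcz B).symm
  have g1 : B⁻¹ * Kc R C * B = Kc R C := by
    have := Kc_central ρ hc R C (by rw [hR, hC]; exact hrs _ _) B⁻¹
    rw [this]
    group
  have g2 : C⁻¹ * Kc G A * C = Kc G A := by
    have := Kc_central ρ hc G A (by rw [hG, hA]; exact hg1 _ _) C⁻¹
    rw [this]
    group
  rw [f1, f2, f3, g1, g2, mul_one, inv_mul_cancel, mul_one] at HW
  exact HW

end hw

section sign

variable (ρ : E →* Γ) (hc : ρ.ker ≤ Subgroup.center E) (hs : Function.Surjective ρ)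

include hc hs in
/-- lifts of commuting root elements commute: the certificate by two configurations of type `A₃` with
the same product of signs, when `2 ≠ 0` -/
theorem lifts_comm_sign (xr xs x1 x2 xg x2' : K → Γ)
    (haddg : ∀ t u : K, xg t * xg u = xg (t + u))
    (hinv2 : ∀ t, (x2 t)⁻¹ = x2 (-t)) (hinv2' : ∀ t, (x2' t)⁻¹ = x2' (-t))
    (hinvs : ∀ t, (xs t)⁻¹ = xs (-t))
    (e1 e2 e1' e2' : K) (he1 : e1 * e1 = 1) (he2 : e2 * e2 = 1) (he1' : e1' * e1' = 1)
    (he2' : e2' * e2' = 1) (hee : e1 * e2 = e1' * e2')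
    (C1 : ∀ t u : K, Kc (x1 u) (x2 t) = xr (e1 * (-t) * u))
    (C2 : ∀ t u : K, Kc (x2 u) (xs t) = xg (e2 * (-t) * u))
    (C1' : ∀ t u : K, Kc (xg u) (x2' t) = xr (e1' * (-t) * u))
    (C2' : ∀ t u : K, Kc (x2' u) (xs t) = x1 (e2' * (-t) * u))
    (hrs : ∀ t u : K, xr t * xs u = xs u * xr t)
    (hs1 : ∀ t u : K, xs t * x1 u = x1 u * xs t)
    (hsg : ∀ t u : K, xs t * xg u = xg u * xs t)
    (hg1 : ∀ t u : K, xg t * x1 u = x1 u * xg t)
    (h2 : (2 : K) ≠ 0)
    (a b : E) (t u : K) (ha : ρ a = xr t) (hb : ρ b = xs u) : a * b = b * a := by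
  obtain ⟨L1, hL1⟩ : ∃ L : K → E, ∀ t, ρ (L t) = x1 t :=
    ⟨fun t => (hs (x1 t)).choose, fun t => (hs (x1 t)).choose_spec⟩
  obtain ⟨L2, hL2⟩ : ∃ L : K → E, ∀ t, ρ (L t) = x2 t :=
    ⟨fun t => (hs (x2 t)).choose, fun t => (hs (x2 t)).choose_spec⟩
  obtain ⟨L2', hL2'⟩ : ∃ L : K → E, ∀ t, ρ (L t) = x2' t :=
    ⟨fun t => (hs (x2' t)).choose, fun t => (hs (x2' t)).choose_spec⟩
  obtain ⟨Ls, hLs⟩ : ∃ L : K → E, ∀ t, ρ (L t) = xs t :=
    ⟨fun t => (hs (xs t)).choose, fun t => (hs (xs t)).choose_spec⟩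
  obtain ⟨Lg, hLg⟩ : ∃ L : K → E, ∀ t, ρ (L t) = xg t :=
    ⟨fun t => (hs (xg t)).choose, fun t => (hs (xg t)).choose_spec⟩
  obtain ⟨Lr, hLr⟩ : ∃ L : K → E, ∀ t, ρ (L t) = xr t :=
    ⟨fun t => (hs (xr t)).choose, fun t => (hs (xr t)).choose_spec⟩
  -- the two identities
  have I1 : ∀ a b c : K, Kc (Lr (e1 * b * a)) (Ls c) * Kc (Lg (e2 * c * b)) (L1 a) = 1 := by
    intro a b c
    exact hw_three ρ hc x1 x2 xs xg xr e1 e2 hinv2 hinvs C1 C2 hrs hs1 hg1 a b c _ _ _ _ _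
      (hL1 a) (hL2 b) (hLs c) (hLr _) (hLg _)
  have I2 : ∀ a b c : K, Kc (Lr (e1' * b * a)) (Ls c) * Kc (L1 (e2' * c * b)) (Lg a) = 1 := by
    intro a b c
    exact hw_three ρ hc xg x2' xs x1 xr e1' e2' hinv2' hinvs C1' C2' hrs hsg
      (fun t u => (hg1 u t).symm) a b c _ _ _ _ _ (hLg a) (hL2' b) (hLs c) (hLr _) (hL1 _)
  -- normal forms
  have hee1 : (e1 * e2) * (e1 * e2) = 1 := by
    calc (e1 * e2) * (e1 * e2) = (e1 * e1) * (e2 * e2) := by ring
      _ = 1 := by rw [he1, he2, one_mul]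
  have J1 : ∀ a b c : K, Kc (Lr (b * a)) (Ls c) = (Kc (Lg (e1 * e2 * c * b)) (L1 a))⁻¹ := by
    intro a b c
    have h := I1 a (e1 * b) c
    have g1 : e1 * (e1 * b) * a = b * a := by rw [← mul_assoc, he1, one_mul]
    have g2 : e2 * c * (e1 * b) = e1 * e2 * c * b := by ring
    rw [g1, g2] at h
    exact eq_inv_of_mul_eq_one_left h
  have J2 : ∀ a b c : K, Kc (Lr (b * a)) (Ls c) = Kc (Lg a) (L1 (e1 * e2 * c * b)) := by
    intro a b c
    have h := I2 a (e1' * b) c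
    have g1 : e1' * (e1' * b) * a = b * a := by rw [← mul_assoc, he1', one_mul]
    have g2 : e2' * c * (e1' * b) = e1 * e2 * c * b := by rw [hee]; ring
    rw [g1, g2] at h
    rw [eq_inv_of_mul_eq_one_left h, Kc_inv]
  -- `P w a = Kc (Lg w) (L1 a)`
  have hP3 : ∀ w a : K, (Kc (Lg w) (L1 a))⁻¹ = Kc (Lg a) (L1 w) := by
    intro w a
    have h1 := J1 a 1 (e1 * e2 * w)
    have h2 := J2 a 1 (e1 * e2 * w)
    have g : e1 * e2 * (e1 * e2 * w) * 1 = w := by
      rw [mul_one, ← mul_assoc, hee1, one_mul]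
    rw [g] at h1 h2
    rw [← h1, h2]
  have hP4 : ∀ w t : K, Kc (Lg (w * t)) (L1 1) = Kc (Lg w) (L1 t) := by
    intro w t
    have h1 := J1 1 t (e1 * e2 * w)
    have h2 := J1 t 1 (e1 * e2 * w)
    have g1 : e1 * e2 * (e1 * e2 * w) * t = w * t := by
      rw [← mul_assoc (e1 * e2), hee1, one_mul]
    have g2 : e1 * e2 * (e1 * e2 * w) * 1 = w := by
      rw [mul_one, ← mul_assoc, hee1, one_mul]
    rw [g1, mul_one] at h1
    rw [g2, one_mul] at h2
    rw [h1] at h2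
    exact inv_injective h2
  have hP5 : ∀ x : K, (Kc (Lg x) (L1 1))⁻¹ = Kc (Lg x) (L1 1) := by
    intro x
    rw [hP3 x 1, ← hP4 1 x, one_mul]
  have hPadd : ∀ w w' : K, Kc (Lg (w + w')) (L1 1) = Kc (Lg w) (L1 1) * Kc (Lg w') (L1 1) := by
    intro w w'
    have e : Kc (Lg (w + w')) (L1 1) = Kc (Lg w * Lg w') (L1 1) := by
      apply Kc_eq ρ hc
      · rw [map_mul, hLg, hLg, hLg, haddg]
      · rfl
    rw [e, Kc_mul_left]
    have hcen := Kc_central ρ hc (Lg w) (L1 1) (by rw [hLg, hL1]; exact hg1 _ _) (Lg w')⁻¹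
    rw [hcen]
    group
  have hP6 : ∀ y : K, Kc (Lg y) (L1 1) = 1 := by
    intro y
    have e : y = y / 2 + y / 2 := by
      field_simp
      ring
    rw [e, hPadd]
    nth_rewrite 1 [← hP5 (y / 2)]
    rw [inv_mul_cancel]
  have hD : ∀ t c : K, Kc (Lr t) (Ls c) = 1 := by
    intro t c
    have h := J1 1 t c
    rw [mul_one, hP4, ← hP4, hP6, inv_one] at h
    exact h
  apply comm_of_Kc
  rw [← hD t u]
  apply Kc_eq ρ hc
  · rw [ha, hLr]
  · rw [hb, hLs]

end sign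

end Cfsg.Agent.Helper6.CExt
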