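import Mathlib
import Cfsg.Agent.Lib.Helper6.CExtHybChk
import Cfsg.Agent.Lib.Helper6.CExtSign

/-!
# The hybrid argument with sign certificates

For a pair of orthogonal roots of a simply laced datum of small rank neither a decomposition nor a cocharacter
with value `±1` is available; a cocharacter with value `±2` settles characteristic two and a comparison of two
configurations of type `A₃` settles the other characteristics.
-/

set_option autoImplicit false
set_option linter.unusedSectionVars false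
set_option linter.unusedVariables false

namespace Cfsg.Agent.Helper6.CExt

open Cfsg Cfsg.Lie Cfsg.Agent.Lead.Chev Cfsg.Agent.Helper6.StC

/-- two configurations of type `A₃` for the commuting roots `r`, `s`: `r = a₁ + a₂ = g + d`, `g = a₂ + s`,
`a₁ = d + s`, with the same product of structure constants -/
def SignCert (D : ChevalleyDatum) (r s : ℕ) : Prop :=
  ∃ (a1 a2 g d : ℕ) (e1 e2 e1' e2' : ℤ),
    XCm D s a1 ∧ a2 < D.nroots ∧ XCm D s g ∧ d < D.nroots ∧ XCm D g a1 ∧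
    a1 ≠ a2 ∧ a1 ≠ D.neg a2 ∧ D.commTerms a2 a1 = [(r, e1, 1, 1)] ∧
    a2 ≠ s ∧ a2 ≠ D.neg s ∧ D.commTerms s a2 = [(g, e2, 1, 1)] ∧
    g ≠ d ∧ g ≠ D.neg d ∧ D.commTerms d g = [(r, e1', 1, 1)] ∧
    d ≠ s ∧ d ≠ D.neg s ∧ D.commTerms s d = [(a1, e2', 1, 1)] ∧
    (e1 = 1 ∨ e1 = -1) ∧ (e2 = 1 ∨ e2 = -1) ∧ (e1' = 1 ∨ e1' = -1) ∧ (e2' = 1 ∨ e2' = -1) ∧
    e1 * e2 = e1' * e2'

/-- the extended certificate -/
def CertS (D : ChevalleyDatum) (r s : ℕ) : Prop :=
  Cert D r s ∨ ((TorK D r s 2 ∨ TorK D r s (-2)) ∧ SignCert D r s)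

/-- the facts about the tables used by the hybrid argument with sign certificates -/
structure HybTabS (D : ChevalleyDatum) : Prop where
  unit : ∀ r < D.nroots, ∃ m : Fin D.rank → ℤ, ev D m r = 1
  kill : ∀ r < D.nroots, ∀ s < D.nroots, s ≠ r → s ≠ D.neg r → D.commTerms r s ≠ [] →
    ∃ m : Fin D.rank → ℤ, ev D m r = 0 ∧ (ev D m s = 1 ∨ ev D m s = -1) ∧
      ∀ c ∈ D.commTerms r s, ev D m c.1 = (c.2.2.2 : ℤ) * ev D m s
  cert : ∀ r < D.nroots, ∀ s < D.nroots, (s = r ∨ (s ≠ D.neg r ∧ D.commTerms r s = [])) → CertS D r s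
  pairs : ∀ r < D.nroots, ∀ s < D.nroots, s ≠ r → s ≠ D.neg r →
    ∃ w : List ℕ, (∀ i ∈ w, i < D.rank) ∧ r ∈ listW D w ∧ s ∈ listW D w ∧
      ∀ c ∈ D.commTerms r s, c.1 ∈ listW D w

variable {K : Type*} [Field K] {D : ChevalleyDatum}
  (hD : D ∈ [chevG2, chevB2, chevD4, chevF4, chevE6, chevE7, chevE8])

/-- the commutator formula for a pair of roots with a single term -/
theorem XG_Kc_single (r s p : ℕ) (N : ℤ) (hr : r < D.nroots) (hsn : s < D.nroots) (hne : s ≠ r)
    (hne' : s ≠ D.neg r) (hct : D.commTerms r s = [(p, N, 1, 1)]) (t u : K) :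
    Kc (XG hD s u) (XG hD r t) = XG hD p ((N : K) * (-t) * u) := by
  have h3 := (stRel_XG (K := K) hD).comm r hr s hsn hne hne' t u
  unfold ChevalleyDatum.commWord at h3
  rw [hct] at h3
  simp only [List.map_cons, List.map_nil, wordG_cons, wordG_nil, mul_one, pow_one] at h3
  exact h3

theorem intCast_sign_sq (e : ℤ) (h : e = 1 ∨ e = -1) : ((e : ℤ) : K) * ((e : ℤ) : K) = 1 := by
  rcases h with rfl | rfl <;> simp

section cert

variable {E : Type*} [Group E] (σ : E →* D.group K) (hs : Function.Surjective σ)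
  (hc : σ.ker ≤ Subgroup.center E)

include hs hc in
theorem lifts_comm_signCert (r s : ℕ) (hr : r < D.nroots) (hsn : s < D.nroots)
    (hrs : s = r ∨ (s ≠ D.neg r ∧ D.commTerms r s = [])) (h : SignCert D r s) (h2 : (2 : K) ≠ 0)
    (a b : E) (t u : K) (ha : σ a = XG hD r t) (hb : σ b = XG hD s u) : a * b = b * a := by
  obtain ⟨a1, a2, g, d, e1, e2, e1', e2', hsa1, ha2, hsg, hd, hga1, n1, n2, c1, n3, n4, c2, n5, n6, c3,
    n7, n8, c4, s1, s2, s3, s4, hee⟩ := h
  have hrel := stRel_XG (K := K) hD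
  refine lifts_comm_sign σ hc hs (XG hD r) (XG hD s) (XG hD a1) (XG hD a2) (XG hD g) (XG hD d)
    (hrel.add g hsg.1) (hrel.inv a2 ha2) (hrel.inv d hd) (hrel.inv s hsn)
    (e1 : K) (e2 : K) (e1' : K) (e2' : K) (intCast_sign_sq e1 s1) (intCast_sign_sq e2 s2)
    (intCast_sign_sq e1' s3) (intCast_sign_sq e2' s4) ?_ ?_ ?_ ?_ ?_ ?_ ?_ ?_ ?_ h2 a b t u ha hb
  · have := congrArg (fun z : ℤ => (z : K)) hee
    simpa using this
  · intro t' u'
    exact XG_Kc_single hD a2 a1 r e1 ha2 hsa1.1 n1 n2 c1 t' u'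
  · intro t' u'
    exact XG_Kc_single hD s a2 g e2 hsn ha2 n3 n4 c2 t' u'
  · intro t' u'
    exact XG_Kc_single hD d g r e1' hd hsg.1 n5 n6 c3 t' u'
  · intro t' u'
    exact XG_Kc_single hD s d a1 e2' hsn hd n7 n8 c4 t' u'
  · exact XG_comm_of hD r s hr ⟨hsn, hrs⟩
  · exact XG_comm_of hD s a1 hsn hsa1
  · exact XG_comm_of hD s g hsn hsg
  · exact XG_comm_of hD g a1 hsg.1 hga1

include hs hc in
theorem lifts_comm_certS (hK3 : ∃ v : K, v ≠ 0 ∧ v ≠ 1) (r s : ℕ) (hr : r < D.nroots)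
    (hsn : s < D.nroots) (hrs : s = r ∨ (s ≠ D.neg r ∧ D.commTerms r s = [])) (h : CertS D r s)
    (a b : E) (t u : K) (ha : σ a = XG hD r t) (hb : σ b = XG hD s u) : a * b = b * a := by
  rcases h with h | ⟨h1, h2⟩
  · exact lifts_comm_cert hD σ hs hc hK3 r s hr hsn hrs h a b t u ha hb
  · by_cases h2K : (2 : K) = 0
    · obtain ⟨v, hv0, hv1⟩ := hK3
      have hu2 := zpow_two_ne_one_of_char_two h2K v hv0 hv1
      rcases h1 with h1 | h1
      · exact lifts_comm_torK hD σ hs hc r s hr hsn hrs 2 h1 _ hu2 a b t u ha hb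
      · refine lifts_comm_torK hD σ hs hc r s hr hsn hrs (-2) h1 (Units.mk0 v hv0) ?_ a b t u ha hb
        rw [zpow_neg, ne_eq, inv_eq_one]
        exact hu2
    · exact lifts_comm_signCert hD σ hs hc r s hr hsn hrs h2 h2K a b t u ha hb

end cert

theorem torusData2S (tab : HybTabS D) (hK3 : ∃ v : K, v ≠ 0 ∧ v ≠ 1) :
    TorusData2 D (XG (K := K) hD) (torG hD) (chrG D) := by
  obtain ⟨v, hv0, hv1⟩ := hK3
  have hval : ((Units.mk0 v hv0 : Kˣ) : K) ≠ 1 := by rwa [Units.val_mk0]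
  refine ⟨torG_conj hD, ?_, ?_⟩
  · intro r hr
    obtain ⟨m, hm⟩ := tab.unit r hr
    refine ⟨fun i => (Units.mk0 v hv0) ^ m i, ?_⟩
    unfold chrG
    rw [chiU_oneParam, hm, zpow_one]
    exact hval
  · intro r hr s hs hne hne' hnil
    obtain ⟨m, hm0, hm1, hmc⟩ := tab.kill r hr s hs hne hne' hnil
    refine ⟨fun i => (Units.mk0 v hv0) ^ m i, ?_, ?_, ?_⟩
    · unfold chrG
      rw [chiU_oneParam, hm0, zpow_zero, Units.val_one]
    · unfold chrG
      rw [chiU_oneParam]
      rcases hm1 with h | h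
      · rw [h, zpow_one]
        exact hval
      · rw [h, zpow_neg, zpow_one, Units.val_inv_eq_inv_val, ne_eq, inv_eq_one]
        exact hval
    · intro c hc
      unfold chrG
      rw [chiU_oneParam, chiU_oneParam, hmc c hc, mul_comm, zpow_mul, zpow_natCast,
        Units.val_pow_eq_pow_val]

/-- every central extension of the Chevalley group receives a homomorphism from the presented group -/
theorem exists_cover_hom_hybS (tab : HybTabS D) (hK3 : ∃ v : K, v ≠ 0 ∧ v ≠ 1) {E : Type*} [Group E]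
    (σ : E →* D.group K) (hs : Function.Surjective σ) (hc : σ.ker ≤ Subgroup.center E) :
    ∃ τ : D.SteinbergCover K →* E, ∀ (r : ℕ) (t : K), r < D.nroots →
      σ (τ (D.scGen K r t)) = XG hD r t := by
  obtain ⟨φ, hrel, hmap, h1⟩ := exists_stRel2 (setupG (K := K) hD) σ hc hs (torusData2S hD tab hK3)
    (fun r hr s hsn hrs a b t u ha hb =>
      lifts_comm_certS hD σ hs hc hK3 r s hr hsn hrs (tab.cert r hr s hsn hrs) a b t u ha hb)
    tab.pairs
  obtain ⟨τ, hτ⟩ := exists_hom_of_stRel hrel h1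
  refine ⟨τ, ?_⟩
  intro r t hr
  rw [hτ, hmap r hr]

/-! ### the Boolean checks -/

/-- Boolean form of `SignCert` with the witnesses `[a₁, a₂, g, d, e₁, e₂, e₁', e₂']` -/
def signB (D : ChevalleyDatum) (r s : ℕ) (e : List ℤ) : Bool :=
  xcmB D s (e.getD 0 0).toNat && decide ((e.getD 1 0).toNat < D.nroots) &&
    xcmB D s (e.getD 2 0).toNat && decide ((e.getD 3 0).toNat < D.nroots) &&
    xcmB D (e.getD 2 0).toNat (e.getD 0 0).toNat &&
    decide ((e.getD 0 0).toNat ≠ (e.getD 1 0).toNat) &&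
    decide ((e.getD 0 0).toNat ≠ D.neg (e.getD 1 0).toNat) &&
    decide (D.commTerms (e.getD 1 0).toNat (e.getD 0 0).toNat = [(r, e.getD 4 0, 1, 1)]) &&
    decide ((e.getD 1 0).toNat ≠ s) && decide ((e.getD 1 0).toNat ≠ D.neg s) &&
    decide (D.commTerms s (e.getD 1 0).toNat = [((e.getD 2 0).toNat, e.getD 5 0, 1, 1)]) &&
    decide ((e.getD 2 0).toNat ≠ (e.getD 3 0).toNat) &&
    decide ((e.getD 2 0).toNat ≠ D.neg (e.getD 3 0).toNat) &&
    decide (D.commTerms (e.getD 3 0).toNat (e.getD 2 0).toNat = [(r, e.getD 6 0, 1, 1)]) &&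
    decide ((e.getD 3 0).toNat ≠ s) && decide ((e.getD 3 0).toNat ≠ D.neg s) &&
    decide (D.commTerms s (e.getD 3 0).toNat = [((e.getD 0 0).toNat, e.getD 7 0, 1, 1)]) &&
    decide (e.getD 4 0 = 1 ∨ e.getD 4 0 = -1) && decide (e.getD 5 0 = 1 ∨ e.getD 5 0 = -1) &&
    decide (e.getD 6 0 = 1 ∨ e.getD 6 0 = -1) && decide (e.getD 7 0 = 1 ∨ e.getD 7 0 = -1) &&
    decide (e.getD 4 0 * e.getD 5 0 = e.getD 6 0 * e.getD 7 0)

theorem signCert_of_B (D : ChevalleyDatum) (r s : ℕ) (e : List ℤ) (h : signB D r s e = true) :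
    SignCert D r s := by
  unfold signB at h
  simp only [Bool.and_eq_true, decide_eq_true_eq] at h
  obtain ⟨⟨⟨⟨⟨⟨⟨⟨⟨⟨⟨⟨⟨⟨⟨⟨⟨⟨⟨⟨⟨h1, h2⟩, h3⟩, h4⟩, h5⟩, h6⟩, h7⟩, h8⟩, h9⟩, h10⟩, h11⟩, h12⟩, h13⟩, h14⟩,
    h15⟩, h16⟩, h17⟩, h18⟩, h19⟩, h20⟩, h21⟩, h22⟩ := h
  exact ⟨_, _, _, _, _, _, _, _, xcm_of_B D _ _ h1, h2, xcm_of_B D _ _ h3, h4, xcm_of_B D _ _ h5, h6, h7,
    h8, h9, h10, h11, h12, h13, h14, h15, h16, h17, h18, h19, h20, h21, h22⟩

/-- the check of a sign certificate entry `[a₁, a₂, g, d, e₁, e₂, e₁', e₂', k, m₀, m₁, …]` -/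
def sgEntry (D : ChevalleyDatum) (r s : ℕ) (e : List ℤ) : Bool :=
  decide (e.getD 8 0 = 2 ∨ e.getD 8 0 = -2) && torKB D r s (e.getD 8 0) (e.drop 9) && signB D r s e

theorem certS_of_entry (D : ChevalleyDatum) (r s : ℕ) (e : List ℤ) (h : sgEntry D r s e = true) :
    CertS D r s := by
  unfold sgEntry at h
  simp only [Bool.and_eq_true, decide_eq_true_eq] at h
  obtain ⟨⟨hk, ht⟩, hsg⟩ := h
  have h2 := torK_of_B D r s _ _ ht
  refine Or.inr ⟨?_, signCert_of_B D r s e hsg⟩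
  rcases hk with hk | hk
  · rw [hk] at h2; exact Or.inl h2
  · rw [hk] at h2; exact Or.inr h2

/-- the check of the certificates for the commuting pairs `(r, s)`, `r` fixed -/
def certChkS (D : ChevalleyDatum) (ct st : ℕ → ℕ → List ℤ) (r : ℕ) : Bool :=
  (List.range D.nroots).all fun s =>
    !(decide (s = r) || (decide (s ≠ D.neg r) && (D.commTerms r s).isEmpty)) ||
      certEntry D r s (ct r s) || sgEntry D r s (st r s)

theorem hybTabS_of_chk (D : ChevalleyDatum) (tab : List (List ℤ)) (kv ct st : ℕ → ℕ → List ℤ)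
    (W : List (List ℕ)) (LW : List (List ℕ)) (hW : ∀ w ∈ W, ∀ i ∈ w, i < D.rank)
    (hLW : LW = W.map (listW D))
    (h1 : (List.range D.nroots).all (unitChk D tab) = true)
    (h2 : (List.range D.nroots).all (killChkH D kv) = true)
    (h3 : (List.range D.nroots).all (certChkS D ct st) = true)
    (h4 : (List.range D.nroots).all (pairChkT D LW) = true) : HybTabS D := by
  rw [List.all_eq_true] at h1 h2 h3 h4
  refine ⟨?_, ?_, ?_, ?_⟩
  · intro r hr
    refine ⟨fun i => (tab.getD r []).getD i.val 0, ?_⟩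
    rw [ev_eq]
    have := h1 r (List.mem_range.2 hr)
    unfold unitChk at this
    exact of_decide_eq_true this
  · intro r hr s hs hne hne' hnil
    have h := h2 r (List.mem_range.2 hr)
    unfold killChkH at h
    rw [List.all_eq_true] at h
    have h' := h s (List.mem_range.2 hs)
    simp only [Bool.or_eq_true, Bool.and_eq_true, decide_eq_true_eq, List.all_eq_true,
      List.isEmpty_iff] at h'
    rcases h' with ((h' | h') | h') | h'
    · exact absurd h' hne
    · exact absurd h' hne'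
    · exact absurd h' hnil
    · obtain ⟨⟨e1, e2⟩, e4⟩ := h'
      refine ⟨fun i => (kv r s).getD i.val 0, ?_, ?_, ?_⟩
      · rw [ev_eq]; exact e1
      · rw [ev_eq]; exact e2
      · intro c hc
        rw [ev_eq, ev_eq]
        exact e4 c hc
  · intro r hr s hs hrs
    have h := h3 r (List.mem_range.2 hr)
    unfold certChkS at h
    rw [List.all_eq_true] at h
    have h' := h s (List.mem_range.2 hs)
    rw [Bool.or_eq_true, Bool.or_eq_true] at h'
    rcases h' with (h' | h') | h'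
    · exfalso
      simp only [Bool.not_eq_true', Bool.or_eq_false_iff, Bool.and_eq_false_iff,
        decide_eq_false_iff_not, List.isEmpty_eq_false_iff, ne_eq, not_not] at h'
      rcases hrs with hrs | hrs
      · exact h'.1 hrs
      · rcases h'.2 with h2 | h2
        · exact hrs.1 h2
        · exact h2 hrs.2
    · exact Or.inl (cert_of_entry D r s _ h')
    · exact certS_of_entry D r s _ h'
  · intro r hr s hs hne hne'
    have h := h4 r (List.mem_range.2 hr)
    unfold pairChkT at h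
    rw [List.all_eq_true] at h
    have h' := h s (List.mem_range.2 hs)
    simp only [Bool.or_eq_true, Bool.and_eq_true, decide_eq_true_eq, List.all_eq_true,
      List.any_eq_true, List.contains_iff_mem] at h'
    rcases h' with (h' | h') | h'
    · exact absurd h' hne
    · exact absurd h' hne'
    · obtain ⟨L, hL, ⟨e1, e2⟩, e3⟩ := h'
      rw [hLW, List.mem_map] at hL
      obtain ⟨w, hw, rfl⟩ := hL
      exact ⟨w, hW w hw, e1, e2, e3⟩

end Cfsg.Agent.Helper6.CExt
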