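import Mathlib
import Cfsg.Agent.Lib.Helper6.CExtHybS

/-!
# Central extensions of a Chevalley group of type `B₂` over a field of characteristic two with more than
two elements

The torus gives the commutation of the lifts for distinct roots; the lifts of one root subgroup commute by a
decomposition of the root as a term of a commutator with two terms.
-/

set_option autoImplicit false
set_option linter.unusedSectionVars false
set_option linter.unusedVariables false

namespace Cfsg.Agent.Helper6.CExt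

open Cfsg Cfsg.Lie Cfsg.Agent.Lead.Chev Cfsg.Agent.Helper6.StC

section abstract

variable {K : Type*} [Field K] {E Γ : Type*} [Group E] [Group Γ]
  (ρ : E →* Γ) (hc : ρ.ker ≤ Subgroup.center E) (hs : Function.Surjective ρ)

include hc hs in
/-- lifts of commuting root elements commute: the certificate by a commutator with two terms -/
theorem lifts_comm_decomp2 (x yc yd y1 y2 : K → Γ) (f1 f2 : K → K → K)
    (hsum : ∀ t u : K, Kc (yd u) (yc t) = y1 (f1 t u) * y2 (f2 t u))
    (hsurj : ∀ w : K, ∃ t u, f2 t u = w)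
    (hxc : ∀ (a b : E) (t u : K), ρ a = x t → ρ b = yc u → a * b = b * a)
    (hxd : ∀ (a b : E) (t u : K), ρ a = x t → ρ b = yd u → a * b = b * a)
    (hx1 : ∀ (a b : E) (t u : K), ρ a = x t → ρ b = y1 u → a * b = b * a)
    (a b : E) (t w : K) (ha : ρ a = x t) (hb : ρ b = y2 w) : a * b = b * a := by
  obtain ⟨t', u', hw⟩ := hsurj w
  obtain ⟨ch, hch⟩ := hs (yc t')
  obtain ⟨dh, hdh⟩ := hs (yd u')
  obtain ⟨l1, hl1⟩ := hs (y1 (f1 t' u'))
  have hκ : ρ (Kc dh ch) = y1 (f1 t' u') * y2 w := by rw [map_Kc, hch, hdh, hsum, hw]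
  have c1 : Commute a dh := hxd a dh t u' ha hdh
  have c2 : Commute a ch := hxc a ch t t' ha hch
  have c3 : Commute a (Kc dh ch) := by
    unfold Kc
    exact ((c1.inv_right.mul_right c2.inv_right).mul_right c1).mul_right c2
  have c4 : Commute a l1 := hx1 a l1 t _ ha hl1
  obtain ⟨z, hz1, hbz, hzc⟩ := exists_central_of_map_eq ρ hc (l1⁻¹ * Kc dh ch) b (by
    rw [map_mul, map_inv, hκ, hl1, hb]
    group)
  have c5 : Commute a z := hzc a
  rw [hbz]
  exact (c4.inv_right.mul_right c3).mul_right c5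

end abstract

/-- the roots `r`, `c` are distinct and not opposite and the root elements commute in characteristic two -/
def XCm2 (D : ChevalleyDatum) (r c : ℕ) : Prop :=
  c < D.nroots ∧ c ≠ r ∧ c ≠ D.neg r ∧
    (D.commTerms r c = [] ∨
      ∃ p, p < D.nroots ∧ (D.commTerms r c = [(p, 2, 1, 1)] ∨ D.commTerms r c = [(p, -2, 1, 1)]))

/-- `r` is a term, with coefficient `±1`, of the commutator formula of two roots `c`, `d`; the commutator has
two terms and the root elements of `r` commute in characteristic two with those of `c`, `d` and the other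
term -/
def SelfDec (D : ChevalleyDatum) (r : ℕ) : Prop :=
  ∃ c d o : ℕ, ∃ N N' : ℤ, ∃ i j i' j' : ℕ, XCm2 D r c ∧ XCm2 D r d ∧ XCm2 D r o ∧ d ≠ c ∧ d ≠ D.neg c ∧
    (D.commTerms c d = [(r, N, i, j), (o, N', i', j')] ∨
      D.commTerms c d = [(o, N', i', j'), (r, N, i, j)]) ∧
    (N = 1 ∨ N = -1) ∧ (i = 1 ∨ j = 1)

/-- the facts about the tables used in characteristic two -/
structure Char2Tab (D : ChevalleyDatum) : Prop where
  unit : ∀ r < D.nroots, ∃ m : Fin D.rank → ℤ, ev D m r ≠ 0 ∧ |ev D m r| ≤ 2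
  kill : ∀ r < D.nroots, ∀ s < D.nroots, s ≠ r → s ≠ D.neg r → ∃ m : Fin D.rank → ℤ,
    ev D m r = 0 ∧ ev D m s ≠ 0 ∧ |ev D m s| ≤ 2 ∧
      ∀ c ∈ D.commTerms r s, ev D m c.1 = (c.2.2.2 : ℤ) * ev D m s
  self : ∀ r < D.nroots, SelfDec D r
  pairs : ∀ r < D.nroots, ∀ s < D.nroots, s ≠ r → s ≠ D.neg r →
    ∃ w : List ℕ, (∀ i ∈ w, i < D.rank) ∧ r ∈ listW D w ∧ s ∈ listW D w ∧
      ∀ c ∈ D.commTerms r s, c.1 ∈ listW D w

variable {K : Type*} [Field K] {D : ChevalleyDatum}
  (hD : D ∈ [chevG2, chevB2, chevD4, chevF4, chevE6, chevE7, chevE8])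

theorem pow_ne_one_c2 (h2 : (2 : K) = 0) (v : K) (hv0 : v ≠ 0) (hv1 : v ≠ 1) (k : ℤ) (hk0 : k ≠ 0)
    (hk2 : |k| ≤ 2) : (Units.mk0 v hv0) ^ k ≠ 1 := by
  have hcases : k = 1 ∨ k = -1 ∨ k = 2 ∨ k = -2 := by
    have := abs_le.1 hk2
    omega
  have hu1 : (Units.mk0 v hv0) ^ (1 : ℤ) ≠ 1 := by
    rw [zpow_one]
    intro h
    apply hv1
    have h' := congrArg Units.val h
    rwa [Units.val_mk0, Units.val_one] at h'
  have hu2 := zpow_two_ne_one_of_char_two h2 v hv0 hv1
  rcases hcases with rfl | rfl | rfl | rfl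
  · exact hu1
  · rw [zpow_neg, ne_eq, inv_eq_one]
    exact hu1
  · exact hu2
  · rw [zpow_neg, ne_eq, inv_eq_one]
    exact hu2

theorem XG_comm_c2 (h2 : (2 : K) = 0) (r c : ℕ) (hr : r < D.nroots) (h : XCm2 D r c) (t u : K) :
    XG hD r t * XG hD c u = XG hD c u * XG hD r t := by
  obtain ⟨hcn, hcr, hcr', h⟩ := h
  rcases h with h | ⟨p, hp, h⟩
  · exact XG_comm_of hD r c hr ⟨hcn, Or.inr ⟨hcr', h⟩⟩ t u
  · have hk : Kc (XG hD c u) (XG hD r t) = 1 := by
      have hz := (stRel_XG (K := K) hD).zero p hp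
      rcases h with h | h
      · rw [XG_Kc_single hD r c p 2 hr hcn hcr hcr' h t u]
        have e : (((2 : ℤ) : K)) * (-t) * u = 0 := by
          push_cast
          rw [h2, zero_mul, zero_mul]
        rw [e, hz]
      · rw [XG_Kc_single hD r c p (-2) hr hcn hcr hcr' h t u]
        have e : (((-2 : ℤ) : K)) * (-t) * u = 0 := by
          push_cast
          rw [h2, neg_zero, zero_mul, zero_mul]
        rw [e, hz]
    exact (comm_of_Kc _ _ hk).symm

section cert

variable {E : Type*} [Group E] (σ : E →* D.group K) (hs : Function.Surjective σ)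
  (hc : σ.ker ≤ Subgroup.center E)

include hs hc in
/-- the torus certificate, the commutation of the root elements being given -/
theorem lifts_comm_torK2 (r s : ℕ) (hr : r < D.nroots) (hsn : s < D.nroots)
    (hcm : ∀ t u : K, XG hD r t * XG hD s u = XG hD s u * XG hD r t) (k : ℤ) (h : TorK D r s k)
    (v : Kˣ) (hv : v ^ k ≠ 1) (a b : E) (t u : K) (ha : σ a = XG hD r t) (hb : σ b = XG hD s u) :
    a * b = b * a := by
  obtain ⟨m, hm0, hmk⟩ := h
  have hrel := stRel_XG (K := K) hD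
  apply lifts_comm_torus σ hc hs (XG hD r) (XG hD s) (hrel.add s hsn) hcm
    (torG hD fun i => v ^ m i) (chrG D (fun i => v ^ m i) s) ?_ ?_
    (fun u' => torG_conj hD _ s hsn u') a b t u ha hb
  · unfold chrG
    rw [chiU_oneParam, hmk]
    intro h
    exact hv (Units.ext h)
  · intro t'
    rw [torG_conj hD _ r hr t']
    unfold chrG
    rw [chiU_oneParam, hm0, zpow_zero, Units.val_one, one_mul]

include hs hc in
/-- lifts of root elements of distinct roots commuting in characteristic two commute -/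
theorem lifts_comm_c2 (tab : Char2Tab D) (h2 : (2 : K) = 0) (hK3 : ∃ v : K, v ≠ 0 ∧ v ≠ 1) (r s : ℕ)
    (hr : r < D.nroots) (h : XCm2 D r s)
    (a b : E) (t u : K) (ha : σ a = XG hD r t) (hb : σ b = XG hD s u) : a * b = b * a := by
  obtain ⟨v, hv0, hv1⟩ := hK3
  obtain ⟨m, hm0, hm1, hm2, -⟩ := tab.kill r hr s h.1 h.2.1 h.2.2.1
  exact lifts_comm_torK2 hD σ hs hc r s hr h.1 (XG_comm_c2 hD h2 r s hr h) (ev D m s) ⟨m, hm0, rfl⟩
    (Units.mk0 v hv0) (pow_ne_one_c2 h2 v hv0 hv1 _ hm1 hm2) a b t u ha hb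

theorem term_surj (N : ℤ) (i j : ℕ) (hN : N = 1 ∨ N = -1) (hij : i = 1 ∨ j = 1) (w : K) :
    ∃ t u : K, (N : K) * (-t) ^ i * u ^ j = w := by
  have hNN : (N : K) * (N : K) = 1 := intCast_sign_sq N hN
  rcases hij with rfl | rfl
  · refine ⟨-((N : K) * w), 1, ?_⟩
    rw [neg_neg, pow_one, one_pow, mul_one, ← mul_assoc, hNN, one_mul]
  · refine ⟨-1, (N : K) * w, ?_⟩
    rw [neg_neg, one_pow, mul_one, pow_one, ← mul_assoc, hNN, one_mul]

include hs hc in
/-- lifts of root elements of one root commute -/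
theorem lifts_comm_selfDec (tab : Char2Tab D) (h2 : (2 : K) = 0) (hK3 : ∃ v : K, v ≠ 0 ∧ v ≠ 1)
    (r : ℕ) (hr : r < D.nroots)
    (a b : E) (t u : K) (ha : σ a = XG hD r t) (hb : σ b = XG hD r u) : a * b = b * a := by
  obtain ⟨c, d, o, N, N', i, j, i', j', hrc, hrd, hro, hdc, hdc', hct, hN, hij⟩ := tab.self r hr
  have hrel := stRel_XG (K := K) hD
  have h3 := fun t' u' => hrel.comm c hrc.1 d hrd.1 hdc hdc' t' u'
  have hsw : ∀ x y : K, XG hD r x * XG hD o y = XG hD o y * XG hD r x := XG_comm_c2 hD h2 r o hr hro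
  have hsum : ∀ t' u' : K, Kc (XG hD d u') (XG hD c t') =
      XG hD o ((N' : K) * (-t') ^ i' * u' ^ j') * XG hD r ((N : K) * (-t') ^ i * u' ^ j) := by
    intro t' u'
    have h4 := h3 t' u'
    unfold ChevalleyDatum.commWord at h4
    rcases hct with hct | hct
    · rw [hct] at h4
      simp only [List.map_cons, List.map_nil, wordG_cons, wordG_nil, mul_one] at h4
      rw [← hsw]
      exact h4
    · rw [hct] at h4
      simp only [List.map_cons, List.map_nil, wordG_cons, wordG_nil, mul_one] at h4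
      exact h4
  exact lifts_comm_decomp2 σ hc hs (XG hD r) (XG hD c) (XG hD d) (XG hD o) (XG hD r)
    (fun t' u' => (N' : K) * (-t') ^ i' * u' ^ j') (fun t' u' => (N : K) * (-t') ^ i * u' ^ j)
    hsum (term_surj N i j hN hij)
    (fun a b t u ha hb => lifts_comm_c2 hD σ hs hc tab h2 hK3 r c hr hrc a b t u ha hb)
    (fun a b t u ha hb => lifts_comm_c2 hD σ hs hc tab h2 hK3 r d hr hrd a b t u ha hb)
    (fun a b t u ha hb => lifts_comm_c2 hD σ hs hc tab h2 hK3 r o hr hro a b t u ha hb)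
    a b t u ha hb

include hs hc in
theorem lifts_comm_char2 (tab : Char2Tab D) (h2 : (2 : K) = 0) (hK3 : ∃ v : K, v ≠ 0 ∧ v ≠ 1)
    (r s : ℕ) (hr : r < D.nroots) (hsn : s < D.nroots)
    (hrs : s = r ∨ (s ≠ D.neg r ∧ D.commTerms r s = []))
    (a b : E) (t u : K) (ha : σ a = XG hD r t) (hb : σ b = XG hD s u) : a * b = b * a := by
  by_cases hsr : s = r
  · subst hsr
    exact lifts_comm_selfDec hD σ hs hc tab h2 hK3 s hr a b t u ha hb
  · have h' : s ≠ D.neg r ∧ D.commTerms r s = [] := by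
      rcases hrs with h | h
      · exact absurd h hsr
      · exact h
    exact lifts_comm_c2 hD σ hs hc tab h2 hK3 r s hr ⟨hsn, hsr, h'.1, Or.inl h'.2⟩ a b t u ha hb

end cert

theorem torusData2_c2 (tab : Char2Tab D) (h2 : (2 : K) = 0) (hK3 : ∃ v : K, v ≠ 0 ∧ v ≠ 1) :
    TorusData2 D (XG (K := K) hD) (torG hD) (chrG D) := by
  obtain ⟨v, hv0, hv1⟩ := hK3
  refine ⟨torG_conj hD, ?_, ?_⟩
  · intro r hr
    obtain ⟨m, hm0, hm2⟩ := tab.unit r hr
    refine ⟨fun i => (Units.mk0 v hv0) ^ m i, ?_⟩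
    unfold chrG
    rw [chiU_oneParam]
    intro h
    exact pow_ne_one_c2 h2 v hv0 hv1 _ hm0 hm2 (Units.ext h)
  · intro r hr s hs hne hne' _
    obtain ⟨m, hm0, hm1, hm2, hmc⟩ := tab.kill r hr s hs hne hne'
    refine ⟨fun i => (Units.mk0 v hv0) ^ m i, ?_, ?_, ?_⟩
    · unfold chrG
      rw [chiU_oneParam, hm0, zpow_zero, Units.val_one]
    · unfold chrG
      rw [chiU_oneParam]
      intro h
      exact pow_ne_one_c2 h2 v hv0 hv1 _ hm1 hm2 (Units.ext h)
    · intro c hc
      unfold chrG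
      rw [chiU_oneParam, chiU_oneParam, hmc c hc, mul_comm, zpow_mul, zpow_natCast,
        Units.val_pow_eq_pow_val]

/-- every central extension of the Chevalley group receives a homomorphism from the presented group -/
theorem exists_cover_hom_c2 (tab : Char2Tab D) (h2 : (2 : K) = 0) (hK3 : ∃ v : K, v ≠ 0 ∧ v ≠ 1)
    {E : Type*} [Group E]
    (σ : E →* D.group K) (hs : Function.Surjective σ) (hc : σ.ker ≤ Subgroup.center E) :
    ∃ τ : D.SteinbergCover K →* E, ∀ (r : ℕ) (t : K), r < D.nroots →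
      σ (τ (D.scGen K r t)) = XG hD r t := by
  obtain ⟨φ, hrel, hmap, h1⟩ := exists_stRel2 (setupG (K := K) hD) σ hc hs
    (torusData2_c2 hD tab h2 hK3)
    (fun r hr s hsn hrs a b t u ha hb =>
      lifts_comm_char2 hD σ hs hc tab h2 hK3 r s hr hsn hrs a b t u ha hb)
    tab.pairs
  obtain ⟨τ, hτ⟩ := exists_hom_of_stRel hrel h1
  refine ⟨τ, ?_⟩
  intro r t hr
  rw [hτ, hmap r hr]

/-! ### the Boolean checks -/

/-- Boolean form of `XCm2` -/
def xcm2B (D : ChevalleyDatum) (r c : ℕ) : Bool :=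
  decide (c < D.nroots) && decide (c ≠ r) && decide (c ≠ D.neg r) &&
    ((D.commTerms r c).isEmpty ||
      (List.range D.nroots).any fun p =>
        decide (D.commTerms r c = [(p, 2, 1, 1)]) || decide (D.commTerms r c = [(p, -2, 1, 1)]))

theorem xcm2_of_B (D : ChevalleyDatum) (r c : ℕ) (h : xcm2B D r c = true) : XCm2 D r c := by
  unfold xcm2B at h
  simp only [Bool.and_eq_true, Bool.or_eq_true, decide_eq_true_eq, List.isEmpty_iff,
    List.any_eq_true, List.mem_range] at h
  obtain ⟨⟨⟨h1, h2⟩, h3⟩, h4⟩ := h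
  refine ⟨h1, h2, h3, ?_⟩
  rcases h4 with h4 | ⟨p, hp, h4⟩
  · exact Or.inl h4
  · exact Or.inr ⟨p, hp, h4⟩

/-- Boolean form of `SelfDec` with the witnesses `c`, `d` -/
def selfDecB (D : ChevalleyDatum) (r c d : ℕ) : Bool :=
  match D.commTerms c d with
  | [(p, N, i, j), (o, N', i', j')] =>
    xcm2B D r c && xcm2B D r d && decide (d ≠ c) && decide (d ≠ D.neg c) &&
      ((decide (p = r) && xcm2B D r o && decide (N = 1 ∨ N = -1) && decide (i = 1 ∨ j = 1)) ||
        (decide (o = r) && xcm2B D r p && decide (N' = 1 ∨ N' = -1) && decide (i' = 1 ∨ j' = 1)))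
  | _ => false

theorem selfDec_of_B (D : ChevalleyDatum) (r c d : ℕ) (h : selfDecB D r c d = true) : SelfDec D r := by
  unfold selfDecB at h
  split at h
  · next p N i j o N' i' j' heq =>
    simp only [Bool.and_eq_true, Bool.or_eq_true, decide_eq_true_eq] at h
    obtain ⟨⟨⟨⟨h1, h2⟩, h3⟩, h4⟩, h5⟩ := h
    rcases h5 with ⟨⟨⟨e1, e2⟩, e3⟩, e4⟩ | ⟨⟨⟨e1, e2⟩, e3⟩, e4⟩
    · subst e1
      exact ⟨c, d, o, N, N', i, j, i', j', xcm2_of_B D _ _ h1, xcm2_of_B D _ _ h2, xcm2_of_B D _ _ e2,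
        h3, h4, Or.inl heq, e3, e4⟩
    · subst e1
      exact ⟨c, d, p, N', N, i', j', i, j, xcm2_of_B D _ _ h1, xcm2_of_B D _ _ h2, xcm2_of_B D _ _ e2,
        h3, h4, Or.inr heq, e3, e4⟩
  · exact absurd h (by simp)

/-- the check of the cocharacters with values `±1`, `±2` on the roots -/
def unitChk2 (D : ChevalleyDatum) (tab : List (List ℤ)) (r : ℕ) : Bool :=
  decide (evL D (tab.getD r []) r ≠ 0) && decide (|evL D (tab.getD r []) r| ≤ 2)

/-- the check of the torus elements for the pairs `(r, s)`, `r` fixed -/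
def killChk2 (D : ChevalleyDatum) (kv : ℕ → ℕ → List ℤ) (r : ℕ) : Bool :=
  (List.range D.nroots).all fun s => decide (s = r) || decide (s = D.neg r) ||
    (decide (evL D (kv r s) r = 0) && decide (evL D (kv r s) s ≠ 0) &&
      decide (|evL D (kv r s) s| ≤ 2) &&
      (D.commTerms r s).all fun c => decide (evL D (kv r s) c.1 = (c.2.2.2 : ℤ) * evL D (kv r s) s))

theorem char2Tab_of_chk (D : ChevalleyDatum) (tab : List (List ℤ)) (dw : List (ℕ × ℕ))
    (kv : ℕ → ℕ → List ℤ)
    (W : List (List ℕ)) (LW : List (List ℕ)) (hW : ∀ w ∈ W, ∀ i ∈ w, i < D.rank)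
    (hLW : LW = W.map (listW D))
    (h1 : (List.range D.nroots).all (unitChk2 D tab) = true)
    (h2 : (List.range D.nroots).all (killChk2 D kv) = true)
    (h3 : (List.range D.nroots).all
      (fun r => selfDecB D r (dw.getD r (0, 0)).1 (dw.getD r (0, 0)).2) = true)
    (h4 : (List.range D.nroots).all (pairChkT D LW) = true) : Char2Tab D := by
  rw [List.all_eq_true] at h1 h2 h3 h4
  refine ⟨?_, ?_, ?_, ?_⟩
  · intro r hr
    have h := h1 r (List.mem_range.2 hr)
    unfold unitChk2 at h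
    simp only [Bool.and_eq_true, decide_eq_true_eq] at h
    refine ⟨fun i => (tab.getD r []).getD i.val 0, ?_, ?_⟩
    · rw [ev_eq]; exact h.1
    · rw [ev_eq]; exact h.2
  · intro r hr s hs hne hne'
    have h := h2 r (List.mem_range.2 hr)
    unfold killChk2 at h
    rw [List.all_eq_true] at h
    have h' := h s (List.mem_range.2 hs)
    simp only [Bool.or_eq_true, Bool.and_eq_true, decide_eq_true_eq, List.all_eq_true] at h'
    rcases h' with (h' | h') | h'
    · exact absurd h' hne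
    · exact absurd h' hne'
    · obtain ⟨⟨⟨e1, e2⟩, e3⟩, e4⟩ := h'
      refine ⟨fun i => (kv r s).getD i.val 0, ?_, ?_, ?_, ?_⟩
      · rw [ev_eq]; exact e1
      · rw [ev_eq]; exact e2
      · rw [ev_eq]; exact e3
      · intro c hc
        rw [ev_eq, ev_eq]
        exact e4 c hc
  · intro r hr
    exact selfDec_of_B D r _ _ (h3 r (List.mem_range.2 hr))
  · intro r hr s hs hne hne'
    have h := h4 r (List.mem_range.2 hr)
    unfold pairChkT at h
    rw [List.all_eq_true] at h
    have h' := h s (List.mem_range.2 hs)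
    simp only [Bool.or_eq_true, Bool.and_eq_true, decide_eq_true_eq, List.all_eq_true,
      List.any_eq_true, List.contains_iff_mem] at h'
    rcases h' with (h' | h') | h'
    · exact absurd h' hne
    · exact absurd h' hne'
    · obtain ⟨L, hL, ⟨e1, e2⟩, e3⟩ := h'
      rw [hLW, List.mem_map] at hL
      obtain ⟨w, hw, rfl⟩ := hL
      exact ⟨w, hW w hw, e1, e2, e3⟩

end Cfsg.Agent.Helper6.CExt
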