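import Mathlib
import Cfsg.Agent.Lib.Helper6.CExtChar2
import Cfsg.Agent.Lib.Helper6.CExtB2
import Cfsg.Agent.Lib.Helper6.CExtB2CData

/-!
# The table facts for type B2 in characteristic two
-/

set_option autoImplicit false
set_option maxRecDepth 1000000
set_option maxHeartbeats 0

namespace Cfsg.Agent.Helper6.CExt

open Cfsg Cfsg.Lie Cfsg.Agent.Helper6.StC

theorem b2c_unit : (List.range chevB2.nroots).all (unitChk2 chevB2 unitTabB2C) = true := by decide

theorem b2c_kill : (List.range chevB2.nroots).all (killChk2 chevB2 kvB2C) = true := by decide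

theorem b2c_self : (List.range chevB2.nroots).all
    (fun r => selfDecB chevB2 r (selfTabB2C.getD r (0, 0)).1 (selfTabB2C.getD r (0, 0)).2) = true := by
  decide

theorem char2Tab_B2 : Char2Tab chevB2 :=
  char2Tab_of_chk chevB2 unitTabB2C selfTabB2C kvB2C wordsB2 lwB2 b2_words b2_lw b2c_unit b2c_kill
    b2c_self b2_pair

end Cfsg.Agent.Helper6.CExt
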