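import Mathlib
import Cfsg.Agent.Lib.Helper6.CExtHyb
import Cfsg.Agent.Lib.Helper6.CExtSign

/-!
# Central extensions: the hybrid argument with a per-pair alternative

The commutator relation of a pair of lifted root subgroups is obtained either from an element acting by scalars or
is given directly; only the pairs (head, member of the tail) of the lists of roots are needed.
-/

set_option autoImplicit false
set_option linter.unusedSectionVars false
set_option linter.unusedVariables false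

namespace Cfsg.Agent.Helper6.CExt

open Cfsg Cfsg.Lie Cfsg.Agent.Lead.Chev Cfsg.Agent.Helper6.StC

variable {K : Type*} [Field K] {E Γ : Type*} [Group E] [Group Γ]

/-- the relation for the pair `(r, s)` is available: by an element acting by scalars, or directly -/
def PairOK (D : ChevalleyDatum) (φ : ℕ → K → E) (r s : ℕ) : Prop :=
  (∃ (g : E) (χ : ℕ → K), χ r = 1 ∧ χ s ≠ 1 ∧ (∀ c ∈ D.commTerms r s, χ c.1 = χ s ^ c.2.2.2) ∧
      ∀ q < D.nroots, ∀ t : K, g * φ q t * g⁻¹ = φ q (χ q * t)) ∨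
    ∀ t u : K, φ s u * φ r t = φ r t * φ s u * wordG φ (D.commWord K r s t u)

/-- all pairs (head, member of the tail) of the list are available -/
def OKList (D : ChevalleyDatum) (φ : ℕ → K → E) : List ℕ → Prop
  | [] => True
  | r :: L => (∀ s ∈ L, PairOK D φ r s) ∧ OKList D φ L

section main3

variable {D : ChevalleyDatum} {X : ℕ → K → Γ} {θ : Γ →* GL D.Idx K} (S : Setup D X θ)
  (ρ : E →* Γ) (hc : ρ.ker ≤ Subgroup.center E) {φ : ℕ → K → E}
  (hmap : ∀ r < D.nroots, ∀ t : K, ρ (φ r t) = X r t) (hadd : AddRel D φ)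

include S hc hmap hadd in
/-- the lifted commutator relation for a root `r` and a root `s` of a list on which everything is already
known -/
theorem lift_comm3 (r s : ℕ) (L' : List ℕ) (hr : r < D.nroots) (hs : s < D.nroots) (hne : s ≠ r)
    (hne' : s ≠ D.neg r) (hL'lt : ∀ q ∈ L', q < D.nroots) (hsL : s ∈ L')
    (hterms : ∀ c ∈ D.commTerms r s, c.1 ∈ L') (hcl : ClosedL φ L') (hU : UniqueL X L')
    (hok : PairOK D φ r s) (t u : K) :
    φ s u * φ r t = φ r t * φ s u * wordG φ (D.commWord K r s t u) := by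
  rcases hok with ⟨gh, χ, hχr, hχs, hχc, hgh⟩ | hdir
  swap
  · exact hdir t u
  have hw : ∀ u : K, ∀ q ∈ ((s, u) :: D.commWord K r s t u), q.1 ∈ L' := by
    intro u q hq
    rcases List.mem_cons.1 hq with rfl | hq
    · exact hsL
    · unfold ChevalleyDatum.commWord at hq
      obtain ⟨c, hc', rfl⟩ := List.mem_map.1 hq
      exact hterms c hc'
  have hwlt : ∀ u : K, ∀ q ∈ D.commWord K r s t u, q.1 < D.nroots :=
    fun u q hq => hL'lt _ (hw u q (List.mem_cons_of_mem _ hq))
  obtain ⟨n, hn⟩ : ∃ n : K → E, ∀ u, n u = φ s u * wordG φ (D.commWord K r s t u) := ⟨_, fun _ => rfl⟩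
  have hn' : ∀ u, n u = wordG φ ((s, u) :: D.commWord K r s t u) := by
    intro u
    rw [hn, wordG_cons]
  have hρn : ∀ u, ρ (n u) = (X r t)⁻¹ * X s u * X r t := by
    intro u
    rw [hn', map_wordG ρ hmap _ (fun q hq => hL'lt _ (hw u q hq)), wordG_cons, mul_assoc,
      S.rel.comm' r s hr hs hne hne' t u]
    group
  obtain ⟨f, hf⟩ : ∃ f : K → E, ∀ u, f u = (φ r t)⁻¹ * φ s u * φ r t * (n u)⁻¹ := ⟨_, fun _ => rfl⟩
  have hρf : ∀ u, ρ (f u) = 1 := by
    intro u
    rw [hf, map_mul, map_inv, hρn, map_mul, map_mul, map_inv, hmap r hr, hmap s hs]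
    group
  have hfc : ∀ u y, y * f u = f u * y := fun u y => central_of_map_one ρ hc _ (hρf u) y
  have hfn : ∀ u, (φ r t)⁻¹ * φ s u * φ r t = f u * n u := by
    intro u
    rw [hf]
    group
  have hzero : prodX φ L' (fun _ => (0 : K)) = 1 := hadd.prodX_zero L' hL'lt
  have hnP : ∀ u, ∃ τ : ℕ → K, n u = prodX φ L' τ := by
    intro u
    obtain ⟨τ, hτ⟩ := closed_mulWord φ L' hcl _ (hw u) (fun _ => 0)
    exact ⟨τ, by rw [← hτ, hzero, one_mul, hn']⟩
  -- additivity
  have hfadd : ∀ u u', f (u + u') = f u * f u' := by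
    intro u u'
    obtain ⟨τ, hτ⟩ := hnP u
    obtain ⟨τ₁, hτ₁⟩ := closed_mulWord φ L' hcl _ (hw u') τ
    obtain ⟨τ₂, hτ₂⟩ := hnP (u + u')
    have hnn : n u * n u' = prodX φ L' τ₁ := by rw [hτ, ← hτ₁, hn']
    have hρ1 : ρ (n (u + u')) = ρ (n u * n u') := by
      rw [map_mul, hρn, hρn, hρn, ← S.rel.add s hs]
      group
    have hX : prodX X L' τ₂ = prodX X L' τ₁ := by
      rw [← map_prodX ρ hmap L' hL'lt, ← map_prodX ρ hmap L' hL'lt, ← hτ₂, ← hnn, hρ1]
    have hτeq : ∀ q ∈ L', τ₂ q = τ₁ q := hU τ₂ τ₁ hX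
    have hnadd : n (u + u') = n u * n u' := by
      rw [hτ₂, hnn]
      exact prodX_congr φ L' _ _ hτeq
    have e1 : f (u + u') * n (u + u') = f u * n u * (f u' * n u') := by
      rw [← hfn, ← hfn, ← hfn, ← hadd s hs u u']
      group
    have e2 : f u * n u * (f u' * n u') = f u * f u' * (n u * n u') := by
      rw [mul_assoc, ← mul_assoc (n u), hfc u' (n u)]
      group
    rw [e2, ← hnadd] at e1
    exact mul_right_cancel e1
  -- invariance
  have hinv : ∀ u, f (χ s * u) = f u := by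
    intro u
    have h1 : gh * f u * gh⁻¹ = f u := by
      rw [hfc u gh]
      group
    have hg1 : gh * φ r t * gh⁻¹ = φ r t := by rw [hgh r hr t, hχr, one_mul]
    have hn1 : gh * n u * gh⁻¹ = n (χ s * u) := by
      rw [hn, hn]
      have e : gh * (φ s u * wordG φ (D.commWord K r s t u)) * gh⁻¹ =
          (gh * φ s u * gh⁻¹) * (gh * wordG φ (D.commWord K r s t u) * gh⁻¹) := by group
      rw [e, hgh s hs u, conj_wordG gh χ hgh _ (hwlt u)]
      congr 2
      unfold ChevalleyDatum.commWord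
      rw [List.map_map]
      apply List.map_congr_left
      intro c hc'
      simp only [Function.comp]
      rw [hχc c hc', mul_pow]
      congr 1
      ring
    have h2 : gh * f u * gh⁻¹ = f (χ s * u) := by
      rw [hf, hf]
      have e : gh * ((φ r t)⁻¹ * φ s u * φ r t * (n u)⁻¹) * gh⁻¹ =
          (gh * φ r t * gh⁻¹)⁻¹ * (gh * φ s u * gh⁻¹) * (gh * φ r t * gh⁻¹) * (gh * n u * gh⁻¹)⁻¹ := by
        group
      rw [e, hg1, hgh s hs u, hn1]
    rw [← h2, h1]
  have hf0 : f 0 = 1 := by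
    have h1 := hfadd 0 0
    rw [add_zero] at h1
    have h2 : f 0 * f 0 = f 0 * 1 := by rw [mul_one]; exact h1.symm
    exact mul_left_cancel h2
  have hfneg : ∀ u, f (-u) = (f u)⁻¹ := by
    intro u
    apply eq_inv_of_mul_eq_one_left
    rw [← hfadd, neg_add_cancel, hf0]
  have hd : χ s - 1 ≠ 0 := sub_ne_zero.2 hχs
  have hf1 : ∀ v, f v = 1 := by
    intro v
    have e : v = χ s * (v / (χ s - 1)) + -(v / (χ s - 1)) := by
      field_simp
      ring
    rw [e, hfadd, hinv, hfneg, mul_inv_cancel]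
  have h3 := hfn u
  rw [hf1, one_mul, hn] at h3
  calc φ s u * φ r t = φ r t * ((φ r t)⁻¹ * φ s u * φ r t) := by group
    _ = φ r t * (φ s u * wordG φ (D.commWord K r s t u)) := by rw [h3]
    _ = φ r t * φ s u * wordG φ (D.commWord K r s t u) := by group

include S hc hmap hadd in
/-- ordered products of the lifts over a list closed to the right are closed under multiplication -/
theorem closedL_lift3 (L : List ℕ) (hRC : RightClosed D L) (hU : UniqueL X L) (hOK : OKList D φ L) :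
    ClosedL φ L := by
  induction L with
  | nil =>
    intro t s hs
    simp at hs
  | cons r L' ih =>
    obtain ⟨hr, hrL, hall, hL'⟩ := hRC
    obtain ⟨hok, hOK'⟩ := hOK
    have hU' : UniqueL X L' := hU.tail (S.rel.zero r hr) hrL
    have ih' := ih hL' hU' hOK'
    apply hadd.closed_cons r L' hr hL'.lt hrL ih'
    intro s hs a b
    obtain ⟨hs1, hs2, hs3, hs4⟩ := hall s hs
    refine ⟨D.commWord K r s a b, ?_,
      lift_comm3 S ρ hc hmap hadd r s L' hr hs1 hs2 hs3 hL'.lt hs hs4 ih' hU' (hok s hs) a b⟩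
    intro q hq
    unfold ChevalleyDatum.commWord at hq
    obtain ⟨c, hc', rfl⟩ := List.mem_map.1 hq
    exact hs4 c hc'

include S hc hmap hadd in
/-- `ρ` is injective on the subgroup generated by the lifts over such a list -/
theorem lift_inj3 (L : List ℕ) (hRC : RightClosed D L) (hU : UniqueL X L) (hOK : OKList D φ L)
    (y y' : E) (hy : y ∈ subL φ L) (hy' : y' ∈ subL φ L) (h : ρ y = ρ y') : y = y' := by
  have hcl := closedL_lift3 S ρ hc hmap hadd L hRC hU hOK
  obtain ⟨τ, rfl⟩ := hadd.exists_prodX_of_mem L hRC.lt hcl y hy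
  obtain ⟨τ', rfl⟩ := hadd.exists_prodX_of_mem L hRC.lt hcl y' hy'
  rw [map_prodX ρ hmap L hRC.lt, map_prodX ρ hmap L hRC.lt] at h
  exact prodX_congr φ L _ _ (hU τ τ' h)

include S hc hmap hadd in
/-- the lifts satisfy Steinberg's relations -/
theorem stRel_lift3
    (hpairs : ∀ r < D.nroots, ∀ s < D.nroots, s ≠ r → s ≠ D.neg r →
      ∃ L : List ℕ, RightClosed D L ∧ UniqueL X L ∧ OKList D φ L ∧ r ∈ L ∧ s ∈ L ∧
        ∀ c ∈ D.commTerms r s, c.1 ∈ L) :
    StRel D φ := by
  refine ⟨hadd, ?_⟩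
  intro r hr s hs hne hne' t u
  obtain ⟨L, hRC, hU, hOK, hrL, hsL, hcL⟩ := hpairs r hr s hs hne hne'
  apply lift_inj3 S ρ hc hmap hadd L hRC hU hOK
  · exact mul_mem (mul_mem (mul_mem (inv_mem (mem_subL φ L s hsL u)) (inv_mem (mem_subL φ L r hrL t)))
      (mem_subL φ L s hsL u)) (mem_subL φ L r hrL t)
  · apply wordG_mem'
    intro q hq
    unfold ChevalleyDatum.commWord at hq
    obtain ⟨c, hc', rfl⟩ := List.mem_map.1 hq
    exact mem_subL φ L _ (hcL c hc') _
  · rw [map_mul, map_mul, map_mul, map_inv, map_inv, hmap r hr, hmap s hs,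
      S.rel.comm r hr s hs hne hne' t u]
    symm
    apply map_wordG ρ hmap
    intro q hq
    unfold ChevalleyDatum.commWord at hq
    obtain ⟨c, hc', rfl⟩ := List.mem_map.1 hq
    exact hRC.lt _ (hcL c hc')

end main3

section hwLL

variable (ρ : E →* Γ) (hc : ρ.ker ≤ Subgroup.center E) (hs : Function.Surjective ρ)

include hc hs in
/-- lifts of the root elements of two orthogonal long roots of a system of type `B₂` commute when `2 ≠ 0`:
`q₁ = c + d` with `c`, `d` short, `c` commuting with `q₂`, and `[x_d, x_{q₂}] ⊆ x_c x_{q₁}` -/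
theorem lifts_comm_hwLL (xc xd xq1 xq2 : K → Γ) (N : K) (hN : N ≠ 0)
    (hinvd : ∀ t, (xd t)⁻¹ = xd (-t)) (hinvq2 : ∀ t, (xq2 t)⁻¹ = xq2 (-t))
    (H1 : ∀ t u : K, Kc (xc u) (xd t) = xq1 (N * (-t) * u))
    (H2 : ∀ t u : K, ∃ w1 w2 : K, Kc (xd u) (xq2 t) = xc w1 * xq1 w2)
    (H3 : ∀ t u : K, xq2 t * xc u = xc u * xq2 t)
    (H7 : ∀ t u : K, xq1 t * xq2 u = xq2 u * xq1 t)
    (H4 : ∀ (a b : E) (t u : K), ρ a = xc t → ρ b = xc u → a * b = b * a)
    (H5 : ∀ (a b : E) (t u : K), ρ a = xq1 t → ρ b = xc u → a * b = b * a)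
    (a b : E) (t u : K) (ha : ρ a = xq1 t) (hb : ρ b = xq2 u) : a * b = b * a := by
  obtain ⟨x, hx⟩ := hs (xc (N⁻¹ * t))
  obtain ⟨y, hy⟩ := hs (xd 1)
  have HW := hall_witt x y b
  have f1 : Kc (Kc x y⁻¹) b = Kc a b := by
    apply Kc_eq ρ hc
    · rw [map_Kc, map_inv, hx, hy, hinvd, H1, neg_neg, mul_one, mul_inv_cancel_left₀ hN, ha]
    · rfl
  have f2 : Kc (Kc y b⁻¹) x = 1 := by
    obtain ⟨w1, w2, hw⟩ := H2 (-u) 1
    obtain ⟨l1, hl1⟩ := hs (xc w1)
    obtain ⟨l2, hl2⟩ := hs (xq1 w2)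
    obtain ⟨z, hz1, hbz, hzc⟩ := exists_central_of_map_eq ρ hc (l1 * l2) (Kc y b⁻¹) (by
      rw [map_mul, hl1, hl2, map_Kc, map_inv, hy, hb, hinvq2, hw])
    have c1 : Commute l1 x := H4 l1 x w1 _ hl1 hx
    have c2 : Commute l2 x := H5 l2 x w2 _ hl2 hx
    have c3 : Commute z x := (hzc x).symm
    apply Kc_of_comm
    rw [hbz]
    exact ((c1.mul_left c2).mul_left c3)
  have f3 : Kc (Kc b x⁻¹) y = 1 := by
    have hz : ρ (Kc b x⁻¹) = 1 := by
      rw [map_Kc, map_inv, hb, hx]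
      apply Kc_of_comm
      exact ((show Commute (xq2 u) (xc (N⁻¹ * t)) from H3 _ _).inv_right).eq
    have hcz := central_of_map_one ρ hc _ hz
    exact Kc_of_comm _ _ (hcz y).symm
  have g1 : y⁻¹ * Kc a b * y = Kc a b := by
    have := Kc_central ρ hc a b (by rw [ha, hb]; exact H7 _ _) y⁻¹
    rw [this]
    group
  rw [f1, f2, f3, g1] at HW
  simp only [mul_one, inv_mul_cancel] at HW
  exact comm_of_Kc _ _ HW

end hwLL

end Cfsg.Agent.Helper6.CExt
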