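import Mathlib
import Cfsg.Agent.Lib.Helper6.CExtLift3

/-!
# Central extensions over the field with three elements: abstract lemmas

Lifts of elements of one root subgroup commute because the root subgroup is cyclic; the lift of a long root
subgroup of `B₂` is defined as a commutator of lifts of short root subgroups, and is additive and balanced.
-/

set_option autoImplicit false
set_option linter.unusedSectionVars false
set_option linter.unusedVariables false

namespace Cfsg.Agent.Helper6.CExt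

variable {K : Type*} [Field K] {E Γ : Type*} [Group E] [Group Γ]

section prime

variable (ρ : E →* Γ) (hc : ρ.ker ≤ Subgroup.center E)

include hc in
theorem comm_of_map_eq (a b : E) (h : ρ a = ρ b) : a * b = b * a := by
  obtain ⟨z, hz1, rfl, hzc⟩ := exists_central_of_map_eq ρ hc a b h
  have c2 : Commute a z := hzc a
  exact (Commute.refl a).mul_right c2

include hc in
theorem comm_of_map_inv (a b : E) (h : ρ b = (ρ a)⁻¹) : a * b = b * a := by
  obtain ⟨z, hz1, rfl, hzc⟩ := exists_central_of_map_eq ρ hc a⁻¹ b (by rw [map_inv, h])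
  have c1 : Commute a a⁻¹ := (Commute.refl a).inv_right
  have c2 : Commute a z := hzc a
  exact c1.mul_right c2

include hc in
/-- over a field whose elements are `0`, `1`, `-1`, lifts of elements of an additive one-parameter subgroup
commute -/
theorem lifts_comm_prime (hK : ∀ x : K, x = 0 ∨ x = 1 ∨ x = -1) (x : K → Γ)
    (hadd : ∀ t u : K, x t * x u = x (t + u)) (a b : E) (t u : K) (ha : ρ a = x t) (hb : ρ b = x u) :
    a * b = b * a := by
  have h0 : x 0 = 1 := root_zero x hadd
  have hinv : ∀ t, (x t)⁻¹ = x (-t) := root_inv x hadd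
  have hza : t = 0 → a * b = b * a := by
    intro h
    rw [h, h0] at ha
    exact (central_of_map_one ρ hc a ha b).symm
  have hzb : u = 0 → a * b = b * a := by
    intro h
    rw [h, h0] at hb
    exact central_of_map_one ρ hc b hb a
  have hsame : u = t → a * b = b * a := by
    intro h
    apply comm_of_map_eq ρ hc
    rw [ha, hb, h]
  have hopp : u = -t → a * b = b * a := by
    intro h
    apply comm_of_map_inv ρ hc
    rw [ha, hb, h, hinv]
  rcases hK t with rfl | rfl | rfl
  · exact hza rfl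
  · rcases hK u with rfl | rfl | rfl
    · exact hzb rfl
    · exact hsame rfl
    · exact hopp rfl
  · rcases hK u with rfl | rfl | rfl
    · exact hzb rfl
    · exact hopp (neg_neg 1).symm
    · exact hsame rfl

end prime

section longlift

variable (ρ : E →* Γ) (hc : ρ.ker ≤ Subgroup.center E)

include hc in
/-- the lift of a long root subgroup as a commutator of the lifts of two short root subgroups -/
theorem long_lift (hK : ∀ x : K, x = 0 ∨ x = 1 ∨ x = -1) (xc xd xq : K → Γ) (φc φd : K → E) (N : K)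
    (hN : N ≠ 0)
    (hφc : ∀ t, ρ (φc t) = xc t) (hφd : ∀ t, ρ (φd t) = xd t)
    (haddc : ∀ t u, φc t * φc u = φc (t + u)) (haddd : ∀ t u, φd t * φd u = φd (t + u))
    (hsum : ∀ t u : K, Kc (xd u) (xc t) = xq (N * (-t) * u))
    (hqc : ∀ (a b : E) (t u : K), ρ a = xq t → ρ b = xc u → a * b = b * a)
    (hqd : ∀ (a b : E) (t u : K), ρ a = xq t → ρ b = xd u → a * b = b * a)
    (hqq : ∀ (a b : E) (t u : K), ρ a = xq t → ρ b = xq u → a * b = b * a) :
    (∀ v, ρ (Kc (φd v) (φc (-N⁻¹))) = xq v) ∧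
    (∀ v v', Kc (φd v) (φc (-N⁻¹)) * Kc (φd v') (φc (-N⁻¹)) = Kc (φd (v + v')) (φc (-N⁻¹))) ∧
    (∀ t u, Kc (φd u) (φc t) = Kc (φd (N * (-t) * u)) (φc (-N⁻¹))) ∧
    (∀ t u, Kc (φc u) (φd t) = Kc (φd (-N * (-t) * u)) (φc (-N⁻¹))) ∧
    (∀ v, Kc (φd (-1 * v)) (φc (-1 * (-N⁻¹))) = Kc (φd v) (φc (-N⁻¹))) := by
  have hκρ : ∀ u t, ρ (Kc (φd u) (φc t)) = xq (N * (-t) * u) := by
    intro u t
    rw [map_Kc, hφd, hφc, hsum]
  -- additivity on the left
  have hl : ∀ u u' t, Kc (φd (u + u')) (φc t) = Kc (φd u) (φc t) * Kc (φd u') (φc t) := by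
    intro u u' t
    rw [← haddd u u', Kc_mul_left]
    have c1 : Commute (Kc (φd u) (φc t)) (φd u') := hqd _ _ _ _ (hκρ u t) (hφd u')
    rw [mul_assoc ((φd u')⁻¹), c1.eq]
    group
  -- additivity on the right
  have hr : ∀ u t t', Kc (φd u) (φc (t + t')) = Kc (φd u) (φc t) * Kc (φd u) (φc t') := by
    intro u t t'
    have e1 : Kc (φc (t + t')) (φd u) = (Kc (φd u) (φc t))⁻¹ * (Kc (φd u) (φc t'))⁻¹ := by
      rw [← haddc t t', Kc_mul_left, Kc_inv (φd u) (φc t), Kc_inv (φd u) (φc t')]
      have c1 : Commute (Kc (φd u) (φc t)) (φc t') := hqc _ _ _ _ (hκρ u t) (hφc t')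
      have c2 : Commute (Kc (φc t) (φd u)) (φc t') := by
        rw [← Kc_inv (φd u) (φc t)]
        exact c1.inv_left
      rw [mul_assoc ((φc t')⁻¹), c2.eq]
      group
    have c3 : Commute (Kc (φd u) (φc t)) (Kc (φd u) (φc t')) := hqq _ _ _ _ (hκρ u t) (hκρ u t')
    rw [← Kc_inv (φc (t + t')) (φd u), e1, mul_inv_rev, inv_inv, inv_inv, c3.eq]
  have hl0 : ∀ t, Kc (φd 0) (φc t) = 1 := by
    intro t
    have h := hl 0 0 t
    rw [add_zero] at h
    exact mul_left_cancel (a := Kc (φd 0) (φc t)) (by rw [mul_one]; exact h.symm)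
  have hr0 : ∀ u, Kc (φd u) (φc 0) = 1 := by
    intro u
    have h := hr u 0 0
    rw [add_zero] at h
    exact mul_left_cancel (a := Kc (φd u) (φc 0)) (by rw [mul_one]; exact h.symm)
  have hlneg : ∀ u t, Kc (φd (-u)) (φc t) = (Kc (φd u) (φc t))⁻¹ := by
    intro u t
    apply eq_inv_of_mul_eq_one_left
    rw [← hl, neg_add_cancel, hl0]
  have hrneg : ∀ u t, Kc (φd u) (φc (-t)) = (Kc (φd u) (φc t))⁻¹ := by
    intro u t
    apply eq_inv_of_mul_eq_one_left
    rw [← hr, neg_add_cancel, hr0]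
  -- balancedness
  have hbal : ∀ lam u t : K, Kc (φd (lam * u)) (φc t) = Kc (φd u) (φc (lam * t)) := by
    intro lam u t
    rcases hK lam with rfl | rfl | rfl
    · rw [zero_mul, zero_mul, hl0, hr0]
    · rw [one_mul, one_mul]
    · rw [neg_one_mul, neg_one_mul, hlneg, hrneg]
  have hN' : N * N⁻¹ = 1 := mul_inv_cancel₀ hN
  have hd : ∀ t u, Kc (φd u) (φc t) = Kc (φd (N * (-t) * u)) (φc (-N⁻¹)) := by
    intro t u
    have e1 : N * (-t) * u = (-(N * t)) * u := by ring
    have e2 : (-(N * t)) * (-N⁻¹) = t := by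
      calc (-(N * t)) * (-N⁻¹) = (N * N⁻¹) * t := by ring
        _ = t := by rw [hN', one_mul]
    rw [e1, hbal, e2]
  refine ⟨?_, ?_, hd, ?_, ?_⟩
  · intro v
    rw [hκρ]
    congr 1
    calc N * (-(-N⁻¹)) * v = (N * N⁻¹) * v := by ring
      _ = v := by rw [hN', one_mul]
  · intro v v'
    rw [hl]
  · intro t u
    rw [← Kc_inv (φd t) (φc u), hd u t, ← hlneg]
    congr 2
    ring
  · intro v
    rw [hbal]
    congr 2
    ring

end longlift

end Cfsg.Agent.Helper6.CExt
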