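import Mathlib
import Cfsg.Agent.Lib.Helper6.CExtF3
import Cfsg.Agent.Lib.Helper6.CExtHybS
import Cfsg.Agent.Lib.Helper6.CExtB2

/-!
# Central extensions of the Chevalley group of type `B₂` over the field with three elements

The torus has a single nontrivial element, acting by `-1` on the short root subgroups and trivially on the long
ones.  The lifts of the short root subgroups come from the torus, those of the long root subgroups are
commutators of lifts of short root subgroups; lifts of orthogonal long root elements commute by the Hall–Witt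
identity.
-/

set_option autoImplicit false
set_option linter.unusedSectionVars false
set_option linter.unusedVariables false
set_option maxRecDepth 1000000
set_option maxHeartbeats 0
set_option synthInstance.maxSize 4096

namespace Cfsg.Agent.Helper6.CExt

open Cfsg Cfsg.Lie Cfsg.Agent.Lead.Chev Cfsg.Agent.Helper6.StC

/-- the long roots of `B₂` -/
def longB2 (r : ℕ) : Bool := r == 0 || r == 3 || r == 4 || r == 7

/-- the short roots of `B₂` -/
def shortB2 (r : ℕ) : Bool := r == 1 || r == 2 || r == 5 || r == 6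

/-- the sign of the distinguished torus element on the root subgroups -/
def sgnB2 (r : ℕ) : ℤ := if longB2 r then 1 else -1

/-- the decomposition of a long root as a sum of two short roots, with the structure constant -/
def decB2 : ℕ → ℕ × ℕ × ℤ
  | 0 => (2, 1, -2)
  | 3 => (1, 5, -2)
  | 4 => (6, 2, 2)
  | 7 => (5, 6, 2)
  | _ => (0, 0, 0)

theorem b2_dec : ∀ q < chevB2.nroots, longB2 q = true →
    shortB2 (decB2 q).1 = true ∧ shortB2 (decB2 q).2.1 = true ∧ (decB2 q).1 < chevB2.nroots ∧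
    (decB2 q).2.1 < chevB2.nroots ∧
    (decB2 q).2.1 ≠ (decB2 q).1 ∧ (decB2 q).2.1 ≠ chevB2.neg (decB2 q).1 ∧
    (decB2 q).1 ≠ chevB2.neg (decB2 q).2.1 ∧
    chevB2.commTerms (decB2 q).1 (decB2 q).2.1 = [(q, (decB2 q).2.2, 1, 1)] ∧
    chevB2.commTerms (decB2 q).2.1 (decB2 q).1 = [(q, -(decB2 q).2.2, 1, 1)] ∧
    ((decB2 q).2.2 = 2 ∨ (decB2 q).2.2 = -2) ∧
    chevB2.commTerms q (decB2 q).1 = [] ∧ chevB2.commTerms q (decB2 q).2.1 = [] ∧
    (decB2 q).1 ≠ chevB2.neg q ∧ (decB2 q).2.1 ≠ chevB2.neg q := by decide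

theorem b2_ss : ∀ r < chevB2.nroots, ∀ s < chevB2.nroots, shortB2 r = true → shortB2 s = true → s ≠ r →
    s ≠ chevB2.neg r → ∃ q < chevB2.nroots, longB2 q = true ∧
      (((decB2 q).1 = r ∧ (decB2 q).2.1 = s) ∨ ((decB2 q).1 = s ∧ (decB2 q).2.1 = r)) := by decide

theorem b2_ls : ∀ r < chevB2.nroots, ∀ s < chevB2.nroots, longB2 r = true → shortB2 s = true →
    ∀ c ∈ chevB2.commTerms r s, sgnB2 c.1 = sgnB2 s ^ c.2.2.2 := by decide

/-- the check of a list -/
def okListB2 : List ℕ → Bool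
  | [] => true
  | r :: L => (L.all fun s => (chevB2.commTerms r s).isEmpty || (longB2 r && shortB2 s) ||
      (shortB2 r && shortB2 s)) && okListB2 L

theorem b2_lists : ∀ L ∈ lwB2, okListB2 L = true := by decide

theorem b2_tor : ∀ r < chevB2.nroots, ∀ s < chevB2.nroots, longB2 r = true → shortB2 s = true →
    chevB2.commTerms r s = [] → ∃ m ∈ [[1, 1], [0, 1], [1, 0], [1, 2], [2, 1]],
      evL chevB2 m r = 0 ∧ (evL chevB2 m s = 1 ∨ evL chevB2 m s = -1) := by decide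

theorem b2_sym : ∀ r < chevB2.nroots, ∀ s < chevB2.nroots,
    chevB2.commTerms s r = [] → chevB2.commTerms r s = [] := by decide

theorem b2_class : ∀ r < chevB2.nroots, longB2 r = true ∨ shortB2 r = true := by decide

theorem b2_class' : ∀ r, chevB2.nroots ≤ r → longB2 r = false ∧ shortB2 r = false := by
  intro r hr
  have : 8 ≤ r := hr
  unfold longB2 shortB2
  simp
  omega

theorem b2_ssne : ∀ r < chevB2.nroots, ∀ s < chevB2.nroots, shortB2 r = true → shortB2 s = true →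
    s ≠ r → s ≠ chevB2.neg r → chevB2.commTerms r s ≠ [] := by decide

theorem b2_ev0 : ∀ q < chevB2.nroots, evL chevB2 [0, 1] q = [0, -1, 1, -2, 2, -1, 1, 0].getD q 0 := by
  decide

/-- data for two orthogonal long roots -/
def llB2 (q1 q2 c d : ℕ) : Bool :=
  shortB2 c && shortB2 d && decide (c ≠ d) && decide (c ≠ chevB2.neg d) &&
    (decide (chevB2.commTerms d c = [(q1, 2, 1, 1)]) || decide (chevB2.commTerms d c = [(q1, -2, 1, 1)])) &&
    decide (d ≠ q2) && decide (d ≠ chevB2.neg q2) &&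
    decide ((chevB2.commTerms q2 d).map (fun e => e.1) = [c, q1]) &&
    decide (c ≠ chevB2.neg q2) && decide (chevB2.commTerms q2 c = []) &&
    decide (c ≠ chevB2.neg q1) && decide (chevB2.commTerms q1 c = [])

theorem b2_ll : ∀ q1 < chevB2.nroots, ∀ q2 < chevB2.nroots, longB2 q1 = true → longB2 q2 = true →
    q2 ≠ q1 → q2 ≠ chevB2.neg q1 → chevB2.commTerms q1 q2 = [] ∧
      ∃ c < chevB2.nroots, ∃ d < chevB2.nroots, llB2 q1 q2 c d = true := by decide

theorem b2_sl : ∀ r < chevB2.nroots, shortB2 r = true → longB2 r = false := by decide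

theorem b2_negsym : ∀ r < chevB2.nroots, ∀ s < chevB2.nroots, s ≠ chevB2.neg r → r ≠ chevB2.neg s := by
  decide

theorem hB2 : chevB2 ∈ [chevG2, chevB2, chevD4, chevF4, chevE6, chevE7, chevE8] := by simp

section main

variable {K : Type*} [Field K] (hK : ∀ x : K, x = 0 ∨ x = 1 ∨ x = -1) (h2 : (2 : K) ≠ 0)
  {E : Type*} [Group E] (σ : E →* chevB2.group K) (hs : Function.Surjective σ)
  (hc : σ.ker ≤ Subgroup.center E)

include h2 in
theorem neg_one_ne_one_of_two : (-1 : K) ≠ 1 := by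
  intro h
  apply h2
  have : (2 : K) = 1 - (-1) := by ring
  rw [this, h, sub_self]

include hK hc in
theorem b2f3_self (r : ℕ) (hr : r < chevB2.nroots) (a b : E) (t u : K)
    (ha : σ a = XG hB2 r t) (hb : σ b = XG hB2 r u) : a * b = b * a :=
  lifts_comm_prime σ hc hK (XG hB2 r) ((stRel_XG (K := K) hB2).add r hr) a b t u ha hb

include h2 hs hc in
theorem b2f3_ls (r s : ℕ) (hr : r < chevB2.nroots) (hsn : s < chevB2.nroots) (hl : longB2 r = true)
    (hsh : shortB2 s = true) (hneg : s ≠ chevB2.neg r) (hnil : chevB2.commTerms r s = [])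
    (a b : E) (t u : K) (ha : σ a = XG hB2 r t) (hb : σ b = XG hB2 s u) : a * b = b * a := by
  obtain ⟨m, -, hm0, hm1⟩ := b2_tor r hr s hsn hl hsh hnil
  have hv0 : (-1 : K) ≠ 0 := neg_ne_zero.2 one_ne_zero
  have hv1 : (Units.mk0 (-1 : K) hv0) ≠ 1 := by
    intro h
    have h' := congrArg Units.val h
    rw [Units.val_mk0, Units.val_one] at h'
    exact neg_one_ne_one_of_two h2 h'
  have hrs : s = r ∨ (s ≠ chevB2.neg r ∧ chevB2.commTerms r s = []) := Or.inr ⟨hneg, hnil⟩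
  rcases hm1 with h | h
  · refine lifts_comm_torK hB2 σ hs hc r s hr hsn hrs 1
      ⟨fun i => m.getD i.val 0, by rw [ev_eq]; exact hm0, by rw [ev_eq]; exact h⟩
      (Units.mk0 (-1) hv0) ?_ a b t u ha hb
    rw [zpow_one]
    exact hv1
  · refine lifts_comm_torK hB2 σ hs hc r s hr hsn hrs (-1)
      ⟨fun i => m.getD i.val 0, by rw [ev_eq]; exact hm0, by rw [ev_eq]; exact h⟩
      (Units.mk0 (-1) hv0) ?_ a b t u ha hb
    rw [zpow_neg, zpow_one, ne_eq, inv_eq_one]
    exact hv1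

include hK h2 hs hc in
theorem b2f3_ll (q1 q2 : ℕ) (h1 : q1 < chevB2.nroots) (h2' : q2 < chevB2.nroots)
    (hl1 : longB2 q1 = true) (hl2 : longB2 q2 = true) (hne : q2 ≠ q1) (hneg : q2 ≠ chevB2.neg q1)
    (a b : E) (t u : K) (ha : σ a = XG hB2 q1 t) (hb : σ b = XG hB2 q2 u) : a * b = b * a := by
  obtain ⟨hnil, c, hcn, d, hdn, hB⟩ := b2_ll q1 h1 q2 h2' hl1 hl2 hne hneg
  unfold llB2 at hB
  simp only [Bool.and_eq_true, Bool.or_eq_true, decide_eq_true_eq] at hB
  obtain ⟨⟨⟨⟨⟨⟨⟨⟨⟨⟨⟨hcs, hds⟩, hcd⟩, hcd'⟩, hN⟩, hdq⟩, hdq'⟩, hmap⟩, hcq2⟩, hcq2nil⟩, hcq1⟩, hcq1nil⟩ := hB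
  have hrel := stRel_XG (K := K) hB2
  obtain ⟨N, hNK, hct⟩ : ∃ N : ℤ, (N : K) ≠ 0 ∧ chevB2.commTerms d c = [(q1, N, 1, 1)] := by
    rcases hN with h | h
    · exact ⟨2, by simpa using h2, h⟩
    · exact ⟨-2, by simpa using h2, h⟩
  refine lifts_comm_hwLL σ hc hs (XG hB2 c) (XG hB2 d) (XG hB2 q1) (XG hB2 q2) (N : K) hNK
    (hrel.inv d hdn) (hrel.inv q2 h2') ?_ ?_ ?_ ?_ ?_ ?_ a b t u ha hb
  · intro t' u'
    exact XG_Kc_single hB2 d c q1 N hdn hcn hcd hcd' hct t' u'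
  · intro t' u'
    have h3 := hrel.comm q2 h2' d hdn hdq hdq' t' u'
    unfold ChevalleyDatum.commWord at h3
    rcases hlist : chevB2.commTerms q2 d with _ | ⟨e1, _ | ⟨e2, _ | ⟨e3, l⟩⟩⟩
    · rw [hlist] at hmap
      simp at hmap
    · rw [hlist] at hmap
      simp at hmap
    · rw [hlist] at hmap h3
      simp only [List.map_cons, List.map_nil, List.cons.injEq, and_true] at hmap
      simp only [List.map_cons, List.map_nil, wordG_cons, wordG_nil, mul_one] at h3
      rw [hmap.1, hmap.2] at h3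
      exact ⟨_, _, h3⟩
    · rw [hlist] at hmap
      simp at hmap
  · exact XG_comm_of hB2 q2 c h2' ⟨hcn, Or.inr ⟨hcq2, hcq2nil⟩⟩
  · exact XG_comm_of hB2 q1 q2 h1 ⟨h2', Or.inr ⟨hneg, hnil⟩⟩
  · intro a' b' t' u' ha' hb'
    exact b2f3_self hK σ hc c hcn a' b' t' u' ha' hb'
  · intro a' b' t' u' ha' hb'
    exact b2f3_ls h2 σ hs hc q1 c h1 hcn hl1 hcs hcq1 hcq1nil a' b' t' u' ha' hb'

include hK h2 hs hc in
/-- lifts of commuting root elements commute -/
theorem b2f3_hcl (r : ℕ) (hr : r < chevB2.nroots) (s : ℕ) (hsn : s < chevB2.nroots)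
    (hrs : s = r ∨ (s ≠ chevB2.neg r ∧ chevB2.commTerms r s = []))
    (a b : E) (t u : K) (ha : σ a = XG hB2 r t) (hb : σ b = XG hB2 s u) : a * b = b * a := by
  by_cases hsr : s = r
  · subst hsr
    exact b2f3_self hK σ hc s hr a b t u ha hb
  · have h' : s ≠ chevB2.neg r ∧ chevB2.commTerms r s = [] := by
      rcases hrs with h | h
      · exact absurd h hsr
      · exact h
    obtain ⟨hneg, hnil⟩ := h'
    rcases b2_class r hr with hl | hsh <;> rcases b2_class s hsn with hl' | hsh'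
    · exact b2f3_ll hK h2 σ hs hc r s hr hsn hl hl' hsr hneg a b t u ha hb
    · exact b2f3_ls h2 σ hs hc r s hr hsn hl hsh' hneg hnil a b t u ha hb
    · exact (b2f3_ls h2 σ hs hc s r hsn hr hl' hsh (b2_negsym r hr s hsn hneg)
        (b2_sym s hsn r hr hnil) b a u t hb ha).symm
    · exact absurd hnil (b2_ssne r hr s hsn hsh hsh' hsr hneg)

/-- the values of the distinguished torus element on the root subgroups -/
theorem b2f3_chr (q : ℕ) (hq : q < chevB2.nroots) :
    chrG chevB2 (fun i : Fin chevB2.rank =>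
      (Units.mk0 (-1 : K) (neg_ne_zero.2 one_ne_zero)) ^ (([0, 1] : List ℤ).getD i.val 0)) q =
      ((sgnB2 q : ℤ) : K) := by
  unfold chrG
  rw [chiU_oneParam chevB2 (fun i : Fin chevB2.rank => ([0, 1] : List ℤ).getD i.val 0), ev_eq,
    b2_ev0 q hq, Units.val_zpow_eq_zpow_val, Units.val_mk0]
  have hq8 : q < 8 := hq
  interval_cases q <;> simp [sgnB2, longB2]

include hK h2 hs hc in
/-- the lifts of the root subgroups -/
theorem b2f3_lifts : ∃ (φ : ℕ → K → E) (g₀ : E),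
    (∀ r < chevB2.nroots, ∀ t, σ (φ r t) = XG hB2 r t) ∧ AddRel chevB2 φ ∧
    (∀ r, chevB2.nroots ≤ r → ∀ t, φ r t = 1) ∧
    (∀ q < chevB2.nroots, ∀ t, g₀ * φ q t * g₀⁻¹ = φ q (((sgnB2 q : ℤ) : K) * t)) ∧
    (∀ q < chevB2.nroots, longB2 q = true → ∀ t u,
      Kc (φ (decB2 q).2.1 u) (φ (decB2 q).1 t) = φ q (((decB2 q).2.2 : K) * (-t) * u) ∧
      Kc (φ (decB2 q).1 u) (φ (decB2 q).2.1 t) = φ q (-((decB2 q).2.2 : K) * (-t) * u)) := by
  have hrel := stRel_XG (K := K) hB2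
  have hne1 : (-1 : K) ≠ 1 := neg_one_ne_one_of_two h2
  obtain ⟨a₀, ha₀⟩ : ∃ a₀ : Fin chevB2.rank → Kˣ, a₀ = fun i : Fin chevB2.rank =>
      (Units.mk0 (-1 : K) (neg_ne_zero.2 one_ne_zero)) ^ (([0, 1] : List ℤ).getD i.val 0) := ⟨_, rfl⟩
  have hconj : ∀ q < chevB2.nroots, ∀ t : K,
      torG hB2 a₀ * XG hB2 q t * (torG hB2 a₀)⁻¹ = XG hB2 q (((sgnB2 q : ℤ) : K) * t) := by
    intro q hq t
    rw [torG_conj hB2 a₀ q hq t, ha₀, b2f3_chr q hq]
  obtain ⟨g₀, hg₀⟩ := hs (torG hB2 a₀)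
  -- the lifts of the short root subgroups
  have hshort : ∀ r, ∃ ψr : K → E, r < chevB2.nroots → shortB2 r = true →
      (∀ t, σ (ψr t) = XG hB2 r t) ∧ (∀ t u, ψr t * ψr u = ψr (t + u)) ∧
        ∀ t, g₀ * ψr t * g₀⁻¹ = ψr (-1 * t) := by
    intro r
    by_cases hr : r < chevB2.nroots ∧ shortB2 r = true
    · obtain ⟨hr, hsh⟩ := hr
      have hsg : ((sgnB2 r : ℤ) : K) = -1 := by
        unfold sgnB2
        rw [b2_sl r hr hsh]
        simp
      obtain ⟨ψr, k1, k2, k3⟩ := exists_lift σ hc hs (XG hB2 r) (hrel.add r hr) (-1) hne1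
        (torG hB2 a₀) (fun t => by rw [hconj r hr t, hsg])
        (fun a b t u ha hb => b2f3_self hK σ hc r hr a b t u ha hb)
      refine ⟨ψr, fun _ _ => ⟨k1, k2, ?_⟩⟩
      apply k3 g₀ (-1)
      · rw [hg₀]
        exact Commute.refl _
      · intro t
        rw [hg₀, hconj r hr t, hsg]
    · exact ⟨fun _ => 1, fun h1 h2 => absurd ⟨h1, h2⟩ hr⟩
  choose ψ hψ using hshort
  obtain ⟨φ, hφl, hφs, hφ1⟩ : ∃ φ : ℕ → K → E,
      (∀ r, longB2 r = true → ∀ t, φ r t =
        Kc (ψ (decB2 r).2.1 t) (ψ (decB2 r).1 (-((decB2 r).2.2 : K)⁻¹))) ∧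
      (∀ r, longB2 r = false → shortB2 r = true → ∀ t, φ r t = ψ r t) ∧
      (∀ r, longB2 r = false → shortB2 r = false → ∀ t, φ r t = 1) := by
    refine ⟨fun r t => if longB2 r = true then
      Kc (ψ (decB2 r).2.1 t) (ψ (decB2 r).1 (-((decB2 r).2.2 : K)⁻¹)) else
        if shortB2 r = true then ψ r t else 1, ?_, ?_, ?_⟩
    · intro r h t
      simp only [h, if_true]
    · intro r h h' t
      simp [h, h']
    · intro r h h' t
      simp [h, h']
  -- the long roots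
  have hlong : ∀ q < chevB2.nroots, longB2 q = true →
      (∀ v, σ (φ q v) = XG hB2 q v) ∧ (∀ v v', φ q v * φ q v' = φ q (v + v')) ∧
      (∀ t u, Kc (ψ (decB2 q).2.1 u) (ψ (decB2 q).1 t) = φ q (((decB2 q).2.2 : K) * (-t) * u)) ∧
      (∀ t u, Kc (ψ (decB2 q).1 u) (ψ (decB2 q).2.1 t) = φ q (-((decB2 q).2.2 : K) * (-t) * u)) ∧
      (∀ v, Kc (ψ (decB2 q).2.1 (-1 * v)) (ψ (decB2 q).1 (-1 * (-((decB2 q).2.2 : K)⁻¹))) = φ q v) := by
    intro q hq hl
    obtain ⟨d1, d2, d3, d4, d5, d6, d7, d8, d9, d10, d11, d12, d13, d14⟩ := b2_dec q hq hl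
    obtain ⟨c1, c2, c3⟩ := hψ (decB2 q).1 d3 d1
    obtain ⟨e1, e2, e3⟩ := hψ (decB2 q).2.1 d4 d2
    have hN : (((decB2 q).2.2 : ℤ) : K) ≠ 0 := by
      rcases d10 with h | h
      · rw [h]
        simpa using h2
      · rw [h]
        simpa using h2
    obtain ⟨L1, L2, L3, L4, L5⟩ := long_lift σ hc hK (XG hB2 (decB2 q).1) (XG hB2 (decB2 q).2.1)
      (XG hB2 q) (ψ (decB2 q).1) (ψ (decB2 q).2.1) (((decB2 q).2.2 : ℤ) : K) hN c1 e1 c2 e2
      (fun t u => XG_Kc_single hB2 (decB2 q).1 (decB2 q).2.1 q (decB2 q).2.2 d3 d4 d5 d6 d8 t u)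
      (fun a b t u ha hb => b2f3_hcl hK h2 σ hs hc q hq (decB2 q).1 d3 (Or.inr ⟨d13, d11⟩) a b t u ha hb)
      (fun a b t u ha hb =>
        b2f3_hcl hK h2 σ hs hc q hq (decB2 q).2.1 d4 (Or.inr ⟨d14, d12⟩) a b t u ha hb)
      (fun a b t u ha hb => b2f3_self hK σ hc q hq a b t u ha hb)
    refine ⟨?_, ?_, ?_, ?_, ?_⟩
    · intro v
      rw [hφl q hl]
      exact L1 v
    · intro v v'
      rw [hφl q hl, hφl q hl, hφl q hl]
      exact L2 v v'
    · intro t u
      rw [hφl q hl]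
      exact L3 t u
    · intro t u
      rw [hφl q hl]
      exact L4 t u
    · intro v
      rw [hφl q hl]
      exact L5 v
  have hshortφ : ∀ r < chevB2.nroots, shortB2 r = true → ∀ t, φ r t = ψ r t :=
    fun r hr hsh t => hφs r (b2_sl r hr hsh) hsh t
  refine ⟨φ, g₀, ?_, ?_, ?_, ?_, ?_⟩
  · intro r hr t
    rcases b2_class r hr with hl | hsh
    · exact (hlong r hr hl).1 t
    · rw [hshortφ r hr hsh]
      exact (hψ r hr hsh).1 t
  · intro r hr t u
    rcases b2_class r hr with hl | hsh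
    · exact (hlong r hr hl).2.1 t u
    · rw [hshortφ r hr hsh, hshortφ r hr hsh, hshortφ r hr hsh]
      exact (hψ r hr hsh).2.1 t u
  · intro r hr t
    obtain ⟨k1, k2⟩ := b2_class' r hr
    exact hφ1 r k1 k2 t
  · intro q hq t
    rcases b2_class q hq with hl | hsh
    · obtain ⟨d1, d2, d3, d4, -⟩ := b2_dec q hq hl
      have hsg : ((sgnB2 q : ℤ) : K) = 1 := by
        unfold sgnB2
        rw [hl]
        simp
      rw [hsg, one_mul]
      nth_rewrite 1 [hφl q hl]
      rw [Kc_conj, (hψ (decB2 q).2.1 d4 d2).2.2, (hψ (decB2 q).1 d3 d1).2.2]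
      exact (hlong q hq hl).2.2.2.2 t
    · have hsg : ((sgnB2 q : ℤ) : K) = -1 := by
        unfold sgnB2
        rw [b2_sl q hq hsh]
        simp
      rw [hsg, hshortφ q hq hsh, hshortφ q hq hsh]
      exact (hψ q hq hsh).2.2 t
  · intro q hq hl t u
    obtain ⟨d1, d2, d3, d4, -⟩ := b2_dec q hq hl
    rw [hshortφ _ d3 d1, hshortφ _ d4 d2, hshortφ _ d3 d1, hshortφ _ d4 d2]
    exact ⟨(hlong q hq hl).2.2.1 t u, (hlong q hq hl).2.2.2.1 t u⟩

theorem mul_comm_Kc {G : Type*} [Group G] (a b : G) : b * a = a * b * Kc b a := by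
  unfold Kc
  group

include hK h2 hs hc in
/-- the pairs of roots for which the relation is available -/
theorem b2f3_pairOK (φ : ℕ → K → E) (g₀ : E)
    (hmap : ∀ r < chevB2.nroots, ∀ t, σ (φ r t) = XG hB2 r t)
    (hequiv : ∀ q < chevB2.nroots, ∀ t, g₀ * φ q t * g₀⁻¹ = φ q (((sgnB2 q : ℤ) : K) * t))
    (hrelq : ∀ q < chevB2.nroots, longB2 q = true → ∀ t u,
      Kc (φ (decB2 q).2.1 u) (φ (decB2 q).1 t) = φ q (((decB2 q).2.2 : K) * (-t) * u) ∧
      Kc (φ (decB2 q).1 u) (φ (decB2 q).2.1 t) = φ q (-((decB2 q).2.2 : K) * (-t) * u))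
    (r s : ℕ) (hr : r < chevB2.nroots) (hsn : s < chevB2.nroots) (hne : s ≠ r)
    (hne' : s ≠ chevB2.neg r)
    (h : ((chevB2.commTerms r s).isEmpty || (longB2 r && shortB2 s) || (shortB2 r && shortB2 s)) = true) :
    PairOK chevB2 φ r s := by
  have hcomm : chevB2.commTerms r s = [] → PairOK chevB2 φ r s := by
    intro hnil
    right
    intro t u
    unfold ChevalleyDatum.commWord
    rw [hnil, List.map_nil, wordG_nil, mul_one]
    exact (b2f3_hcl hK h2 σ hs hc r hr s hsn (Or.inr ⟨hne', hnil⟩) _ _ t u (hmap r hr t)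
      (hmap s hsn u)).symm
  by_cases hnil : chevB2.commTerms r s = []
  · exact hcomm hnil
  simp only [Bool.or_eq_true, Bool.and_eq_true, List.isEmpty_iff] at h
  rcases h with (h | ⟨hl, hsh⟩) | ⟨hsh, hsh'⟩
  · exact absurd h hnil
  · left
    refine ⟨g₀, fun q => ((sgnB2 q : ℤ) : K), ?_, ?_, ?_, hequiv⟩
    · show ((sgnB2 r : ℤ) : K) = 1
      unfold sgnB2
      rw [hl]
      simp
    · show ((sgnB2 s : ℤ) : K) ≠ 1
      unfold sgnB2
      rw [b2_sl s hsn hsh]
      simpa using neg_one_ne_one_of_two h2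
    · intro c hc'
      show ((sgnB2 c.1 : ℤ) : K) = ((sgnB2 s : ℤ) : K) ^ c.2.2.2
      rw [b2_ls r hr s hsn hl hsh c hc']
      push_cast
      rfl
  · right
    intro t u
    obtain ⟨q, hq, hlq, hqd⟩ := b2_ss r hr s hsn hsh hsh' hne hne'
    obtain ⟨d1, d2, d3, d4, d5, d6, d7, d8, d9, -⟩ := b2_dec q hq hlq
    obtain ⟨R1, R2⟩ := hrelq q hq hlq t u
    unfold ChevalleyDatum.commWord
    rcases hqd with ⟨e1, e2⟩ | ⟨e1, e2⟩
    · rw [e1, e2] at d8 R1
      rw [d8]
      simp only [List.map_cons, List.map_nil, wordG_cons, wordG_nil, mul_one, pow_one]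
      rw [← R1]
      exact mul_comm_Kc _ _
    · rw [e1, e2] at d9 R2
      rw [d9]
      simp only [List.map_cons, List.map_nil, wordG_cons, wordG_nil, mul_one, pow_one]
      have e : (((-(decB2 q).2.2 : ℤ)) : K) = -(((decB2 q).2.2 : ℤ) : K) := by push_cast; rfl
      rw [e, ← R2]
      exact mul_comm_Kc _ _

include hK h2 hs hc in
theorem b2f3_okList (φ : ℕ → K → E) (g₀ : E)
    (hmap : ∀ r < chevB2.nroots, ∀ t, σ (φ r t) = XG hB2 r t)
    (hequiv : ∀ q < chevB2.nroots, ∀ t, g₀ * φ q t * g₀⁻¹ = φ q (((sgnB2 q : ℤ) : K) * t))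
    (hrelq : ∀ q < chevB2.nroots, longB2 q = true → ∀ t u,
      Kc (φ (decB2 q).2.1 u) (φ (decB2 q).1 t) = φ q (((decB2 q).2.2 : K) * (-t) * u) ∧
      Kc (φ (decB2 q).1 u) (φ (decB2 q).2.1 t) = φ q (-((decB2 q).2.2 : K) * (-t) * u))
    (L : List ℕ) (hRC : RightClosed chevB2 L) (hB : okListB2 L = true) : OKList chevB2 φ L := by
  induction L with
  | nil => trivial
  | cons r L ih =>
    obtain ⟨hr, hrL, hall, hL'⟩ := hRC
    unfold okListB2 at hB
    rw [Bool.and_eq_true, List.all_eq_true] at hB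
    refine ⟨?_, ih hL' hB.2⟩
    intro s hs'
    obtain ⟨hs1, hs2, hs3, -⟩ := hall s hs'
    exact b2f3_pairOK hK h2 σ hs hc φ g₀ hmap hequiv hrelq r s hr hs1 hs2 hs3 (hB.1 s hs')

include hK h2 hs hc in
/-- every central extension of the Chevalley group of type `B₂` over the field with three elements receives a
homomorphism from the presented group -/
theorem exists_cover_hom_B2F3 :
    ∃ τ : chevB2.SteinbergCover K →* E, ∀ (r : ℕ) (t : K), r < chevB2.nroots →
      σ (τ (chevB2.scGen K r t)) = XG hB2 r t := by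
  obtain ⟨φ, g₀, hmap, hadd, h1, hequiv, hrelq⟩ := b2f3_lifts hK h2 σ hs hc
  have hrel : StRel chevB2 φ := by
    apply stRel_lift3 (setupG (K := K) hB2) σ hc hmap hadd
    intro r hr s hsn hne hne'
    have h := b2_pair
    rw [List.all_eq_true] at h
    have h' := h r (List.mem_range.2 hr)
    unfold pairChkT at h'
    rw [List.all_eq_true] at h'
    have h'' := h' s (List.mem_range.2 hsn)
    simp only [Bool.or_eq_true, Bool.and_eq_true, decide_eq_true_eq, List.all_eq_true,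
      List.any_eq_true, List.contains_iff_mem] at h''
    rcases h'' with (h'' | h'') | h''
    · exact absurd h'' hne
    · exact absurd h'' hne'
    · obtain ⟨L, hL, ⟨e1, e2⟩, e3⟩ := h''
      have hLB := b2_lists L hL
      rw [b2_lw, List.mem_map] at hL
      obtain ⟨w, hw, rfl⟩ := hL
      have hRC := (setupG (K := K) hB2).rightClosed_listW w (b2_words w hw)
      exact ⟨listW chevB2 w, hRC, uniqueL_listW (setupG (K := K) hB2) w (b2_words w hw),
        b2f3_okList hK h2 σ hs hc φ g₀ hmap hequiv hrelq _ hRC hLB, e1, e2, e3⟩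
  obtain ⟨τ, hτ⟩ := exists_hom_of_stRel hrel h1
  refine ⟨τ, ?_⟩
  intro r t hr
  rw [hτ, hmap r hr]

end main

end Cfsg.Agent.Helper6.CExt
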