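import Mathlib

/-!
Generated tables for the torus argument, type D4.
-/

set_option autoImplicit false

namespace Cfsg.Agent.Helper6.CExt

def unitTabD4 : List (List ℤ) :=
  [[0, -1, 0, 0], [0, 0, 0, -1], [0, 0, 0, 1], [0, 0, 0, -1], [0, 0, 0, 1], [0, 1, 0, 0], [0, 0, 0, -1], [0, 0, 0, 1], [0, 0, 0, -1], [0, 0, 0, 1], [0, 1, 0, 0], [0, 1, 0, 0], [0, -1, 0, 0], [0, -1, 0, 0], [0, 0, 0, -1], [0, 0, 0, 1], [0, 0, 0, -1], [0, 0, 0, 1], [0, -1, 0, 0], [0, 0, 0, -1], [0, 0, 0, 1], [0, 0, 0, -1], [0, 0, 0, 1], [0, 1, 0, 0]]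

def selfTabD4 : List (ℕ × ℕ) :=
  [(0, 0), (0, 0), (0, 0), (0, 0), (0, 0), (0, 0), (0, 0), (0, 0), (0, 0), (0, 0), (0, 0), (0, 0), (0, 0), (0, 0), (0, 0), (0, 0), (0, 0), (0, 0), (0, 0), (0, 0), (0, 0), (0, 0), (0, 0), (0, 0)]

def killTabD4 : List (List (List ℤ)) :=
  [[[], [0, 0, 0, 1], [0, 0, 0, 1], [0, 0, 0, 1], [0, 0, 0, 1], [1, 0, 0, 0], [0, 0, 0, 1], [0, 0, 0, 1], [0, 0, 0, 1], [0, 0, 0, 1], [0, 0, 1, 0], [0, 0, 0, 1], [0, 0, 0, 1], [0, 0, 1, 0], [0, 0, 0, 1], [0, 0, 0, 1], [0, 0, 0, 1], [0, 0, 0, 1], [1, 0, 0, 0], [0, 0, 0, 1], [0, 0, 0, 1], [0, 0, 0, 1], [0, 0, 0, 1], []],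
   [[0, 1, 0, 1], [], [0, 0, 1, -1], [0, 0, 1, -1], [1, 0, 0, -1], [0, 1, 0, 1], [0, 1, 0, 1], [0, 0, 1, -1], [0, 0, 1, -1], [0, 1, 0, 1], [0, 0, 1, -1], [0, 0, 1, -1], [0, 0, 1, -1], [0, 0, 1, -1], [0, 1, 0, 1], [0, 0, 1, -1], [0, 0, 1, -1], [0, 1, 0, 1], [0, 1, 0, 1], [1, 0, 0, -1], [0, 0, 1, -1], [0, 0, 1, -1], [], [0, 1, 0, 1]],
   [[0, 1, 0, 0], [0, 1, 0, 0], [], [1, 0, 0, 1], [0, 1, 0, 0], [0, 1, 0, 0], [0, 0, 1, 1], [0, 1, 0, 0], [0, 1, 0, 0], [0, 1, 0, 0], [0, 1, 0, 0], [0, 1, 0, 0], [0, 1, 0, 0], [0, 1, 0, 0], [0, 1, 0, 0], [0, 1, 0, 0], [0, 1, 0, 0], [0, 0, 1, 1], [0, 1, 0, 0], [0, 1, 0, 0], [1, 0, 0, 1], [], [0, 1, 0, 0], [0, 1, 0, 0]],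
   [[0, 1, 0, 0], [0, 1, 0, 0], [1, 0, 0, -1], [], [0, 1, 0, 0], [0, 1, 0, 0], [0, 0, 1, 1], [0, 1, 0, 0], [0, 1, 0, 0], [0, 1, 0, 0], [0, 1, 0, 0], [0, 1, 0, 0], [0, 1, 0, 0], [0, 1, 0, 0], [0, 1, 0, 0], [0, 1, 0, 0], [0, 1, 0, 0], [0, 0, 1, 1], [0, 1, 0, 0], [0, 1, 0, 0], [], [1, 0, 0, -1], [0, 1, 0, 0], [0, 1, 0, 0]],
   [[0, 1, 0, 1], [1, 0, 0, 1], [0, 0, 1, -1], [0, 0, 1, -1], [], [0, 1, 0, 1], [0, 1, 0, 1], [0, 0, 1, -1], [0, 0, 1, -1], [0, 1, 0, 1], [0, 0, 1, -1], [0, 0, 1, -1], [0, 0, 1, -1], [0, 0, 1, -1], [0, 1, 0, 1], [0, 0, 1, -1], [0, 0, 1, -1], [0, 1, 0, 1], [0, 1, 0, 1], [], [0, 0, 1, -1], [0, 0, 1, -1], [1, 0, 0, 1], [0, 1, 0, 1]],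
   [[1, 2, 0, 0], [0, 0, 0, 1], [0, 0, 0, 1], [0, 0, 0, 1], [0, 0, 0, 1], [], [0, 0, 0, 1], [0, 0, 0, 1], [0, 0, 0, 1], [0, 0, 0, 1], [0, 0, 1, 0], [0, 0, 0, 1], [0, 0, 0, 1], [0, 0, 1, 0], [0, 0, 0, 1], [0, 0, 0, 1], [0, 0, 0, 1], [0, 0, 0, 1], [], [0, 0, 0, 1], [0, 0, 0, 1], [0, 0, 0, 1], [0, 0, 0, 1], [1, 2, 0, 0]],
   [[0, 1, 0, 0], [0, 1, 0, 0], [0, 0, 1, -1], [0, 0, 1, -1], [0, 1, 0, 0], [0, 1, 0, 0], [], [0, 1, 0, 0], [0, 1, 0, 0], [0, 1, 0, 0], [0, 1, 0, 0], [0, 1, 0, 0], [0, 1, 0, 0], [0, 1, 0, 0], [0, 1, 0, 0], [0, 1, 0, 0], [0, 1, 0, 0], [], [0, 1, 0, 0], [0, 1, 0, 0], [0, 0, 1, -1], [0, 0, 1, -1], [0, 1, 0, 0], [0, 1, 0, 0]],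
   [[0, 1, 0, 1], [0, 0, 1, 1], [0, 1, 0, 1], [0, 1, 0, 1], [0, 0, 1, 1], [0, 1, 0, 1], [0, 0, 1, 1], [], [0, 1, 0, 1], [0, 0, 1, 1], [0, 0, 1, 1], [0, 0, 1, 1], [0, 0, 1, 1], [0, 0, 1, 1], [0, 0, 1, 1], [0, 1, 0, 1], [], [0, 0, 1, 1], [0, 1, 0, 1], [0, 0, 1, 1], [0, 1, 0, 1], [0, 1, 0, 1], [0, 0, 1, 1], [0, 1, 0, 1]],
   [[0, 1, 0, -1], [0, 0, 1, 1], [0, 1, 0, -1], [0, 1, 0, -1], [0, 0, 1, 1], [0, 1, 0, -1], [0, 0, 1, 1], [0, 1, 0, -1], [], [0, 0, 1, 1], [0, 0, 1, 1], [0, 0, 1, 1], [0, 0, 1, 1], [0, 0, 1, 1], [0, 0, 1, 1], [], [0, 1, 0, -1], [0, 0, 1, 1], [0, 1, 0, -1], [0, 0, 1, 1], [0, 1, 0, -1], [0, 1, 0, -1], [0, 0, 1, 1], [0, 1, 0, -1]],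
   [[0, 1, 0, 2], [0, 1, 0, 2], [0, 0, 1, -1], [0, 0, 1, -1], [1, 0, 0, -1], [1, 0, 0, -1], [1, 0, 0, -1], [0, 0, 1, -1], [0, 0, 1, -1], [], [0, 0, 1, -1], [0, 0, 1, -1], [0, 0, 1, -1], [0, 0, 1, -1], [], [0, 0, 1, -1], [0, 0, 1, -1], [1, 0, 0, -1], [1, 0, 0, -1], [1, 0, 0, -1], [0, 0, 1, -1], [0, 0, 1, -1], [0, 1, 0, 2], [0, 1, 0, 2]],
   [[0, 2, 1, 0], [0, 0, 0, 1], [0, 0, 0, 1], [0, 0, 0, 1], [0, 0, 0, 1], [1, 0, 0, 0], [0, 0, 0, 1], [0, 0, 0, 1], [0, 0, 0, 1], [0, 0, 0, 1], [], [0, 0, 0, 1], [0, 0, 0, 1], [], [0, 0, 0, 1], [0, 0, 0, 1], [0, 0, 0, 1], [0, 0, 0, 1], [1, 0, 0, 0], [0, 0, 0, 1], [0, 0, 0, 1], [0, 0, 0, 1], [0, 0, 0, 1], [0, 2, 1, 0]],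
   [[0, 2, 0, 1], [0, 0, 1, 0], [0, 0, 1, 0], [0, 0, 1, 0], [0, 0, 1, 0], [1, 0, 0, 0], [0, 0, 1, 0], [0, 0, 1, 0], [0, 0, 1, 0], [0, 0, 1, 0], [0, 0, 1, 0], [], [], [0, 0, 1, 0], [0, 0, 1, 0], [0, 0, 1, 0], [0, 0, 1, 0], [0, 0, 1, 0], [1, 0, 0, 0], [0, 0, 1, 0], [0, 0, 1, 0], [0, 0, 1, 0], [0, 0, 1, 0], [0, 2, 0, 1]],
   [[0, 2, 0, 1], [0, 0, 1, 0], [0, 0, 1, 0], [0, 0, 1, 0], [0, 0, 1, 0], [1, 0, 0, 0], [0, 0, 1, 0], [0, 0, 1, 0], [0, 0, 1, 0], [0, 0, 1, 0], [0, 0, 1, 0], [], [], [0, 0, 1, 0], [0, 0, 1, 0], [0, 0, 1, 0], [0, 0, 1, 0], [0, 0, 1, 0], [1, 0, 0, 0], [0, 0, 1, 0], [0, 0, 1, 0], [0, 0, 1, 0], [0, 0, 1, 0], [0, 2, 0, 1]],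
   [[0, 2, 1, 0], [0, 0, 0, 1], [0, 0, 0, 1], [0, 0, 0, 1], [0, 0, 0, 1], [1, 0, 0, 0], [0, 0, 0, 1], [0, 0, 0, 1], [0, 0, 0, 1], [0, 0, 0, 1], [], [0, 0, 0, 1], [0, 0, 0, 1], [], [0, 0, 0, 1], [0, 0, 0, 1], [0, 0, 0, 1], [0, 0, 0, 1], [1, 0, 0, 0], [0, 0, 0, 1], [0, 0, 0, 1], [0, 0, 0, 1], [0, 0, 0, 1], [0, 2, 1, 0]],
   [[0, 1, 0, 2], [0, 1, 0, 2], [0, 0, 1, -1], [0, 0, 1, -1], [1, 0, 0, -1], [1, 0, 0, -1], [1, 0, 0, -1], [0, 0, 1, -1], [0, 0, 1, -1], [], [0, 0, 1, -1], [0, 0, 1, -1], [0, 0, 1, -1], [0, 0, 1, -1], [], [0, 0, 1, -1], [0, 0, 1, -1], [1, 0, 0, -1], [1, 0, 0, -1], [1, 0, 0, -1], [0, 0, 1, -1], [0, 0, 1, -1], [0, 1, 0, 2], [0, 1, 0, 2]],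
   [[0, 1, 0, -1], [0, 0, 1, 1], [0, 1, 0, -1], [0, 1, 0, -1], [0, 0, 1, 1], [0, 1, 0, -1], [0, 0, 1, 1], [0, 1, 0, -1], [], [0, 0, 1, 1], [0, 0, 1, 1], [0, 0, 1, 1], [0, 0, 1, 1], [0, 0, 1, 1], [0, 0, 1, 1], [], [0, 1, 0, -1], [0, 0, 1, 1], [0, 1, 0, -1], [0, 0, 1, 1], [0, 1, 0, -1], [0, 1, 0, -1], [0, 0, 1, 1], [0, 1, 0, -1]],
   [[0, 1, 0, 1], [0, 0, 1, 1], [0, 1, 0, 1], [0, 1, 0, 1], [0, 0, 1, 1], [0, 1, 0, 1], [0, 0, 1, 1], [], [0, 1, 0, 1], [0, 0, 1, 1], [0, 0, 1, 1], [0, 0, 1, 1], [0, 0, 1, 1], [0, 0, 1, 1], [0, 0, 1, 1], [0, 1, 0, 1], [], [0, 0, 1, 1], [0, 1, 0, 1], [0, 0, 1, 1], [0, 1, 0, 1], [0, 1, 0, 1], [0, 0, 1, 1], [0, 1, 0, 1]],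
   [[0, 1, 0, 0], [0, 1, 0, 0], [0, 0, 1, -1], [0, 0, 1, -1], [0, 1, 0, 0], [0, 1, 0, 0], [], [0, 1, 0, 0], [0, 1, 0, 0], [0, 1, 0, 0], [0, 1, 0, 0], [0, 1, 0, 0], [0, 1, 0, 0], [0, 1, 0, 0], [0, 1, 0, 0], [0, 1, 0, 0], [0, 1, 0, 0], [], [0, 1, 0, 0], [0, 1, 0, 0], [0, 0, 1, -1], [0, 0, 1, -1], [0, 1, 0, 0], [0, 1, 0, 0]],
   [[1, 2, 0, 0], [0, 0, 0, 1], [0, 0, 0, 1], [0, 0, 0, 1], [0, 0, 0, 1], [], [0, 0, 0, 1], [0, 0, 0, 1], [0, 0, 0, 1], [0, 0, 0, 1], [0, 0, 1, 0], [0, 0, 0, 1], [0, 0, 0, 1], [0, 0, 1, 0], [0, 0, 0, 1], [0, 0, 0, 1], [0, 0, 0, 1], [0, 0, 0, 1], [], [0, 0, 0, 1], [0, 0, 0, 1], [0, 0, 0, 1], [0, 0, 0, 1], [1, 2, 0, 0]],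
   [[0, 1, 0, 1], [1, 0, 0, 1], [0, 0, 1, -1], [0, 0, 1, -1], [], [0, 1, 0, 1], [0, 1, 0, 1], [0, 0, 1, -1], [0, 0, 1, -1], [0, 1, 0, 1], [0, 0, 1, -1], [0, 0, 1, -1], [0, 0, 1, -1], [0, 0, 1, -1], [0, 1, 0, 1], [0, 0, 1, -1], [0, 0, 1, -1], [0, 1, 0, 1], [0, 1, 0, 1], [], [0, 0, 1, -1], [0, 0, 1, -1], [1, 0, 0, 1], [0, 1, 0, 1]],
   [[0, 1, 0, 0], [0, 1, 0, 0], [1, 0, 0, -1], [], [0, 1, 0, 0], [0, 1, 0, 0], [0, 0, 1, 1], [0, 1, 0, 0], [0, 1, 0, 0], [0, 1, 0, 0], [0, 1, 0, 0], [0, 1, 0, 0], [0, 1, 0, 0], [0, 1, 0, 0], [0, 1, 0, 0], [0, 1, 0, 0], [0, 1, 0, 0], [0, 0, 1, 1], [0, 1, 0, 0], [0, 1, 0, 0], [], [1, 0, 0, -1], [0, 1, 0, 0], [0, 1, 0, 0]],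
   [[0, 1, 0, 0], [0, 1, 0, 0], [], [1, 0, 0, 1], [0, 1, 0, 0], [0, 1, 0, 0], [0, 0, 1, 1], [0, 1, 0, 0], [0, 1, 0, 0], [0, 1, 0, 0], [0, 1, 0, 0], [0, 1, 0, 0], [0, 1, 0, 0], [0, 1, 0, 0], [0, 1, 0, 0], [0, 1, 0, 0], [0, 1, 0, 0], [0, 0, 1, 1], [0, 1, 0, 0], [0, 1, 0, 0], [1, 0, 0, 1], [], [0, 1, 0, 0], [0, 1, 0, 0]],
   [[0, 1, 0, 1], [], [0, 0, 1, -1], [0, 0, 1, -1], [1, 0, 0, -1], [0, 1, 0, 1], [0, 1, 0, 1], [0, 0, 1, -1], [0, 0, 1, -1], [0, 1, 0, 1], [0, 0, 1, -1], [0, 0, 1, -1], [0, 0, 1, -1], [0, 0, 1, -1], [0, 1, 0, 1], [0, 0, 1, -1], [0, 0, 1, -1], [0, 1, 0, 1], [0, 1, 0, 1], [1, 0, 0, -1], [0, 0, 1, -1], [0, 0, 1, -1], [], [0, 1, 0, 1]],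
   [[], [0, 0, 0, 1], [0, 0, 0, 1], [0, 0, 0, 1], [0, 0, 0, 1], [1, 0, 0, 0], [0, 0, 0, 1], [0, 0, 0, 1], [0, 0, 0, 1], [0, 0, 0, 1], [0, 0, 1, 0], [0, 0, 0, 1], [0, 0, 0, 1], [0, 0, 1, 0], [0, 0, 0, 1], [0, 0, 0, 1], [0, 0, 0, 1], [0, 0, 0, 1], [1, 0, 0, 0], [0, 0, 0, 1], [0, 0, 0, 1], [0, 0, 0, 1], [0, 0, 0, 1], []]]

def wordsD4 : List (List ℕ) :=
  [[], [1, 2, 0, 1, 3, 0, 1, 2, 0, 1, 0], [3, 1, 2, 0, 1, 0], [0, 1, 3, 1, 2, 1, 0], [1, 3, 1, 2, 1, 0], [0, 1, 2, 0, 1, 0], [1, 3, 0, 1], [2, 1, 3, 0, 1], [0]]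

def lwD4 : List (List ℕ) :=
  [[12, 13, 14, 15, 16, 17, 18, 19, 20, 21, 22, 23], [12, 10, 8, 9, 6, 7, 5, 3, 4, 1, 2, 0], [23, 18, 3, 16, 8, 21, 10, 1, 14, 6, 19, 11], [13, 11, 15, 17, 14, 16, 0, 2, 4, 1, 3, 5], [13, 11, 20, 22, 19, 21, 0, 7, 9, 6, 8, 18], [23, 5, 9, 22, 4, 17, 10, 7, 20, 2, 15, 12], [18, 23, 3, 8, 16, 21, 12, 4, 9, 17, 22, 13], [18, 23, 1, 6, 14, 19, 12, 2, 7, 15, 20, 10], [12, 13, 19, 20, 21, 22, 5, 14, 15, 16, 17, 23]]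

/-- the torus cocharacter for a pair of roots -/
def kvD4 (r s : ℕ) : List ℤ := (killTabD4.getD r []).getD s []

end Cfsg.Agent.Helper6.CExt
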