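import Mathlib
import Cfsg.Agent.Lib.Helper6.CExtTor2
import Cfsg.Agent.Lib.Helper6.CExtD4Data

/-!
# The table facts for the torus argument, type D4
-/

set_option autoImplicit false
set_option maxRecDepth 1000000
set_option maxHeartbeats 0

namespace Cfsg.Agent.Helper6.CExt

open Cfsg Cfsg.Lie Cfsg.Agent.Helper6.StC

theorem d4_words : ∀ w ∈ wordsD4, ∀ i ∈ w, i < chevD4.rank := by decide

theorem d4_lw : lwD4 = wordsD4.map (listW chevD4) := by decide

theorem d4_self : (List.range chevD4.nroots).all (selfChk chevD4 unitTabD4 selfTabD4) = true := by decide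

theorem d4_kill : (List.range chevD4.nroots).all (killChk chevD4 kvD4) = true := by decide

theorem d4_pair : (List.range chevD4.nroots).all (pairChkT chevD4 lwD4) = true := by decide

theorem torusTab2_D4 : TorusTab2 chevD4 :=
  torusTab2_of_chk chevD4 unitTabD4 selfTabD4 kvD4 wordsD4 lwD4 d4_words d4_lw d4_self d4_kill d4_pair

end Cfsg.Agent.Helper6.CExt
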