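import Mathlib

/-!
Generated tables for the hybrid argument with sign certificates, type D4.
-/

set_option autoImplicit false

namespace Cfsg.Agent.Helper6.CExt

def killTabD4S : List (List (List ℤ)) :=
  [[[], [], [], [], [], [], [], [], [], [], [], [], [], [], [-1, 0, 0, 0], [-1, 0, 0, 0], [-1, 0, 0, 0], [-1, 0, 0, 0], [], [-1, 0, 0, 0], [-1, 0, 0, 0], [-1, 0, 0, 0], [-1, 0, 0, 0], []],
   [[], [], [], [], [], [], [], [], [], [-1, -1, 0, 0], [], [], [-1, -1, 0, 0], [-1, -1, 0, 0], [], [], [], [-1, -1, 0, 0], [-1, -1, 0, 0], [], [-1, -1, 0, 0], [-1, -1, 0, 0], [], [-1, -1, 0, 0]],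
   [[], [], [], [], [], [], [], [], [0, -1, 0, 0], [], [], [0, -1, 0, 0], [], [0, -1, 0, 0], [], [], [0, -1, 0, 0], [], [0, -1, 0, 0], [0, -1, 0, 0], [], [], [0, -1, 0, 0], [0, -1, 0, 0]],
   [[], [], [], [], [], [], [], [0, -1, 0, 0], [], [], [0, -1, 0, 0], [], [0, -1, 0, 0], [], [], [0, -1, 0, 0], [], [], [0, -1, 0, 0], [0, -1, 0, 0], [], [], [0, -1, 0, 0], [0, -1, 0, 0]],
   [[], [], [], [], [], [], [-1, 1, 0, 0], [], [], [], [-1, 1, 0, 0], [-1, 1, 0, 0], [], [], [0, -1, -1, 0], [], [], [], [0, -1, -1, 0], [], [-1, 1, 0, 0], [-1, 1, 0, 0], [], [-1, 1, 0, 0]],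
   [[], [], [], [], [], [], [0, 0, -1, 0], [0, 0, -1, 0], [0, 0, -1, 0], [0, 0, -1, 0], [], [], [], [], [], [], [], [], [], [0, 0, -1, 0], [0, 0, -1, 0], [0, 0, -1, 0], [0, 0, -1, 0], []],
   [[], [], [], [], [0, -1, 0, 0], [0, -1, 0, 0], [], [], [], [], [], [], [0, -1, 0, 0], [0, -1, 0, 0], [], [0, -1, 0, 0], [0, -1, 0, 0], [], [], [], [], [], [0, -1, 0, 0], [0, -1, 0, 0]],
   [[], [], [], [-1, -1, 0, 0], [], [-1, -1, 0, 0], [], [], [], [], [], [-1, -1, 0, 0], [], [-1, -1, 0, 0], [-1, -1, 0, 0], [], [], [-1, -1, 0, 0], [], [], [], [-1, -1, 0, 0], [], [-1, -1, 0, 0]],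
   [[], [], [-1, -1, 0, 0], [], [], [-1, -1, 0, 0], [], [], [], [], [-1, -1, 0, 0], [], [-1, -1, 0, 0], [], [-1, -1, 0, 0], [], [], [-1, -1, 0, 0], [], [], [-1, -1, 0, 0], [], [], [-1, -1, 0, 0]],
   [[], [-2, -1, 0, 0], [], [], [], [-1, -1, -1, 0], [], [], [], [], [-2, -1, 0, 0], [-2, -1, 0, 0], [], [], [], [-2, -1, 0, 0], [-2, -1, 0, 0], [], [], [-1, -1, -1, 0], [], [], [], [-2, -1, 0, 0]],
   [[], [], [], [-1, 0, 0, 0], [-1, 0, 0, 0], [], [], [], [-1, 0, 0, 0], [-1, 0, 0, 0], [], [], [], [], [], [], [-1, 0, 0, 0], [-1, 0, 0, 0], [], [], [], [-1, 0, 0, 0], [-1, 0, 0, 0], []],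
   [[], [], [-1, 0, 0, 0], [], [-1, 0, 0, 0], [], [], [-1, 0, 0, 0], [], [-1, 0, 0, 0], [], [], [], [], [], [-1, 0, 0, 0], [], [-1, 0, 0, 0], [], [], [-1, 0, 0, 0], [], [-1, 0, 0, 0], []],
   [[], [-1, 0, 0, 0], [], [-1, 0, 0, 0], [], [], [-1, 0, 0, 0], [], [-1, 0, 0, 0], [], [], [], [], [], [-1, 0, 0, 0], [], [-1, 0, 0, 0], [], [], [-1, 0, 0, 0], [], [-1, 0, 0, 0], [], []],
   [[], [-1, 0, 0, 0], [-1, 0, 0, 0], [], [], [], [-1, 0, 0, 0], [-1, 0, 0, 0], [], [], [], [], [], [], [-1, 0, 0, 0], [-1, 0, 0, 0], [], [], [], [-1, 0, 0, 0], [-1, 0, 0, 0], [], [], []],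
   [[-2, -1, 0, 0], [], [], [], [-1, -1, -1, 0], [], [], [-2, -1, 0, 0], [-2, -1, 0, 0], [], [], [], [-2, -1, 0, 0], [-2, -1, 0, 0], [], [], [], [], [-1, -1, -1, 0], [], [], [], [-2, -1, 0, 0], []],
   [[-1, -1, 0, 0], [], [], [-1, -1, 0, 0], [], [], [-1, -1, 0, 0], [], [], [-1, -1, 0, 0], [], [-1, -1, 0, 0], [], [-1, -1, 0, 0], [], [], [], [], [-1, -1, 0, 0], [], [], [-1, -1, 0, 0], [], []],
   [[-1, -1, 0, 0], [], [-1, -1, 0, 0], [], [], [], [-1, -1, 0, 0], [], [], [-1, -1, 0, 0], [-1, -1, 0, 0], [], [-1, -1, 0, 0], [], [], [], [], [], [-1, -1, 0, 0], [], [-1, -1, 0, 0], [], [], []],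
   [[0, -1, 0, 0], [0, -1, 0, 0], [], [], [], [], [], [0, -1, 0, 0], [0, -1, 0, 0], [], [0, -1, 0, 0], [0, -1, 0, 0], [], [], [], [], [], [], [0, -1, 0, 0], [0, -1, 0, 0], [], [], [], []],
   [[], [0, 0, -1, 0], [0, 0, -1, 0], [0, 0, -1, 0], [0, 0, -1, 0], [], [], [], [], [], [], [], [], [], [0, 0, -1, 0], [0, 0, -1, 0], [0, 0, -1, 0], [0, 0, -1, 0], [], [], [], [], [], []],
   [[-1, 1, 0, 0], [], [-1, 1, 0, 0], [-1, 1, 0, 0], [], [0, -1, -1, 0], [], [], [], [0, -1, -1, 0], [], [], [-1, 1, 0, 0], [-1, 1, 0, 0], [], [], [], [-1, 1, 0, 0], [], [], [], [], [], []],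
   [[0, -1, 0, 0], [0, -1, 0, 0], [], [], [0, -1, 0, 0], [0, -1, 0, 0], [], [], [0, -1, 0, 0], [], [], [0, -1, 0, 0], [], [0, -1, 0, 0], [], [], [0, -1, 0, 0], [], [], [], [], [], [], []],
   [[0, -1, 0, 0], [0, -1, 0, 0], [], [], [0, -1, 0, 0], [0, -1, 0, 0], [], [0, -1, 0, 0], [], [], [0, -1, 0, 0], [], [0, -1, 0, 0], [], [], [0, -1, 0, 0], [], [], [], [], [], [], [], []],
   [[-1, -1, 0, 0], [], [-1, -1, 0, 0], [-1, -1, 0, 0], [], [-1, -1, 0, 0], [-1, -1, 0, 0], [], [], [], [-1, -1, 0, 0], [-1, -1, 0, 0], [], [], [-1, -1, 0, 0], [], [], [], [], [], [], [], [], []],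
   [[], [-1, 0, 0, 0], [-1, 0, 0, 0], [-1, 0, 0, 0], [-1, 0, 0, 0], [], [-1, 0, 0, 0], [-1, 0, 0, 0], [-1, 0, 0, 0], [-1, 0, 0, 0], [], [], [], [], [], [], [], [], [], [], [], [], [], []]]

def certTabD4S : List (List (List ℤ)) :=
  [[[1, 1, 9, 0], [1, 2, 11, 0], [1, 1, 12, 0], [1, 1, 13, 0], [1, 2, 13, 0], [], [-1, 1, 18, 0], [-1, 2, 18, 0], [-1, 3, 18, 0], [-1, 4, 18, 0], [], [], [], [], [], [], [], [], [], [], [], [], [], []],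
   [[-1, 2, 8, 0], [1, 0, 14, 0], [-1, 0, 15, 0], [-1, 0, 16, 0], [], [1, 2, 16, 0], [-1, 0, 19, 0], [], [], [], [-1, 2, 19, 0], [-1, 3, 19, 0], [], [], [-1, 5, 19, 0], [], [], [], [], [], [], [], [], []],
   [[1, 1, 9, 0], [1, 0, 14, 0], [-1, 0, 15, 0], [], [1, 0, 17, 0], [1, 1, 17, 0], [], [1, 0, 20, 0], [], [], [-1, 1, 20, 0], [], [-1, 4, 20, 0], [], [], [-1, 5, 20, 0], [], [], [], [], [], [], [], []],
   [[1, 1, 9, 0], [1, 0, 14, 0], [], [-1, 0, 16, 0], [1, 0, 17, 0], [1, 1, 17, 0], [], [], [1, 0, 21, 0], [], [], [-1, 1, 21, 0], [], [-1, 4, 21, 0], [], [], [-1, 5, 21, 0], [], [], [], [], [], [], []],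
   [[1, 1, 9, 0], [], [-1, 0, 15, 0], [-1, 0, 16, 0], [1, 0, 17, 0], [1, 1, 17, 0], [], [], [], [-1, 0, 22, 0], [], [], [-1, 2, 22, 0], [-1, 3, 22, 0], [], [], [], [-1, 5, 22, 0], [], [], [], [], [], []],
   [[], [1, 0, 14, 0], [-1, 0, 15, 0], [-1, 0, 16, 0], [1, 0, 17, 0], [1, 1, 17, 0], [], [], [], [], [], [], [], [], [-1, 1, 23, 0], [1, 2, 23, 0], [1, 3, 23, 0], [-1, 4, 23, 0], [], [], [], [], [], []],
   [[1, 1, 9, 0], [1, 0, 14, 0], [], [], [], [], [-1, 0, 19, 0], [1, 0, 20, 0], [1, 0, 21, 0], [], [-1, 1, 20, 0], [-1, 1, 21, 0], [], [], [], [], [], [], [1, 7, 21, 0], [1, 10, 21, 0], [], [], [], []],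
   [[1, 1, 9, 0], [], [-1, 0, 15, 0], [], [], [], [-1, 0, 19, 0], [1, 0, 20, 0], [], [-1, 0, 22, 0], [-1, 1, 20, 0], [], [-1, 2, 22, 0], [], [], [], [], [], [1, 6, 22, 0], [], [1, 10, 22, 0], [], [], []],
   [[1, 1, 9, 0], [], [], [-1, 0, 16, 0], [], [], [-1, 0, 19, 0], [], [1, 0, 21, 0], [-1, 0, 22, 0], [], [-1, 1, 21, 0], [], [-1, 3, 22, 0], [], [], [], [], [1, 6, 22, 0], [], [], [1, 11, 22, 0], [], []],
   [[-1, 2, 8, 0], [], [], [], [1, 0, 17, 0], [], [], [1, 0, 20, 0], [1, 0, 21, 0], [-1, 0, 22, 0], [], [], [-1, 2, 22, 0], [-1, 3, 22, 0], [], [], [], [], [1, 6, 22, 0], [], [], [], [1, 12, 21, 0], []],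
   [[], [1, 0, 14, 0], [-1, 0, 15, 0], [], [], [], [-1, 0, 19, 0], [1, 0, 20, 0], [], [], [-1, 1, 20, 0], [], [], [], [-1, 1, 23, 0], [1, 2, 23, 0], [], [], [], [1, 6, 23, 0], [-1, 7, 23, 0], [], [], []],
   [[], [1, 0, 14, 0], [], [-1, 0, 16, 0], [], [], [-1, 0, 19, 0], [], [1, 0, 21, 0], [], [], [-1, 1, 21, 0], [], [], [-1, 1, 23, 0], [], [1, 3, 23, 0], [], [], [1, 6, 23, 0], [], [-1, 8, 23, 0], [], []],
   [[], [], [-1, 0, 15, 0], [], [1, 0, 17, 0], [], [], [1, 0, 20, 0], [], [-1, 0, 22, 0], [], [], [-1, 2, 22, 0], [], [], [1, 2, 23, 0], [], [-1, 4, 23, 0], [], [], [-1, 7, 23, 0], [], [1, 9, 23, 0], []],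
   [[], [], [], [-1, 0, 16, 0], [1, 0, 17, 0], [], [], [], [1, 0, 21, 0], [-1, 0, 22, 0], [], [], [], [-1, 3, 22, 0], [], [], [1, 3, 23, 0], [-1, 4, 23, 0], [], [], [], [-1, 8, 23, 0], [1, 9, 23, 0], []],
   [[], [1, 2, 11, 0], [], [], [], [1, 1, 17, 0], [], [], [], [], [-1, 1, 20, 0], [-1, 1, 21, 0], [], [], [-1, 1, 23, 0], [1, 2, 23, 0], [1, 3, 23, 0], [], [], [1, 6, 23, 0], [], [], [], [-1, 15, 21, 0]],
   [[], [], [1, 1, 12, 0], [], [], [1, 1, 17, 0], [], [], [], [], [-1, 1, 20, 0], [], [-1, 2, 22, 0], [], [-1, 1, 23, 0], [1, 2, 23, 0], [], [-1, 4, 23, 0], [], [], [-1, 7, 23, 0], [], [], [1, 14, 22, 0]],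
   [[], [], [], [1, 1, 13, 0], [], [1, 1, 17, 0], [], [], [], [], [], [-1, 1, 21, 0], [], [-1, 3, 22, 0], [-1, 1, 23, 0], [], [1, 3, 23, 0], [-1, 4, 23, 0], [], [], [], [-1, 8, 23, 0], [], [1, 14, 22, 0]],
   [[], [], [], [], [1, 2, 13, 0], [1, 2, 16, 0], [], [], [], [], [], [], [-1, 2, 22, 0], [-1, 3, 22, 0], [], [1, 2, 23, 0], [1, 3, 23, 0], [-1, 4, 23, 0], [], [], [], [], [1, 9, 23, 0], [1, 14, 22, 0]],
   [[], [], [], [], [], [], [-1, 0, 19, 0], [1, 0, 20, 0], [1, 0, 21, 0], [-1, 0, 22, 0], [], [], [], [], [], [], [], [], [1, 6, 22, 0], [1, 6, 23, 0], [-1, 7, 23, 0], [-1, 8, 23, 0], [1, 9, 23, 0], []],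
   [[], [], [], [], [], [], [-1, 1, 18, 0], [], [], [], [-1, 1, 20, 0], [-1, 1, 21, 0], [], [], [-1, 1, 23, 0], [], [], [], [1, 6, 22, 0], [1, 6, 23, 0], [-1, 7, 23, 0], [-1, 8, 23, 0], [], [1, 14, 22, 0]],
   [[], [], [], [], [], [], [], [-1, 2, 18, 0], [], [], [-1, 2, 19, 0], [], [-1, 2, 22, 0], [], [], [1, 2, 23, 0], [], [], [1, 6, 22, 0], [1, 6, 23, 0], [-1, 7, 23, 0], [], [1, 9, 23, 0], [1, 14, 22, 0]],
   [[], [], [], [], [], [], [], [], [-1, 3, 18, 0], [], [], [-1, 3, 19, 0], [], [-1, 3, 22, 0], [], [], [1, 3, 23, 0], [], [1, 6, 22, 0], [1, 6, 23, 0], [], [-1, 8, 23, 0], [1, 9, 23, 0], [1, 14, 22, 0]],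
   [[], [], [], [], [], [], [], [], [], [-1, 4, 18, 0], [], [], [-1, 4, 20, 0], [-1, 4, 21, 0], [], [], [], [-1, 4, 23, 0], [1, 7, 21, 0], [], [-1, 7, 23, 0], [-1, 8, 23, 0], [1, 9, 23, 0], [-1, 15, 21, 0]],
   [[], [], [], [], [], [], [], [], [], [], [], [], [], [], [-1, 5, 19, 0], [-1, 5, 20, 0], [-1, 5, 21, 0], [-1, 5, 22, 0], [], [1, 10, 21, 0], [1, 10, 22, 0], [1, 11, 22, 0], [1, 12, 21, 0], [1, 14, 22, 0]]]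

def signTabD4S : List (List (List ℤ)) :=
  [[[], [], [], [], [], [1, 9, 4, 6, -1, 1, -1, 1, 2, -1, 0, 0, 0], [], [], [], [], [1, 9, 7, 3, -1, -1, -1, -1, 2, 0, 0, -1, 0], [1, 9, 8, 2, -1, -1, -1, -1, 2, 0, 0, 0, -1], [2, 8, 9, 1, 1, -1, 1, -1, -2, 0, 0, 0, -1], [3, 7, 9, 1, 1, -1, 1, -1, -2, 0, 0, -1, 0], [], [], [], [], [6, 4, 9, 1, 1, 1, 1, 1, -2, -1, 0, 0, 0], [], [], [], [], []],
   [[], [], [], [], [0, 14, 5, 6, -1, 1, -1, 1, 2, -1, -1, 0, 0], [], [], [0, 14, 10, 3, -1, -1, 1, 1, -2, -1, 0, 1, 0], [0, 14, 11, 2, -1, -1, 1, 1, -2, -1, 0, 0, 1], [], [], [], [], [], [], [2, 11, 14, 0, -1, -1, 1, 1, 2, -1, 0, 0, 1], [3, 10, 14, 0, -1, -1, 1, 1, 2, -1, 0, 1, 0], [], [], [6, 5, 14, 0, 1, 1, 1, 1, -2, -1, -1, 0, 0], [], [], [], []],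
   [[], [], [], [0, 15, 5, 7, 1, 1, -1, -1, 2, -1, 0, 0, -1], [], [], [0, 15, 10, 4, 1, -1, 1, -1, -2, -1, 0, 1, 0], [], [], [0, 15, 12, 1, 1, -1, 1, -1, 2, 0, -1, 0, 0], [], [], [], [], [1, 12, 15, 0, -1, -1, -1, -1, -2, 0, -1, 0, 0], [], [], [4, 10, 15, 0, -1, -1, -1, -1, 2, -1, 0, 1, 0], [], [], [7, 5, 15, 0, 1, 1, -1, -1, -2, -1, 0, 0, -1], [], [], []],
   [[], [], [0, 16, 5, 8, 1, 1, -1, -1, 2, -1, 0, -1, 0], [], [], [], [0, 16, 11, 4, 1, -1, 1, -1, -2, -1, 0, 0, 1], [], [], [0, 16, 13, 1, 1, -1, 1, -1, 2, 0, -1, 0, 0], [], [], [], [], [1, 13, 16, 0, -1, -1, -1, -1, -2, 0, -1, 0, 0], [], [], [4, 11, 16, 0, -1, -1, -1, -1, 2, -1, 0, 0, 1], [], [], [], [8, 5, 16, 0, 1, 1, -1, -1, -2, -1, 0, -1, 0], [], []],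
   [[], [0, 17, 5, 9, -1, 1, -1, 1, 2, -1, 0, -1, 0], [], [], [], [], [], [0, 17, 12, 3, -1, -1, 1, 1, -2, -1, 0, 0, -1], [0, 17, 13, 2, -1, -1, 1, 1, -2, -1, 0, -1, 0], [], [], [], [], [], [], [2, 13, 17, 0, -1, -1, 1, 1, 2, -1, 0, -1, 0], [3, 12, 17, 0, -1, -1, 1, 1, 2, -1, 0, 0, -1], [], [], [], [], [], [9, 5, 17, 0, 1, 1, 1, 1, -2, -1, 0, -1, 0], []],
   [[1, 17, 4, 14, -1, 1, -1, 1, 2, -1, -2, 0, 0], [], [], [], [], [], [], [], [], [], [1, 17, 15, 3, -1, 1, 1, -1, 2, 0, 0, -1, 0], [1, 17, 16, 2, -1, 1, 1, -1, 2, 0, 0, 0, -1], [2, 16, 17, 1, -1, 1, 1, -1, -2, 0, 0, 0, -1], [3, 15, 17, 1, -1, 1, 1, -1, -2, 0, 0, -1, 0], [], [], [], [], [], [], [], [], [], [14, 4, 17, 1, 1, 1, 1, 1, -2, -1, -2, 0, 0]],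
   [[], [], [0, 19, 10, 8, 1, -1, 1, -1, 2, -1, 0, -1, 0], [0, 19, 11, 7, 1, -1, 1, -1, 2, -1, 0, 0, -1], [], [], [], [], [], [0, 19, 18, 1, 1, 1, -1, -1, 2, 0, -1, 0, 0], [], [], [], [], [1, 18, 19, 0, 1, 1, -1, -1, -2, 0, -1, 0, 0], [], [], [], [], [], [7, 11, 19, 0, -1, -1, -1, -1, -2, -1, 0, 0, -1], [8, 10, 19, 0, -1, -1, -1, -1, -2, -1, 0, -1, 0], [], []],
   [[], [0, 20, 10, 9, -1, -1, 1, 1, 2, -1, 0, -1, 0], [], [], [0, 20, 12, 6, -1, -1, 1, 1, 2, -1, -1, 0, 0], [], [], [], [0, 20, 18, 2, -1, 1, -1, 1, -2, -1, 0, -1, 0], [], [], [], [], [], [], [2, 18, 20, 0, 1, 1, 1, 1, 2, -1, 0, -1, 0], [], [], [], [6, 12, 20, 0, -1, -1, 1, 1, -2, -1, -1, 0, 0], [], [], [9, 10, 20, 0, -1, -1, 1, 1, -2, -1, 0, -1, 0], []],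
   [[], [0, 21, 11, 9, -1, -1, 1, 1, 2, -1, 0, 0, -1], [], [], [0, 21, 13, 6, -1, -1, 1, 1, 2, -1, -1, 0, 0], [], [], [0, 21, 18, 3, -1, 1, -1, 1, -2, -1, 0, 0, -1], [], [], [], [], [], [], [], [], [3, 18, 21, 0, 1, 1, 1, 1, 2, -1, 0, 0, -1], [], [], [6, 13, 21, 0, -1, -1, 1, 1, -2, -1, -1, 0, 0], [], [], [9, 11, 21, 0, -1, -1, 1, 1, -2, -1, 0, 0, -1], []],
   [[], [], [0, 22, 12, 8, 1, -1, 1, -1, 2, -1, 0, 0, 1], [0, 22, 13, 7, 1, -1, 1, -1, 2, -1, 0, 1, 0], [], [], [0, 22, 18, 4, 1, 1, -1, -1, -2, -1, 0, 0, 1], [], [], [], [], [], [], [], [], [], [], [4, 18, 22, 0, 1, 1, -1, -1, 2, -1, 0, 0, 1], [], [], [7, 13, 22, 0, -1, -1, -1, -1, -2, -1, 0, 1, 0], [8, 12, 22, 0, -1, -1, -1, -1, -2, -1, 0, 0, 1], [], []],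
   [[1, 20, 7, 14, 1, 1, 1, 1, 2, 0, -2, -1, 0], [], [], [], [], [1, 20, 15, 6, 1, -1, -1, 1, 2, -1, 0, 0, 0], [], [], [], [], [], [1, 20, 19, 2, 1, 1, -1, -1, 2, 0, 0, 0, -1], [2, 19, 20, 1, 1, 1, -1, -1, -2, 0, 0, 0, -1], [], [], [], [], [], [6, 15, 20, 1, 1, -1, -1, 1, -2, -1, 0, 0, 0], [], [], [], [], [14, 7, 20, 1, -1, 1, -1, 1, -2, 0, -2, -1, 0]],
   [[1, 21, 8, 14, 1, 1, 1, 1, 2, 0, -2, 0, -1], [], [], [], [], [1, 21, 16, 6, 1, -1, -1, 1, 2, -1, 0, 0, 0], [], [], [], [], [1, 21, 19, 3, 1, 1, -1, -1, 2, 0, 0, -1, 0], [], [], [3, 19, 21, 1, 1, 1, -1, -1, -2, 0, 0, -1, 0], [], [], [], [], [6, 16, 21, 1, 1, -1, -1, 1, -2, -1, 0, 0, 0], [], [], [], [], [14, 8, 21, 1, -1, 1, -1, 1, -2, 0, -2, 0, -1]],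
   [[2, 22, 9, 15, 1, -1, 1, -1, 2, 0, -2, 0, -1], [], [], [], [], [2, 22, 17, 7, 1, -1, -1, 1, 2, -1, 0, 0, 0], [], [], [], [], [2, 22, 20, 4, 1, 1, -1, -1, 2, 0, 0, -1, 0], [], [], [4, 20, 22, 2, 1, 1, -1, -1, -2, 0, 0, -1, 0], [], [], [], [], [7, 17, 22, 2, 1, -1, -1, 1, -2, -1, 0, 0, 0], [], [], [], [], [15, 9, 22, 2, -1, -1, -1, -1, -2, 0, -2, 0, -1]],
   [[3, 22, 9, 16, 1, -1, 1, -1, 2, 0, -2, -1, 0], [], [], [], [], [3, 22, 17, 8, 1, -1, -1, 1, 2, -1, 0, 0, 0], [], [], [], [], [], [3, 22, 21, 4, 1, 1, -1, -1, 2, 0, 0, 0, -1], [4, 21, 22, 3, 1, 1, -1, -1, -2, 0, 0, 0, -1], [], [], [], [], [], [8, 17, 22, 3, 1, -1, -1, 1, -2, -1, 0, 0, 0], [], [], [], [], [16, 9, 22, 3, -1, -1, -1, -1, -2, 0, -2, -1, 0]],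
   [[], [], [1, 23, 15, 11, 1, 1, 1, 1, 2, -1, 0, 0, 1], [1, 23, 16, 10, 1, 1, 1, 1, 2, -1, 0, 1, 0], [], [], [1, 23, 19, 5, 1, 1, -1, -1, -2, -1, 0, 0, 1], [], [], [], [], [], [], [], [], [], [], [5, 19, 23, 1, 1, 1, -1, -1, 2, -1, 0, 0, 1], [], [], [10, 16, 23, 1, -1, 1, -1, 1, -2, -1, 0, 1, 0], [11, 15, 23, 1, -1, 1, -1, 1, -2, -1, 0, 0, 1], [], []],
   [[], [2, 23, 14, 12, -1, -1, 1, 1, 2, -1, 0, 0, -1], [], [], [2, 23, 17, 10, -1, -1, 1, 1, 2, -1, -1, 0, 0], [], [], [2, 23, 20, 5, -1, -1, -1, -1, -2, -1, 0, 0, -1], [], [], [], [], [], [], [], [], [5, 20, 23, 2, 1, -1, 1, -1, 2, -1, 0, 0, -1], [], [], [10, 17, 23, 2, -1, -1, 1, 1, -2, -1, -1, 0, 0], [], [], [12, 14, 23, 2, -1, -1, 1, 1, -2, -1, 0, 0, -1], []],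
   [[], [3, 23, 14, 13, -1, -1, 1, 1, 2, -1, 0, -1, 0], [], [], [3, 23, 17, 11, -1, -1, 1, 1, 2, -1, -1, 0, 0], [], [], [], [3, 23, 21, 5, -1, -1, -1, -1, -2, -1, 0, -1, 0], [], [], [], [], [], [], [5, 21, 23, 3, 1, -1, 1, -1, 2, -1, 0, -1, 0], [], [], [], [11, 17, 23, 3, -1, -1, 1, 1, -2, -1, -1, 0, 0], [], [], [13, 14, 23, 3, -1, -1, 1, 1, -2, -1, 0, -1, 0], []],
   [[], [], [4, 23, 15, 13, 1, 1, 1, 1, 2, -1, 0, -1, 0], [4, 23, 16, 12, 1, 1, 1, 1, 2, -1, 0, 0, -1], [], [], [], [], [], [4, 23, 22, 5, 1, 1, -1, -1, 2, 0, -1, 0, 0], [], [], [], [], [5, 22, 23, 4, 1, 1, -1, -1, -2, 0, -1, 0, 0], [], [], [], [], [], [12, 16, 23, 4, -1, 1, -1, 1, -2, -1, 0, 0, -1], [13, 15, 23, 4, -1, 1, -1, 1, -2, -1, 0, -1, 0], [], []],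
   [[6, 22, 9, 19, -1, -1, -1, -1, 2, -1, -2, 0, 0], [], [], [], [], [], [], [], [], [], [6, 22, 20, 8, -1, 1, 1, -1, 2, 0, 0, -1, 0], [6, 22, 21, 7, -1, 1, 1, -1, 2, 0, 0, 0, -1], [7, 21, 22, 6, -1, 1, 1, -1, -2, 0, 0, 0, -1], [8, 20, 22, 6, -1, 1, 1, -1, -2, 0, 0, -1, 0], [], [], [], [], [], [], [], [], [], [19, 9, 22, 6, 1, -1, 1, -1, -2, -1, -2, 0, 0]],
   [[], [6, 23, 14, 18, -1, -1, -1, -1, 2, -1, 0, -1, 0], [], [], [], [], [], [6, 23, 20, 11, -1, -1, 1, 1, -2, -1, 0, 0, -1], [6, 23, 21, 10, -1, -1, 1, 1, -2, -1, 0, -1, 0], [], [], [], [], [], [], [10, 21, 23, 6, -1, -1, 1, 1, 2, -1, 0, -1, 0], [11, 20, 23, 6, -1, -1, 1, 1, 2, -1, 0, 0, -1], [], [], [], [], [], [18, 14, 23, 6, 1, -1, 1, -1, -2, -1, 0, -1, 0], []],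
   [[], [], [7, 23, 15, 18, 1, 1, -1, -1, 2, -1, 0, -1, 0], [], [], [], [7, 23, 19, 12, 1, 1, 1, 1, -2, -1, 0, 0, 1], [], [], [7, 23, 22, 10, 1, 1, 1, 1, 2, 0, -1, 0, 0], [], [], [], [], [10, 22, 23, 7, -1, 1, -1, 1, -2, 0, -1, 0, 0], [], [], [12, 19, 23, 7, -1, 1, -1, 1, 2, -1, 0, 0, 1], [], [], [], [18, 15, 23, 7, 1, 1, -1, -1, -2, -1, 0, -1, 0], [], []],
   [[], [], [], [8, 23, 16, 18, 1, 1, -1, -1, 2, -1, 0, 0, -1], [], [], [8, 23, 19, 13, 1, 1, 1, 1, -2, -1, 0, 1, 0], [], [], [8, 23, 22, 11, 1, 1, 1, 1, 2, 0, -1, 0, 0], [], [], [], [], [11, 22, 23, 8, -1, 1, -1, 1, -2, 0, -1, 0, 0], [], [], [13, 19, 23, 8, -1, 1, -1, 1, 2, -1, 0, 1, 0], [], [], [18, 16, 23, 8, 1, 1, -1, -1, -2, -1, 0, 0, -1], [], [], []],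
   [[], [], [], [], [9, 23, 17, 18, -1, -1, -1, -1, 2, -1, -1, 0, 0], [], [], [9, 23, 20, 13, -1, -1, 1, 1, -2, -1, 0, 1, 0], [9, 23, 21, 12, -1, -1, 1, 1, -2, -1, 0, 0, 1], [], [], [], [], [], [], [12, 21, 23, 9, -1, -1, 1, 1, 2, -1, 0, 0, 1], [13, 20, 23, 9, -1, -1, 1, 1, 2, -1, 0, 1, 0], [], [], [18, 17, 23, 9, 1, -1, 1, -1, -2, -1, -1, 0, 0], [], [], [], []],
   [[], [], [], [], [], [14, 22, 17, 19, -1, -1, -1, -1, 2, -1, 0, 0, 0], [], [], [], [], [14, 22, 20, 16, -1, 1, -1, 1, 2, 0, 0, -1, 0], [14, 22, 21, 15, -1, 1, -1, 1, 2, 0, 0, 0, -1], [15, 21, 22, 14, 1, 1, 1, 1, -2, 0, 0, 0, -1], [16, 20, 22, 14, 1, 1, 1, 1, -2, 0, 0, -1, 0], [], [], [], [], [19, 17, 22, 14, 1, -1, 1, -1, -2, -1, 0, 0, 0], [], [], [], [], []]]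

/-- the torus cocharacter for a non-commuting pair -/
def kvD4S (r s : ℕ) : List ℤ := (killTabD4S.getD r []).getD s []

/-- the certificate for a commuting pair -/
def ctD4S (r s : ℕ) : List ℤ := (certTabD4S.getD r []).getD s []

/-- the sign certificate for an orthogonal pair -/
def stD4S (r s : ℕ) : List ℤ := (signTabD4S.getD r []).getD s []

end Cfsg.Agent.Helper6.CExt
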