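import Mathlib
import Cfsg.Agent.Lib.Helper6.CExtHybS
import Cfsg.Agent.Lib.Helper6.CExtD4
import Cfsg.Agent.Lib.Helper6.CExtD4SData

/-!
# The table facts for the hybrid argument with sign certificates, type D4
-/

set_option autoImplicit false
set_option maxRecDepth 1000000
set_option maxHeartbeats 0

namespace Cfsg.Agent.Helper6.CExt

open Cfsg Cfsg.Lie Cfsg.Agent.Helper6.StC

theorem d4s_unit : (List.range chevD4.nroots).all (unitChk chevD4 unitTabD4) = true := by decide

theorem d4s_kill : (List.range chevD4.nroots).all (killChkH chevD4 kvD4S) = true := by decide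

theorem d4s_cert : (List.range chevD4.nroots).all (certChkS chevD4 ctD4S stD4S) = true := by decide

theorem hybTabS_D4 : HybTabS chevD4 :=
  hybTabS_of_chk chevD4 unitTabD4 kvD4S ctD4S stD4S wordsD4 lwD4 d4_words d4_lw d4s_unit d4s_kill
    d4s_cert d4_pair

end Cfsg.Agent.Helper6.CExt
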