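import Mathlib
import Cfsg.Agent.Lib.Helper6.CExtStein

/-!
# Checking the tables for the commutator-calculus lifting argument
-/

set_option autoImplicit false
set_option linter.unusedSectionVars false
set_option linter.unusedVariables false

namespace Cfsg.Agent.Helper6.CExt

open Cfsg Cfsg.Lie

/-- decoding a natural number as a table entry: `0 ↦ 0`, `2 k ↦ k`, `2 k + 1 ↦ - k` -/
def decEntry (e : ℕ) : ℤ := if e % 2 = 0 then ((e / 2 : ℕ) : ℤ) else -((e / 2 : ℕ) : ℤ)

/-- lookup in a table whose rows are packed into natural numbers, 16 bits per entry -/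
def getP (rows : List ℕ) (r s : ℕ) : ℕ := ((rows.getD r 0) >>> (16 * s)) % 65536

/-- table lookup -/
def smOf (rows : List ℕ) (r s : ℕ) : ℤ := decEntry (getP rows r s)

/-- table lookup: a pair packed as `256 c + d` -/
def pairOf (rows : List ℕ) (r s : ℕ) : ℕ × ℕ := (getP rows r s / 256, getP rows r s % 256)

variable (D : ChevalleyDatum) (sm : ℕ → ℕ → ℤ)

def cmB (r c : ℕ) : Bool := decide (c = r) || (decide (c ≠ D.neg r) && decide (sm r c = 0))

theorem cmB_iff (r c : ℕ) : cmB D sm r c = true ↔ Cm D sm r c := by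
  simp [cmB, Cm]

def smB (r s p : ℕ) : Bool :=
  decide (s ≠ r) && decide (s ≠ D.neg r) && decide (sm r s ≠ 0) && decide (smRoot (sm r s) = p)

theorem smB_iff (r s p : ℕ) : smB D sm r s p = true ↔ Sm D sm r s p := by
  simp [smB, Sm, and_assoc]

def confB (r q d c s p : ℕ) : Bool :=
  decide (q < D.nroots) && smB D sm r q c && smB D sm q d s && smB D sm c d p && smB D sm r s p &&
    decide (d ≠ r) && cmB D sm r d && cmB D sm p q && cmB D sm p r

theorem confB_iff (r q d c s p : ℕ) : confB D sm r q d c s p = true ↔ Conf D sm r q d c s p := by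
  unfold confB Conf
  simp only [Bool.and_eq_true, decide_eq_true_eq, smB_iff, cmB_iff, and_assoc]

def sumChk (r : ℕ) : Bool :=
  (List.range D.nroots).all fun s => decide (s = r) || decide (s = D.neg r) ||
    decide (D.commTerms r s = decSum (sm r s))

def ltChk (r : ℕ) : Bool :=
  (List.range D.nroots).all fun s => decide (sm r s = 0) || decide (smRoot (sm r s) < D.nroots)

def decompChk (dw : ℕ → ℕ → ℕ × ℕ) (r : ℕ) : Bool :=
  (List.range D.nroots).all fun s => !(cmB D sm r s) ||
    (decide ((dw r s).1 < D.nroots) && decide ((dw r s).2 < D.nroots) &&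
      smB D sm (dw r s).1 (dw r s).2 s && cmB D sm r (dw r s).1 && cmB D sm r (dw r s).2)

def fixedChk (dec : ℕ → ℕ × ℕ) (fw : ℕ → ℕ × ℕ × ℕ) (p : ℕ) : Bool :=
  decide ((dec p).1 < D.nroots) && decide ((dec p).2 < D.nroots) && smB D sm (dec p).1 (dec p).2 p &&
    cmB D sm p (dec p).2 && decide ((fw p).1 < D.nroots) && decide ((fw p).2.2 < D.nroots) &&
    confB D sm (fw p).1 (fw p).2.1 (dec p).2 (dec p).1 (fw p).2.2 p

def linkB (dec : ℕ → ℕ × ℕ) (lw : ℕ → ℕ → ℕ) (r s p : ℕ) : Bool :=
  (decide (r = (dec p).1) && decide (s = (dec p).2)) || confB D sm r (lw r s) (dec p).2 (dec p).1 s p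

def linkChk (dec : ℕ → ℕ × ℕ) (lw : ℕ → ℕ → ℕ) (r : ℕ) : Bool :=
  (List.range D.nroots).all fun s => decide (s = r) || decide (s = D.neg r) || decide (sm r s = 0) ||
    (linkB D sm dec lw r s (smRoot (sm r s)) || linkB D sm dec lw s r (smRoot (sm r s)))

theorem linkB_imp (dec : ℕ → ℕ × ℕ) (lw : ℕ → ℕ → ℕ) (r s p : ℕ)
    (h : linkB D sm dec lw r s p = true) : LinkOK D sm dec r s p := by
  unfold linkB at h
  simp only [Bool.or_eq_true, Bool.and_eq_true, decide_eq_true_eq, confB_iff] at h
  rcases h with h | h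
  · exact Or.inl h
  · exact Or.inr ⟨_, h⟩

theorem steinTab_of_chk (dec : ℕ → ℕ × ℕ) (dw : ℕ → ℕ → ℕ × ℕ) (fw : ℕ → ℕ × ℕ × ℕ)
    (lw : ℕ → ℕ → ℕ)
    (h1 : ∀ r < D.nroots, sumChk D sm r = true) (h2 : ∀ r < D.nroots, ltChk D sm r = true)
    (h3 : ∀ r < D.nroots, decompChk D sm dw r = true)
    (h4 : ∀ p < D.nroots, fixedChk D sm dec fw p = true)
    (h5 : ∀ r < D.nroots, linkChk D sm dec lw r = true) : SteinTab D sm dec := by
  refine ⟨?_, ?_, ?_, ?_, ?_⟩
  · intro r hr s hs hne hne'
    have h := h1 r hr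
    unfold sumChk at h
    rw [List.all_eq_true] at h
    have h' := h s (List.mem_range.2 hs)
    simp only [Bool.or_eq_true, decide_eq_true_eq] at h'
    rcases h' with (h' | h') | h'
    · exact absurd h' hne
    · exact absurd h' hne'
    · exact h'
  · intro r hr s hs hne
    have h := h2 r hr
    unfold ltChk at h
    rw [List.all_eq_true] at h
    have h' := h s (List.mem_range.2 hs)
    simp only [Bool.or_eq_true, decide_eq_true_eq] at h'
    rcases h' with h' | h'
    · exact absurd h' hne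
    · exact h'
  · intro r hr s hs hcm
    have h := h3 r hr
    unfold decompChk at h
    rw [List.all_eq_true] at h
    have h' := h s (List.mem_range.2 hs)
    rw [← cmB_iff] at hcm
    simp only [hcm, Bool.not_true, Bool.false_or, Bool.and_eq_true, decide_eq_true_eq, smB_iff,
      cmB_iff] at h'
    obtain ⟨⟨⟨⟨e1, e2⟩, e3⟩, e4⟩, e5⟩ := h'
    exact ⟨_, e1, _, e2, e3, e4, e5⟩
  · intro p hp
    have h := h4 p hp
    unfold fixedChk at h
    simp only [Bool.and_eq_true, decide_eq_true_eq, smB_iff, cmB_iff, confB_iff] at h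
    obtain ⟨⟨⟨⟨⟨⟨e1, e2⟩, e3⟩, e4⟩, e5⟩, e6⟩, e7⟩ := h
    exact ⟨e1, e2, e3, e4, _, _, _, e5, e6, e7⟩
  · intro r hr s hs p hS
    obtain ⟨hne, hne', h0, rfl⟩ := hS
    have h := h5 r hr
    unfold linkChk at h
    rw [List.all_eq_true] at h
    have h' := h s (List.mem_range.2 hs)
    simp only [Bool.or_eq_true, decide_eq_true_eq] at h'
    rcases h' with ((h' | h') | h') | h'
    · exact absurd h' hne
    · exact absurd h' hne'
    · exact absurd h' h0
    · rcases h' with h' | h'
      · exact Or.inl (linkB_imp D sm dec lw _ _ _ h')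
      · exact Or.inr (linkB_imp D sm dec lw _ _ _ h')

/-- assembling chunked checks -/
theorem forall_lt_of_chunks (n k : ℕ) (P : ℕ → Bool)
    (h : ∀ j < k, ((List.range' (j * n) n).all P) = true) : ∀ r < k * n, P r = true := by
  intro r hr
  have hn : 0 < n := by
    rcases Nat.eq_zero_or_pos n with h0 | h0
    · subst h0; simp at hr
    · exact h0
  have hj : r / n < k := by
    rw [Nat.div_lt_iff_lt_mul hn]
    exact hr
  have := h (r / n) hj
  rw [List.all_eq_true] at this
  apply this
  rw [List.mem_range']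
  refine ⟨r % n, Nat.mod_lt _ hn, ?_⟩
  rw [mul_comm, one_mul]
  exact (Nat.div_add_mod r n).symm

end Cfsg.Agent.Helper6.CExt
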