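import Mathlib
import Cfsg.Agent.Lib.Helper6.CExtE6Defs

/-!
Type E6: the sums of roots are roots, and the distinguished decompositions.
-/

set_option autoImplicit false
set_option maxRecDepth 1000000
set_option maxHeartbeats 0

namespace Cfsg.Agent.Helper6.CExt

open Cfsg Cfsg.Lie

theorem e6_lt : ∀ r < chevE6.nroots, ltChk chevE6 smE6 r = true := by decide

theorem e6_fixed : ∀ p < chevE6.nroots, fixedChk chevE6 smE6 decE6 fwE6 p = true := by decide

end Cfsg.Agent.Helper6.CExt
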