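import Mathlib
import Cfsg.Agent.Lib.Helper6.CExtE6Defs
import Cfsg.Agent.Lib.Helper6.CExtE6Sum0
import Cfsg.Agent.Lib.Helper6.CExtE6Dec0
import Cfsg.Agent.Lib.Helper6.CExtE6Lnk0
import Cfsg.Agent.Lib.Helper6.CExtE6Lt

/-!
# The table facts for the commutator-calculus lifting argument, type E6
-/

set_option autoImplicit false

namespace Cfsg.Agent.Helper6.CExt

open Cfsg Cfsg.Lie

theorem e6_nroots : chevE6.nroots = 72 := by decide

theorem e6_sum : ∀ r < chevE6.nroots, sumChk chevE6 smE6 r = true := by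
  have h : ∀ j < 1, ((List.range' (j * 72) 72).all (sumChk chevE6 smE6)) = true := by
    intro j hj
    interval_cases j
    · exact e6_sum_0
  rw [e6_nroots]
  exact forall_lt_of_chunks 72 1 _ h

theorem e6_decomp : ∀ r < chevE6.nroots, decompChk chevE6 smE6 dwE6 r = true := by
  have h : ∀ j < 1, ((List.range' (j * 72) 72).all (decompChk chevE6 smE6 dwE6)) = true := by
    intro j hj
    interval_cases j
    · exact e6_decomp_0
  rw [e6_nroots]
  exact forall_lt_of_chunks 72 1 _ h

theorem e6_link : ∀ r < chevE6.nroots, linkChk chevE6 smE6 decE6 lwE6 r = true := by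
  have h : ∀ j < 1, ((List.range' (j * 72) 72).all (linkChk chevE6 smE6 decE6 lwE6)) = true := by
    intro j hj
    interval_cases j
    · exact e6_link_0
  rw [e6_nroots]
  exact forall_lt_of_chunks 72 1 _ h

theorem steinTab_E6 : SteinTab chevE6 smE6 decE6 :=
  steinTab_of_chk chevE6 smE6 decE6 dwE6 fwE6 lwE6 e6_sum e6_lt e6_decomp e6_fixed e6_link

end Cfsg.Agent.Helper6.CExt
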