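import Mathlib
import Cfsg.Agent.Lib.Helper6.CExtSteinChk
import Cfsg.Agent.Lib.Helper6.CExtE7Data

/-!
The tables for the commutator-calculus lifting argument, type E7, as functions.
-/

set_option autoImplicit false

namespace Cfsg.Agent.Helper6.CExt

/-- the sums of roots -/
def smE7 : ℕ → ℕ → ℤ := smOf smRowsE7

/-- the distinguished decompositions -/
def decE7 (p : ℕ) : ℕ × ℕ := decTabE7.getD p (0, 0)

/-- decompositions commuting with a given root -/
def dwE7 : ℕ → ℕ → ℕ × ℕ := pairOf dwRowsE7

/-- configurations containing the distinguished decompositions -/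
def fwE7 (p : ℕ) : ℕ × ℕ × ℕ := fwTabE7.getD p (0, 0, 0)

/-- configurations linking a decomposition to the distinguished one -/
def lwE7 : ℕ → ℕ → ℕ := getP lwRowsE7

end Cfsg.Agent.Helper6.CExt
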