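import Mathlib
import Cfsg.Agent.Lib.Helper6.CExtE7Defs

/-!
Type E7: the sums of roots are roots, and the distinguished decompositions.
-/

set_option autoImplicit false
set_option maxRecDepth 1000000
set_option maxHeartbeats 0

namespace Cfsg.Agent.Helper6.CExt

open Cfsg Cfsg.Lie

theorem e7_lt : ∀ r < chevE7.nroots, ltChk chevE7 smE7 r = true := by decide

theorem e7_fixed : ∀ p < chevE7.nroots, fixedChk chevE7 smE7 decE7 fwE7 p = true := by decide

end Cfsg.Agent.Helper6.CExt
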