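import Mathlib
import Cfsg.Agent.Lib.Helper6.CExtE7Defs
import Cfsg.Agent.Lib.Helper6.CExtE7Sum0
import Cfsg.Agent.Lib.Helper6.CExtE7Sum1
import Cfsg.Agent.Lib.Helper6.CExtE7Sum2
import Cfsg.Agent.Lib.Helper6.CExtE7Dec0
import Cfsg.Agent.Lib.Helper6.CExtE7Lnk0
import Cfsg.Agent.Lib.Helper6.CExtE7Lt

/-!
# The table facts for the commutator-calculus lifting argument, type E7
-/

set_option autoImplicit false

namespace Cfsg.Agent.Helper6.CExt

open Cfsg Cfsg.Lie

theorem e7_nroots : chevE7.nroots = 126 := by decide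

theorem e7_sum : ∀ r < chevE7.nroots, sumChk chevE7 smE7 r = true := by
  have h : ∀ j < 3, ((List.range' (j * 42) 42).all (sumChk chevE7 smE7)) = true := by
    intro j hj
    interval_cases j
    · exact e7_sum_0
    · exact e7_sum_1
    · exact e7_sum_2
  rw [e7_nroots]
  exact forall_lt_of_chunks 42 3 _ h

theorem e7_decomp : ∀ r < chevE7.nroots, decompChk chevE7 smE7 dwE7 r = true := by
  have h : ∀ j < 1, ((List.range' (j * 126) 126).all (decompChk chevE7 smE7 dwE7)) = true := by
    intro j hj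
    interval_cases j
    · exact e7_decomp_0
  rw [e7_nroots]
  exact forall_lt_of_chunks 126 1 _ h

theorem e7_link : ∀ r < chevE7.nroots, linkChk chevE7 smE7 decE7 lwE7 r = true := by
  have h : ∀ j < 1, ((List.range' (j * 126) 126).all (linkChk chevE7 smE7 decE7 lwE7)) = true := by
    intro j hj
    interval_cases j
    · exact e7_link_0
  rw [e7_nroots]
  exact forall_lt_of_chunks 126 1 _ h

theorem steinTab_E7 : SteinTab chevE7 smE7 decE7 :=
  steinTab_of_chk chevE7 smE7 decE7 dwE7 fwE7 lwE7 e7_sum e7_lt e7_decomp e7_fixed e7_link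

end Cfsg.Agent.Helper6.CExt
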