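import Mathlib
import Cfsg.Agent.Lib.Helper6.CExtE8Defs

/-!
Type E8: every decomposition of a root is linked to the distinguished one; rows 0 to 59.
-/

set_option autoImplicit false
set_option maxRecDepth 1000000
set_option maxHeartbeats 0

namespace Cfsg.Agent.Helper6.CExt

open Cfsg Cfsg.Lie

theorem e8_link_0 : ((List.range' (0 * 60) 60).all (linkChk chevE8 smE8 decE8 lwE8)) = true := by
  decide

end Cfsg.Agent.Helper6.CExt
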