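import Mathlib
import Cfsg.Agent.Lib.Helper6.CExtE8Defs

/-!
Type E8: the sums of roots are roots, and the distinguished decompositions.
-/

set_option autoImplicit false
set_option maxRecDepth 1000000
set_option maxHeartbeats 0

namespace Cfsg.Agent.Helper6.CExt

open Cfsg Cfsg.Lie

theorem e8_lt : ∀ r < chevE8.nroots, ltChk chevE8 smE8 r = true := by decide

theorem e8_fixed : ∀ p < chevE8.nroots, fixedChk chevE8 smE8 decE8 fwE8 p = true := by decide

end Cfsg.Agent.Helper6.CExt
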