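import Mathlib
import Cfsg.Agent.Lib.Helper6.CExtSteinChk
import Cfsg.Agent.Lib.Helper6.CExtE8Data

/-!
The table of sums of roots of type E8 agrees with the commutator formula: rows 0 to 29.
-/

set_option autoImplicit false
set_option maxRecDepth 1000000
set_option maxHeartbeats 0

namespace Cfsg.Agent.Helper6.CExt

open Cfsg Cfsg.Lie

theorem e8_sum_0 : ((List.range' (0 * 30) 30).all (sumChk chevE8 (smOf smRowsE8))) = true := by
  decide

end Cfsg.Agent.Helper6.CExt
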