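import Mathlib
import Cfsg.Agent.Lib.Helper6.CExtE8Defs
import Cfsg.Agent.Lib.Helper6.CExtE8Sum0
import Cfsg.Agent.Lib.Helper6.CExtE8Sum1
import Cfsg.Agent.Lib.Helper6.CExtE8Sum2
import Cfsg.Agent.Lib.Helper6.CExtE8Sum3
import Cfsg.Agent.Lib.Helper6.CExtE8Sum4
import Cfsg.Agent.Lib.Helper6.CExtE8Sum5
import Cfsg.Agent.Lib.Helper6.CExtE8Sum6
import Cfsg.Agent.Lib.Helper6.CExtE8Sum7
import Cfsg.Agent.Lib.Helper6.CExtE8Dec0
import Cfsg.Agent.Lib.Helper6.CExtE8Dec1
import Cfsg.Agent.Lib.Helper6.CExtE8Dec2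
import Cfsg.Agent.Lib.Helper6.CExtE8Dec3
import Cfsg.Agent.Lib.Helper6.CExtE8Lnk0
import Cfsg.Agent.Lib.Helper6.CExtE8Lnk1
import Cfsg.Agent.Lib.Helper6.CExtE8Lnk2
import Cfsg.Agent.Lib.Helper6.CExtE8Lnk3
import Cfsg.Agent.Lib.Helper6.CExtE8Lt

/-!
# The table facts for the commutator-calculus lifting argument, type E8
-/

set_option autoImplicit false

namespace Cfsg.Agent.Helper6.CExt

open Cfsg Cfsg.Lie

theorem e8_nroots : chevE8.nroots = 240 := by decide

theorem e8_sum : ∀ r < chevE8.nroots, sumChk chevE8 smE8 r = true := by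
  have h : ∀ j < 8, ((List.range' (j * 30) 30).all (sumChk chevE8 smE8)) = true := by
    intro j hj
    interval_cases j
    · exact e8_sum_0
    · exact e8_sum_1
    · exact e8_sum_2
    · exact e8_sum_3
    · exact e8_sum_4
    · exact e8_sum_5
    · exact e8_sum_6
    · exact e8_sum_7
  rw [e8_nroots]
  exact forall_lt_of_chunks 30 8 _ h

theorem e8_decomp : ∀ r < chevE8.nroots, decompChk chevE8 smE8 dwE8 r = true := by
  have h : ∀ j < 4, ((List.range' (j * 60) 60).all (decompChk chevE8 smE8 dwE8)) = true := by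
    intro j hj
    interval_cases j
    · exact e8_decomp_0
    · exact e8_decomp_1
    · exact e8_decomp_2
    · exact e8_decomp_3
  rw [e8_nroots]
  exact forall_lt_of_chunks 60 4 _ h

theorem e8_link : ∀ r < chevE8.nroots, linkChk chevE8 smE8 decE8 lwE8 r = true := by
  have h : ∀ j < 4, ((List.range' (j * 60) 60).all (linkChk chevE8 smE8 decE8 lwE8)) = true := by
    intro j hj
    interval_cases j
    · exact e8_link_0
    · exact e8_link_1
    · exact e8_link_2
    · exact e8_link_3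
  rw [e8_nroots]
  exact forall_lt_of_chunks 60 4 _ h

theorem steinTab_E8 : SteinTab chevE8 smE8 decE8 :=
  steinTab_of_chk chevE8 smE8 decE8 dwE8 fwE8 lwE8 e8_sum e8_lt e8_decomp e8_fixed e8_link

end Cfsg.Agent.Helper6.CExt
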