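import Mathlib

/-!
Generated tables for the hybrid argument, type F4.
-/

set_option autoImplicit false

namespace Cfsg.Agent.Helper6.CExt

def unitTabF4 : List (List ℤ) :=
  [[0, 0, 0, -1], [0, 0, 0, 1], [0, 0, 1, 0], [-1, 0, 0, 0], [0, 0, -1, 0], [0, 0, 0, -1], [0, 0, 0, 1], [0, -1, 0, 0], [0, 0, -1, 0], [0, 0, 0, -1], [0, 0, 0, 1], [0, 0, 0, -1], [0, 0, 0, 1], [0, 0, 1, 0], [0, 1, 0, 0], [0, 0, -1, 0], [0, 0, 0, -1], [0, 0, 0, 1], [0, 0, 0, -1], [0, 0, 0, 1], [0, 0, 1, 0], [0, 0, 0, -1], [0, 0, 0, 1], [0, 0, 1, 0], [0, 0, -1, 0], [0, 0, 0, -1], [0, 0, 0, 1], [0, 0, -1, 0], [0, 0, 0, -1], [0, 0, 0, 1], [0, 0, 0, -1], [0, 0, 0, 1], [0, 0, 1, 0], [0, -1, 0, 0], [0, 0, -1, 0], [0, 0, 0, -1], [0, 0, 0, 1], [0, 0, 0, -1], [0, 0, 0, 1], [0, 0, 1, 0], [0, 1, 0, 0], [0, 0, 0, -1], [0, 0,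 0, 1], [0, 0, 1, 0], [1, 0, 0, 0], [0, 0, -1, 0], [0, 0, 0, -1], [0, 0, 0, 1]]

def killTabF4 : List (List (List ℤ)) :=
  [[[], [], [], [], [], [], [], [], [], [], [], [], [], [], [], [], [], [], [], [], [], [], [], [], [0, 0, 1, 0], [], [0, 0, 1, 0], [], [], [1, 0, 0, 0], [], [0, 0, 1, 0], [0, 0, 1, 0], [], [], [], [0, 1, 0, 0], [], [0, 0, 1, 0], [0, 0, 1, 0], [0, 1, 0, 0], [], [0, 0, 1, 0], [0, 0, 1, 0], [1, 0, 0, 0], [0, 0, 1, 0], [0, 0, 1, 0], []],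
   [[], [], [], [], [], [], [], [], [], [], [], [], [], [], [], [], [], [], [], [], [], [], [], [0, 0, 1, 1], [], [0, 0, 1, 1], [], [], [1, 0, 0, 0], [], [0, 0, 1, 1], [], [0, 0, 1, 1], [], [], [0, 1, 0, 0], [], [0, 1, 0, 0], [], [0, 1, 0, 0], [0, 1, 0, 0], [0, 0, 1, 1], [], [0, 0, 1, 1], [1, 0, 0, 0], [0, 0, 1, 1], [], [0, 0, 1, 1]],
   [[], [], [], [], [], [], [], [], [], [], [], [], [], [], [], [], [], [], [], [], [], [0, 0, 0, 1], [0, 0, 0, 1], [], [], [], [], [1, 0, 0, 0], [], [], [0, 0, 0, 1], [0, 0, 0, 1], [], [], [1, 0, 0, 0], [], [], [0, 0, 0, 1], [0, 0, 0, 1], [], [1, 0, 0, 0], [0, 0, 0, 1], [0, 0, 0, 1], [], [1, 0, 0, 0], [], [0, 0, 0, 1], [0, 0, 0, 1]],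
   [[], [], [], [], [], [], [], [], [], [], [], [], [], [], [], [], [], [], [0, 0, 0, 1], [0, 0, 0, 1], [0, 0, 1, 0], [], [], [], [], [], [], [0, 0, 1, 0], [0, 0, 0, 1], [0, 0, 0, 1], [], [], [], [0, 1, 0, 0], [0, 0, 1, 0], [0, 0, 0, 1], [0, 0, 0, 1], [0, 0, 0, 1], [0, 0, 0, 1], [0, 0, 1, 0], [0, 1, 0, 0], [0, 0, 0, 1], [0, 0, 0, 1], [0, 0, 1, 0], [], [0, 0, 1, 0], [0, 0, 0, 1], [0, 0, 0, 1]],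
   [[], [], [], [], [], [], [], [], [], [], [], [], [], [], [], [], [0, 0, 0, 1], [0, 0, 0, 1], [], [], [1, 1, 0, 0], [], [], [], [], [0, 0, 0, 1], [0, 0, 0, 1], [], [], [], [], [], [], [1, 1, 0, 0], [], [0, 0, 0, 1], [0, 0, 0, 1], [], [], [1, 1, 0, 0], [], [0, 0, 0, 1], [0, 0, 0, 1], [], [1, 1, 0, 0], [], [0, 0, 0, 1], [0, 0, 0, 1]],
   [[], [], [], [], [], [], [], [], [], [], [], [], [], [], [], [0, 0, 1, 1], [], [0, 0, 1, 1], [], [1, 0, 0, -2], [], [], [0, 0, 1, 1], [], [0, 0, 1, 1], [], [], [], [], [], [], [], [], [0, 1, 0, 0], [0, 1, 0, 0], [], [0, 1, 0, 0], [], [0, 1, 0, 0], [], [], [0, 0, 1, 1], [], [0, 0, 1, 1], [1, 0, 0, -2], [0, 0, 1, 1], [], [0, 0, 1, 1]],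
   [[], [], [], [], [], [], [], [], [], [], [], [], [], [], [], [0, 0, 1, 0], [0, 0, 1, 0], [], [1, 0, 0, 2], [], [], [0, 0, 1, 0], [], [0, 0, 1, 0], [], [], [], [], [], [], [], [], [], [0, 1, 0, 0], [0, 0, 1, 0], [0, 0, 1, 0], [], [0, 1, 0, 0], [], [], [], [], [0, 0, 1, 0], [0, 0, 1, 0], [1, 0, 0, 2], [0, 0, 1, 0], [0, 0, 1, 0], []],
   [[], [], [], [], [], [], [], [], [], [], [], [0, 0, 0, 1], [0, 0, 0, 1], [0, 0, 1, 0], [1, 1, 0, 0], [], [], [], [], [], [], [], [], [], [], [], [], [0, 0, 1, 0], [0, 0, 0, 1], [0, 0, 0, 1], [0, 0, 0, 1], [0, 0, 0, 1], [0, 0, 1, 0], [], [0, 0, 1, 0], [0, 0, 0, 1], [0, 0, 0, 1], [0, 0, 0, 1], [0, 0, 0, 1], [0, 0, 1, 0], [], [], [], [], [1, 1, 0, 0], [0, 0, 1, 0], [0, 0, 0, 1], [0, 0, 0, 1]],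
   [[], [], [], [], [], [], [], [], [], [0, 0, 0, 1], [0, 0, 0, 1], [], [], [1, 0, 0, 0], [0, 1, 1, 0], [], [], [], [], [], [1, 0, 0, 0], [], [], [], [], [0, 0, 0, 1], [0, 0, 0, 1], [], [0, 0, 0, 1], [0, 0, 0, 1], [], [], [0, 1, 1, 0], [0, 1, 1, 0], [], [0, 0, 0, 1], [0, 0, 0, 1], [0, 0, 0, 1], [0, 0, 0, 1], [], [1, 0, 0, 0], [], [], [0, 1, 1, 0], [1, 0, 0, 0], [], [0, 0, 0, 1], [0, 0, 0, 1]],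
   [[], [], [], [], [], [], [], [], [0, 0, 1, 1], [], [0, 0, 1, 1], [], [1, 0, 0, 0], [], [0, 1, 0, -1], [], [], [], [], [1, 0, 0, 0], [], [], [0, 0, 1, 1], [], [0, 0, 1, 1], [], [], [1, 0, 0, 0], [], [1, 0, 0, 0], [], [0, 1, 0, -1], [], [0, 1, 0, -1], [1, 0, 0, 0], [], [1, 0, 0, 0], [0, 0, 1, 1], [], [0, 0, 1, 1], [1, 0, 0, 0], [], [0, 1, 0, -1], [], [1, 0, 0, 0], [0, 0, 1, 1], [], [0, 0, 1, 1]],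
   [[], [], [], [], [], [], [], [], [0, 0, 1, 0], [0, 0, 1, 0], [], [1, 0, 0, 0], [], [], [0, 1, 0, 1], [], [], [], [1, 0, 0, 0], [], [], [0, 0, 1, 0], [], [0, 0, 1, 0], [], [], [], [0, 0, 1, 0], [0, 0, 1, 0], [], [0, 1, 0, 1], [], [], [0, 1, 0, 1], [0, 0, 1, 0], [0, 0, 1, 0], [], [], [0, 0, 1, 0], [0, 0, 1, 0], [1, 0, 0, 0], [0, 1, 0, 1], [], [], [1, 0, 0, 0], [0, 0, 1, 0], [0, 0, 1, 0], []],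
   [[], [], [], [], [], [], [], [0, 1, 0, 1], [], [], [1, 0, 0, -1], [], [0, 0, 1, 0], [0, 0, 1, 0], [], [], [], [0, 1, 0, 1], [], [0, 0, 1, 0], [0, 0, 1, 0], [], [], [], [0, 0, 1, 0], [], [0, 0, 1, 0], [], [], [0, 1, 0, 1], [], [], [], [0, 1, 0, 1], [0, 0, 1, 0], [0, 0, 1, 0], [], [], [0, 0, 1, 0], [0, 0, 1, 0], [0, 1, 0, 1], [], [0, 0, 1, 0], [0, 0, 1, 0], [1, 0, 0, -1], [], [], [0, 1, 0, 1]],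
   [[], [], [], [], [], [], [], [0, 1, 0, -1], [], [1, 0, 0, 1], [], [0, 0, 1, 1], [], [0, 0, 1, 1], [], [], [0, 1, 0, -1], [], [0, 0, 1, 1], [], [0, 0, 1, 1], [], [], [0, 0, 1, 1], [], [0, 0, 1, 1], [], [], [0, 1, 0, -1], [], [], [], [], [0, 1, 0, -1], [0, 0, 1, 1], [], [0, 0, 1, 1], [0, 0, 1, 1], [], [0, 0, 1, 1], [0, 1, 0, -1], [0, 0, 1, 1], [], [0, 0, 1, 1], [1, 0, 0, 1], [], [0, 1, 0, -1], []],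
   [[], [], [], [], [], [], [], [0, 1, 1, 0], [1, 0, 1, 0], [], [], [0, 0, 0, 1], [0, 0, 0, 1], [], [], [0, 1, 1, 0], [], [], [0, 0, 0, 1], [0, 0, 0, 1], [], [0, 0, 0, 1], [0, 0, 0, 1], [], [], [], [], [0, 1, 1, 0], [], [], [], [], [], [0, 1, 1, 0], [], [0, 0, 0, 1], [0, 0, 0, 1], [0, 0, 0, 1], [0, 0, 0, 1], [], [0, 1, 1, 0], [0, 0, 0, 1], [0, 0, 0, 1], [], [1, 0, 1, 0], [0, 1, 1, 0], [], []],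
   [[], [], [], [], [], [], [], [1, 2, 0, 0], [0, 0, 1, 0], [0, 0, 0, 1], [0, 0, 0, 1], [], [], [], [], [0, 0, 1, 0], [0, 0, 0, 1], [0, 0, 0, 1], [0, 0, 0, 1], [0, 0, 0, 1], [0, 0, 1, 0], [], [], [], [], [], [], [], [], [], [], [], [], [], [0, 0, 1, 0], [0, 0, 0, 1], [0, 0, 0, 1], [0, 0, 0, 1], [0, 0, 0, 1], [0, 0, 1, 0], [], [0, 0, 0, 1], [0, 0, 0, 1], [0, 0, 1, 0], [1, 2, 0, 0], [], [], []],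
   [[], [], [], [], [], [0, 0, 0, 1], [0, 0, 0, 1], [], [], [], [], [], [], [0, 1, 0, 0], [0, 1, 0, 0], [], [], [], [], [], [], [], [], [], [], [0, 0, 0, 1], [0, 0, 0, 1], [], [0, 0, 0, 1], [0, 0, 0, 1], [0, 0, 0, 1], [0, 0, 0, 1], [], [], [], [], [], [], [], [0, 1, 0, 0], [0, 1, 0, 0], [], [], [], [], [], [0, 0, 0, 1], [0, 0, 0, 1]],
   [[], [], [], [], [0, 0, 1, 1], [], [0, 0, 1, 1], [], [], [], [], [], [0, 1, 0, -2], [], [1, 1, 0, 0], [], [], [], [], [], [], [], [0, 0, 1, 1], [], [0, 0, 1, 1], [], [], [0, 0, 1, 1], [], [0, 0, 1, 1], [0, 0, 1, 1], [], [0, 0, 1, 1], [], [], [], [], [], [1, 1, 0, 0], [], [0, 1, 0, -2], [], [], [], [], [0, 0, 1, 1], [], [0, 0, 1, 1]],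
   [[], [], [], [], [0, 0, 1, 0], [0, 0, 1, 0], [], [], [], [], [], [0, 1, 0, 2], [], [], [1, 1, 0, 0], [], [], [], [], [], [], [0, 0, 1, 0], [], [0, 0, 1, 0], [], [], [], [0, 0, 1, 0], [0, 0, 1, 0], [], [], [0, 0, 1, 0], [0, 0, 1, 0], [], [], [], [], [1, 1, 0, 0], [], [], [0, 1, 0, 2], [], [], [], [], [0, 0, 1, 0], [0, 0, 1, 0], []],
   [[], [], [], [1, 0, 0, 1], [], [], [1, 0, 0, 1], [], [], [], [0, 1, 0, 0], [], [0, 0, 1, 0], [0, 0, 1, 0], [0, 1, 0, 0], [], [], [], [], [0, 0, 1, 0], [0, 0, 1, 0], [], [], [], [0, 0, 1, 0], [], [0, 0, 1, 0], [0, 0, 1, 0], [0, 0, 1, 0], [], [], [0, 0, 1, 0], [0, 0, 1, 0], [], [], [], [0, 1, 0, 0], [], [0, 0, 1, 0], [0, 0, 1, 0], [0, 1, 0, 0], [], [], [], [1, 0, 0, 1], [], [], [1, 0, 0, 1]],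
   [[], [], [], [1, 0, 0, -1], [], [1, 0, 0, -1], [], [], [], [0, 1, 0, 0], [], [0, 1, 0, 0], [], [0, 1, 0, 0], [0, 1, 0, 0], [], [], [], [0, 0, 1, 1], [], [0, 0, 1, 1], [], [], [0, 0, 1, 1], [], [0, 0, 1, 1], [], [0, 0, 1, 1], [], [0, 0, 1, 1], [0, 0, 1, 1], [], [0, 0, 1, 1], [], [], [0, 1, 0, 0], [], [0, 1, 0, 0], [], [0, 1, 0, 0], [0, 1, 0, 0], [], [], [], [1, 0, 0, -1], [], [1, 0, 0, -1], []],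
   [[], [], [], [1, 0, -1, 0], [1, 0, -1, 0], [], [], [], [1, 0, -1, 0], [], [], [0, 0, 0, 1], [0, 0, 0, 1], [], [0, 1, 2, 0], [], [], [], [0, 0, 0, 1], [0, 0, 0, 1], [], [0, 0, 0, 1], [0, 0, 0, 1], [], [], [], [], [], [0, 0, 0, 1], [0, 0, 0, 1], [0, 0, 0, 1], [0, 0, 0, 1], [], [], [0, 1, 2, 0], [], [], [0, 0, 0, 1], [0, 0, 0, 1], [], [1, 0, -1, 0], [], [], [], [1, 0, -1, 0], [1, 0, -1, 0], [], []],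
   [[], [], [0, 0, 1, -1], [], [], [], [0, 0, 1, -1], [], [], [], [0, 0, 1, -1], [], [], [1, 0, 0, 0], [], [], [], [0, 0, 1, -1], [], [], [1, 0, 0, 0], [], [], [], [0, 1, 1, 1], [0, 1, 1, 1], [], [], [], [1, 0, 0, 0], [], [], [0, 0, 1, -1], [], [], [], [1, 0, 0, 0], [], [], [0, 0, 1, -1], [], [], [], [0, 0, 1, -1], [], [], [], [0, 0, 1, -1]],
   [[], [], [0, 1, 1, 0], [], [], [0, 1, 1, 0], [], [], [], [0, 0, 1, 2], [], [], [], [1, 0, 0, 0], [], [], [0, 1, 1, 0], [], [], [], [1, 0, 0, 0], [], [], [0, 1, 1, 0], [], [], [0, 1, 1, 0], [], [1, 0, 0, 0], [], [], [], [0, 1, 1, 0], [], [], [1, 0, 0, 0], [], [], [], [0, 0, 1, 2], [], [], [], [0, 1, 1, 0], [], [], [0, 1, 1, 0], []],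
   [[], [0, 0, 2, 1], [], [], [], [], [0, 0, 2, 1], [], [], [], [0, 1, 0, 0], [], [0, 1, 0, 0], [], [], [], [], [0, 0, 2, 1], [], [1, 0, 0, 0], [], [], [0, 1, 2, 1], [], [], [], [0, 1, 2, 1], [], [], [1, 0, 0, 0], [], [0, 0, 2, 1], [], [], [], [], [0, 1, 0, 0], [], [0, 1, 0, 0], [], [], [], [0, 0, 2, 1], [], [], [], [], [0, 0, 2, 1]],
   [[0, 0, 2, 1], [], [], [], [], [0, 0, 2, 1], [], [], [], [0, 1, 0, 0], [], [0, 1, 0, 0], [], [], [], [], [0, 0, 2, 1], [], [1, 0, 0, 0], [], [], [0, 1, 2, 1], [], [], [], [0, 1, 2, 1], [], [], [1, 0, 0, 0], [], [0, 0, 2, 1], [], [], [], [], [0, 1, 0, 0], [], [0, 1, 0, 0], [], [], [], [0, 0, 2, 1], [], [], [], [], [0, 0, 2, 1], []],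
   [[], [0, 1, 1, 0], [], [], [0, 1, 1, 0], [], [], [], [0, 0, 1, 2], [], [], [], [1, 0, 0, 0], [], [], [0, 1, 1, 0], [], [], [], [1, 0, 0, 0], [], [0, 1, 1, 0], [], [], [0, 1, 1, 0], [], [], [1, 0, 0, 0], [], [], [], [0, 1, 1, 0], [], [], [1, 0, 0, 0], [], [], [], [0, 0, 1, 2], [], [], [], [0, 1, 1, 0], [], [], [0, 1, 1, 0], [], []],
   [[0, 0, 1, -1], [], [], [], [0, 0, 1, -1], [], [], [], [0, 0, 1, -1], [], [], [1, 0, 0, 0], [], [], [], [0, 0, 1, -1], [], [], [1, 0, 0, 0], [], [], [], [0, 1, 1, 1], [0, 1, 1, 1], [], [], [], [1, 0, 0, 0], [], [], [0, 0, 1, -1], [], [], [], [1, 0, 0, 0], [], [], [0, 0, 1, -1], [], [], [], [0, 0, 1, -1], [], [], [], [0, 0, 1, -1], [], []],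
   [[], [], [1, 0, -1, 0], [1, 0, -1, 0], [], [], [], [1, 0, -1, 0], [], [0, 0, 0, 1], [0, 0, 0, 1], [], [], [0, 1, 2, 0], [], [], [0, 0, 0, 1], [0, 0, 0, 1], [0, 0, 0, 1], [0, 0, 0, 1], [], [], [], [], [], [0, 0, 0, 1], [0, 0, 0, 1], [], [0, 0, 0, 1], [0, 0, 0, 1], [], [], [], [0, 1, 2, 0], [], [0, 0, 0, 1], [0, 0, 0, 1], [], [], [1, 0, -1, 0], [], [], [], [1, 0, -1, 0], [1, 0, -1, 0], [], [], []],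
   [[], [1, 0, 0, -1], [], [1, 0, 0, -1], [], [], [], [0, 1, 0, 0], [0, 1, 0, 0], [], [0, 1, 0, 0], [], [0, 1, 0, 0], [], [], [0, 0, 1, 1], [], [0, 0, 1, 1], [0, 0, 1, 1], [], [0, 0, 1, 1], [], [0, 0, 1, 1], [], [0, 0, 1, 1], [], [], [0, 0, 1, 1], [], [0, 0, 1, 1], [], [], [], [0, 1, 0, 0], [0, 1, 0, 0], [], [0, 1, 0, 0], [], [0, 1, 0, 0], [], [], [], [1, 0, 0, -1], [], [1, 0, 0, -1], [], [], []],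
   [[1, 0, 0, 1], [], [], [1, 0, 0, 1], [], [], [], [0, 1, 0, 0], [0, 0, 1, 0], [0, 0, 1, 0], [], [0, 1, 0, 0], [], [], [], [0, 0, 1, 0], [0, 0, 1, 0], [], [], [0, 0, 1, 0], [0, 0, 1, 0], [0, 0, 1, 0], [], [0, 0, 1, 0], [], [], [], [0, 0, 1, 0], [0, 0, 1, 0], [], [], [], [], [0, 1, 0, 0], [0, 0, 1, 0], [0, 0, 1, 0], [], [0, 1, 0, 0], [], [], [], [1, 0, 0, 1], [], [], [1, 0, 0, 1], [], [], []],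
   [[], [0, 0, 1, 0], [0, 0, 1, 0], [], [], [], [], [0, 1, 0, 2], [], [], [1, 1, 0, 0], [], [], [], [], [0, 0, 1, 0], [0, 0, 1, 0], [], [], [0, 0, 1, 0], [0, 0, 1, 0], [], [], [], [0, 0, 1, 0], [], [0, 0, 1, 0], [], [], [], [], [], [], [1, 1, 0, 0], [], [], [0, 1, 0, 2], [], [], [], [], [], [0, 0, 1, 0], [0, 0, 1, 0], [], [], [], []],
   [[0, 0, 1, 1], [], [0, 0, 1, 1], [], [], [], [], [0, 1, 0, -2], [], [1, 1, 0, 0], [], [], [], [], [], [0, 0, 1, 1], [], [0, 0, 1, 1], [0, 0, 1, 1], [], [0, 0, 1, 1], [], [], [0, 0, 1, 1], [], [0, 0, 1, 1], [], [], [], [], [], [], [], [1, 1, 0, 0], [], [0, 1, 0, -2], [], [], [], [], [], [0, 0, 1, 1], [], [0, 0, 1, 1], [], [], [], []],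
   [[0, 0, 0, 1], [0, 0, 0, 1], [], [], [], [], [], [0, 1, 0, 0], [0, 1, 0, 0], [], [], [], [], [], [], [], [0, 0, 0, 1], [0, 0, 0, 1], [0, 0, 0, 1], [0, 0, 0, 1], [], [0, 0, 0, 1], [0, 0, 0, 1], [], [], [], [], [], [], [], [], [], [], [0, 1, 0, 0], [0, 1, 0, 0], [], [], [], [], [], [], [0, 0, 0, 1], [0, 0, 0, 1], [], [], [], [], []],
   [[], [], [], [1, 2, 0, 0], [0, 0, 1, 0], [0, 0, 0, 1], [0, 0, 0, 1], [], [0, 0, 1, 0], [0, 0, 0, 1], [0, 0, 0, 1], [0, 0, 0, 1], [0, 0, 0, 1], [0, 0, 1, 0], [], [], [], [], [], [], [], [], [], [], [], [], [], [0, 0, 1, 0], [0, 0, 0, 1], [0, 0, 0, 1], [0, 0, 0, 1], [0, 0, 0, 1], [0, 0, 1, 0], [], [], [], [], [0, 0, 0, 1], [0, 0, 0, 1], [0, 0, 1, 0], [1, 2, 0, 0], [], [], [], [], [], [], []],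
   [[], [], [0, 1, 1, 0], [1, 0, 1, 0], [], [0, 0, 0, 1], [0, 0, 0, 1], [0, 1, 1, 0], [], [0, 0, 0, 1], [0, 0, 0, 1], [0, 0, 0, 1], [0, 0, 0, 1], [], [0, 1, 1, 0], [], [], [], [], [], [0, 1, 1, 0], [], [], [], [], [0, 0, 0, 1], [0, 0, 0, 1], [], [0, 0, 0, 1], [0, 0, 0, 1], [], [], [0, 1, 1, 0], [], [], [0, 0, 0, 1], [0, 0, 0, 1], [], [], [1, 0, 1, 0], [0, 1, 1, 0], [], [], [], [], [], [], []],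
   [[], [0, 1, 0, -1], [], [1, 0, 0, 1], [0, 0, 1, 1], [], [0, 0, 1, 1], [0, 1, 0, -1], [0, 0, 1, 1], [], [0, 0, 1, 1], [0, 0, 1, 1], [], [0, 0, 1, 1], [0, 1, 0, -1], [], [], [], [], [0, 1, 0, -1], [], [], [0, 0, 1, 1], [], [0, 0, 1, 1], [], [], [0, 0, 1, 1], [], [0, 0, 1, 1], [], [0, 1, 0, -1], [], [], [0, 0, 1, 1], [], [0, 0, 1, 1], [], [1, 0, 0, 1], [], [0, 1, 0, -1], [], [], [], [], [], [], []],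
   [[0, 1, 0, 1], [], [], [1, 0, 0, -1], [0, 0, 1, 0], [0, 0, 1, 0], [], [0, 1, 0, 1], [0, 0, 1, 0], [0, 0, 1, 0], [], [], [0, 0, 1, 0], [0, 0, 1, 0], [0, 1, 0, 1], [], [], [], [0, 1, 0, 1], [], [], [0, 0, 1, 0], [], [0, 0, 1, 0], [], [], [], [0, 0, 1, 0], [0, 0, 1, 0], [], [0, 1, 0, 1], [], [], [], [0, 0, 1, 0], [0, 0, 1, 0], [], [1, 0, 0, -1], [], [], [0, 1, 0, 1], [], [], [], [], [], [], []],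
   [[], [0, 0, 1, 0], [0, 0, 1, 0], [1, 0, 0, 0], [], [], [0, 1, 0, 1], [1, 0, 0, 0], [0, 0, 1, 0], [0, 0, 1, 0], [], [], [0, 0, 1, 0], [0, 0, 1, 0], [0, 1, 0, 1], [], [], [0, 1, 0, 1], [], [0, 0, 1, 0], [0, 0, 1, 0], [], [], [], [0, 0, 1, 0], [], [0, 0, 1, 0], [], [], [1, 0, 0, 0], [], [], [], [0, 1, 0, 1], [], [], [1, 0, 0, 0], [], [0, 0, 1, 0], [0, 0, 1, 0], [], [], [], [], [], [], [], []],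
   [[0, 0, 1, 1], [], [0, 0, 1, 1], [1, 0, 0, 0], [], [0, 1, 0, -1], [], [1, 0, 0, 0], [0, 0, 1, 1], [], [0, 0, 1, 1], [1, 0, 0, 0], [], [1, 0, 0, 0], [0, 1, 0, -1], [], [0, 1, 0, -1], [], [1, 0, 0, 0], [], [1, 0, 0, 0], [], [], [0, 0, 1, 1], [], [0, 0, 1, 1], [], [], [1, 0, 0, 0], [], [], [], [], [0, 1, 0, -1], [], [1, 0, 0, 0], [], [0, 0, 1, 1], [], [0, 0, 1, 1], [], [], [], [], [], [], [], []],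
   [[0, 0, 0, 1], [0, 0, 0, 1], [], [1, 0, 0, 0], [0, 1, 1, 0], [], [], [1, 0, 0, 0], [], [0, 0, 0, 1], [0, 0, 0, 1], [0, 0, 0, 1], [0, 0, 0, 1], [], [0, 1, 1, 0], [0, 1, 1, 0], [], [], [0, 0, 0, 1], [0, 0, 0, 1], [], [0, 0, 0, 1], [0, 0, 0, 1], [], [], [], [], [1, 0, 0, 0], [], [], [], [], [], [0, 1, 1, 0], [1, 0, 0, 0], [], [], [0, 0, 0, 1], [0, 0, 0, 1], [], [], [], [], [], [], [], [], []],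
   [[0, 0, 0, 1], [0, 0, 0, 1], [0, 0, 1, 0], [1, 1, 0, 0], [], [], [], [], [0, 0, 1, 0], [0, 0, 0, 1], [0, 0, 0, 1], [0, 0, 0, 1], [0, 0, 0, 1], [0, 0, 1, 0], [], [0, 0, 1, 0], [0, 0, 0, 1], [0, 0, 0, 1], [0, 0, 0, 1], [0, 0, 0, 1], [0, 0, 1, 0], [], [], [], [], [], [], [], [], [], [], [], [], [1, 1, 0, 0], [0, 0, 1, 0], [0, 0, 0, 1], [0, 0, 0, 1], [], [], [], [], [], [], [], [], [], [], []],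
   [[], [0, 0, 1, 0], [0, 0, 1, 0], [1, 0, 0, 2], [0, 0, 1, 0], [0, 0, 1, 0], [], [], [], [], [0, 1, 0, 0], [], [0, 0, 1, 0], [0, 0, 1, 0], [0, 1, 0, 0], [], [], [], [], [], [], [], [], [], [0, 0, 1, 0], [], [0, 0, 1, 0], [], [], [1, 0, 0, 2], [], [0, 0, 1, 0], [0, 0, 1, 0], [], [], [], [], [], [], [], [], [], [], [], [], [], [], []],
   [[0, 0, 1, 1], [], [0, 0, 1, 1], [1, 0, 0, -2], [0, 0, 1, 1], [], [0, 0, 1, 1], [], [], [0, 1, 0, 0], [], [0, 1, 0, 0], [], [0, 1, 0, 0], [0, 1, 0, 0], [], [], [], [], [], [], [], [], [0, 0, 1, 1], [], [0, 0, 1, 1], [], [], [1, 0, 0, -2], [], [0, 0, 1, 1], [], [0, 0, 1, 1], [], [], [], [], [], [], [], [], [], [], [], [], [], [], []],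
   [[0, 0, 0, 1], [0, 0, 0, 1], [], [1, 1, 0, 0], [], [0, 0, 0, 1], [0, 0, 0, 1], [], [1, 1, 0, 0], [], [], [0, 0, 0, 1], [0, 0, 0, 1], [], [1, 1, 0, 0], [], [], [], [], [], [], [0, 0, 0, 1], [0, 0, 0, 1], [], [], [], [], [1, 1, 0, 0], [], [], [0, 0, 0, 1], [0, 0, 0, 1], [], [], [], [], [], [], [], [], [], [], [], [], [], [], [], []],
   [[0, 0, 0, 1], [0, 0, 0, 1], [0, 0, 1, 0], [], [0, 0, 1, 0], [0, 0, 0, 1], [0, 0, 0, 1], [0, 1, 0, 0], [0, 0, 1, 0], [0, 0, 0, 1], [0, 0, 0, 1], [0, 0, 0, 1], [0, 0, 0, 1], [0, 0, 1, 0], [0, 1, 0, 0], [], [], [], [0, 0, 0, 1], [0, 0, 0, 1], [0, 0, 1, 0], [], [], [], [], [], [], [0, 0, 1, 0], [0, 0, 0, 1], [0, 0, 0, 1], [], [], [], [], [], [], [], [], [], [], [], [], [], [], [], [], [], []],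
   [[0, 0, 0, 1], [0, 0, 0, 1], [], [1, 0, 0, 0], [], [0, 0, 0, 1], [0, 0, 0, 1], [1, 0, 0, 0], [], [0, 0, 0, 1], [0, 0, 0, 1], [], [], [1, 0, 0, 0], [], [], [0, 0, 0, 1], [0, 0, 0, 1], [], [], [1, 0, 0, 0], [], [], [], [], [0, 0, 0, 1], [0, 0, 0, 1], [], [], [], [], [], [], [], [], [], [], [], [], [], [], [], [], [], [], [], [], []],
   [[0, 0, 1, 1], [], [0, 0, 1, 1], [1, 0, 0, 0], [0, 0, 1, 1], [], [0, 0, 1, 1], [0, 1, 0, 0], [0, 1, 0, 0], [], [0, 1, 0, 0], [], [0, 1, 0, 0], [], [], [0, 0, 1, 1], [], [0, 0, 1, 1], [], [1, 0, 0, 0], [], [], [0, 0, 1, 1], [], [0, 0, 1, 1], [], [], [], [], [], [], [], [], [], [], [], [], [], [], [], [], [], [], [], [], [], [], []],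
   [[], [0, 0, 1, 0], [0, 0, 1, 0], [1, 0, 0, 0], [0, 0, 1, 0], [0, 0, 1, 0], [], [0, 1, 0, 0], [0, 0, 1, 0], [0, 0, 1, 0], [], [0, 1, 0, 0], [], [], [], [0, 0, 1, 0], [0, 0, 1, 0], [], [1, 0, 0, 0], [], [], [0, 0, 1, 0], [], [0, 0, 1, 0], [], [], [], [], [], [], [], [], [], [], [], [], [], [], [], [], [], [], [], [], [], [], [], []]]

def certTabF4 : List (List (List ℤ)) :=
  [[[1, 1, 23, 0], [1, 2, 22, 0], [1, 1, 25, 0], [1, 7, 14, 0], [1, 5, 22, 0], [1, 4, 25, 0], [2, 10, 14, 2, -1, 0, 0, 0], [1, 3, 33, 0], [1, 3, 34, 0], [1, 11, 20, 0], [1, 12, 20, 0], [1, 8, 28, 0], [1, 10, 27, 0], [1, 14, 20, 0], [1, 12, 28, 0], [1, 16, 22, 0], [1, 15, 25, 0], [2, 19, 20, 2, 0, -1, 0, 0], [1, 8, 35, 0], [1, 10, 34, 0], [1, 33, 13, 0], [1, 4, 41, 0], [2, 27, 19, 2, 0, 0, -1, 0], [1, 25, 21, 0],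 [], [2, 28, 20, 2, 0, 0, 1, 0], [], [1, 34, 14, 0], [1, 13, 37, 0], [], [2, 27, 28, 2, 0, 1, 0, 0], [], [], [1, 19, 35, 0], [1, 27, 33, 0], [1, 20, 37, 0], [], [1, 27, 35, 0], [], [], [], [2, 33, 37, 2, 1, 0, 0, 0], [], [], [], [], [], []],
   [[1, 2, 21, 0], [1, 0, 24, 0], [1, 0, 26, 0], [1, 7, 14, 0], [1, 5, 22, 0], [2, 9, 14, 2, -1, 0, 0, 0], [1, 2, 31, 0], [1, 3, 33, 0], [1, 3, 34, 0], [1, 11, 20, 0], [1, 3, 36, 0], [1, 9, 27, 0], [1, 3, 38, 0], [1, 14, 20, 0], [1, 11, 29, 0], [1, 16, 22, 0], [2, 18, 20, 2, 0, -1, 0, 0], [1, 2, 42, 0], [1, 9, 34, 0], [1, 7, 38, 0], [1, 33, 13, 0], [2, 27, 18, 2, 0, 1, 0, 0], [1, 21, 24, 0], [], [1, 26, 22, 0], [], [2, 29, 20, 2, 0, -1, 0, 0], [1, 34, 14, 0], [], [1, 13, 38, 0], [], [2, 27, 29, 2, 0, 1, 0, 0], [], [1, 18, 36, 0], [1, 27, 33, 0],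 [], [1, 20, 38, 0], [], [1, 27, 36, 0], [], [], [], [2, 33, 38, 2, 1, 0, 0, 0], [], [], [], [], []],
   [[1, 1, 23, 0], [1, 0, 24, 0], [1, 0, 26, 0], [1, 7, 14, 0], [2, 8, 14, 2, -1, 0, 0, 0], [1, 0, 32, 0], [1, 1, 32, 0], [1, 3, 33, 0], [1, 11, 19, 0], [1, 11, 20, 0], [1, 3, 36, 0], [1, 8, 28, 0], [1, 14, 19, 0], [1, 14, 20, 0], [1, 11, 29, 0], [2, 18, 19, 2, 1, 0, 0, 0], [1, 0, 43, 0], [1, 1, 43, 0], [1, 8, 35, 0], [1, 33, 12, 0], [1, 33, 13, 0], [], [], [2, 28, 18, 2, 0, 0, 0, -1], [2, 29, 19, 2, 0, 0, 0, 1], [1, 23, 26, 0], [1, 6, 43, 0], [], [1, 35, 14, 0], [1, 12, 39, 0], [], [], [2, 28, 29, 2, -1, 0, 0, 0], [1, 18, 36, 0], [], [1, 28, 33, 0], [1, 19, 39, 0], [], [], [1, 28, 36, 0], [], [], [], [2, 33, 39, 2, 1, 0, 0, 0], [], [], [], []],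
   [[1, 1, 23, 0], [1, 0, 24, 0], [1, 0, 26, 0], [1, 7, 14, 0], [1, 5, 22, 0], [1, 0, 32, 0], [1, 1, 32, 0], [0, 0, 0, 1, 0, -1, 0, 0], [0, 0, 0, 1, 0, 0, -1, 0], [0, 0, 0, 1, 0, 0, 0, -1], [0, 0, 0, 1, 0, 0, 0, 1], [0, 0, 0, 1, 0, 0, 0, -1], [0, 0, 0, 1, 0, 0, 0, 1], [0, 0, 0, 1, 0, 0, 1, 0], [0, 0, 0, 1, 0, 1, 0, 0], [1, 16, 22, 0], [1, 15, 25, 0], [1, 16, 24, 0], [], [], [], [1, 15, 30, 0], [1, 21, 24, 0], [1, 25, 21, 0], [1, 26, 22, 0], [1, 23, 26, 0], [1, 17, 32, 0], [], [], [], [1, 23, 31, 0], [1, 22, 32, 0], [1, 25, 31, 0], [], [], [], [], [], [], [], [], [], [], [], [], [], [], []],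
   [[1, 1, 23, 0], [1, 0, 24, 0], [2, 7, 13, 2, -1, -1, 0, 0], [1, 7, 14, 0], [1, 5, 22, 0], [1, 0, 32, 0], [1, 1, 32, 0], [1, 10, 18, 0], [1, 3, 34, 0], [1, 18, 13, 0], [1, 7, 29, 0], [1, 8, 28, 0], [1, 3, 38, 0], [1, 28, 10, 0], [1, 11, 29, 0], [2, 18, 19, 2, 1, 1, 0, 0], [], [], [1, 9, 34, 0], [1, 7, 38, 0], [], [1, 15, 30, 0], [1, 21, 24, 0], [2, 28, 18, 2, 0, 0, 0, -1], [2, 29, 19, 2, 0, 0, 0, 1], [], [], [1, 34, 14, 0], [1, 9, 40, 0], [1, 13, 38, 0], [1, 5, 45, 0], [1, 22, 32, 0], [2, 28, 29, 2, -1, -1, 0, 0], [], [1, 37, 19, 0], [], [], [1, 18, 40, 0], [1, 34, 29, 0], [], [1, 29, 37, 0], [], [], [], [], [2, 34, 40, 2, 1, 1, 0, 0], [], []],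
   [[1, 1, 23, 0], [2, 7, 12, 2, -1, 0, 0, 2], [1, 0, 26, 0], [1, 7, 14, 0], [1, 21, 6, 0], [1, 0, 32, 0], [1, 1, 32, 0], [1, 8, 20, 0], [1, 7, 27, 0], [1, 11, 20, 0], [1, 7, 29, 0], [1, 8, 28, 0], [1, 10, 27, 0], [1, 14, 20, 0], [1, 11, 29, 0], [], [2, 7, 35, 2, 0, -1, 0, 0], [], [1, 8, 35, 0], [], [1, 35, 10, 0], [2, 8, 37, 2, 0, 1, 0, 0], [], [1, 25, 21, 0], [], [1, 23, 26, 0], [2, 10, 39, 2, 0, -1, 0, 0], [1, 37, 12, 0], [1, 9, 40, 0], [1, 12, 39, 0], [1, 4, 46, 0], [2, 12, 40, 2, 0, 1, 0, 0], [1, 25, 31, 0], [], [], [1, 20, 37, 0], [], [1, 18, 40, 0], [], [1, 20, 40, 0], [1, 27, 39, 0], [], [], [], [], [], [2, 35, 40, 2, 1, 0, 0, -2], []],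
   [[2, 7, 11, 2, -1, 0, 0, -2], [1, 0, 24, 0], [1, 0, 26, 0], [1, 7, 14, 0], [1, 5, 22, 0], [1, 0, 32, 0], [1, 1, 32, 0], [1, 8, 20, 0], [1, 7, 27, 0], [1, 11, 20, 0], [1, 3, 36, 0], [1, 8, 28, 0], [1, 3, 38, 0], [1, 14, 20, 0], [1, 11, 29, 0], [], [], [2, 19, 20, 2, 0, -1, 0, 0], [], [1, 7, 38, 0], [1, 36, 9, 0], [], [2, 27, 19, 2, 0, 0, -1, 0], [], [1, 26, 22, 0], [2, 28, 20, 2, 0, 0, 1, 0], [1, 17, 32, 0], [1, 38, 11, 0], [1, 9, 40, 0], [1, 12, 39, 0], [2, 27, 28, 2, 0, 1, 0, 0], [1, 4, 47, 0], [1, 25, 31, 0], [], [], [], [1, 19, 39, 0], [], [1, 27, 36, 0], [1, 20, 40, 0], [1, 27, 39, 0], [], [], [], [], [], [], [2, 36, 40, 2, 1, 0, 0, 2]],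
   [[1, 1, 23, 0], [1, 0, 24, 0], [1, 0, 26, 0], [0, 0, 0, 1, -1, -1, 0, 0], [1, 5, 22, 0], [1, 4, 25, 0], [1, 5, 24, 0], [1, 3, 33, 0], [0, 0, 0, 1, 0, 0, -1, 0], [0, 0, 0, 1, 0, 0, 0, -1], [0, 0, 0, 1, 0, 0, 0, 1], [], [], [], [], [1, 16, 22, 0], [1, 0, 43, 0], [1, 1, 43, 0], [0, 0, 0, 1, 0, 0, 0, -1], [0, 0, 0, 1, 0, 0, 0, 1], [0, 0, 0, 1, 0, 0, 1, 0], [1, 4, 41, 0], [1, 21, 24, 0], [1, 25, 21, 0], [1, 26, 22, 0], [1, 23, 26, 0], [1, 6, 43, 0], [], [], [], [], [], [], [0, 0, 0, 1, 1, 1, 0, 0], [], [], [], [], [], [], [], [1, 23, 42, 0], [1, 22, 43, 0], [1, 25, 42, 0], [], [], [], []],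
   [[1, 1, 23, 0], [1, 0, 24, 0], [1, 6, 16, 0], [0, 0, 0, 1, -1, 0, 0, 0], [1, 5, 22, 0], [1, 6, 23, 0], [1, 2, 31, 0], [0, 0, 0, 1, 1, 0, 0, 0], [1, 3, 34, 0], [], [], [0, 0, 0, 1, 0, 0, 0, -1], [0, 0, 0, 1, 0, 0, 0, 1], [], [], [1, 16, 22, 0], [1, 17, 23, 0], [1, 2, 42, 0], [0, 0, 0, 1, 0, 0, 0, -1], [0, 0, 0, 1, 0, 0, 0, 1], [], [1, 4, 41, 0], [1, 21, 24, 0], [1, 30, 16, 0], [1, 31, 17, 0], [], [], [0, 0, 0, 1, -1, 0, 0, 0], [], [], [1, 5, 45, 0], [1, 24, 30, 0], [], [], [0, 0, 0, 1, 1, 0, 0, 0], [], [], [], [], [], [], [1, 16, 45, 0], [1, 24, 41, 0], [], [], [1, 31, 41, 0], [], []],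
   [[1, 1, 23, 0], [1, 6, 15, 0], [1, 0, 26, 0], [0, 0, 0, 1, -1, 0, 0, 0], [1, 21, 6, 0], [1, 0, 32, 0], [1, 1, 32, 0], [0, 0, 0, 1, 1, 0, 0, 0], [], [1, 11, 20, 0], [], [0, 0, 0, 1, -1, 0, 0, 0], [], [0, 0, 0, 1, -1, 0, 0, 0], [], [1, 21, 17, 0], [1, 0, 43, 0], [1, 1, 43, 0], [0, 0, 0, 1, 1, 0, 0, 0], [], [0, 0, 0, 1, 1, 0, 0, 0], [1, 4, 41, 0], [], [1, 25, 21, 0], [], [1, 23, 26, 0], [1, 6, 43, 0], [], [0, 0, 0, 1, -1, 0, 0, 0], [], [1, 4, 46, 0], [], [1, 30, 26, 0], [], [], [0, 0, 0, 1, 1, 0, 0, 0], [], [], [], [], [], [1, 15, 46, 0], [], [1, 41, 26, 0], [], [], [1, 32, 41, 0], []],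
   [[1, 5, 15, 0], [1, 0, 24, 0], [1, 0, 26, 0], [0, 0, 0, 1, -1, 0, 0, 0], [1, 5, 22, 0], [1, 0, 32, 0], [1, 1, 32, 0], [0, 0, 0, 1, 1, 0, 0, 0], [], [], [1, 3, 36, 0], [], [0, 0, 0, 1, 0, 0, -1, 0], [0, 0, 0, 1, 0, 0, 1, 0], [], [1, 16, 22, 0], [1, 0, 43, 0], [1, 1, 43, 0], [], [0, 0, 0, 1, 0, 0, -1, 0], [0, 0, 0, 1, 0, 0, 1, 0], [], [1, 31, 15, 0], [], [1, 26, 22, 0], [1, 32, 16, 0], [1, 6, 43, 0], [], [], [0, 0, 0, 1, -1, 0, 0, 0], [], [1, 4, 47, 0], [1, 25, 31, 0], [], [], [], [0, 0, 0, 1, 1, 0, 0, 0], [], [], [], [], [], [1, 15, 47, 0], [1, 25, 42, 0], [], [], [], [1, 32, 42, 0]],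
   [[1, 1, 23, 0], [1, 2, 22, 0], [1, 1, 25, 0], [0, 0, 0, 1, -1, 0, 0, 1], [1, 5, 22, 0], [1, 0, 32, 0], [1, 1, 32, 0], [], [0, 0, 0, 1, 0, 0, -1, 0], [0, 0, 0, 1, 0, 0, 1, 0], [], [1, 8, 28, 0], [], [], [0, 0, 0, 1, 0, 1, 0, 1], [1, 16, 22, 0], [1, 15, 25, 0], [], [0, 0, 0, 1, 0, -1, 0, -1], [], [], [1, 4, 41, 0], [1, 31, 15, 0], [1, 25, 21, 0], [], [1, 32, 16, 0], [], [0, 0, 0, 1, 0, 0, -1, 0], [0, 0, 0, 1, 0, 0, 1, 0], [], [1, 4, 46, 0], [1, 22, 32, 0], [1, 25, 31, 0], [], [], [], [], [0, 0, 0, 1, 1, 0, 0, -1], [], [], [], [1, 15, 46, 0], [], [], [], [1, 22, 46, 0], [1, 25, 45, 0], []],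
   [[1, 2, 21, 0], [1, 0, 24, 0], [1, 0, 26, 0], [0, 0, 0, 1, -1, 0, 0, -1], [1, 5, 22, 0], [1, 0, 32, 0], [1, 1, 32, 0], [], [0, 0, 0, 1, 0, 0, -1, -1], [], [0, 0, 0, 1, 0, 0, 1, 1], [], [1, 3, 38, 0], [], [0, 0, 0, 1, 0, 1, 0, -1], [1, 21, 17, 0], [], [1, 2, 42, 0], [], [0, 0, 0, 1, 0, -1, 0, 1], [], [1, 15, 30, 0], [1, 21, 24, 0], [], [1, 26, 22, 0], [], [1, 17, 32, 0], [0, 0, 0, 1, 0, 0, -1, -1], [], [0, 0, 0, 1, 0, 0, 1, 1], [1, 5, 45, 0], [1, 4, 47, 0], [1, 30, 26, 0], [], [], [], [], [], [0, 0, 0, 1, 1, 0, 0, 1], [], [], [], [1, 15, 47, 0], [], [], [1, 21, 47, 0], [], [1, 26, 45, 0]],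
   [[1, 1, 23, 0], [1, 0, 24, 0], [1, 0, 26, 0], [0, 0, 0, 1, -1, 0, -1, 0], [1, 30, 1, 0], [1, 0, 32, 0], [1, 1, 32, 0], [], [], [0, 0, 0, 1, 0, 0, 0, -1], [0, 0, 0, 1, 0, 0, 0, 1], [], [], [1, 14, 20, 0], [0, 0, 0, 1, 0, 1, 1, 0], [], [1, 0, 43, 0], [1, 1, 43, 0], [], [], [0, 0, 0, 1, 0, -1, -1, 0], [], [], [1, 30, 16, 0], [1, 31, 17, 0], [1, 23, 26, 0], [1, 6, 43, 0], [], [0, 0, 0, 1, 0, 0, 0, -1], [0, 0, 0, 1, 0, 0, 0, 1], [1, 4, 46, 0], [1, 4, 47, 0], [1, 25, 31, 0], [], [], [], [], [], [], [0, 0, 0, 1, 1, 0, 1, 0], [], [], [], [1, 46, 17, 0], [], [], [1, 23, 47, 0], [1, 24, 46, 0]],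
   [[1, 1, 23, 0], [1, 0, 24, 0], [1, 0, 26, 0], [0, 0, 0, 1, -1, -2, 0, 0], [1, 5, 22, 0], [1, 0, 32, 0], [1, 1, 32, 0], [], [], [], [], [0, 0, 0, 1, 0, 0, 0, -1], [0, 0, 0, 1, 0, 0, 0, 1], [0, 0, 0, 1, 0, 0, 1, 0], [1, 11, 29, 0], [], [], [], [], [], [], [1, 22, 23, 0], [1, 21, 24, 0], [1, 25, 21, 0], [1, 26, 22, 0], [1, 23, 26, 0], [1, 24, 25, 0], [0, 0, 0, 1, 0, 0, -1, 0], [0, 0, 0, 1, 0, 0, 0, -1], [0, 0, 0, 1, 0, 0, 0, 1], [1, 4, 46, 0], [1, 4, 47, 0], [1, 25, 31, 0], [], [], [], [], [], [], [], [0, 0, 0, 1, 1, 2, 0, 0], [], [], [], [], [1, 21, 47, 0], [1, 23, 47, 0], [1, 24, 46, 0]],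
   [[1, 1, 23, 0], [1, 0, 24, 0], [2, 3, 20, 2, 0, -1, 0, 0], [1, 10, 11, 0], [2, 3, 27, 2, 0, 1, 0, 0], [], [], [1, 3, 33, 0], [1, 3, 34, 0], [1, 11, 20, 0], [1, 3, 36, 0], [1, 9, 27, 0], [1, 3, 38, 0], [], [], [1, 16, 22, 0], [1, 0, 43, 0], [1, 1, 43, 0], [1, 8, 35, 0], [1, 7, 38, 0], [1, 35, 10, 0], [1, 4, 41, 0], [1, 21, 24, 0], [2, 35, 11, 2, 0, 0, 0, -1], [2, 36, 12, 2, 0, 0, 0, 1], [], [], [1, 37, 12, 0], [], [], [], [], [], [1, 18, 36, 0], [1, 27, 33, 0], [1, 9, 44, 0], [1, 20, 38, 0], [1, 11, 44, 0], [1, 27, 36, 0], [], [], [1, 16, 45, 0], [1, 22, 43, 0], [2, 20, 44, 2, 0, -1, 0, 0], [1, 36, 37, 0], [2, 27, 44, 2, 0, 1, 0, 0], [], []],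
   [[1, 1, 23, 0], [2, 3, 19, 2, 0, -1, 0, 2], [1, 0, 26, 0], [1, 8, 13, 0], [], [2, 13, 11, 2, -1, -1, 0, 0], [], [1, 3, 33, 0], [1, 3, 34, 0], [1, 11, 20, 0], [1, 3, 36, 0], [1, 8, 28, 0], [], [1, 28, 10, 0], [], [1, 21, 17, 0], [1, 0, 43, 0], [1, 1, 43, 0], [1, 8, 35, 0], [1, 10, 34, 0], [1, 33, 13, 0], [2, 8, 37, 2, 0, 0, -1, -1], [], [1, 25, 21, 0], [], [1, 23, 26, 0], [2, 10, 39, 2, 0, 0, 1, 1], [], [1, 13, 37, 0], [], [], [], [], [1, 18, 36, 0], [1, 37, 19, 0], [1, 9, 44, 0], [1, 19, 39, 0], [1, 11, 44, 0], [], [1, 13, 44, 0], [], [1, 15, 46, 0], [2, 36, 34, 2, 1, 1, 0, 0], [1, 25, 42, 0], [1, 34, 39, 0], [], [2, 28, 44, 2, 0, 1, 0, -2], []],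
   [[2, 3, 18, 2, 0, -1, 0, -2], [1, 0, 24, 0], [1, 0, 26, 0], [1, 8, 13, 0], [], [], [2, 3, 29, 2, -1, -1, 0, 0], [1, 3, 33, 0], [1, 3, 34, 0], [1, 18, 13, 0], [1, 3, 36, 0], [], [1, 3, 38, 0], [1, 29, 9, 0], [], [1, 16, 22, 0], [1, 0, 43, 0], [1, 1, 43, 0], [1, 8, 35, 0], [1, 7, 38, 0], [1, 33, 13, 0], [], [2, 34, 12, 2, 0, 0, -1, 0], [], [1, 26, 22, 0], [2, 35, 13, 2, 0, 0, 1, 0], [1, 6, 43, 0], [], [], [1, 12, 39, 0], [], [], [], [1, 18, 36, 0], [1, 38, 18, 0], [1, 9, 44, 0], [1, 19, 39, 0], [], [1, 34, 29, 0], [1, 13, 44, 0], [], [2, 18, 44, 2, 1, 1, 0, 0], [1, 15, 47, 0], [1, 25, 42, 0], [1, 34, 39, 0], [], [], [2, 29, 44, 2, 0, 1, 0, 2]],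
   [[1, 1, 23, 0], [1, 2, 22, 0], [1, 1, 25, 0], [], [1, 5, 22, 0], [1, 4, 25, 0], [], [0, 0, 0, 1, 0, -1, 0, 0], [0, 0, 0, 1, 0, 0, -1, 0], [0, 0, 0, 1, 0, 0, 1, 0], [], [0, 0, 0, 1, 0, 1, 0, 0], [], [], [], [1, 16, 22, 0], [1, 0, 43, 0], [1, 1, 43, 0], [1, 8, 35, 0], [], [], [1, 4, 41, 0], [1, 42, 4, 0], [1, 25, 21, 0], [], [1, 43, 5, 0], [], [], [], [], [1, 4, 46, 0], [], [], [0, 0, 0, 1, 0, -1, 0, 0], [0, 0, 0, 1, 0, 0, -1, 0], [0, 0, 0, 1, 0, 0, 1, 0], [], [0, 0, 0, 1, 0, 1, 0, 0], [], [], [], [1, 15, 46, 0], [1, 22, 43, 0], [1, 25, 42, 0], [], [1, 22, 46, 0], [1, 25, 45, 0], []],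
   [[1, 2, 21, 0], [1, 0, 24, 0], [1, 0, 26, 0], [], [1, 21, 6, 0], [], [1, 2, 31, 0], [0, 0, 0, 1, 0, -1, 0, 0], [0, 0, 0, 1, 0, 1, 0, 0], [], [0, 0, 0, 1, 0, -1, 0, 0], [], [0, 0, 0, 1, 0, 1, 0, 0], [], [], [1, 16, 22, 0], [1, 0, 43, 0], [1, 1, 43, 0], [], [1, 7, 38, 0], [], [1, 4, 41, 0], [1, 21, 24, 0], [], [1, 26, 22, 0], [], [1, 6, 43, 0], [], [], [], [], [1, 4, 47, 0], [], [0, 0, 0, 1, 0, -1, 0, 0], [0, 0, 0, 1, 0, 1, 0, 0], [], [0, 0, 0, 1, 0, -1, 0, 0], [], [0, 0, 0, 1, 0, 1, 0, 0], [], [], [1, 16, 45, 0], [1, 15, 47, 0], [1, 41, 26, 0], [], [1, 21, 47, 0], [], [1, 26, 45, 0]],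
   [[1, 1, 23, 0], [1, 0, 24, 0], [1, 0, 26, 0], [], [], [1, 0, 32, 0], [1, 1, 32, 0], [0, 0, 0, 1, 1, 0, -1, 0], [], [0, 0, 0, 1, 0, 0, 0, -1], [0, 0, 0, 1, 0, 0, 0, 1], [], [], [0, 0, 0, 1, 0, 1, 2, 0], [], [1, 41, 1, 0], [1, 0, 43, 0], [1, 1, 43, 0], [], [], [1, 33, 13, 0], [], [], [1, 41, 5, 0], [1, 42, 6, 0], [1, 23, 26, 0], [1, 6, 43, 0], [], [], [], [], [], [1, 46, 6, 0], [0, 0, 0, 1, 0, -1, -2, 0], [], [0, 0, 0, 1, 0, 0, 0, -1], [0, 0, 0, 1, 0, 0, 0, 1], [], [], [0, 0, 0, 1, -1, 0, 1, 0], [], [1, 15, 46, 0], [1, 15, 47, 0], [1, 25, 42, 0], [], [], [1, 23, 47, 0], [1, 24, 46, 0]],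
   [[1, 1, 23, 0], [2, 3, 19, 2, 0, 0, -1, 1], [], [1, 7, 14, 0], [1, 5, 22, 0], [2, 9, 14, 2, -1, 0, 0, 0], [], [1, 3, 33, 0], [1, 3, 34, 0], [1, 28, 7, 0], [], [1, 8, 28, 0], [1, 3, 38, 0], [], [1, 12, 28, 0], [1, 16, 22, 0], [2, 7, 35, 2, 1, 0, 0, 0], [], [1, 8, 35, 0], [1, 7, 38, 0], [], [1, 4, 41, 0], [1, 31, 15, 0], [1, 30, 16, 0], [], [], [], [1, 34, 14, 0], [1, 9, 40, 0], [], [1, 4, 46, 0], [2, 12, 40, 2, -1, 0, 0, 0], [], [1, 19, 35, 0], [1, 27, 33, 0], [1, 9, 44, 0], [], [1, 11, 44, 0], [1, 40, 19, 0], [], [1, 14, 44, 0], [1, 15, 46, 0], [2, 33, 38, 2, 1, 0, 0, 0], [], [1, 33, 40, 0], [1, 22, 46, 0], [2, 28, 44, 2, 0, 0, 1, -1], []],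
   [[2, 3, 18, 2, 0, 0, -1, -2], [1, 0, 24, 0], [], [1, 7, 14, 0], [1, 21, 6, 0], [], [2, 3, 29, 2, -1, 0, 0, 0], [1, 3, 33, 0], [1, 3, 34, 0], [], [1, 3, 36, 0], [1, 14, 18, 0], [1, 3, 38, 0], [], [1, 11, 29, 0], [1, 21, 17, 0], [], [2, 33, 10, 2, 1, 0, 0, 0], [1, 33, 11, 0], [1, 7, 38, 0], [], [1, 4, 41, 0], [1, 21, 24, 0], [], [1, 31, 17, 0], [], [], [1, 34, 14, 0], [], [1, 36, 14, 0], [2, 37, 14, 2, -1, 0, 0, 0], [1, 4, 47, 0], [], [1, 18, 36, 0], [1, 27, 33, 0], [], [1, 29, 33, 0], [1, 11, 44, 0], [1, 27, 36, 0], [], [1, 14, 44, 0], [2, 18, 44, 2, 1, 0, 0, 0], [1, 15, 47, 0], [], [1, 33, 40, 0], [1, 21, 47, 0], [], [2, 29, 44, 2, 0, 0, 1, 2]],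
   [[1, 2, 21, 0], [], [2, 3, 20, 2, 0, -1, 0, 0], [1, 7, 14, 0], [2, 3, 27, 2, 0, 1, 0, 0], [1, 0, 32, 0], [], [1, 3, 33, 0], [1, 3, 34, 0], [1, 11, 20, 0], [], [1, 8, 28, 0], [], [1, 14, 20, 0], [1, 13, 27, 0], [2, 33, 8, 2, 1, 0, 0, 0], [1, 0, 43, 0], [], [1, 8, 35, 0], [], [1, 33, 13, 0], [1, 4, 41, 0], [], [1, 25, 21, 0], [], [1, 32, 16, 0], [], [1, 34, 14, 0], [1, 9, 40, 0], [], [1, 4, 46, 0], [], [2, 39, 14, 2, -1, 0, 0, 0], [1, 20, 34, 0], [1, 27, 33, 0], [1, 9, 44, 0], [], [1, 11, 44, 0], [], [1, 13, 44, 0], [1, 14, 44, 0], [1, 15, 46, 0], [], [2, 20, 44, 2, 0, -1, 0, 0], [1, 33, 40, 0], [2, 27, 44, 2, 0, 1, 0, 0], [1, 25, 45, 0], []],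
   [[], [1, 2, 22, 0], [2, 3, 20, 2, 0, -1, 0, 0], [1, 7, 14, 0], [2, 3, 27, 2, 0, 1, 0, 0], [], [1, 1, 32, 0], [1, 3, 33, 0], [1, 3, 34, 0], [], [1, 3, 36, 0], [], [1, 3, 38, 0], [1, 14, 20, 0], [1, 13, 27, 0], [2, 33, 8, 2, 1, 0, 0, 0], [], [1, 1, 43, 0], [], [1, 7, 38, 0], [1, 33, 13, 0], [], [1, 31, 15, 0], [], [1, 26, 22, 0], [], [1, 6, 43, 0], [1, 34, 14, 0], [], [1, 12, 39, 0], [], [1, 4, 47, 0], [2, 39, 14, 2, -1, 0, 0, 0], [1, 20, 34, 0], [1, 27, 33, 0], [], [1, 19, 39, 0], [], [1, 27, 36, 0], [1, 13, 44, 0], [1, 14, 44, 0], [], [1, 15, 47, 0], [2, 20, 44, 2, 0, -1, 0, 0], [1, 33, 40, 0], [2, 27, 44, 2, 0, 1, 0, 0], [], [1, 26, 45, 0]],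
   [[2, 3, 18, 2, 0, 0, -1, -2], [], [1, 0, 26, 0], [1, 7, 14, 0], [], [1, 0, 32, 0], [2, 3, 29, 2, -1, 0, 0, 0], [1, 3, 33, 0], [], [1, 11, 20, 0], [1, 3, 36, 0], [1, 14, 18, 0], [], [1, 14, 20, 0], [1, 11, 29, 0], [], [1, 0, 43, 0], [2, 33, 10, 2, 1, 0, 0, 0], [1, 33, 11, 0], [], [1, 33, 13, 0], [], [], [1, 30, 16, 0], [], [1, 23, 26, 0], [1, 6, 43, 0], [], [1, 9, 40, 0], [1, 36, 14, 0], [2, 37, 14, 2, -1, 0, 0, 0], [], [1, 30, 26, 0], [1, 18, 36, 0], [], [1, 9, 44, 0], [1, 29, 33, 0], [1, 11, 44, 0], [], [1, 13, 44, 0], [1, 14, 44, 0], [2, 18, 44, 2, 1, 0, 0, 0], [], [1, 41, 26, 0], [1, 33, 40, 0], [], [1, 23, 47, 0], [2, 29, 44, 2, 0, 0, 1, 2]],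
   [[], [2, 3, 19, 2, 0, 0, -1, 1], [1, 1, 25, 0], [1, 7, 14, 0], [], [2, 9, 14, 2, -1, 0, 0, 0], [1, 1, 32, 0], [1, 3, 33, 0], [], [1, 28, 7, 0], [1, 3, 36, 0], [], [1, 3, 38, 0], [1, 14, 20, 0], [1, 12, 28, 0], [], [2, 7, 35, 2, 1, 0, 0, 0], [1, 1, 43, 0], [], [1, 7, 38, 0], [1, 33, 13, 0], [], [], [], [1, 31, 17, 0], [1, 32, 16, 0], [1, 6, 43, 0], [], [1, 9, 40, 0], [1, 12, 39, 0], [], [2, 12, 40, 2, -1, 0, 0, 0], [1, 25, 31, 0], [1, 19, 35, 0], [], [1, 9, 44, 0], [1, 19, 39, 0], [], [1, 40, 19, 0], [1, 13, 44, 0], [1, 14, 44, 0], [], [2, 33, 38, 2, 1, 0, 0, 0], [1, 25, 42, 0], [1, 33, 40, 0], [], [2, 28, 44, 2, 0, 0, 1, -1], [1, 24, 46, 0]],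
   [[1, 1, 23, 0], [1, 0, 24, 0], [], [], [1, 5, 22, 0], [1, 0, 32, 0], [1, 1, 32, 0], [], [0, 0, 0, 1, 1, 0, -1, 0], [], [], [0, 0, 0, 1, 0, 0, 0, -1], [0, 0, 0, 1, 0, 0, 0, 1], [], [0, 0, 0, 1, 0, 1, 2, 0], [1, 41, 1, 0], [], [], [], [], [], [1, 4, 41, 0], [1, 21, 24, 0], [1, 41, 5, 0], [1, 42, 6, 0], [], [], [1, 34, 14, 0], [], [], [1, 4, 46, 0], [1, 4, 47, 0], [1, 46, 6, 0], [], [0, 0, 0, 1, 0, -1, -2, 0], [], [], [0, 0, 0, 1, 0, 0, 0, -1], [0, 0, 0, 1, 0, 0, 0, 1], [], [0, 0, 0, 1, -1, 0, 1, 0], [1, 15, 46, 0], [1, 15, 47, 0], [], [], [1, 21, 47, 0], [1, 23, 47, 0], [1, 24, 46, 0]],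
   [[1, 2, 21, 0], [], [1, 0, 26, 0], [], [1, 21, 6, 0], [1, 0, 32, 0], [1, 2, 31, 0], [], [], [0, 0, 0, 1, 0, -1, 0, 0], [], [0, 0, 0, 1, 0, 1, 0, 0], [], [0, 0, 0, 1, 0, -1, 0, 0], [0, 0, 0, 1, 0, 1, 0, 0], [], [1, 0, 43, 0], [], [], [], [], [1, 4, 41, 0], [], [1, 25, 21, 0], [], [1, 23, 26, 0], [1, 6, 43, 0], [], [1, 9, 40, 0], [], [1, 4, 46, 0], [1, 4, 47, 0], [1, 25, 31, 0], [], [], [0, 0, 0, 1, 0, -1, 0, 0], [], [0, 0, 0, 1, 0, 1, 0, 0], [], [0, 0, 0, 1, 0, -1, 0, 0], [0, 0, 0, 1, 0, 1, 0, 0], [1, 16, 45, 0], [], [1, 41, 26, 0], [], [1, 21, 47, 0], [1, 23, 47, 0], [1, 26, 45, 0]],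
   [[], [1, 2, 22, 0], [1, 1, 25, 0], [], [1, 5, 22, 0], [1, 4, 25, 0], [1, 1, 32, 0], [], [], [], [0, 0, 0, 1, 0, -1, 0, 0], [], [0, 0, 0, 1, 0, 0, -1, 0], [0, 0, 0, 1, 0, 0, 1, 0], [0, 0, 0, 1, 0, 1, 0, 0], [], [], [1, 1, 43, 0], [], [], [], [], [1, 42, 4, 0], [], [1, 26, 22, 0], [1, 43, 5, 0], [1, 6, 43, 0], [], [], [1, 12, 39, 0], [1, 4, 46, 0], [1, 4, 47, 0], [1, 25, 31, 0], [], [], [], [0, 0, 0, 1, 0, -1, 0, 0], [], [0, 0, 0, 1, 0, 0, -1, 0], [0, 0, 0, 1, 0, 0, 1, 0], [0, 0, 0, 1, 0, 1, 0, 0], [], [1, 22, 43, 0], [1, 25, 42, 0], [], [1, 22, 46, 0], [1, 25, 45, 0], [1, 24, 46, 0]],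
   [[2, 3, 18, 2, 0, -1, 0, -2], [], [], [1, 8, 13, 0], [1, 5, 22, 0], [1, 0, 32, 0], [2, 3, 29, 2, -1, -1, 0, 0], [], [1, 3, 34, 0], [1, 18, 13, 0], [], [1, 8, 28, 0], [1, 3, 38, 0], [1, 29, 9, 0], [1, 11, 29, 0], [], [], [], [1, 8, 35, 0], [], [], [1, 4, 41, 0], [2, 34, 12, 2, 0, 0, -1, 0], [1, 25, 21, 0], [], [2, 35, 13, 2, 0, 0, 1, 0], [], [1, 34, 14, 0], [1, 9, 40, 0], [1, 12, 39, 0], [1, 4, 46, 0], [1, 4, 47, 0], [1, 25, 31, 0], [], [1, 38, 18, 0], [1, 9, 44, 0], [], [1, 11, 44, 0], [1, 34, 29, 0], [1, 13, 44, 0], [1, 14, 44, 0], [2, 18, 44, 2, 1, 1, 0, 0], [], [], [1, 34, 39, 0], [1, 21, 47, 0], [1, 23, 47, 0], [2, 29, 44, 2, 0, 1, 0, 2]],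
   [[], [2, 3, 19, 2, 0, -1, 0, 2], [], [1, 8, 13, 0], [1, 5, 22, 0], [2, 13, 11, 2, -1, -1, 0, 0], [1, 1, 32, 0], [], [1, 3, 34, 0], [], [1, 3, 36, 0], [1, 8, 28, 0], [1, 3, 38, 0], [1, 28, 10, 0], [1, 11, 29, 0], [], [], [], [], [1, 10, 34, 0], [], [2, 8, 37, 2, 0, 0, -1, -1], [1, 21, 24, 0], [], [1, 26, 22, 0], [], [2, 10, 39, 2, 0, 0, 1, 1], [1, 34, 14, 0], [1, 13, 37, 0], [1, 12, 39, 0], [1, 4, 46, 0], [1, 4, 47, 0], [1, 30, 26, 0], [], [1, 37, 19, 0], [], [1, 19, 39, 0], [1, 11, 44, 0], [1, 27, 36, 0], [1, 13, 44, 0], [1, 14, 44, 0], [], [2, 36, 34, 2, 1, 1, 0, 0], [], [1, 34, 39, 0], [1, 21, 47, 0], [2, 28, 44, 2, 0, 1, 0, -2], [1, 24, 46, 0]],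
   [[], [], [2, 3, 20, 2, 0, -1, 0, 0], [1, 10, 11, 0], [2, 3, 27, 2, 0, 1, 0, 0], [1, 4, 25, 0], [1, 2, 31, 0], [], [], [1, 11, 20, 0], [1, 3, 36, 0], [1, 9, 27, 0], [1, 3, 38, 0], [1, 14, 20, 0], [1, 11, 29, 0], [], [], [], [], [], [1, 35, 10, 0], [], [], [2, 35, 11, 2, 0, 0, 0, -1], [2, 36, 12, 2, 0, 0, 0, 1], [1, 23, 26, 0], [1, 6, 43, 0], [1, 37, 12, 0], [1, 9, 40, 0], [1, 12, 39, 0], [1, 4, 46, 0], [1, 4, 47, 0], [1, 25, 31, 0], [], [], [1, 9, 44, 0], [1, 20, 38, 0], [1, 11, 44, 0], [1, 27, 36, 0], [1, 13, 44, 0], [1, 14, 44, 0], [], [], [2, 20, 44, 2, 0, -1, 0, 0], [1, 36, 37, 0], [2, 27, 44, 2, 0, 1, 0, 0], [1, 23, 47, 0], [1, 24, 46, 0]],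
   [[1, 1, 23, 0], [1, 0, 24, 0], [1, 0, 26, 0], [], [], [], [], [0, 0, 0, 1, -1, -2, 0, 0], [], [], [], [], [], [], [], [1, 16, 22, 0], [1, 0, 43, 0], [1, 1, 43, 0], [0, 0, 0, 1, 0, 0, 0, -1], [0, 0, 0, 1, 0, 0, 0, 1], [0, 0, 0, 1, 0, 0, 1, 0], [1, 22, 23, 0], [1, 21, 24, 0], [1, 25, 21, 0], [1, 26, 22, 0], [1, 23, 26, 0], [1, 24, 25, 0], [], [], [], [], [], [], [1, 18, 36, 0], [0, 0, 0, 1, 0, 0, -1, 0], [0, 0, 0, 1, 0, 0, 0, -1], [0, 0, 0, 1, 0, 0, 0, 1], [], [], [], [], [1, 15, 46, 0], [1, 15, 47, 0], [1, 25, 42, 0], [0, 0, 0, 1, 1, 2, 0, 0], [1, 21, 47, 0], [1, 23, 47, 0], [1, 24, 46, 0]],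
   [[1, 1, 23, 0], [1, 0, 24, 0], [], [], [1, 30, 1, 0], [], [], [], [0, 0, 0, 1, -1, 0, -1, 0], [], [], [], [], [], [], [1, 16, 22, 0], [1, 0, 43, 0], [1, 1, 43, 0], [0, 0, 0, 1, 0, 0, 0, -1], [0, 0, 0, 1, 0, 0, 0, 1], [], [1, 4, 41, 0], [1, 21, 24, 0], [1, 30, 16, 0], [1, 31, 17, 0], [], [], [0, 0, 0, 1, 0, 1, 1, 0], [], [], [1, 4, 46, 0], [1, 4, 47, 0], [], [0, 0, 0, 1, 0, -1, -1, 0], [1, 27, 33, 0], [], [], [0, 0, 0, 1, 0, 0, 0, -1], [0, 0, 0, 1, 0, 0, 0, 1], [], [], [1, 15, 46, 0], [1, 15, 47, 0], [1, 46, 17, 0], [0, 0, 0, 1, 1, 0, 1, 0], [1, 21, 47, 0], [1, 23, 47, 0], [1, 24, 46, 0]],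
   [[1, 2, 21, 0], [], [1, 0, 26, 0], [], [], [1, 0, 32, 0], [], [], [], [0, 0, 0, 1, -1, 0, 0, -1], [], [], [], [], [], [1, 21, 17, 0], [1, 0, 43, 0], [1, 2, 42, 0], [0, 0, 0, 1, 0, 0, -1, -1], [], [0, 0, 0, 1, 0, 0, 1, 1], [1, 15, 30, 0], [], [1, 25, 21, 0], [], [1, 23, 26, 0], [1, 17, 32, 0], [], [0, 0, 0, 1, 0, 1, 0, -1], [], [1, 5, 45, 0], [], [1, 30, 26, 0], [0, 0, 0, 1, 0, -1, 0, 1], [], [1, 9, 44, 0], [], [0, 0, 0, 1, 0, 0, -1, -1], [], [0, 0, 0, 1, 0, 0, 1, 1], [], [1, 15, 46, 0], [1, 15, 47, 0], [1, 25, 42, 0], [0, 0, 0, 1, 1, 0, 0, 1], [1, 21, 47, 0], [1, 23, 47, 0], [1, 26, 45, 0]],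
   [[], [1, 2, 22, 0], [1, 1, 25, 0], [], [], [], [1, 1, 32, 0], [], [], [], [0, 0, 0, 1, -1, 0, 0, 1], [], [], [], [], [1, 16, 22, 0], [1, 15, 25, 0], [1, 1, 43, 0], [], [0, 0, 0, 1, 0, 0, -1, 0], [0, 0, 0, 1, 0, 0, 1, 0], [], [1, 31, 15, 0], [], [1, 26, 22, 0], [1, 32, 16, 0], [1, 6, 43, 0], [], [], [0, 0, 0, 1, 0, 1, 0, 1], [], [1, 22, 32, 0], [1, 25, 31, 0], [0, 0, 0, 1, 0, -1, 0, -1], [], [], [1, 19, 39, 0], [], [0, 0, 0, 1, 0, 0, -1, 0], [0, 0, 0, 1, 0, 0, 1, 0], [], [1, 15, 46, 0], [1, 15, 47, 0], [1, 25, 42, 0], [0, 0, 0, 1, 1, 0, 0, -1], [1, 22, 46, 0], [1, 25, 45, 0], [1, 24, 46, 0]],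
   [[1, 5, 15, 0], [], [], [], [1, 5, 22, 0], [1, 0, 32, 0], [], [], [], [], [], [0, 0, 0, 1, -1, 0, 0, 0], [], [], [], [1, 16, 22, 0], [1, 0, 43, 0], [], [0, 0, 0, 1, 1, 0, 0, 0], [], [], [1, 4, 41, 0], [1, 31, 15, 0], [1, 25, 21, 0], [], [1, 32, 16, 0], [], [0, 0, 0, 1, 0, 0, -1, 0], [0, 0, 0, 1, 0, 0, 1, 0], [], [1, 4, 46, 0], [1, 4, 47, 0], [1, 25, 31, 0], [], [0, 0, 0, 1, 0, 0, -1, 0], [0, 0, 0, 1, 0, 0, 1, 0], [], [1, 11, 44, 0], [], [], [0, 0, 0, 1, -1, 0, 0, 0], [1, 15, 46, 0], [1, 15, 47, 0], [1, 25, 42, 0], [0, 0, 0, 1, 1, 0, 0, 0], [1, 21, 47, 0], [1, 23, 47, 0], [1, 32, 42, 0]],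
   [[], [1, 6, 15, 0], [], [], [1, 21, 6, 0], [], [1, 1, 32, 0], [], [], [], [], [], [0, 0, 0, 1, -1, 0, 0, 0], [], [], [1, 21, 17, 0], [], [1, 1, 43, 0], [], [0, 0, 0, 1, 1, 0, 0, 0], [], [1, 4, 41, 0], [1, 21, 24, 0], [], [1, 26, 22, 0], [], [1, 6, 43, 0], [0, 0, 0, 1, -1, 0, 0, 0], [], [0, 0, 0, 1, -1, 0, 0, 0], [1, 4, 46, 0], [1, 4, 47, 0], [1, 30, 26, 0], [], [0, 0, 0, 1, 1, 0, 0, 0], [], [0, 0, 0, 1, 1, 0, 0, 0], [], [1, 27, 36, 0], [], [0, 0, 0, 1, -1, 0, 0, 0], [1, 15, 46, 0], [1, 15, 47, 0], [1, 41, 26, 0], [0, 0, 0, 1, 1, 0, 0, 0], [1, 21, 47, 0], [1, 32, 41, 0], [1, 24, 46, 0]],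
   [[], [], [1, 6, 16, 0], [], [], [1, 6, 23, 0], [1, 2, 31, 0], [], [], [], [], [], [], [0, 0, 0, 1, -1, 0, 0, 0], [], [], [1, 17, 23, 0], [1, 2, 42, 0], [], [], [0, 0, 0, 1, 1, 0, 0, 0], [], [], [1, 30, 16, 0], [1, 31, 17, 0], [1, 23, 26, 0], [1, 6, 43, 0], [], [0, 0, 0, 1, 0, 0, 0, -1], [0, 0, 0, 1, 0, 0, 0, 1], [1, 5, 45, 0], [1, 24, 30, 0], [1, 25, 31, 0], [], [], [0, 0, 0, 1, 0, 0, 0, -1], [0, 0, 0, 1, 0, 0, 0, 1], [], [], [1, 13, 44, 0], [0, 0, 0, 1, -1, 0, 0, 0], [1, 16, 45, 0], [1, 24, 41, 0], [1, 25, 42, 0], [0, 0, 0, 1, 1, 0, 0, 0], [1, 31, 41, 0], [1, 23, 47, 0], [1, 24, 46, 0]],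
   [[], [], [], [], [1, 5, 22, 0], [1, 4, 25, 0], [1, 5, 24, 0], [], [], [], [], [], [], [], [0, 0, 0, 1, -1, -1, 0, 0], [], [], [], [], [], [], [1, 4, 41, 0], [1, 21, 24, 0], [1, 25, 21, 0], [1, 26, 22, 0], [1, 23, 26, 0], [1, 6, 43, 0], [0, 0, 0, 1, 0, 0, -1, 0], [0, 0, 0, 1, 0, 0, 0, -1], [0, 0, 0, 1, 0, 0, 0, 1], [1, 4, 46, 0], [1, 4, 47, 0], [1, 25, 31, 0], [], [], [], [], [0, 0, 0, 1, 0, 0, 0, -1], [0, 0, 0, 1, 0, 0, 0, 1], [0, 0, 0, 1, 0, 0, 1, 0], [1, 14, 44, 0], [1, 23, 42, 0], [1, 22, 43, 0], [1, 25, 42, 0], [0, 0, 0, 1, 1, 1, 0, 0], [1, 21, 47, 0], [1, 23, 47, 0], [1, 24, 46, 0]],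
   [[2, 7, 11, 2, -1, 0, 0, -2], [], [], [], [], [], [], [1, 8, 20, 0], [1, 7, 27, 0], [1, 11, 20, 0], [], [1, 8, 28, 0], [], [], [], [1, 16, 22, 0], [1, 0, 43, 0], [2, 19, 20, 2, 0, -1, 0, 0], [1, 8, 35, 0], [1, 7, 38, 0], [1, 36, 9, 0], [1, 15, 30, 0], [2, 27, 19, 2, 0, 0, -1, 0], [1, 25, 21, 0], [], [2, 28, 20, 2, 0, 0, 1, 0], [], [1, 38, 11, 0], [1, 9, 40, 0], [], [2, 27, 28, 2, 0, 1, 0, 0], [], [], [1, 18, 36, 0], [1, 27, 33, 0], [1, 9, 44, 0], [1, 19, 39, 0], [1, 11, 44, 0], [1, 27, 36, 0], [1, 20, 40, 0], [1, 27, 39, 0], [1, 15, 46, 0], [1, 15, 47, 0], [1, 25, 42, 0], [1, 33, 40, 0], [1, 21, 47, 0], [1, 23, 47, 0], [2, 36, 40, 2, 1, 0, 0, 2]],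
   [[], [2, 7, 12, 2, -1, 0, 0, 2], [], [], [], [], [], [1, 8, 20, 0], [1, 7, 27, 0], [], [1, 7, 29, 0], [], [1, 10, 27, 0], [], [], [1, 16, 22, 0], [2, 7, 35, 2, 0, -1, 0, 0], [1, 1, 43, 0], [1, 8, 35, 0], [1, 7, 38, 0], [1, 35, 10, 0], [2, 8, 37, 2, 0, 1, 0, 0], [1, 21, 24, 0], [], [1, 26, 22, 0], [], [2, 10, 39, 2, 0, -1, 0, 0], [1, 37, 12, 0], [], [1, 12, 39, 0], [], [2, 12, 40, 2, 0, 1, 0, 0], [], [1, 18, 36, 0], [1, 27, 33, 0], [1, 20, 37, 0], [1, 19, 39, 0], [1, 18, 40, 0], [1, 27, 36, 0], [1, 20, 40, 0], [1, 27, 39, 0], [1, 15, 46, 0], [1, 15, 47, 0], [1, 41, 26, 0], [1, 33, 40, 0], [1, 21, 47, 0], [2, 35, 40, 2, 1, 0, 0, -2], [1, 24, 46, 0]],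
   [[], [], [2, 7, 13, 2, -1, -1, 0, 0], [], [], [], [], [1, 10, 18, 0], [], [1, 18, 13, 0], [1, 7, 29, 0], [], [], [1, 28, 10, 0], [], [2, 18, 19, 2, 1, 1, 0, 0], [1, 15, 25, 0], [1, 2, 42, 0], [1, 9, 34, 0], [1, 7, 38, 0], [1, 33, 13, 0], [], [], [2, 28, 18, 2, 0, 0, 0, -1], [2, 29, 19, 2, 0, 0, 0, 1], [1, 23, 26, 0], [1, 17, 32, 0], [], [1, 9, 40, 0], [1, 13, 38, 0], [], [], [2, 28, 29, 2, -1, -1, 0, 0], [1, 18, 36, 0], [1, 37, 19, 0], [1, 9, 44, 0], [1, 19, 39, 0], [1, 18, 40, 0], [1, 34, 29, 0], [1, 13, 44, 0], [1, 29, 37, 0], [1, 15, 46, 0], [1, 15, 47, 0], [1, 25, 42, 0], [1, 33, 40, 0], [2, 34, 40, 2, 1, 1, 0, 0], [1, 23, 47, 0], [1, 24, 46, 0]],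
   [[], [], [], [], [], [], [], [], [], [], [], [], [], [], [], [1, 16, 22, 0], [1, 15, 25, 0], [1, 16, 24, 0], [], [], [], [1, 15, 30, 0], [1, 21, 24, 0], [1, 25, 21, 0], [1, 26, 22, 0], [1, 23, 26, 0], [1, 17, 32, 0], [], [], [], [1, 23, 31, 0], [1, 22, 32, 0], [1, 25, 31, 0], [0, 0, 0, 1, 0, -1, 0, 0], [0, 0, 0, 1, 0, 0, -1, 0], [0, 0, 0, 1, 0, 0, 0, -1], [0, 0, 0, 1, 0, 0, 0, 1], [0, 0, 0, 1, 0, 0, 0, -1], [0, 0, 0, 1, 0, 0, 0, 1], [0, 0, 0, 1, 0, 0, 1, 0], [0, 0, 0, 1, 0, 1, 0, 0], [1, 15, 46, 0], [1, 15, 47, 0], [1, 25, 42, 0], [1, 33, 40, 0], [1, 21, 47, 0], [1, 23, 47, 0], [1, 24, 46, 0]],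
   [[], [], [], [], [2, 8, 14, 2, -1, 0, 0, 0], [], [], [], [1, 11, 19, 0], [], [], [1, 8, 28, 0], [1, 14, 19, 0], [], [1, 11, 29, 0], [2, 18, 19, 2, 1, 0, 0, 0], [], [], [1, 8, 35, 0], [1, 33, 12, 0], [], [1, 4, 41, 0], [1, 21, 24, 0], [2, 28, 18, 2, 0, 0, 0, -1], [2, 29, 19, 2, 0, 0, 0, 1], [], [], [1, 34, 14, 0], [1, 35, 14, 0], [1, 12, 39, 0], [1, 4, 46, 0], [1, 4, 47, 0], [2, 28, 29, 2, -1, 0, 0, 0], [1, 18, 36, 0], [1, 27, 33, 0], [1, 28, 33, 0], [1, 19, 39, 0], [1, 11, 44, 0], [1, 27, 36, 0], [1, 28, 36, 0], [1, 14, 44, 0], [1, 15, 46, 0], [1, 15, 47, 0], [2, 33, 39, 2, 1, 0, 0, 0], [1, 33, 40, 0], [1, 21, 47, 0], [1, 23, 47, 0], [1, 24, 46, 0]],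
   [[], [], [], [], [], [2, 9, 14, 2, -1, 0, 0, 0], [], [], [], [1, 11, 20, 0], [], [1, 9, 27, 0], [], [1, 14, 20, 0], [1, 11, 29, 0], [], [2, 18, 20, 2, 0, -1, 0, 0], [], [1, 9, 34, 0], [], [1, 33, 13, 0], [2, 27, 18, 2, 0, 1, 0, 0], [], [1, 25, 21, 0], [], [1, 23, 26, 0], [2, 29, 20, 2, 0, -1, 0, 0], [1, 34, 14, 0], [1, 9, 40, 0], [1, 13, 38, 0], [1, 5, 45, 0], [2, 27, 29, 2, 0, 1, 0, 0], [1, 25, 31, 0], [1, 18, 36, 0], [1, 27, 33, 0], [1, 9, 44, 0], [1, 20, 38, 0], [1, 11, 44, 0], [1, 27, 36, 0], [1, 13, 44, 0], [1, 14, 44, 0], [1, 16, 45, 0], [2, 33, 38, 2, 1, 0, 0, 0], [1, 25, 42, 0], [1, 33, 40, 0], [1, 21, 47, 0], [1, 23, 47, 0], [1, 26, 45, 0]],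
   [[], [], [], [], [], [], [2, 10, 14, 2, -1, 0, 0, 0], [], [], [], [1, 12, 20, 0], [], [1, 10, 27, 0], [1, 14, 20, 0], [1, 12, 28, 0], [], [], [2, 19, 20, 2, 0, -1, 0, 0], [], [1, 10, 34, 0], [1, 33, 13, 0], [], [2, 27, 19, 2, 0, 0, -1, 0], [], [1, 26, 22, 0], [2, 28, 20, 2, 0, 0, 1, 0], [1, 6, 43, 0], [1, 34, 14, 0], [1, 13, 37, 0], [1, 12, 39, 0], [2, 27, 28, 2, 0, 1, 0, 0], [1, 22, 32, 0], [1, 25, 31, 0], [1, 19, 35, 0], [1, 27, 33, 0], [1, 20, 37, 0], [1, 19, 39, 0], [1, 27, 35, 0], [1, 27, 36, 0], [1, 13, 44, 0], [1, 14, 44, 0], [2, 33, 37, 2, 1, 0, 0, 0], [1, 22, 43, 0], [1, 25, 42, 0], [1, 33, 40, 0], [1, 22, 46, 0], [1, 25, 45, 0], [1, 24, 46, 0]]]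

def wordsF4 : List (List ℕ) :=
  [[], [2, 1, 2, 0, 1, 2, 3, 2, 1, 2, 0, 1, 2, 3, 2, 1, 2, 0, 1, 2, 0, 1, 0], [1, 2, 3, 2, 1, 2, 0, 1, 2, 0, 1, 0], [2, 0, 1, 2, 3, 2, 1, 2, 0, 1, 2, 3, 2], [0, 1, 2, 3, 1, 2, 0, 1, 2, 1, 0], [2, 1, 2, 3, 2, 1, 2, 0, 1, 2, 3, 2, 1], [3, 2, 1, 2, 0, 1, 2, 3, 1, 2, 0], [2, 1, 2, 0, 1, 2, 3, 2, 0, 1, 2, 0, 1], [2, 1, 2, 0, 1, 2, 1, 0], [3, 2, 1, 2, 0, 1, 2, 3, 2, 0, 1, 2, 0, 1], [2, 3, 1, 2, 0, 1, 2, 0], [1, 2, 0, 1, 2, 3, 2, 1, 2, 0, 1, 2, 3], [3, 0, 1, 2, 0, 1, 0], [0, 1, 2, 3, 1, 2, 0, 1, 2]]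

def lwF4 : List (List ℕ) :=
  [[24, 25, 26, 27, 28, 29, 30, 31, 32, 33, 34, 35, 36, 37, 38, 39, 40, 41, 42, 43, 44, 45, 46, 47], [24, 21, 22, 20, 18, 19, 16, 17, 15, 14, 13, 11, 12, 9, 10, 8, 7, 5, 6, 4, 3, 2, 0, 1], [47, 23, 46, 19, 18, 44, 15, 42, 41, 13, 10, 9, 39, 7, 36, 35, 33, 2, 26, 25, 20, 17, 16, 43], [1, 23, 0, 29, 28, 3, 32, 6, 5, 34, 38, 37, 8, 40, 12, 11, 14, 45, 22, 21, 27, 31, 30, 4], [46, 4, 30, 36, 12, 40, 24, 47, 31, 9, 20, 3, 28, 10, 39, 14, 29, 2, 25, 5, 13, 26, 6, 32], [1, 43, 17, 11, 35, 7, 23, 0, 16, 38, 27, 44, 19, 37, 8, 33, 18, 45, 22, 42, 34, 21, 41, 15], [16, 4, 0, 44, 27, 18, 45, 41, 21, 13, 39, 14, 9, 40, 35, 11, 37, 32, 25, 5, 28, 46, 30, 23], [31, 43, 47, 3, 20, 29, 2, 6, 26, 34, 8, 33, 38, 7, 12, 36, 10, 15, 22, 42, 19, 1, 17, 24], [46, 17, 43, 27,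 19, 44, 22, 45, 42, 13, 14, 10, 39, 12, 40, 36, 38, 6, 32, 26, 29, 31, 24, 47], [30, 43, 46, 3, 20, 28, 2, 5, 25, 34, 8, 33, 37, 7, 11, 35, 9, 15, 21, 41, 18, 0, 16, 23], [46, 4, 30, 36, 12, 40, 24, 47, 31, 18, 33, 8, 37, 19, 44, 27, 38, 15, 41, 21, 34, 42, 22, 45], [0, 24, 1, 28, 29, 3, 32, 5, 6, 33, 35, 36, 7, 39, 9, 10, 13, 43, 16, 17, 20, 25, 26, 2], [41, 31, 45, 20, 29, 44, 26, 43, 47, 11, 9, 14, 37, 13, 35, 40, 39, 5, 23, 30, 28, 25, 32, 46], [46, 2, 25, 27, 3, 28, 4, 30, 5, 36, 38, 10, 39, 12, 40, 13, 14, 24, 47, 26, 29, 31, 6, 32]]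

/-- the torus cocharacter for a non-commuting pair -/
def kvF4 (r s : ℕ) : List ℤ := (killTabF4.getD r []).getD s []

/-- the certificate for a commuting pair -/
def ctF4 (r s : ℕ) : List ℤ := (certTabF4.getD r []).getD s []

end Cfsg.Agent.Helper6.CExt
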