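import Mathlib
import Cfsg.Agent.Lib.Helper6.CExtHybChk
import Cfsg.Agent.Lib.Helper6.CExtF4Data

/-!
# The table facts for the hybrid argument, type F4
-/

set_option autoImplicit false
set_option maxRecDepth 1000000
set_option maxHeartbeats 0

namespace Cfsg.Agent.Helper6.CExt

open Cfsg Cfsg.Lie Cfsg.Agent.Helper6.StC

theorem f4_words : ∀ w ∈ wordsF4, ∀ i ∈ w, i < chevF4.rank := by decide

theorem f4_lw : lwF4 = wordsF4.map (listW chevF4) := by decide

theorem f4_unit : (List.range chevF4.nroots).all (unitChk chevF4 unitTabF4) = true := by decide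

theorem f4_kill : (List.range chevF4.nroots).all (killChkH chevF4 kvF4) = true := by decide

theorem f4_cert : (List.range chevF4.nroots).all (certChk chevF4 ctF4) = true := by decide

theorem f4_pair : (List.range chevF4.nroots).all (pairChkT chevF4 lwF4) = true := by decide

theorem hybTab_F4 : HybTab chevF4 :=
  hybTab_of_chk chevF4 unitTabF4 kvF4 ctF4 wordsF4 lwF4 f4_words f4_lw f4_unit f4_kill f4_cert f4_pair

end Cfsg.Agent.Helper6.CExt
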