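import Mathlib
import Cfsg.Agent.Lib.Lead.ChevFactsAll
import Cfsg.Agent.Lib.Lead.ChevWsTab
import Cfsg.Agent.Lib.Lead.ChevBN4
import Cfsg.Prelude.Def_ChevAutomorphisms

/-!
Generation of a Chevalley group by its monomial subgroup and one or two fundamental root subgroups.

Every root is the image of a fixed fundamental root of its own length under a word of fundamental reflections
(a certificate checked by the kernel); conjugation by `n_w` carries root subgroups to root subgroups; a long root
subgroup is a commutator of two short ones when the structure constant is invertible in the field.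
-/

set_option autoImplicit false
set_option linter.unusedSectionVars false
set_option linter.unusedVariables false

namespace Cfsg.Agent.Helper6.ChevL

open Cfsg Cfsg.Lie Cfsg.Agent.Lead.Chev

/-- the class (0: in the orbit of `rep0`; otherwise in the orbit of `rep1`) a certificate gives to the root `r` -/
def clsOf (cert : List (ℕ × List ℕ)) (r : ℕ) : ℕ := (cert.getD r (0, [])).1

/-- the certificate check: every root is the image of the fundamental root `rep0` or `rep1` under a word of
fundamental reflections, and in the second case it is long -/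
def orbChk2 (D : ChevalleyDatum) (Ws : List ℕ) (rep0 rep1 : ℕ) (cert : List (ℕ × List ℕ)) : Bool :=
  decide (rep0 < D.rank) && decide (rep1 < D.rank) &&
  (List.range D.nroots).all (fun r =>
    (cert.getD r (0, [])).2.all (fun j => decide (j < D.rank)) &&
    decide (reflWordP Ws (cert.getD r (0, [])).2
      (D.simple (if (cert.getD r (0, [])).1 = 0 then rep0 else rep1)) = r) &&
    (decide ((cert.getD r (0, [])).1 = 0) || D.isLong r))

/-- the long roots are those of the second class -/
def longChk (D : ChevalleyDatum) (cert : List (ℕ × List ℕ)) : Bool :=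
  (List.range D.nroots).all (fun r => !(D.isLong r) || decide ((cert.getD r (0, [])).1 ≠ 0))

structure OrbFacts (D : ChevalleyDatum) (rep0 rep1 : ℕ) (cls : ℕ → ℕ) : Prop where
  h0 : rep0 < D.rank
  h1 : rep1 < D.rank
  orb : ∀ r < D.nroots, ∃ w : List ℕ, (∀ j ∈ w, j < D.rank) ∧
    reflWord D w (D.simple (if cls r = 0 then rep0 else rep1)) = r
  long : ∀ r < D.nroots, cls r ≠ 0 → D.isLong r = true

theorem orbFacts_of_chk (D : ChevalleyDatum) (η : ℕ → ℕ → ℤ) (hfa : ∀ i < D.rank, NXFacts D (η i) i)
    (hsl : ∀ i < D.rank, D.simple i < D.nroots)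
    (Ws : List ℕ) (hWs : ∀ i < D.rank, ∀ v < D.nroots, unpack8 (Ws.getD i 0) v = D.reflectRoot i v)
    (rep0 rep1 : ℕ) (cert : List (ℕ × List ℕ)) (h : orbChk2 D Ws rep0 rep1 cert = true) :
    OrbFacts D rep0 rep1 (clsOf cert) := by
  unfold orbChk2 at h
  simp only [Bool.and_eq_true, decide_eq_true_eq, List.all_eq_true, List.mem_range, Bool.or_eq_true] at h
  obtain ⟨⟨h0, h1⟩, h2⟩ := h
  refine ⟨h0, h1, ?_, ?_⟩
  · intro r hr
    obtain ⟨⟨hw, he⟩, -⟩ := h2 r hr
    refine ⟨(cert.getD r (0, [])).2, hw, ?_⟩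
    unfold clsOf
    have hlt : (if (cert.getD r (0, [])).1 = 0 then rep0 else rep1) < D.rank := by
      split_ifs
      · exact h0
      · exact h1
    rw [← reflWordP_eq D η hfa Ws hWs _ hw _ (hsl _ hlt)]
    exact he
  · intro r hr hc
    unfold clsOf at hc
    rcases (h2 r hr).2 with h3 | h3
    · exact absurd h3 hc
    · exact h3

theorem long_of_chk (D : ChevalleyDatum) (cert : List (ℕ × List ℕ)) (h : longChk D cert = true) :
    ∀ r < D.nroots, D.isLong r = true → clsOf cert r ≠ 0 := by
  unfold longChk at h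
  simp only [List.all_eq_true, List.mem_range, Bool.or_eq_true, Bool.not_eq_true', decide_eq_true_eq] at h
  intro r hr hl
  unfold clsOf
  rcases h r hr with h1 | h1
  · rw [hl] at h1
    exact absurd h1 (by simp)
  · exact h1

variable {F : Type*} [Field F] {D : ChevalleyDatum} (hF : ChevFacts D F)
include hF

/-- conjugation by `n_w` carries the root subgroup `X_s` into a subgroup containing `N` and `X_s` -/
theorem xGL_mem_of_reflWord (K : Subgroup (GL D.Idx F)) (hN : D.monomialSubgroup F ≤ K)
    (w : List ℕ) (hw : ∀ j ∈ w, j < D.rank) (s : ℕ) (hs : s < D.nroots)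
    (h : ∀ t : F, xGL D hF.xadd s t ∈ K) (t : F) : xGL D hF.xadd (reflWord D w s) t ∈ K := by
  have h1 := nWordGL_conj D hF.xadd (etaOf D) hF.nsimple w hw s hs
    (((signWord D (etaOf D) w s : ℤ) : F) * t)
  have h2 : ((signWord D (etaOf D) w s : ℤ) : F) * (((signWord D (etaOf D) w s : ℤ) : F) * t) = t := by
    rcases signWord_sq D (etaOf D) w (fun j hj s => (hF.nsimple j (hw j hj)).sign s) s with h | h <;>
      rw [h] <;> simp
  rw [h2] at h1
  rw [← h1]
  have hn : nWordGL D hF.xadd w ∈ K := hN (nWordGL_mem_monomial D hF.xadd hF.simple_lt w hw)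
  exact mul_mem (mul_mem hn (h _)) (inv_mem hn)

/-- the converse direction: from `X_{w s}` back to `X_s` -/
theorem xGL_mem_of_reflWord' (K : Subgroup (GL D.Idx F)) (hN : D.monomialSubgroup F ≤ K)
    (w : List ℕ) (hw : ∀ j ∈ w, j < D.rank) (s : ℕ) (hs : s < D.nroots)
    (h : ∀ t : F, xGL D hF.xadd (reflWord D w s) t ∈ K) (t : F) : xGL D hF.xadd s t ∈ K := by
  have hq : reflWord D w s < D.nroots := reflWord_lt D (etaOf D) hF.facts w hw s hs
  have h1 := xGL_mem_of_reflWord hF K hN w.reverse (fun j hj => hw j (List.mem_reverse.1 hj)) _ hq h t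
  rwa [reflWord_reverse_cancel' D (etaOf D) hF.facts w hw s hs] at h1

/-- a root subgroup as a commutator of two others -/
theorem xGL_mem_of_comm (K : Subgroup (GL D.Idx F)) (a b s : ℕ) (M : ℤ) (ha : a < D.nroots)
    (hb : b < D.nroots) (hne : b ≠ a) (hne' : b ≠ D.neg a)
    (hct : D.commTerms a b = [(s, M, 1, 1)]) (hM : (M : F) ≠ 0)
    (hKa : ∀ t : F, xGL D hF.xadd a t ∈ K) (hKb : ∀ t : F, xGL D hF.xadd b t ∈ K) (v : F) :
    xGL D hF.xadd s v ∈ K := by
  have h1 := comm_GL D hF.xadd a b (hF.comm a ha b hb hne hne') (-1) (v / (M : F))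
  have e : D.commWord F a b (-1) (v / (M : F)) = [(s, v)] := by
    unfold ChevalleyDatum.commWord
    rw [hct]
    simp only [List.map_cons, List.map_nil, neg_neg, one_pow, mul_one, pow_one]
    rw [mul_div_cancel₀ _ hM]
  rw [e, wordGL_singleton] at h1
  rw [← h1, commutatorElement_def]
  exact mul_mem (mul_mem (mul_mem (inv_mem (hKb _)) (inv_mem (hKa _))) (inv_mem (inv_mem (hKb _))))
    (inv_mem (inv_mem (hKa _)))

variable {rep0 rep1 : ℕ} {cls : ℕ → ℕ} (hO : OrbFacts D rep0 rep1 cls)
include hO

/-- a subgroup containing `N` and the two representative root subgroups contains the group -/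
theorem group_le_of_reps (K : Subgroup (GL D.Idx F)) (hN : D.monomialSubgroup F ≤ K)
    (h0 : ∀ t : F, xGL D hF.xadd (D.simple rep0) t ∈ K)
    (h1 : ∀ t : F, xGL D hF.xadd (D.simple rep1) t ∈ K) : D.group F ≤ K := by
  apply group_le_of D hF.xadd
  intro r hr t
  obtain ⟨w, hw, he⟩ := hO.orb r hr
  rw [← he]
  split_ifs
  · exact xGL_mem_of_reflWord hF K hN w hw _ (hF.simple_lt _ hO.h0) h0 t
  · exact xGL_mem_of_reflWord hF K hN w hw _ (hF.simple_lt _ hO.h1) h1 t

/-- from a short fundamental root subgroup to the first representative -/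
theorem rep0_mem_of_short (K : Subgroup (GL D.Idx F)) (hN : D.monomialSubgroup F ≤ K)
    (i : ℕ) (hi : i < D.rank) (hshort : D.isLong (D.simple i) = false)
    (h : ∀ t : F, xGL D hF.xadd (D.simple i) t ∈ K) (t : F) : xGL D hF.xadd (D.simple rep0) t ∈ K := by
  have hc : cls (D.simple i) = 0 := by
    by_contra hc
    have := hO.long _ (hF.simple_lt i hi) hc
    rw [hshort] at this
    exact absurd this (by simp)
  obtain ⟨w, hw, he⟩ := hO.orb _ (hF.simple_lt i hi)
  rw [if_pos hc] at he
  apply xGL_mem_of_reflWord' hF K hN w hw _ (hF.simple_lt _ hO.h0)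
  rw [he]
  exact h

/-- every root of the first class lies in a subgroup containing `N` and the first representative -/
theorem cls0_mem (K : Subgroup (GL D.Idx F)) (hN : D.monomialSubgroup F ≤ K)
    (h0 : ∀ t : F, xGL D hF.xadd (D.simple rep0) t ∈ K) (r : ℕ) (hr : r < D.nroots) (hc : cls r = 0)
    (t : F) : xGL D hF.xadd r t ∈ K := by
  obtain ⟨w, hw, he⟩ := hO.orb r hr
  rw [if_pos hc] at he
  rw [← he]
  exact xGL_mem_of_reflWord hF K hN w hw _ (hF.simple_lt _ hO.h0) h0 t

/-- from a long fundamental root subgroup to the second representative -/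
theorem rep1_mem_of_long (hL : ∀ r < D.nroots, D.isLong r = true → cls r ≠ 0)
    (K : Subgroup (GL D.Idx F)) (hN : D.monomialSubgroup F ≤ K)
    (j : ℕ) (hj : j < D.rank) (hlong : D.isLong (D.simple j) = true)
    (h : ∀ t : F, xGL D hF.xadd (D.simple j) t ∈ K) (t : F) : xGL D hF.xadd (D.simple rep1) t ∈ K := by
  have hc : cls (D.simple j) ≠ 0 := hL _ (hF.simple_lt j hj) hlong
  obtain ⟨w, hw, he⟩ := hO.orb _ (hF.simple_lt j hj)
  rw [if_neg hc] at he
  apply xGL_mem_of_reflWord' hF K hN w hw _ (hF.simple_lt _ hO.h1)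
  rw [he]
  exact h

/-- generation by `N` and a short fundamental root subgroup -/
theorem group_le_short
    (hL : rep0 = rep1 ∨ ∃ a b : ℕ, ∃ M : ℤ, a < D.nroots ∧ b < D.nroots ∧ b ≠ a ∧ b ≠ D.neg a ∧
      cls a = 0 ∧ cls b = 0 ∧ D.commTerms a b = [(D.simple rep1, M, 1, 1)] ∧ (M : F) ≠ 0)
    (i : ℕ) (hi : i < D.rank) (hshort : D.isLong (D.simple i) = false) :
    D.group F ≤ D.monomialSubgroup F ⊔ D.rootSubgroup F (D.simple i) := by
  have hN : D.monomialSubgroup F ≤ D.monomialSubgroup F ⊔ D.rootSubgroup F (D.simple i) := le_sup_left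
  have hX : ∀ t : F, xGL D hF.xadd (D.simple i) t ∈
      D.monomialSubgroup F ⊔ D.rootSubgroup F (D.simple i) := fun t =>
    Subgroup.mem_sup_right ((mem_rootSubgroup_iff D hF.xadd _ _).2 ⟨t, rfl⟩)
  have h0 := rep0_mem_of_short hF hO _ hN i hi hshort hX
  apply group_le_of_reps hF hO _ hN h0
  rcases hL with hL | ⟨a, b, M, ha, hb, hne, hne', hca, hcb, hct, hM⟩
  · rw [← hL]
    exact h0
  · exact xGL_mem_of_comm hF _ a b _ M ha hb hne hne' hct hM
      (cls0_mem hF hO _ hN h0 a ha hca) (cls0_mem hF hO _ hN h0 b hb hcb)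

/-- generation by `N`, a short and a long fundamental root subgroup -/
theorem group_le_short_long (hL : ∀ r < D.nroots, D.isLong r = true → cls r ≠ 0)
    (i j : ℕ) (hi : i < D.rank) (hj : j < D.rank) (hshort : D.isLong (D.simple i) = false)
    (hlong : D.isLong (D.simple j) = true) :
    D.group F ≤ D.monomialSubgroup F ⊔ D.rootSubgroup F (D.simple i) ⊔ D.rootSubgroup F (D.simple j) := by
  have hN : D.monomialSubgroup F ≤
      D.monomialSubgroup F ⊔ D.rootSubgroup F (D.simple i) ⊔ D.rootSubgroup F (D.simple j) :=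
    le_sup_of_le_left le_sup_left
  have hXi : ∀ t : F, xGL D hF.xadd (D.simple i) t ∈
      D.monomialSubgroup F ⊔ D.rootSubgroup F (D.simple i) ⊔ D.rootSubgroup F (D.simple j) := fun t =>
    Subgroup.mem_sup_left (Subgroup.mem_sup_right ((mem_rootSubgroup_iff D hF.xadd _ _).2 ⟨t, rfl⟩))
  have hXj : ∀ t : F, xGL D hF.xadd (D.simple j) t ∈
      D.monomialSubgroup F ⊔ D.rootSubgroup F (D.simple i) ⊔ D.rootSubgroup F (D.simple j) := fun t =>
    Subgroup.mem_sup_right ((mem_rootSubgroup_iff D hF.xadd _ _).2 ⟨t, rfl⟩)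
  exact group_le_of_reps hF hO _ hN (rep0_mem_of_short hF hO _ hN i hi hshort hXi)
    (rep1_mem_of_long hF hO hL _ hN j hj hlong hXj)

omit hF hO in
/-- a prime different from the characteristic is invertible -/
theorem intCast_neg_prime_ne_zero (p : ℕ) (hp : p.Prime) (h : ringChar F ≠ p) :
    ((-(p : ℤ) : ℤ) : F) ≠ 0 := by
  push_cast
  rw [neg_ne_zero]
  intro h0
  have h1 : ringChar F ∣ p := (ringChar.spec F p).1 h0
  rcases (Nat.dvd_prime hp).1 h1 with h2 | h2
  · exact CharP.ringChar_ne_one h2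
  · exact h h2

end Cfsg.Agent.Helper6.ChevL
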