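import Mathlib
import Cfsg.Agent.Lib.Helper6.ChevLGen

/-!
Orbit certificates: every root as the image of a fixed fundamental root of its length under a word of
fundamental reflections (generated data, checked by the kernel).
-/

set_option autoImplicit false
set_option Elab.async false

namespace Cfsg.Agent.Helper6.ChevL

open Cfsg Cfsg.Lie Cfsg.Agent.Lead.Chev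

def orbCert2_G2 : List (ℕ × List ℕ) := [(1, [1, 0, 1]), (1, [0, 1]), (0, [0, 1, 0]), (0, [1, 0]), (0, [0]), (
  1, [1]), (1, []), (0, []), (0, [1]), (0, [0, 1]), (1, [0]), (1, [1, 0])]

theorem orbOK2_G2 : orbChk2 chevG2 commWs_G2 0 1 orbCert2_G2 = true := by decide +kernel

def orbCert2_B2 : List (ℕ × List ℕ) := [(1, [0, 1]), (0, [1, 0]), (0, [0]), (1, [1]), (1, []), (0, []), (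
  0, [1]), (1, [0])]

theorem orbOK2_B2 : orbChk2 chevB2 commWs_B2 0 1 orbCert2_B2 = true := by decide +kernel

def orbCert2_D4 : List (ℕ × List ℕ) := [(0, [1, 3, 2, 1, 0]), (0, [3, 2, 1, 0]), (0, [2, 1, 0]), (
  0, [3, 1, 0]), (0, [1, 0]), (0, [0]), (0, [3, 2, 0, 1, 0]), (0, [2, 0, 1, 0]), (0, [3, 0, 1, 0]), (
  0, [0, 1, 0]), (0, [1, 2, 0, 1, 0]), (0, [1, 3, 0, 1, 0]), (0, [1, 3, 0, 1]), (0, [1, 2, 0, 1]), (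
  0, [0, 1]), (0, [3, 0, 1]), (0, [2, 0, 1]), (0, [3, 2, 0, 1]), (0, []), (0, [1]), (0, [3, 1]), (
  0, [2, 1]), (0, [3, 2, 1]), (0, [1, 3, 2, 1])]

theorem orbOK2_D4 : orbChk2 chevD4 commWs_D4 0 0 orbCert2_D4 = true := by decide +kernel

def orbCert2_F4 : List (ℕ × List ℕ) := [(1, [3, 2, 1, 2, 3, 0, 1, 2]), (1, [2, 1, 2, 3, 0, 1, 2]), (
  1, [1, 2, 3, 0, 1, 2]), (0, [0, 1, 2, 3, 1, 2, 1, 0]), (1, [2, 3, 0, 1, 2]), (1, [3, 0, 1, 2]), (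
  1, [0, 1, 2]), (0, [1, 2, 3, 1, 2, 1, 0]), (0, [2, 3, 1, 2, 1, 0]), (0, [3, 1, 2, 1, 0]), (
  0, [1, 2, 1, 0]), (0, [3, 2, 1, 0]), (0, [2, 1, 0]), (0, [1, 0]), (0, [0]), (1, [2, 3, 1, 2]), (
  1, [3, 1, 2]), (1, [1, 2]), (0, [3, 2, 0, 1, 0]), (0, [2, 0, 1, 0]), (0, [0, 1, 0]), (1, [3, 2]), (
  1, [2]), (1, [2, 3, 2]), (1, [2, 3]), (1, []), (1, [3]), (0, [0, 1]), (0, [2, 0, 1]), (0, [3, 2, 0, 1]), (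
  1, [1]), (1, [3, 1]), (1, [2, 3, 1]), (0, []), (0, [1]), (0, [2, 1]), (0, [3, 2, 1]), (0, [1, 2, 1]), (
  0, [3, 1, 2, 1]), (0, [2, 3, 1, 2, 1]), (0, [1, 2, 3, 1, 2, 1]), (1, [0, 1]), (1, [3, 0, 1]), (
  1, [2, 3, 0, 1]), (0, [0, 1, 2, 3, 1, 2, 1]), (1, [1, 2, 3, 0, 1]), (1, [2, 1, 2, 3, 0, 1]), (
  1, [3, 2, 1, 2, 3, 0, 1])]

theorem orbOK2_F4 : orbChk2 chevF4 commWs_F4 0 2 orbCert2_F4 = true := by decide +kernel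

def orbCert2_E6 : List (ℕ × List ℕ) := [(0, [1, 3, 4, 5, 2, 3, 4, 1, 3, 2, 0]), (
  0, [3, 4, 5, 2, 3, 4, 1, 3, 2, 0]), (0, [4, 5, 2, 3, 4, 1, 3, 2, 0]), (0, [5, 2, 3, 4, 1, 3, 2, 0]), (
  0, [2, 3, 4, 1, 3, 2, 0]), (0, [4, 5, 3, 4, 1, 3, 2, 0]), (0, [5, 3, 4, 1, 3, 2, 0]), (
  0, [3, 4, 1, 3, 2, 0]), (0, [5, 4, 1, 3, 2, 0]), (0, [4, 1, 3, 2, 0]), (0, [1, 3, 2, 0]), (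
  0, [5, 4, 3, 2, 0]), (0, [4, 3, 2, 0]), (0, [3, 2, 0]), (0, [2, 0]), (0, [0]), (
  0, [4, 5, 3, 4, 1, 3, 0, 2, 0]), (0, [5, 3, 4, 1, 3, 0, 2, 0]), (0, [3, 4, 1, 3, 0, 2, 0]), (
  0, [5, 4, 1, 3, 0, 2, 0]), (0, [4, 1, 3, 0, 2, 0]), (0, [1, 3, 0, 2, 0]), (0, [5, 4, 2, 1, 3, 0, 2, 0]), (
  0, [4, 2, 1, 3, 0, 2, 0]), (0, [2, 1, 3, 0, 2, 0]), (0, [3, 2, 1, 3, 0, 2, 0]), (0, [5, 4, 3, 0, 2, 0]), (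
  0, [4, 3, 0, 2, 0]), (0, [3, 0, 2, 0]), (0, [0, 2, 0]), (0, [5, 4, 2, 3, 0, 2, 0]), (
  0, [4, 2, 3, 0, 2, 0]), (0, [2, 3, 0, 2, 0]), (0, [5, 3, 4, 2, 3, 0, 2, 0]), (0, [3, 4, 2, 3, 0, 2, 0]), (
  0, [4, 5, 3, 4, 2, 3, 0, 2, 0]), (0, [4, 5, 3, 4, 2, 3, 0, 2]), (0, [3, 4, 2, 3, 0, 2]), (
  0, [5, 3, 4, 2, 3, 0, 2]), (0, [2, 3, 0, 2]), (0, [4, 2, 3, 0, 2]), (0, [5, 4, 2, 3, 0, 2]), (0, [0, 2]), (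
  0, [3, 0, 2]), (0, [4, 3, 0, 2]), (0, [5, 4, 3, 0, 2]), (0, [3, 2, 1, 3, 0, 2]), (0, [2, 1, 3, 0, 2]), (
  0, [4, 2, 1, 3, 0, 2]), (0, [5, 4, 2, 1, 3, 0, 2]), (0, [1, 3, 0, 2]), (0, [4, 1, 3, 0, 2]), (
  0, [5, 4, 1, 3, 0, 2]), (0, [3, 4, 1, 3, 0, 2]), (0, [5, 3, 4, 1, 3, 0, 2]), (
  0, [4, 5, 3, 4, 1, 3, 0, 2]), (0, []), (0, [2]), (0, [3, 2]), (0, [4, 3, 2]), (0, [5, 4, 3, 2]), (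
  0, [1, 3, 2]), (0, [4, 1, 3, 2]), (0, [5, 4, 1, 3, 2]), (0, [3, 4, 1, 3, 2]), (0, [5, 3, 4, 1, 3, 2]), (
  0, [4, 5, 3, 4, 1, 3, 2]), (0, [2, 3, 4, 1, 3, 2]), (0, [5, 2, 3, 4, 1, 3, 2]), (
  0, [4, 5, 2, 3, 4, 1, 3, 2]), (0, [3, 4, 5, 2, 3, 4, 1, 3, 2]), (0, [1, 3, 4, 5, 2, 3, 4, 1, 3, 2])]

theorem orbOK2_E6 : orbChk2 chevE6 commWs_E6 0 0 orbCert2_E6 = true := by decide +kernel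

def orbCert2_E7 : List (ℕ × List ℕ) := [(0, [0, 2, 3, 4, 5, 6, 1, 3, 4, 5, 2, 3, 4, 1, 3, 2, 0]), (
  0, [2, 3, 4, 5, 6, 1, 3, 4, 5, 2, 3, 4, 1, 3, 2, 0]), (0, [3, 4, 5, 6, 1, 3, 4, 5, 2, 3, 4, 1, 3, 2, 0]), (
  0, [4, 5, 6, 1, 3, 4, 5, 2, 3, 4, 1, 3, 2, 0]), (0, [5, 6, 1, 3, 4, 5, 2, 3, 4, 1, 3, 2, 0]), (
  0, [6, 1, 3, 4, 5, 2, 3, 4, 1, 3, 2, 0]), (0, [1, 3, 4, 5, 2, 3, 4, 1, 3, 2, 0]), (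
  0, [4, 5, 6, 3, 4, 5, 2, 3, 4, 1, 3, 2, 0]), (0, [5, 6, 3, 4, 5, 2, 3, 4, 1, 3, 2, 0]), (
  0, [6, 3, 4, 5, 2, 3, 4, 1, 3, 2, 0]), (0, [3, 4, 5, 2, 3, 4, 1, 3, 2, 0]), (
  0, [5, 6, 4, 5, 2, 3, 4, 1, 3, 2, 0]), (0, [6, 4, 5, 2, 3, 4, 1, 3, 2, 0]), (
  0, [4, 5, 2, 3, 4, 1, 3, 2, 0]), (0, [6, 5, 2, 3, 4, 1, 3, 2, 0]), (0, [5, 2, 3, 4, 1, 3, 2, 0]), (
  0, [2, 3, 4, 1, 3, 2, 0]), (0, [5, 6, 4, 5, 3, 4, 1, 3, 2, 0]), (0, [6, 4, 5, 3, 4, 1, 3, 2, 0]), (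
  0, [4, 5, 3, 4, 1, 3, 2, 0]), (0, [6, 5, 3, 4, 1, 3, 2, 0]), (0, [5, 3, 4, 1, 3, 2, 0]), (
  0, [3, 4, 1, 3, 2, 0]), (0, [6, 5, 4, 1, 3, 2, 0]), (0, [5, 4, 1, 3, 2, 0]), (0, [4, 1, 3, 2, 0]), (
  0, [1, 3, 2, 0]), (0, [6, 5, 4, 3, 2, 0]), (0, [5, 4, 3, 2, 0]), (0, [4, 3, 2, 0]), (0, [3, 2, 0]), (
  0, [2, 0]), (0, [0]), (0, [5, 6, 4, 5, 3, 4, 1, 3, 0, 2, 0]), (0, [6, 4, 5, 3, 4, 1, 3, 0, 2, 0]), (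
  0, [4, 5, 3, 4, 1, 3, 0, 2, 0]), (0, [6, 5, 3, 4, 1, 3, 0, 2, 0]), (0, [5, 3, 4, 1, 3, 0, 2, 0]), (
  0, [3, 4, 1, 3, 0, 2, 0]), (0, [6, 5, 4, 1, 3, 0, 2, 0]), (0, [5, 4, 1, 3, 0, 2, 0]), (
  0, [4, 1, 3, 0, 2, 0]), (0, [1, 3, 0, 2, 0]), (0, [6, 5, 4, 2, 1, 3, 0, 2, 0]), (
  0, [5, 4, 2, 1, 3, 0, 2, 0]), (0, [4, 2, 1, 3, 0, 2, 0]), (0, [2, 1, 3, 0, 2, 0]), (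
  0, [3, 2, 1, 3, 0, 2, 0]), (0, [6, 5, 4, 3, 0, 2, 0]), (0, [5, 4, 3, 0, 2, 0]), (0, [4, 3, 0, 2, 0]), (
  0, [3, 0, 2, 0]), (0, [0, 2, 0]), (0, [6, 5, 4, 2, 3, 0, 2, 0]), (0, [5, 4, 2, 3, 0, 2, 0]), (
  0, [4, 2, 3, 0, 2, 0]), (0, [2, 3, 0, 2, 0]), (0, [6, 5, 3, 4, 2, 3, 0, 2, 0]), (
  0, [5, 3, 4, 2, 3, 0, 2, 0]), (0, [3, 4, 2, 3, 0, 2, 0]), (0, [6, 4, 5, 3, 4, 2, 3, 0, 2, 0]), (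
  0, [4, 5, 3, 4, 2, 3, 0, 2, 0]), (0, [5, 6, 4, 5, 3, 4, 2, 3, 0, 2, 0]), (
  0, [5, 6, 4, 5, 3, 4, 2, 3, 0, 2]), (0, [4, 5, 3, 4, 2, 3, 0, 2]), (0, [6, 4, 5, 3, 4, 2, 3, 0, 2]), (
  0, [3, 4, 2, 3, 0, 2]), (0, [5, 3, 4, 2, 3, 0, 2]), (0, [6, 5, 3, 4, 2, 3, 0, 2]), (0, [2, 3, 0, 2]), (
  0, [4, 2, 3, 0, 2]), (0, [5, 4, 2, 3, 0, 2]), (0, [6, 5, 4, 2, 3, 0, 2]), (0, [0, 2]), (0, [3, 0, 2]), (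
  0, [4, 3, 0, 2]), (0, [5, 4, 3, 0, 2]), (0, [6, 5, 4, 3, 0, 2]), (0, [3, 2, 1, 3, 0, 2]), (
  0, [2, 1, 3, 0, 2]), (0, [4, 2, 1, 3, 0, 2]), (0, [5, 4, 2, 1, 3, 0, 2]), (0, [6, 5, 4, 2, 1, 3, 0, 2]), (
  0, [1, 3, 0, 2]), (0, [4, 1, 3, 0, 2]), (0, [5, 4, 1, 3, 0, 2]), (0, [6, 5, 4, 1, 3, 0, 2]), (
  0, [3, 4, 1, 3, 0, 2]), (0, [5, 3, 4, 1, 3, 0, 2]), (0, [6, 5, 3, 4, 1, 3, 0, 2]), (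
  0, [4, 5, 3, 4, 1, 3, 0, 2]), (0, [6, 4, 5, 3, 4, 1, 3, 0, 2]), (0, [5, 6, 4, 5, 3, 4, 1, 3, 0, 2]), (
  0, []), (0, [2]), (0, [3, 2]), (0, [4, 3, 2]), (0, [5, 4, 3, 2]), (0, [6, 5, 4, 3, 2]), (0, [1, 3, 2]), (
  0, [4, 1, 3, 2]), (0, [5, 4, 1, 3, 2]), (0, [6, 5, 4, 1, 3, 2]), (0, [3, 4, 1, 3, 2]), (
  0, [5, 3, 4, 1, 3, 2]), (0, [6, 5, 3, 4, 1, 3, 2]), (0, [4, 5, 3, 4, 1, 3, 2]), (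
  0, [6, 4, 5, 3, 4, 1, 3, 2]), (0, [5, 6, 4, 5, 3, 4, 1, 3, 2]), (0, [2, 3, 4, 1, 3, 2]), (
  0, [5, 2, 3, 4, 1, 3, 2]), (0, [6, 5, 2, 3, 4, 1, 3, 2]), (0, [4, 5, 2, 3, 4, 1, 3, 2]), (
  0, [6, 4, 5, 2, 3, 4, 1, 3, 2]), (0, [5, 6, 4, 5, 2, 3, 4, 1, 3, 2]), (0, [3, 4, 5, 2, 3, 4, 1, 3, 2]), (
  0, [6, 3, 4, 5, 2, 3, 4, 1, 3, 2]), (0, [5, 6, 3, 4, 5, 2, 3, 4, 1, 3, 2]), (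
  0, [4, 5, 6, 3, 4, 5, 2, 3, 4, 1, 3, 2]), (0, [1, 3, 4, 5, 2, 3, 4, 1, 3, 2]), (
  0, [6, 1, 3, 4, 5, 2, 3, 4, 1, 3, 2]), (0, [5, 6, 1, 3, 4, 5, 2, 3, 4, 1, 3, 2]), (
  0, [4, 5, 6, 1, 3, 4, 5, 2, 3, 4, 1, 3, 2]), (0, [3, 4, 5, 6, 1, 3, 4, 5, 2, 3, 4, 1, 3, 2]), (
  0, [2, 3, 4, 5, 6, 1, 3, 4, 5, 2, 3, 4, 1, 3, 2]), (0, [0, 2, 3, 4, 5, 6, 1, 3, 4, 5, 2, 3, 4, 1, 3, 2])]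

theorem orbOK2_E7 : orbChk2 chevE7 commWs_E7 0 0 orbCert2_E7 = true := by decide +kernel


  def orbCert2_E8 : List (ℕ × List ℕ) := [(0, [7, 6, 5, 4, 3, 2, 1, 3, 4, 5, 6, 7, 0, 2, 3, 4, 5, 6, 1, 3, 4, 5, 2, 3, 4, 1, 3, 2, 0]), (
  0, [6, 5, 4, 3, 2, 1, 3, 4, 5, 6, 7, 0, 2, 3, 4, 5, 6, 1, 3, 4, 5, 2, 3, 4, 1, 3, 2, 0]), (
  0, [5, 4, 3, 2, 1, 3, 4, 5, 6, 7, 0, 2, 3, 4, 5, 6, 1, 3, 4, 5, 2, 3, 4, 1, 3, 2, 0]), (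
  0, [4, 3, 2, 1, 3, 4, 5, 6, 7, 0, 2, 3, 4, 5, 6, 1, 3, 4, 5, 2, 3, 4, 1, 3, 2, 0]), (
  0, [3, 2, 1, 3, 4, 5, 6, 7, 0, 2, 3, 4, 5, 6, 1, 3, 4, 5, 2, 3, 4, 1, 3, 2, 0]), (
  0, [2, 1, 3, 4, 5, 6, 7, 0, 2, 3, 4, 5, 6, 1, 3, 4, 5, 2, 3, 4, 1, 3, 2, 0]), (
  0, [1, 3, 4, 5, 6, 7, 0, 2, 3, 4, 5, 6, 1, 3, 4, 5, 2, 3, 4, 1, 3, 2, 0]), (
  0, [2, 3, 4, 5, 6, 7, 0, 2, 3, 4, 5, 6, 1, 3, 4, 5, 2, 3, 4, 1, 3, 2, 0]), (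
  0, [3, 4, 5, 6, 7, 0, 2, 3, 4, 5, 6, 1, 3, 4, 5, 2, 3, 4, 1, 3, 2, 0]), (
  0, [4, 5, 6, 7, 0, 2, 3, 4, 5, 6, 1, 3, 4, 5, 2, 3, 4, 1, 3, 2, 0]), (
  0, [5, 6, 7, 0, 2, 3, 4, 5, 6, 1, 3, 4, 5, 2, 3, 4, 1, 3, 2, 0]), (
  0, [6, 7, 0, 2, 3, 4, 5, 6, 1, 3, 4, 5, 2, 3, 4, 1, 3, 2, 0]), (
  0, [7, 0, 2, 3, 4, 5, 6, 1, 3, 4, 5, 2, 3, 4, 1, 3, 2, 0]), (
  0, [0, 2, 3, 4, 5, 6, 1, 3, 4, 5, 2, 3, 4, 1, 3, 2, 0]), (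
  0, [1, 3, 4, 5, 6, 7, 2, 3, 4, 5, 6, 1, 3, 4, 5, 2, 3, 4, 1, 3, 2, 0]), (
  0, [3, 4, 5, 6, 7, 2, 3, 4, 5, 6, 1, 3, 4, 5, 2, 3, 4, 1, 3, 2, 0]), (
  0, [4, 5, 6, 7, 2, 3, 4, 5, 6, 1, 3, 4, 5, 2, 3, 4, 1, 3, 2, 0]), (
  0, [5, 6, 7, 2, 3, 4, 5, 6, 1, 3, 4, 5, 2, 3, 4, 1, 3, 2, 0]), (
  0, [6, 7, 2, 3, 4, 5, 6, 1, 3, 4, 5, 2, 3, 4, 1, 3, 2, 0]), (
  0, [7, 2, 3, 4, 5, 6, 1, 3, 4, 5, 2, 3, 4, 1, 3, 2, 0]), (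
  0, [2, 3, 4, 5, 6, 1, 3, 4, 5, 2, 3, 4, 1, 3, 2, 0]), (
  0, [4, 5, 6, 7, 3, 4, 5, 6, 1, 3, 4, 5, 2, 3, 4, 1, 3, 2, 0]), (
  0, [5, 6, 7, 3, 4, 5, 6, 1, 3, 4, 5, 2, 3, 4, 1, 3, 2, 0]), (
  0, [6, 7, 3, 4, 5, 6, 1, 3, 4, 5, 2, 3, 4, 1, 3, 2, 0]), (
  0, [7, 3, 4, 5, 6, 1, 3, 4, 5, 2, 3, 4, 1, 3, 2, 0]), (0, [3, 4, 5, 6, 1, 3, 4, 5, 2, 3, 4, 1, 3, 2, 0]), (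
  0, [5, 6, 7, 4, 5, 6, 1, 3, 4, 5, 2, 3, 4, 1, 3, 2, 0]), (
  0, [6, 7, 4, 5, 6, 1, 3, 4, 5, 2, 3, 4, 1, 3, 2, 0]), (0, [7, 4, 5, 6, 1, 3, 4, 5, 2, 3, 4, 1, 3, 2, 0]), (
  0, [4, 5, 6, 1, 3, 4, 5, 2, 3, 4, 1, 3, 2, 0]), (0, [6, 7, 5, 6, 1, 3, 4, 5, 2, 3, 4, 1, 3, 2, 0]), (
  0, [7, 5, 6, 1, 3, 4, 5, 2, 3, 4, 1, 3, 2, 0]), (0, [5, 6, 1, 3, 4, 5, 2, 3, 4, 1, 3, 2, 0]), (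
  0, [7, 6, 1, 3, 4, 5, 2, 3, 4, 1, 3, 2, 0]), (0, [6, 1, 3, 4, 5, 2, 3, 4, 1, 3, 2, 0]), (
  0, [1, 3, 4, 5, 2, 3, 4, 1, 3, 2, 0]), (0, [5, 6, 7, 4, 5, 6, 3, 4, 5, 2, 3, 4, 1, 3, 2, 0]), (
  0, [6, 7, 4, 5, 6, 3, 4, 5, 2, 3, 4, 1, 3, 2, 0]), (0, [7, 4, 5, 6, 3, 4, 5, 2, 3, 4, 1, 3, 2, 0]), (
  0, [4, 5, 6, 3, 4, 5, 2, 3, 4, 1, 3, 2, 0]), (0, [6, 7, 5, 6, 3, 4, 5, 2, 3, 4, 1, 3, 2, 0]), (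
  0, [7, 5, 6, 3, 4, 5, 2, 3, 4, 1, 3, 2, 0]), (0, [5, 6, 3, 4, 5, 2, 3, 4, 1, 3, 2, 0]), (
  0, [7, 6, 3, 4, 5, 2, 3, 4, 1, 3, 2, 0]), (0, [6, 3, 4, 5, 2, 3, 4, 1, 3, 2, 0]), (
  0, [3, 4, 5, 2, 3, 4, 1, 3, 2, 0]), (0, [6, 7, 5, 6, 4, 5, 2, 3, 4, 1, 3, 2, 0]), (
  0, [7, 5, 6, 4, 5, 2, 3, 4, 1, 3, 2, 0]), (0, [5, 6, 4, 5, 2, 3, 4, 1, 3, 2, 0]), (
  0, [7, 6, 4, 5, 2, 3, 4, 1, 3, 2, 0]), (0, [6, 4, 5, 2, 3, 4, 1, 3, 2, 0]), (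
  0, [4, 5, 2, 3, 4, 1, 3, 2, 0]), (0, [7, 6, 5, 2, 3, 4, 1, 3, 2, 0]), (0, [6, 5, 2, 3, 4, 1, 3, 2, 0]), (
  0, [5, 2, 3, 4, 1, 3, 2, 0]), (0, [2, 3, 4, 1, 3, 2, 0]), (0, [6, 7, 5, 6, 4, 5, 3, 4, 1, 3, 2, 0]), (
  0, [7, 5, 6, 4, 5, 3, 4, 1, 3, 2, 0]), (0, [5, 6, 4, 5, 3, 4, 1, 3, 2, 0]), (
  0, [7, 6, 4, 5, 3, 4, 1, 3, 2, 0]), (0, [6, 4, 5, 3, 4, 1, 3, 2, 0]), (0, [4, 5, 3, 4, 1, 3, 2, 0]), (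
  0, [7, 6, 5, 3, 4, 1, 3, 2, 0]), (0, [6, 5, 3, 4, 1, 3, 2, 0]), (0, [5, 3, 4, 1, 3, 2, 0]), (
  0, [3, 4, 1, 3, 2, 0]), (0, [7, 6, 5, 4, 1, 3, 2, 0]), (0, [6, 5, 4, 1, 3, 2, 0]), (
  0, [5, 4, 1, 3, 2, 0]), (0, [4, 1, 3, 2, 0]), (0, [1, 3, 2, 0]), (0, [7, 6, 5, 4, 3, 2, 0]), (
  0, [6, 5, 4, 3, 2, 0]), (0, [5, 4, 3, 2, 0]), (0, [4, 3, 2, 0]), (0, [3, 2, 0]), (0, [2, 0]), (0, [0]), (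
  0, [6, 7, 5, 6, 4, 5, 3, 4, 1, 3, 0, 2, 0]), (0, [7, 5, 6, 4, 5, 3, 4, 1, 3, 0, 2, 0]), (
  0, [5, 6, 4, 5, 3, 4, 1, 3, 0, 2, 0]), (0, [7, 6, 4, 5, 3, 4, 1, 3, 0, 2, 0]), (
  0, [6, 4, 5, 3, 4, 1, 3, 0, 2, 0]), (0, [4, 5, 3, 4, 1, 3, 0, 2, 0]), (0, [7, 6, 5, 3, 4, 1, 3, 0, 2, 0]), (
  0, [6, 5, 3, 4, 1, 3, 0, 2, 0]), (0, [5, 3, 4, 1, 3, 0, 2, 0]), (0, [3, 4, 1, 3, 0, 2, 0]), (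
  0, [7, 6, 5, 4, 1, 3, 0, 2, 0]), (0, [6, 5, 4, 1, 3, 0, 2, 0]), (0, [5, 4, 1, 3, 0, 2, 0]), (
  0, [4, 1, 3, 0, 2, 0]), (0, [1, 3, 0, 2, 0]), (0, [7, 6, 5, 4, 2, 1, 3, 0, 2, 0]), (
  0, [6, 5, 4, 2, 1, 3, 0, 2, 0]), (0, [5, 4, 2, 1, 3, 0, 2, 0]), (0, [4, 2, 1, 3, 0, 2, 0]), (
  0, [2, 1, 3, 0, 2, 0]), (0, [3, 2, 1, 3, 0, 2, 0]), (0, [7, 6, 5, 4, 3, 0, 2, 0]), (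
  0, [6, 5, 4, 3, 0, 2, 0]), (0, [5, 4, 3, 0, 2, 0]), (0, [4, 3, 0, 2, 0]), (0, [3, 0, 2, 0]), (
  0, [0, 2, 0]), (0, [7, 6, 5, 4, 2, 3, 0, 2, 0]), (0, [6, 5, 4, 2, 3, 0, 2, 0]), (
  0, [5, 4, 2, 3, 0, 2, 0]), (0, [4, 2, 3, 0, 2, 0]), (0, [2, 3, 0, 2, 0]), (
  0, [7, 6, 5, 3, 4, 2, 3, 0, 2, 0]), (0, [6, 5, 3, 4, 2, 3, 0, 2, 0]), (0, [5, 3, 4, 2, 3, 0, 2, 0]), (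
  0, [3, 4, 2, 3, 0, 2, 0]), (0, [7, 6, 4, 5, 3, 4, 2, 3, 0, 2, 0]), (0, [6, 4, 5, 3, 4, 2, 3, 0, 2, 0]), (
  0, [4, 5, 3, 4, 2, 3, 0, 2, 0]), (0, [7, 5, 6, 4, 5, 3, 4, 2, 3, 0, 2, 0]), (
  0, [5, 6, 4, 5, 3, 4, 2, 3, 0, 2, 0]), (0, [6, 7, 5, 6, 4, 5, 3, 4, 2, 3, 0, 2, 0]), (
  0, [6, 7, 5, 6, 4, 5, 3, 4, 2, 3, 0, 2]), (0, [5, 6, 4, 5, 3, 4, 2, 3, 0, 2]), (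
  0, [7, 5, 6, 4, 5, 3, 4, 2, 3, 0, 2]), (0, [4, 5, 3, 4, 2, 3, 0, 2]), (0, [6, 4, 5, 3, 4, 2, 3, 0, 2]), (
  0, [7, 6, 4, 5, 3, 4, 2, 3, 0, 2]), (0, [3, 4, 2, 3, 0, 2]), (0, [5, 3, 4, 2, 3, 0, 2]), (
  0, [6, 5, 3, 4, 2, 3, 0, 2]), (0, [7, 6, 5, 3, 4, 2, 3, 0, 2]), (0, [2, 3, 0, 2]), (0, [4, 2, 3, 0, 2]), (
  0, [5, 4, 2, 3, 0, 2]), (0, [6, 5, 4, 2, 3, 0, 2]), (0, [7, 6, 5, 4, 2, 3, 0, 2]), (0, [0, 2]), (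
  0, [3, 0, 2]), (0, [4, 3, 0, 2]), (0, [5, 4, 3, 0, 2]), (0, [6, 5, 4, 3, 0, 2]), (
  0, [7, 6, 5, 4, 3, 0, 2]), (0, [3, 2, 1, 3, 0, 2]), (0, [2, 1, 3, 0, 2]), (0, [4, 2, 1, 3, 0, 2]), (
  0, [5, 4, 2, 1, 3, 0, 2]), (0, [6, 5, 4, 2, 1, 3, 0, 2]), (0, [7, 6, 5, 4, 2, 1, 3, 0, 2]), (
  0, [1, 3, 0, 2]), (0, [4, 1, 3, 0, 2]), (0, [5, 4, 1, 3, 0, 2]), (0, [6, 5, 4, 1, 3, 0, 2]), (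
  0, [7, 6, 5, 4, 1, 3, 0, 2]), (0, [3, 4, 1, 3, 0, 2]), (0, [5, 3, 4, 1, 3, 0, 2]), (
  0, [6, 5, 3, 4, 1, 3, 0, 2]), (0, [7, 6, 5, 3, 4, 1, 3, 0, 2]), (0, [4, 5, 3, 4, 1, 3, 0, 2]), (
  0, [6, 4, 5, 3, 4, 1, 3, 0, 2]), (0, [7, 6, 4, 5, 3, 4, 1, 3, 0, 2]), (0, [5, 6, 4, 5, 3, 4, 1, 3, 0, 2]), (
  0, [7, 5, 6, 4, 5, 3, 4, 1, 3, 0, 2]), (0, [6, 7, 5, 6, 4, 5, 3, 4, 1, 3, 0, 2]), (0, []), (0, [2]), (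
  0, [3, 2]), (0, [4, 3, 2]), (0, [5, 4, 3, 2]), (0, [6, 5, 4, 3, 2]), (0, [7, 6, 5, 4, 3, 2]), (
  0, [1, 3, 2]), (0, [4, 1, 3, 2]), (0, [5, 4, 1, 3, 2]), (0, [6, 5, 4, 1, 3, 2]), (
  0, [7, 6, 5, 4, 1, 3, 2]), (0, [3, 4, 1, 3, 2]), (0, [5, 3, 4, 1, 3, 2]), (0, [6, 5, 3, 4, 1, 3, 2]), (
  0, [7, 6, 5, 3, 4, 1, 3, 2]), (0, [4, 5, 3, 4, 1, 3, 2]), (0, [6, 4, 5, 3, 4, 1, 3, 2]), (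
  0, [7, 6, 4, 5, 3, 4, 1, 3, 2]), (0, [5, 6, 4, 5, 3, 4, 1, 3, 2]), (0, [7, 5, 6, 4, 5, 3, 4, 1, 3, 2]), (
  0, [6, 7, 5, 6, 4, 5, 3, 4, 1, 3, 2]), (0, [2, 3, 4, 1, 3, 2]), (0, [5, 2, 3, 4, 1, 3, 2]), (
  0, [6, 5, 2, 3, 4, 1, 3, 2]), (0, [7, 6, 5, 2, 3, 4, 1, 3, 2]), (0, [4, 5, 2, 3, 4, 1, 3, 2]), (
  0, [6, 4, 5, 2, 3, 4, 1, 3, 2]), (0, [7, 6, 4, 5, 2, 3, 4, 1, 3, 2]), (0, [5, 6, 4, 5, 2, 3, 4, 1, 3, 2]), (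
  0, [7, 5, 6, 4, 5, 2, 3, 4, 1, 3, 2]), (0, [6, 7, 5, 6, 4, 5, 2, 3, 4, 1, 3, 2]), (
  0, [3, 4, 5, 2, 3, 4, 1, 3, 2]), (0, [6, 3, 4, 5, 2, 3, 4, 1, 3, 2]), (
  0, [7, 6, 3, 4, 5, 2, 3, 4, 1, 3, 2]), (0, [5, 6, 3, 4, 5, 2, 3, 4, 1, 3, 2]), (
  0, [7, 5, 6, 3, 4, 5, 2, 3, 4, 1, 3, 2]), (0, [6, 7, 5, 6, 3, 4, 5, 2, 3, 4, 1, 3, 2]), (
  0, [4, 5, 6, 3, 4, 5, 2, 3, 4, 1, 3, 2]), (0, [7, 4, 5, 6, 3, 4, 5, 2, 3, 4, 1, 3, 2]), (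
  0, [6, 7, 4, 5, 6, 3, 4, 5, 2, 3, 4, 1, 3, 2]), (0, [5, 6, 7, 4, 5, 6, 3, 4, 5, 2, 3, 4, 1, 3, 2]), (
  0, [1, 3, 4, 5, 2, 3, 4, 1, 3, 2]), (0, [6, 1, 3, 4, 5, 2, 3, 4, 1, 3, 2]), (
  0, [7, 6, 1, 3, 4, 5, 2, 3, 4, 1, 3, 2]), (0, [5, 6, 1, 3, 4, 5, 2, 3, 4, 1, 3, 2]), (
  0, [7, 5, 6, 1, 3, 4, 5, 2, 3, 4, 1, 3, 2]), (0, [6, 7, 5, 6, 1, 3, 4, 5, 2, 3, 4, 1, 3, 2]), (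
  0, [4, 5, 6, 1, 3, 4, 5, 2, 3, 4, 1, 3, 2]), (0, [7, 4, 5, 6, 1, 3, 4, 5, 2, 3, 4, 1, 3, 2]), (
  0, [6, 7, 4, 5, 6, 1, 3, 4, 5, 2, 3, 4, 1, 3, 2]), (0, [5, 6, 7, 4, 5, 6, 1, 3, 4, 5, 2, 3, 4, 1, 3, 2]), (
  0, [3, 4, 5, 6, 1, 3, 4, 5, 2, 3, 4, 1, 3, 2]), (0, [7, 3, 4, 5, 6, 1, 3, 4, 5, 2, 3, 4, 1, 3, 2]), (
  0, [6, 7, 3, 4, 5, 6, 1, 3, 4, 5, 2, 3, 4, 1, 3, 2]), (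
  0, [5, 6, 7, 3, 4, 5, 6, 1, 3, 4, 5, 2, 3, 4, 1, 3, 2]), (
  0, [4, 5, 6, 7, 3, 4, 5, 6, 1, 3, 4, 5, 2, 3, 4, 1, 3, 2]), (
  0, [2, 3, 4, 5, 6, 1, 3, 4, 5, 2, 3, 4, 1, 3, 2]), (0, [7, 2, 3, 4, 5, 6, 1, 3, 4, 5, 2, 3, 4, 1, 3, 2]), (
  0, [6, 7, 2, 3, 4, 5, 6, 1, 3, 4, 5, 2, 3, 4, 1, 3, 2]), (
  0, [5, 6, 7, 2, 3, 4, 5, 6, 1, 3, 4, 5, 2, 3, 4, 1, 3, 2]), (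
  0, [4, 5, 6, 7, 2, 3, 4, 5, 6, 1, 3, 4, 5, 2, 3, 4, 1, 3, 2]), (
  0, [3, 4, 5, 6, 7, 2, 3, 4, 5, 6, 1, 3, 4, 5, 2, 3, 4, 1, 3, 2]), (
  0, [1, 3, 4, 5, 6, 7, 2, 3, 4, 5, 6, 1, 3, 4, 5, 2, 3, 4, 1, 3, 2]), (
  0, [0, 2, 3, 4, 5, 6, 1, 3, 4, 5, 2, 3, 4, 1, 3, 2]), (
  0, [7, 0, 2, 3, 4, 5, 6, 1, 3, 4, 5, 2, 3, 4, 1, 3, 2]), (
  0, [6, 7, 0, 2, 3, 4, 5, 6, 1, 3, 4, 5, 2, 3, 4, 1, 3, 2]), (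
  0, [5, 6, 7, 0, 2, 3, 4, 5, 6, 1, 3, 4, 5, 2, 3, 4, 1, 3, 2]), (
  0, [4, 5, 6, 7, 0, 2, 3, 4, 5, 6, 1, 3, 4, 5, 2, 3, 4, 1, 3, 2]), (
  0, [3, 4, 5, 6, 7, 0, 2, 3, 4, 5, 6, 1, 3, 4, 5, 2, 3, 4, 1, 3, 2]), (
  0, [2, 3, 4, 5, 6, 7, 0, 2, 3, 4, 5, 6, 1, 3, 4, 5, 2, 3, 4, 1, 3, 2]), (
  0, [1, 3, 4, 5, 6, 7, 0, 2, 3, 4, 5, 6, 1, 3, 4, 5, 2, 3, 4, 1, 3, 2]), (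
  0, [2, 1, 3, 4, 5, 6, 7, 0, 2, 3, 4, 5, 6, 1, 3, 4, 5, 2, 3, 4, 1, 3, 2]), (
  0, [3, 2, 1, 3, 4, 5, 6, 7, 0, 2, 3, 4, 5, 6, 1, 3, 4, 5, 2, 3, 4, 1, 3, 2]), (
  0, [4, 3, 2, 1, 3, 4, 5, 6, 7, 0, 2, 3, 4, 5, 6, 1, 3, 4, 5, 2, 3, 4, 1, 3, 2]), (
  0, [5, 4, 3, 2, 1, 3, 4, 5, 6, 7, 0, 2, 3, 4, 5, 6, 1, 3, 4, 5, 2, 3, 4, 1, 3, 2]), (
  0, [6, 5, 4, 3, 2, 1, 3, 4, 5, 6, 7, 0, 2, 3, 4, 5, 6, 1, 3, 4, 5, 2, 3, 4, 1, 3, 2]), (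
  0, [7, 6, 5, 4, 3, 2, 1, 3, 4, 5, 6, 7, 0, 2, 3, 4, 5, 6, 1, 3, 4, 5, 2, 3, 4, 1, 3, 2])]

theorem orbOK2_E8 : orbChk2 chevE8 commWs_E8 0 0 orbCert2_E8 = true := by decide +kernel

theorem longOK_G2 : longChk chevG2 orbCert2_G2 = true := by decide +kernel

theorem longOK_B2 : longChk chevB2 orbCert2_B2 = true := by decide +kernel

theorem longOK_F4 : longChk chevF4 orbCert2_F4 = true := by decide +kernel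

theorem commOK2_G2 : (decide (4 < chevG2.nroots) && decide (8 < chevG2.nroots) && decide (8 ≠ 4) &&
    decide (8 ≠ chevG2.neg 4) && decide (clsOf orbCert2_G2 4 = 0) && decide (clsOf orbCert2_G2 8 = 0) &&
    decide (chevG2.commTerms 4 8 = [(chevG2.simple 1, -3, 1, 1)])) = true := by decide +kernel

theorem commOK2_B2 : (decide (2 < chevB2.nroots) && decide (6 < chevB2.nroots) && decide (6 ≠ 2) &&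
    decide (6 ≠ chevB2.neg 2) && decide (clsOf orbCert2_B2 2 = 0) && decide (clsOf orbCert2_B2 6 = 0) &&
    decide (chevB2.commTerms 2 6 = [(chevB2.simple 1, -2, 1, 1)])) = true := by decide +kernel

theorem commOK2_F4 : (decide (9 < chevF4.nroots) && decide (39 < chevF4.nroots) && decide (39 ≠ 9) &&
    decide (39 ≠ chevF4.neg 9) && decide (clsOf orbCert2_F4 9 = 0) && decide (clsOf orbCert2_F4 39 = 0) &&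
    decide (chevF4.commTerms 9 39 = [(chevF4.simple 2, -2, 1, 1)])) = true := by decide +kernel

/-- the orbit facts of the seven data -/
theorem orbFacts_G2 {F : Type*} [Field F] (hF : ChevFacts chevG2 F) :
    OrbFacts chevG2 0 1 (clsOf orbCert2_G2) :=
  orbFacts_of_chk chevG2 (etaOf chevG2) hF.facts hF.simple_lt commWs_G2 wsTab_G2 0 1 orbCert2_G2 orbOK2_G2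

theorem orbFacts_B2 {F : Type*} [Field F] (hF : ChevFacts chevB2 F) :
    OrbFacts chevB2 0 1 (clsOf orbCert2_B2) :=
  orbFacts_of_chk chevB2 (etaOf chevB2) hF.facts hF.simple_lt commWs_B2 wsTab_B2 0 1 orbCert2_B2 orbOK2_B2

theorem orbFacts_D4 {F : Type*} [Field F] (hF : ChevFacts chevD4 F) :
    OrbFacts chevD4 0 0 (clsOf orbCert2_D4) :=
  orbFacts_of_chk chevD4 (etaOf chevD4) hF.facts hF.simple_lt commWs_D4 wsTab_D4 0 0 orbCert2_D4 orbOK2_D4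

theorem orbFacts_F4 {F : Type*} [Field F] (hF : ChevFacts chevF4 F) :
    OrbFacts chevF4 0 2 (clsOf orbCert2_F4) :=
  orbFacts_of_chk chevF4 (etaOf chevF4) hF.facts hF.simple_lt commWs_F4 wsTab_F4 0 2 orbCert2_F4 orbOK2_F4

theorem orbFacts_E6 {F : Type*} [Field F] (hF : ChevFacts chevE6 F) :
    OrbFacts chevE6 0 0 (clsOf orbCert2_E6) :=
  orbFacts_of_chk chevE6 (etaOf chevE6) hF.facts hF.simple_lt commWs_E6 wsTab_E6 0 0 orbCert2_E6 orbOK2_E6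

theorem orbFacts_E7 {F : Type*} [Field F] (hF : ChevFacts chevE7 F) :
    OrbFacts chevE7 0 0 (clsOf orbCert2_E7) :=
  orbFacts_of_chk chevE7 (etaOf chevE7) hF.facts hF.simple_lt commWs_E7 wsTab_E7 0 0 orbCert2_E7 orbOK2_E7

theorem orbFacts_E8 {F : Type*} [Field F] (hF : ChevFacts chevE8 F) :
    OrbFacts chevE8 0 0 (clsOf orbCert2_E8) :=
  orbFacts_of_chk chevE8 (etaOf chevE8) hF.facts hF.simple_lt commWs_E8 wsTab_E8 0 0 orbCert2_E8 orbOK2_E8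

/-- the commutator data for the long representative -/
theorem commData_of (D : ChevalleyDatum) (cert : List (ℕ × List ℕ)) (a b rep1 : ℕ) (M : ℤ)
    (h : (decide (a < D.nroots) && decide (b < D.nroots) && decide (b ≠ a) &&
      decide (b ≠ D.neg a) && decide (clsOf cert a = 0) && decide (clsOf cert b = 0) &&
      decide (D.commTerms a b = [(D.simple rep1, M, 1, 1)])) = true) :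
    a < D.nroots ∧ b < D.nroots ∧ b ≠ a ∧ b ≠ D.neg a ∧ clsOf cert a = 0 ∧ clsOf cert b = 0 ∧
      D.commTerms a b = [(D.simple rep1, M, 1, 1)] := by
  simp only [Bool.and_eq_true, decide_eq_true_eq] at h
  obtain ⟨⟨⟨⟨⟨⟨h1, h2⟩, h3⟩, h4⟩, h5⟩, h6⟩, h7⟩ := h
  exact ⟨h1, h2, h3, h4, h5, h6, h7⟩

end Cfsg.Agent.Helper6.ChevL
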