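import Mathlib
import Cfsg.Agent.Lib.Helper6.StPres
import Cfsg.Agent.Lib.Helper6.RankOneSym
import Cfsg.Agent.Lib.Helper6.ChevLGenData

/-!
Over a finite field the relations (R3) follow from (R1), (R2) (Steinberg, Theorem 9): in a group `Γ` with
(R1), (R2) mapping onto the Chevalley group with central kernel, `h̄_r` is multiplicative for every root `r`.
-/

set_option autoImplicit false
set_option linter.unusedSectionVars false
set_option linter.unusedVariables false

namespace Cfsg.Agent.Helper6.StC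

open Cfsg Cfsg.Lie Cfsg.Agent.Lead.Chev Cfsg.Agent.Helper6.ChevL

theorem eta_simple_G2 : ∀ i < chevG2.rank, etaOf chevG2 i (chevG2.simple i) = -1 := by decide +kernel
theorem eta_simple_B2 : ∀ i < chevB2.rank, etaOf chevB2 i (chevB2.simple i) = -1 := by decide +kernel
theorem eta_simple_D4 : ∀ i < chevD4.rank, etaOf chevD4 i (chevD4.simple i) = -1 := by decide +kernel
theorem eta_simple_F4 : ∀ i < chevF4.rank, etaOf chevF4 i (chevF4.simple i) = -1 := by decide +kernel
theorem eta_simple_E6 : ∀ i < chevE6.rank, etaOf chevE6 i (chevE6.simple i) = -1 := by decide +kernel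
theorem eta_simple_E7 : ∀ i < chevE7.rank, etaOf chevE7 i (chevE7.simple i) = -1 := by decide +kernel
theorem eta_simple_E8 : ∀ i < chevE8.rank, etaOf chevE8 i (chevE8.simple i) = -1 := by decide +kernel

theorem eta_simple_of_mem (D : ChevalleyDatum)
    (hD : D ∈ [chevG2, chevB2, chevD4, chevF4, chevE6, chevE7, chevE8]) :
    ∀ i < D.rank, etaOf D i (D.simple i) = -1 := by
  simp only [List.mem_cons, List.mem_nil_iff, or_false] at hD
  rcases hD with rfl | rfl | rfl | rfl | rfl | rfl | rfl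
  · exact eta_simple_G2
  · exact eta_simple_B2
  · exact eta_simple_D4
  · exact eta_simple_F4
  · exact eta_simple_E6
  · exact eta_simple_E7
  · exact eta_simple_E8

variable {K : Type*} [Field K] {Γ : Type*} [Group Γ]

namespace Setup

variable {D : ChevalleyDatum} {X : ℕ → K → Γ} {θ : Γ →* GL D.Idx K} (S : Setup D X θ)
include S

theorem cN_simple (hd : StData D) (he : ∀ i < D.rank, etaOf D i (D.simple i) = -1) (i : ℕ) (hi : i < D.rank)
    (t : K) (ht : t ≠ 0) : cN D i (D.simple i) t = -(t ^ 2)⁻¹ := by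
  unfold cN
  rw [S.reflectRoot_simple, S.facts.cartan_neg i hi _ (S.facts.simple_lt i hi), hd.diag2 i hi, he i hi]
  rw [zpow_neg]
  norm_cast
  simp

/-- the rank-one relations at a fundamental root -/
theorem rankOneSym_simple (hd : StData D) (he : ∀ i < D.rank, etaOf D i (D.simple i) = -1) (i : ℕ)
    (hi : i < D.rank) :
    R1S.RankOne (fun t => X (D.simple i) t) (fun t => X (D.neg (D.simple i)) t) where
  xadd := fun a b => S.rel.add _ (S.facts.simple_lt i hi) a b
  yadd := fun a b => S.rel.add _ (S.facts.neg_simple_lt i hi) a b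
  conjx := fun t ht u => by
    have h := S.nG_conj hd i hi t ht (D.simple i) (S.facts.simple_lt i hi) u
    rw [S.reflectRoot_simple, S.cN_simple hd he i hi t ht] at h
    exact h
  conjy := fun t ht u => by
    have h := S.nG_conj hd i hi t ht (D.neg (D.simple i)) (S.facts.neg_simple_lt i hi) u
    rw [S.reflectRoot_neg_simple i hi, cN_neg S.facts i hi _ (S.facts.simple_lt i hi) t ht,
      S.cN_simple hd he i hi t ht, inv_neg, inv_inv] at h
    exact h

theorem hh_eq_hG (r : ℕ) (t : K) :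
    R1S.hh (fun t => X r t) (fun t => X (D.neg r) t) t = hG D X r t := rfl

/-- the image of `h̄_r(t)` -/
theorem map_hG (r : ℕ) (hr : r < D.nroots) (t : K) : θ (hG D X r t) = hGLt D S.facts.xadd r t := by
  unfold hG
  rw [map_mul, S.map_nG r hr, S.map_nG r hr, hGLt_eq]

/-- `h̄_r(t) h̄_r(u) h̄_r(tu)⁻¹` lies in the kernel -/
theorem hG_mul_mem_ker (hd : StData D) (r : ℕ) (hr : r < D.nroots) (t u : K) (ht : t ≠ 0) (hu : u ≠ 0) :
    hG D X r t * hG D X r u * (hG D X r (t * u))⁻¹ ∈ θ.ker := by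
  rw [MonoidHom.mem_ker, map_mul, map_mul, map_inv, S.map_hG r hr, S.map_hG r hr, S.map_hG r hr,
    mul_inv_eq_one]
  have h1 := (rankOne_root S.facts hd.diag2 r hr).hmul t u ht hu
  rw [hh_eq S.facts, hh_eq S.facts, hh_eq S.facts] at h1
  exact h1.symm

/-- (R3) at a fundamental root over a finite field -/
theorem hG_mul_simple [Finite K] (hd : StData D) (he : ∀ i < D.rank, etaOf D i (D.simple i) = -1)
    (hker : θ.ker ≤ Subgroup.center Γ) (i : ℕ) (hi : i < D.rank) (t u : K) (ht : t ≠ 0) (hu : u ≠ 0) :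
    hG D X (D.simple i) t * hG D X (D.simple i) u = hG D X (D.simple i) (t * u) := by
  have R := S.rankOneSym_simple hd he i hi
  exact R.hh_mul (fun a b ha hb => hker (S.hG_mul_mem_ker hd _ (S.facts.simple_lt i hi) a b ha hb)) t u ht hu

/-- (R3) at every root over a finite field -/
theorem hG_mul [Finite K] (hd : StData D) (he : ∀ i < D.rank, etaOf D i (D.simple i) = -1)
    (hker : θ.ker ≤ Subgroup.center Γ) (r : ℕ) (hr : r < D.nroots) (t u : K) (ht : t ≠ 0) (hu : u ≠ 0) :
    hG D X r t * hG D X r u = hG D X r (t * u) := by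
  have hF := S.facts
  obtain ⟨i, hi, w, hw, hwr⟩ := hF.orbit r hr
  have hp := hF.simple_lt i hi
  set wp : List (ℕ × K) := w.map fun j => (j, (1 : K)) with hwp
  have hwp1 : ∀ q ∈ wp, q.1 < D.rank ∧ q.2 ≠ 0 := by
    intro q hq
    obtain ⟨j, hj, rfl⟩ := List.mem_map.1 hq
    exact ⟨hw j hj, one_ne_zero⟩
  have hwp2 : wp.map Prod.fst = w := by
    rw [hwp, List.map_map]
    exact List.map_id _
  obtain ⟨c, hc, hconj⟩ := S.nWordP_conj_nG hd wp hwp1 (D.simple i) hp
  rw [hwp2, hwr] at hconj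
  set g := nWordP D X wp with hg
  -- `k(u) = g h̄_i(u) g⁻¹ = n̄_r(cu) n̄_r(c)⁻¹`
  have hnr := hF.sign.neg_lt r hr
  have hk : ∀ v : K, g * hG D X (D.simple i) v * g⁻¹ = nG D X r (c * v) * (nG D X r c)⁻¹ := by
    intro v
    have e : g * hG D X (D.simple i) v * g⁻¹ =
        (g * nG D X (D.simple i) v * g⁻¹) * (g * nG D X (D.simple i) (-1) * g⁻¹) := by
      unfold hG
      group
    rw [e, hconj, hconj, mul_neg_one, ← S.rel.nG_inv r hr hnr]
  have hkmul : ∀ a b : K, a ≠ 0 → b ≠ 0 →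
      (nG D X r (c * a) * (nG D X r c)⁻¹) * (nG D X r (c * b) * (nG D X r c)⁻¹) =
        nG D X r (c * (a * b)) * (nG D X r c)⁻¹ := by
    intro a b ha hb
    rw [← hk, ← hk, ← hk, ← S.hG_mul_simple hd he hker i hi a b ha hb]
    group
  -- `h̄_r(t) = k(t)`
  have hh : ∀ v : K, v ≠ 0 → hG D X r v = nG D X r (c * v) * (nG D X r c)⁻¹ := by
    intro v hv
    have h1 := hkmul (v / c) c (div_ne_zero hv hc) hc
    have h2 := hkmul c⁻¹ c (inv_ne_zero hc) hc
    rw [mul_div_cancel₀ _ hc, div_mul_cancel₀ _ hc] at h1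
    rw [mul_inv_cancel₀ hc, inv_mul_cancel₀ hc, mul_one, mul_inv_cancel] at h2
    -- h2 : n(1) n(c)⁻¹ * (n(c c) n(c)⁻¹) = 1
    have h3 : (nG D X r 1)⁻¹ = (nG D X r c)⁻¹ * (nG D X r (c * c) * (nG D X r c)⁻¹) := by
      rw [mul_assoc] at h2
      exact (eq_inv_of_mul_eq_one_right h2).symm ▸ rfl
    unfold hG
    rw [← S.rel.nG_inv r hr hnr, h3, ← mul_assoc, h1]
  rw [hh t ht, hh u hu, hh (t * u) (mul_ne_zero ht hu)]
  exact hkmul t u ht hu

end Setup

end Cfsg.Agent.Helper6.StC
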