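import Mathlib
import Cfsg.Agent.Lib.Helper6.CExtChev
import Cfsg.Agent.S1077
import Cfsg.Agent.S2397
import Cfsg.Agent.S2395
import Cfsg.Prelude.Def_KGroupFacts

/-!
# The Schur multiplier of a Chevalley group from the universal property of the presented group

If every central extension of the Chevalley group receives a homomorphism from the presented group,
then the multiplier is the centre of the presented group.
-/

set_option autoImplicit false
set_option linter.unusedSectionVars false
set_option linter.unusedVariables false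

namespace Cfsg.Agent.Helper6.CExt

open Cfsg Cfsg.Lie Cfsg.Agent.Lead.Chev Cfsg.Agent.Helper6.StC

universe u

theorem hasCyclicSchurMultiplier_of_cover {F : Type u} [Field F] [Fintype F] (D : ChevalleyDatum)
    (hD : D ∈ [chevG2, chevB2, chevD4, chevF4, chevE6, chevE7, chevE8])
    (hK : D ∈ [chevB2, chevG2] → ∃ x : F, x ≠ 0 ∧ x ≠ 1) (n : ℕ) (hn : n ≠ 0)
    (hcov : ∀ (E : Type u) [Group E] (σ : E →* D.group F), Function.Surjective σ →
      σ.ker ≤ Subgroup.center E → ∃ τ : D.SteinbergCover F →* E, ∀ (r : ℕ) (t : F), r < D.nroots →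
        σ (τ (D.scGen F r t)) = XG hD r t)
    (hcyc : IsCyclic (Subgroup.center (D.SteinbergGroup F)))
    (hcard : Nat.card (Subgroup.center (D.SteinbergGroup F)) = n) :
    HasCyclicSchurMultiplier (D.group F) n := by
  classical
  obtain ⟨θS, hSsurj, hSker, hSval⟩ := Cfsg.Agent.S1077.result (K := F) D hD
  obtain ⟨e, he⟩ := Cfsg.Agent.S2397.result (K := F) D hD hK
  have hlift := lift_relAB (chevFacts_of_mem (F := F) D hD)
  set θC := thetaG hD (D.steinbergRelsAB F) hlift with hθC
  have hθgen : ∀ (r : ℕ) (t : F), r < D.nroots → θC (D.scGen F r t) = XG hD r t := by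
    intro r t hr
    apply Subtype.ext
    rw [hθC, thetaG_val]
    exact thetaGL_mk hD (D.steinbergRelsAB F) hlift r t
  have hof : ∀ (r : Fin D.nroots) (t : F),
      PresentedGroup.of (rels := D.steinbergRelsAB F) (r, t) = D.scGen F r.val t := by
    intro r t
    unfold ChevalleyDatum.scGen ChevalleyDatum.stX
    rw [dif_pos r.2]
    rfl
  -- the two covering maps agree
  have hcompS : θS.comp e.toMonoidHom = θC := by
    apply PresentedGroup.ext
    rintro ⟨r, t⟩
    rw [hof, MonoidHom.comp_apply, MulEquiv.coe_toMonoidHom, he, hθgen r.val t r.2]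
    apply Subtype.ext
    apply Units.ext
    rw [hSval r.val t r.2, XG_val]
    rfl
  have hkerC : ∀ d, d ∈ θC.ker ↔ e d ∈ Subgroup.center (D.SteinbergGroup F) := by
    intro d
    rw [← hSker, MonoidHom.mem_ker, MonoidHom.mem_ker, ← hcompS, MonoidHom.comp_apply,
      MulEquiv.coe_toMonoidHom]
  -- the kernel is the centre of the universal group
  let kerEquiv : θC.ker ≃* Subgroup.center (D.SteinbergGroup F) :=
    { toFun := fun d => ⟨e d.1, (hkerC d.1).1 d.2⟩
      invFun := fun z => ⟨e.symm z.1, (hkerC _).2 (by rw [MulEquiv.apply_symm_apply]; exact z.2)⟩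
      left_inv := fun d => Subtype.ext (e.symm_apply_apply d.1)
      right_inv := fun z => Subtype.ext (e.apply_symm_apply z.1)
      map_mul' := fun a b => Subtype.ext (map_mul e a.1 b.1) }
  have hcz : Multiplicative (ZMod n) ≃* Subgroup.center (D.SteinbergGroup F) := by
    subst hcard
    exact zmodCyclicMulEquiv hcyc
  let c : Multiplicative (ZMod n) ≃* θC.ker := hcz.trans kerEquiv.symm
  have hCsurj : Function.Surjective θC := thetaG_surjective hD (D.steinbergRelsAB F) hlift
  have hCcen : θC.ker ≤ Subgroup.center (D.SteinbergCover F) :=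
    thetaG_ker_le hD (D.steinbergRelsAB F) (le_refl _) hlift
  have hperf : commutator (D.SteinbergCover F) = ⊤ := Cfsg.Agent.S2395.result D hD hK
  -- finiteness
  have hfin : Finite (D.SteinbergCover F) := by
    have h1 : Nat.card (D.SteinbergCover F) =
        Nat.card (D.SteinbergCover F ⧸ θC.ker) * Nat.card θC.ker :=
      Subgroup.card_eq_card_quotient_mul_card_subgroup _
    have h2 : Nat.card (D.SteinbergCover F ⧸ θC.ker) = Nat.card (D.group F) :=
      Nat.card_congr (QuotientGroup.quotientKerEquivOfSurjective θC hCsurj).toEquiv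
    have h3 : Nat.card θC.ker = n := by
      rw [Nat.card_congr kerEquiv.toEquiv, hcard]
    have h4 : Nat.card (D.group F) ≠ 0 := Nat.card_pos.ne'
    apply Nat.finite_of_card_ne_zero
    rw [h1, h2, h3]
    exact Nat.mul_ne_zero h4 hn
  refine ⟨⟨D.SteinbergCover F, inferInstance, hfin, θC, ⟨hCsurj, hCcen, ?_⟩, ⟨c.symm⟩⟩, ?_⟩
  · rw [hperf]
    exact le_top
  · intro Γs _ _ σ hσ
    obtain ⟨hs, hcz', hcomm⟩ := hσ
    obtain ⟨τ, hτ⟩ := hcov Γs σ hs hcz'
    have hcomp : σ.comp τ = θC := by
      apply PresentedGroup.ext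
      rintro ⟨r, t⟩
      rw [hof, MonoidHom.comp_apply, hτ r.val t r.2, hθgen r.val t r.2]
    have hdecomp : ∀ y : Γs, ∃ d, σ y = σ (τ d) := by
      intro y
      obtain ⟨d, hd⟩ := hCsurj (σ y)
      refine ⟨d, ?_⟩
      rw [← MonoidHom.comp_apply, hcomp]
      exact hd.symm
    have hcr : commutator Γs ≤ τ.range := by
      rw [commutator_def, Subgroup.commutator_le]
      intro a _ b _
      obtain ⟨d₁, h₁⟩ := hdecomp a
      obtain ⟨d₂, h₂⟩ := hdecomp b
      rw [commutatorElement_def, comm_eq σ hcz' a (τ d₁) b (τ d₂) h₁ h₂]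
      exact ⟨d₁ * d₂ * d₁⁻¹ * d₂⁻¹, by simp only [map_mul, map_inv]⟩
    have hmem : ∀ d : θC.ker, τ d.1 ∈ σ.ker := by
      intro d
      rw [MonoidHom.mem_ker, ← MonoidHom.comp_apply, hcomp]
      exact d.2
    let ρ : θC.ker →* σ.ker :=
      { toFun := fun d => ⟨τ d.1, hmem d⟩
        map_one' := Subtype.ext (map_one τ)
        map_mul' := fun a b => Subtype.ext (map_mul τ a.1 b.1) }
    refine ⟨ρ.comp c.toMonoidHom, ?_⟩
    intro z
    obtain ⟨d, hd⟩ := hcr (hcomm z.2)
    have hdk : d ∈ θC.ker := by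
      rw [MonoidHom.mem_ker, ← hcomp, MonoidHom.comp_apply, hd]
      exact z.2
    refine ⟨c.symm ⟨d, hdk⟩, ?_⟩
    rw [MonoidHom.comp_apply, MulEquiv.coe_toMonoidHom, MulEquiv.apply_symm_apply]
    exact Subtype.ext hd

end Cfsg.Agent.Helper6.CExt
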