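import Mathlib
import Cfsg.Agent.Lib.Helper6.CExtBasic

/-!
# From a covering homomorphism to the universal property

If a perfect group `C` with a central surjection `θ : C → G` maps compatibly to every central extension
of `G`, then homomorphisms from `C` lift uniquely through every central extension.
-/

set_option autoImplicit false
set_option linter.unusedSectionVars false
set_option linter.unusedVariables false

namespace Cfsg.Agent.Helper6.CExt

open scoped commutatorElement

universe u v w x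

/-- two lifts of a homomorphism from a perfect group through a central extension agree -/
theorem lift_unique_of_perfect {C : Type u} {E : Type v} {G₁ : Type w} [Group C] [Group E] [Group G₁]
    (hperf : commutator C = ⊤) (π : E →* G₁) (hc : π.ker ≤ Subgroup.center E)
    (τ₁ τ₂ : C →* E) (h : π.comp τ₁ = π.comp τ₂) : τ₁ = τ₂ := by
  have hpt : ∀ a, π (τ₁ a) = π (τ₂ a) := fun a => by
    rw [← MonoidHom.comp_apply, h, MonoidHom.comp_apply]
  have hle : commutator C ≤ MonoidHom.eqLocus τ₁ τ₂ := by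
    rw [commutator_def, Subgroup.commutator_le]
    intro a _ b _
    change τ₁ ⁅a, b⁆ = τ₂ ⁅a, b⁆
    rw [commutatorElement_def, map_mul, map_mul, map_mul, map_inv, map_inv, map_mul, map_mul, map_mul,
      map_inv, map_inv]
    exact comm_eq π hc (τ₁ a) (τ₂ a) (τ₁ b) (τ₂ b) (hpt a) (hpt b)
  rw [hperf] at hle
  ext a
  exact hle (Subgroup.mem_top a)

theorem exists_unique_lift {C : Type u} {G : Type v} [Group C] [Group G] (θ : C →* G)
    (hθs : Function.Surjective θ) (hθc : θ.ker ≤ Subgroup.center C) (hperf : commutator C = ⊤)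
    {E : Type w} {G₁ : Type x} [Group E] [Group G₁]
    (hcov : ∀ (Q : Type (max w u)) [Group Q] (ψ : Q →* G), Function.Surjective ψ →
      ψ.ker ≤ Subgroup.center Q → ∃ τ : C →* Q, ψ.comp τ = θ)
    (π : E →* G₁) (hπ : Function.Surjective π) (hc : π.ker ≤ Subgroup.center E) (σ : C →* G₁) :
    ∃! τ : C →* E, π.comp τ = σ := by
  classical
  -- the pullback
  let P : Subgroup (E × C) :=
    MonoidHom.eqLocus (π.comp (MonoidHom.fst E C)) (σ.comp (MonoidHom.snd E C))
  have hP : ∀ p : P, π p.1.1 = σ p.1.2 := fun p => p.2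
  let q₂ : P →* C := (MonoidHom.snd E C).comp P.subtype
  have hq₂ : ∀ p : P, q₂ p = p.1.2 := fun p => rfl
  have hq₂s : Function.Surjective q₂ := by
    intro c
    obtain ⟨e, he⟩ := hπ (σ c)
    exact ⟨⟨(e, c), he⟩, rfl⟩
  have hq₂c : q₂.ker ≤ Subgroup.center P := by
    intro p hp
    rw [MonoidHom.mem_ker, hq₂] at hp
    have hz : p.1.1 ∈ Subgroup.center E := by
      apply hc
      rw [MonoidHom.mem_ker, hP p, hp, map_one]
    rw [Subgroup.mem_center_iff] at hz ⊢
    intro p'
    apply Subtype.ext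
    apply Prod.ext
    · exact hz p'.1.1
    · change p'.1.2 * p.1.2 = p.1.2 * p'.1.2
      rw [hp, mul_one, one_mul]
  -- the commutator subgroup of the pullback
  let Q : Subgroup P := commutator P
  let p₂ : Q →* C := q₂.comp Q.subtype
  have hp₂s : Function.Surjective p₂ := by
    intro c
    have h1 : (commutator P).map q₂ = ⊤ := by
      rw [commutator_def, Subgroup.map_commutator, ← MonoidHom.range_eq_map,
        MonoidHom.range_eq_top.2 hq₂s, ← commutator_def, hperf]
    have h2 : c ∈ (commutator P).map q₂ := by rw [h1]; exact Subgroup.mem_top c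
    obtain ⟨y, hy, hyc⟩ := Subgroup.mem_map.1 h2
    exact ⟨⟨y, hy⟩, hyc⟩
  let ψ : Q →* G := θ.comp p₂
  have hψs : Function.Surjective ψ := hθs.comp hp₂s
  have hψc : ψ.ker ≤ Subgroup.center Q := by
    intro y hy
    have hyc : q₂ y.1 ∈ Subgroup.center C := hθc (MonoidHom.mem_ker.2 (MonoidHom.mem_ker.1 hy))
    rw [Subgroup.mem_center_iff] at hyc
    have hconj : ∀ a : P, q₂ (y.1 * a * y.1⁻¹) = q₂ a := by
      intro a
      rw [map_mul, map_mul, map_inv, ← hyc (q₂ a), mul_assoc, mul_inv_cancel, mul_one]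
    have hfix : ∀ a b : P, y.1 * ⁅a, b⁆ * y.1⁻¹ = ⁅a, b⁆ := by
      intro a b
      rw [commutatorElement_def]
      have e : y.1 * (a * b * a⁻¹ * b⁻¹) * y.1⁻¹ =
          (y.1 * a * y.1⁻¹) * (y.1 * b * y.1⁻¹) * (y.1 * a * y.1⁻¹)⁻¹ * (y.1 * b * y.1⁻¹)⁻¹ := by
        group
      rw [e]
      exact comm_eq q₂ hq₂c _ a _ b (hconj a) (hconj b)
    have hle : commutator P ≤ Subgroup.centralizer {y.1} := by
      rw [commutator_def, Subgroup.commutator_le]
      intro a _ b _
      rw [Subgroup.mem_centralizer_iff]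
      intro h hh
      rw [Set.mem_singleton_iff] at hh
      subst hh
      have := hfix a b
      calc y.1 * ⁅a, b⁆ = (y.1 * ⁅a, b⁆ * y.1⁻¹) * y.1 := by group
        _ = ⁅a, b⁆ * y.1 := by rw [this]
    rw [Subgroup.mem_center_iff]
    intro g
    have := hle g.2
    rw [Subgroup.mem_centralizer_iff] at this
    apply Subtype.ext
    exact (this y.1 rfl).symm
  obtain ⟨τ₀, hτ₀⟩ := hcov Q ψ hψs hψc
  have hρ : p₂.comp τ₀ = MonoidHom.id C := by
    apply lift_unique_of_perfect hperf θ hθc
    rw [← MonoidHom.comp_assoc]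
    exact hτ₀
  have hρ' : ∀ c, (τ₀ c).1.1.2 = c := by
    intro c
    have := DFunLike.congr_fun hρ c
    exact this
  refine ⟨(MonoidHom.fst E C).comp (P.subtype.comp (Q.subtype.comp τ₀)), ?_, ?_⟩
  · ext c
    change π (τ₀ c).1.1.1 = σ c
    rw [hP (τ₀ c).1, hρ' c]
  · intro τ' hτ'
    apply lift_unique_of_perfect hperf π hc
    rw [hτ']
    ext c
    change σ c = π (τ₀ c).1.1.1
    rw [hP (τ₀ c).1, hρ' c]

end Cfsg.Agent.Helper6.CExt
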