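import Mathlib
import Cfsg.Agent.Lib.Helper6.CExtChev
import Cfsg.Agent.Lib.Helper6.CExtUniv
import Cfsg.Agent.Lib.Helper20.Schur
import Cfsg.Agent.Lib.Helper20.UCE
import Cfsg.Agent.S2397
import Cfsg.Agent.S2395
import Cfsg.Prelude.Def_KGroupFacts

/-!
# The Schur multiplier of the presented group is trivial when it is the universal central extension of the
Chevalley group
-/

set_option autoImplicit false
set_option linter.unusedSectionVars false
set_option linter.unusedVariables false

namespace Cfsg.Agent.Helper6.CExt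

open Cfsg Cfsg.Lie Cfsg.Agent.Lead.Chev Cfsg.Agent.Helper6.StC

universe u

/-- a perfect group with a finite central quotient is finite -/
theorem finite_of_perfect_of_central {C G : Type*} [Group C] [Group G] [Finite G] (θ : C →* G)
    (hθc : θ.ker ≤ Subgroup.center C) (hperf : commutator C = ⊤) : Finite C := by
  have hfi : θ.ker.FiniteIndex := by
    constructor
    rw [Subgroup.index_ker]
    exact Nat.card_pos.ne'
  have h1 : Finite (commutator C) :=
    Cfsg.Agent.Helper20.finite_commutator_of_central_finiteIndex C θ.ker hθc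
  rw [hperf] at h1
  exact Finite.of_equiv _ Subgroup.topEquiv.toEquiv

theorem hasCyclicSchurMultiplier_one_steinbergGroup {F : Type u} [Field F] [Fintype F]
    (D : ChevalleyDatum) (hD : D ∈ [chevG2, chevB2, chevD4, chevF4, chevE6, chevE7, chevE8])
    (hK : D ∈ [chevB2, chevG2] → ∃ x : F, x ≠ 0 ∧ x ≠ 1)
    (hcov : ∀ (E : Type u) [Group E] (σ : E →* D.group F), Function.Surjective σ →
      σ.ker ≤ Subgroup.center E → ∃ τ : D.SteinbergCover F →* E, ∀ (r : ℕ) (t : F), r < D.nroots →
        σ (τ (D.scGen F r t)) = XG hD r t) :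
    HasCyclicSchurMultiplier (D.SteinbergGroup F) 1 := by
  classical
  obtain ⟨e, he⟩ := Cfsg.Agent.S2397.result (K := F) D hD hK
  have hlift := lift_relAB (chevFacts_of_mem (F := F) D hD)
  set θC := thetaG hD (D.steinbergRelsAB F) hlift with hθC
  have hθgen : ∀ (r : ℕ) (t : F), r < D.nroots → θC (D.scGen F r t) = XG hD r t := by
    intro r t hr
    apply Subtype.ext
    rw [hθC, thetaG_val]
    exact thetaGL_mk hD (D.steinbergRelsAB F) hlift r t
  have hof : ∀ (r : Fin D.nroots) (t : F),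
      PresentedGroup.of (rels := D.steinbergRelsAB F) (r, t) = D.scGen F r.val t := by
    intro r t
    unfold ChevalleyDatum.scGen ChevalleyDatum.stX
    rw [dif_pos r.2]
    rfl
  have hCsurj : Function.Surjective θC := thetaG_surjective hD (D.steinbergRelsAB F) hlift
  have hCcen : θC.ker ≤ Subgroup.center (D.SteinbergCover F) :=
    thetaG_ker_le hD (D.steinbergRelsAB F) (le_refl _) hlift
  have hperf : commutator (D.SteinbergCover F) = ⊤ := Cfsg.Agent.S2395.result D hD hK
  have hcov' : ∀ (Q : Type u) [Group Q] (ψ : Q →* D.group F), Function.Surjective ψ →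
      ψ.ker ≤ Subgroup.center Q → ∃ τ : D.SteinbergCover F →* Q, ψ.comp τ = θC := by
    intro Q _ ψ hs hc'
    obtain ⟨τ, hτ⟩ := hcov Q ψ hs hc'
    refine ⟨τ, ?_⟩
    apply PresentedGroup.ext
    rintro ⟨r, t⟩
    rw [hof, MonoidHom.comp_apply, hτ r.val t r.2, hθgen r.val t r.2]
  have hfinC : Finite (D.SteinbergCover F) := finite_of_perfect_of_central θC hCcen hperf
  have hfinS : Finite (D.SteinbergGroup F) := Finite.of_equiv _ e.toEquiv
  apply Cfsg.Agent.Helper20.hasCyclicSchurMultiplier_one_of_forall_ker_eq_bot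
  intro Γ _ _ σ hσ
  obtain ⟨hs, hcz, hcomm⟩ := hσ
  -- transport to the cover
  obtain ⟨σ', hσ'⟩ : ∃ σ' : Γ →* D.SteinbergCover F, ∀ y, σ' y = e.symm (σ y) :=
    ⟨e.symm.toMonoidHom.comp σ, fun y => rfl⟩
  have hker : σ'.ker = σ.ker := by
    ext y
    rw [MonoidHom.mem_ker, MonoidHom.mem_ker, hσ']
    exact e.symm.map_eq_one_iff
  have hs' : Function.Surjective σ' := by
    intro c
    obtain ⟨y, hy⟩ := hs (e c)
    exact ⟨y, by rw [hσ', hy, MulEquiv.symm_apply_apply]⟩
  have hcz' : σ'.ker ≤ Subgroup.center Γ := hker ▸ hcz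
  obtain ⟨τ, hτ, -⟩ := exists_unique_lift θC hCsurj hCcen hperf hcov' σ' hs' hcz'
    (MonoidHom.id (D.SteinbergCover F))
  have hτ' : ∀ c, σ' (τ c) = c := fun c => by
    rw [← MonoidHom.comp_apply, hτ, MonoidHom.id_apply]
  have hcr : commutator Γ ≤ τ.range := by
    rw [commutator_def, Subgroup.commutator_le]
    intro a _ b _
    rw [commutatorElement_def, comm_eq σ' hcz' a (τ (σ' a)) b (τ (σ' b)) (hτ' _).symm (hτ' _).symm]
    exact ⟨σ' a * σ' b * (σ' a)⁻¹ * (σ' b)⁻¹, by simp only [map_mul, map_inv]⟩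
  rw [eq_bot_iff]
  intro y hy
  obtain ⟨c, hc⟩ := hcr (hcomm hy)
  have hy' : σ' y = 1 := by
    rw [← MonoidHom.mem_ker, hker]
    exact hy
  have hc1 : c = 1 := by rw [← hτ' c, hc, hy']
  rw [Subgroup.mem_bot, ← hc, hc1, map_one]

end Cfsg.Agent.Helper6.CExt
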