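import Mathlib
import Cfsg.Agent.Lib.Helper6.CExtBasic

/-!
# Lifting projective representations in the natural characteristic

A homomorphism from a perfect group `G` to `PGL_n(L)` has its image in the image of `SL_n(L)`; the pull-back of
`SL_n(L) → PGL_n(L)` is a central extension of `G` whose kernel, a group of roots of unity of a field of
characteristic `p`, has no `p`-torsion and is `p`-divisible.
-/

set_option autoImplicit false
set_option linter.unusedSectionVars false
set_option linter.unusedVariables false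

namespace Cfsg.Agent.Helper6.CExt

open scoped commutatorElement MatrixGroups
open Matrix

/-- `p`-th roots in a cyclic group of finite order without `p`-torsion -/
theorem exists_pth_root {A : Type*} [Group A] (x : A) (hfin : IsOfFinOrder x) (p : ℕ) (hp : p.Prime)
    (htor : ∀ k : ℕ, (x ^ k) ^ p = 1 → x ^ k = 1) : ∃ k : ℕ, (x ^ k) ^ p = x := by
  have hpos : 0 < orderOf x := hfin.orderOf_pos
  have hcop : p.Coprime (orderOf x) := by
    rw [hp.coprime_iff_not_dvd]
    rintro ⟨m, hm⟩
    have hm0 : 0 < m := by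
      rcases Nat.eq_zero_or_pos m with h | h
      · rw [h, mul_zero] at hm
        omega
      · exact h
    have h1 : (x ^ m) ^ p = 1 := by rw [← pow_mul, mul_comm, ← hm, pow_orderOf_eq_one]
    have h2 := htor m h1
    have h3 : orderOf x ∣ m := orderOf_dvd_of_pow_eq_one h2
    have h4 : orderOf x ≤ m := Nat.le_of_dvd hm0 h3
    have h5 : m < orderOf x := by
      rw [hm]
      have := hp.two_le
      nlinarith
    omega
  obtain ⟨m, hm⟩ := exists_pow_eq_self_of_coprime hcop
  exact ⟨m, by rw [← pow_mul, mul_comm, pow_mul, hm]⟩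

universe u v w

/-- a homomorphism from a perfect group to `PGL_n(L)` lifts to `GL_n(L)` along a perfect central extension `C`
of the group, if `C` maps to every central extension of the group whose kernel has no `p`-torsion and is
`p`-divisible, `p` being the characteristic of `L` -/
theorem exists_lift_PGL_ptor {C : Type u} {G : Type v} [Group C] [Group G] (θ : C →* G)
    (hθs : Function.Surjective θ) (hperf : commutator C = ⊤)
    {L : Type w} [Field L] (p : ℕ) (hp : p.Prime) [CharP L p] {n : ℕ}
    (φ : G →* GL (Fin n) L ⧸ Subgroup.center (GL (Fin n) L))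
    (hcov : ∀ (E : Type (max v w)) [Group E] (σ : E →* G), Function.Surjective σ →
      σ.ker ≤ Subgroup.center E → (∀ z : E, σ z = 1 → z ^ p = 1 → z = 1) →
      (∀ z : E, σ z = 1 → ∃ a : E, σ a = 1 ∧ a ^ p = z) → ∃ τ : C →* E, σ.comp τ = θ) :
    ∃ ψ : C →* GL (Fin n) L,
      (QuotientGroup.mk' (Subgroup.center (GL (Fin n) L))).comp ψ = φ.comp θ := by
  classical
  have : Fact p.Prime := ⟨hp⟩
  obtain ⟨q, hq⟩ : ∃ q : GL (Fin n) L →* GL (Fin n) L ⧸ Subgroup.center (GL (Fin n) L),
      q = QuotientGroup.mk' (Subgroup.center (GL (Fin n) L)) := ⟨_, rfl⟩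
  have hqs : Function.Surjective q := by
    rw [hq]
    exact QuotientGroup.mk'_surjective _
  have hqk : ∀ g, q g = 1 ↔ g ∈ Subgroup.center (GL (Fin n) L) := by
    intro g
    rw [hq, ← MonoidHom.mem_ker, QuotientGroup.ker_mk']
  obtain ⟨ι, hι⟩ : ∃ ι : Matrix.SpecialLinearGroup (Fin n) L →* GL (Fin n) L, ι = Matrix.SpecialLinearGroup.toGL :=
    ⟨_, rfl⟩
  have hιinj : Function.Injective ι := by
    rw [hι]
    exact Matrix.SpecialLinearGroup.toGL_injective
  have hιc : ∀ s, ι s ∈ Subgroup.center (GL (Fin n) L) ↔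
      s ∈ Subgroup.center (Matrix.SpecialLinearGroup (Fin n) L) := by
    intro s
    rw [hι]
    exact Matrix.SpecialLinearGroup.toGL_mem_center_iff s
  -- the group `G` is perfect
  have hG : commutator G = ⊤ := by
    have h1 : (commutator C).map θ = ⊤ := by
      rw [hperf, ← MonoidHom.range_eq_map, MonoidHom.range_eq_top.2 hθs]
    rw [commutator_def, Subgroup.map_commutator, ← MonoidHom.range_eq_map,
      MonoidHom.range_eq_top.2 hθs] at h1
    rw [commutator_def]
    exact h1
  -- the image lies in the image of the special linear group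
  have hrange : ∀ g : G, ∃ s : Matrix.SpecialLinearGroup (Fin n) L, q (ι s) = φ g := by
    have hle : commutator G ≤ ((q.comp ι).range).comap φ := by
      rw [commutator_def, Subgroup.commutator_le]
      intro a _ b _
      obtain ⟨a', ha'⟩ := hqs (φ a)
      obtain ⟨b', hb'⟩ := hqs (φ b)
      have hdet : ((⁅a', b'⁆ : GL (Fin n) L) : Matrix (Fin n) (Fin n) L).det = 1 := by
        have h1 : GeneralLinearGroup.det ⁅a', b'⁆ = 1 := by
          rw [map_commutatorElement]
          exact commutatorElement_eq_one_iff_commute.2 (Commute.all _ _)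
        have h2 := congrArg Units.val h1
        rwa [GeneralLinearGroup.val_det_apply, Units.val_one] at h2
      obtain ⟨s, hs⟩ : ∃ s : Matrix.SpecialLinearGroup (Fin n) L, ι s = ⁅a', b'⁆ := by
        refine ⟨⟨_, hdet⟩, ?_⟩
        rw [hι]
        apply Units.ext
        rfl
      refine ⟨s, ?_⟩
      rw [MonoidHom.comp_apply, hs, map_commutatorElement φ, ← ha', ← hb', ← map_commutatorElement q]
    intro g
    have hg : g ∈ ((q.comp ι).range).comap φ := hle (by rw [hG]; exact Subgroup.mem_top g)
    obtain ⟨s, hs⟩ := hg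
    exact ⟨s, hs⟩
  -- the central elements of the special linear group
  have hZtor : ∀ s ∈ Subgroup.center (Matrix.SpecialLinearGroup (Fin n) L), s ^ p = 1 → s = 1 := by
    intro s hs hsp
    obtain ⟨r, hr, hrs⟩ := Matrix.SpecialLinearGroup.mem_center_iff.1 hs
    rcases Nat.eq_zero_or_pos n with hn | hn
    · subst hn
      exact Subsingleton.elim _ _
    · have h0 : ((s ^ p : Matrix.SpecialLinearGroup (Fin n) L) : Matrix (Fin n) (Fin n) L) = 1 := by
        rw [hsp]
        rfl
      rw [Matrix.SpecialLinearGroup.coe_pow, ← hrs, ← map_pow] at h0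
      have h1 := congrFun (congrFun h0 ⟨0, hn⟩) ⟨0, hn⟩
      rw [scalar_apply, diagonal_apply_eq, one_apply_eq] at h1
      have h2 : (r - 1) ^ p = 0 := by rw [sub_pow_char, one_pow, h1, sub_self]
      have h3 : r = 1 := sub_eq_zero.1 (pow_eq_zero_iff hp.ne_zero |>.1 h2)
      apply Subtype.ext
      rw [← hrs, h3, map_one]
      rfl
  have hZfin : ∀ s ∈ Subgroup.center (Matrix.SpecialLinearGroup (Fin n) L), IsOfFinOrder s := by
    intro s hs
    obtain ⟨r, hr, hrs⟩ := Matrix.SpecialLinearGroup.mem_center_iff.1 hs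
    rcases Nat.eq_zero_or_pos n with hn | hn
    · subst hn
      rw [Subsingleton.elim s 1]
      exact IsOfFinOrder.one
    · rw [isOfFinOrder_iff_pow_eq_one]
      refine ⟨n, hn, ?_⟩
      apply Subtype.ext
      rw [Matrix.SpecialLinearGroup.coe_pow, ← hrs, ← map_pow]
      rw [Fintype.card_fin] at hr
      rw [hr, map_one]
      rfl
  -- the pull-back
  let P : Subgroup (G × Matrix.SpecialLinearGroup (Fin n) L) :=
    MonoidHom.eqLocus (φ.comp (MonoidHom.fst G (Matrix.SpecialLinearGroup (Fin n) L)))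
      ((q.comp ι).comp (MonoidHom.snd G (Matrix.SpecialLinearGroup (Fin n) L)))
  have hP : ∀ x : P, φ x.1.1 = q (ι x.1.2) := fun x => x.2
  let σ : P →* G := (MonoidHom.fst G (Matrix.SpecialLinearGroup (Fin n) L)).comp P.subtype
  have hσ : ∀ x : P, σ x = x.1.1 := fun x => rfl
  have hσs : Function.Surjective σ := by
    intro g
    obtain ⟨s, hs⟩ := hrange g
    exact ⟨⟨(g, s), hs.symm⟩, rfl⟩
  have hker : ∀ x : P, σ x = 1 → x.1.2 ∈ Subgroup.center (Matrix.SpecialLinearGroup (Fin n) L) := by
    intro x hx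
    rw [← hιc, ← hqk, ← hP x, ← hσ, hx, map_one]
  have hσc : σ.ker ≤ Subgroup.center P := by
    intro x hx
    rw [MonoidHom.mem_ker] at hx
    have h2 := Subgroup.mem_center_iff.1 (hker x hx)
    rw [Subgroup.mem_center_iff]
    intro y
    apply Subtype.ext
    apply Prod.ext
    · show y.1.1 * x.1.1 = x.1.1 * y.1.1
      rw [← hσ x, hx, mul_one, one_mul]
    · exact h2 y.1.2
  have hσtor : ∀ z : P, σ z = 1 → z ^ p = 1 → z = 1 := by
    intro z hz hzp
    have h1 : z.1.2 ^ p = 1 := by
      have := congrArg (fun x : P => x.1.2) hzp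
      exact this
    have h2 := hZtor _ (hker z hz) h1
    apply Subtype.ext
    apply Prod.ext
    · rw [← hσ z, hz]
      rfl
    · exact h2
  have hσdiv : ∀ z : P, σ z = 1 → ∃ a : P, σ a = 1 ∧ a ^ p = z := by
    intro z hz
    have hzc := hker z hz
    obtain ⟨k, hk⟩ := exists_pth_root z.1.2 (hZfin _ hzc) p hp (fun k hk =>
      hZtor _ (Subgroup.pow_mem _ hzc k) hk)
    have hq1 : q (ι z.1.2) = 1 := by rw [← hP z, ← hσ, hz, map_one]
    refine ⟨⟨(1, z.1.2 ^ k), ?_⟩, rfl, ?_⟩
    · show φ 1 = q (ι (z.1.2 ^ k))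
      rw [map_one, map_pow, map_pow, hq1, one_pow]
    · apply Subtype.ext
      apply Prod.ext
      · show (1 : G) ^ p = z.1.1
        rw [one_pow, ← hσ z, hz]
      · exact hk
  obtain ⟨τ, hτ⟩ := hcov P σ hσs hσc hσtor hσdiv
  refine ⟨ι.comp ((MonoidHom.snd G (Matrix.SpecialLinearGroup (Fin n) L)).comp (P.subtype.comp τ)), ?_⟩
  rw [← hq]
  ext c
  show q (ι (τ c).1.2) = φ (θ c)
  have h1 := DFunLike.congr_fun hτ c
  rw [MonoidHom.comp_apply] at h1
  rw [← hP (τ c), ← hσ, h1]

end Cfsg.Agent.Helper6.CExt
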