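import Mathlib
import Cfsg.Agent.Lib.Helper6.CExtHybChev

/-!
# Central extensions with kernel without `p`-torsion, in characteristic `p`

Over a field of characteristic `p` the root elements have order `p`.  If the kernel of a central extension has
no element of order `p` and is `p`-divisible, every root element has exactly one lift of order dividing `p`; these
lifts satisfy Steinberg's relations, the central discrepancies being additive functions with values in a group
without `p`-torsion.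
-/

set_option autoImplicit false
set_option linter.unusedSectionVars false
set_option linter.unusedVariables false

namespace Cfsg.Agent.Helper6.CExt

open Cfsg Cfsg.Lie Cfsg.Agent.Lead.Chev Cfsg.Agent.Helper6.StC

variable {K : Type*} [Field K] {E Γ : Type*} [Group E] [Group Γ]

section ptor

variable {D : ChevalleyDatum} {X : ℕ → K → Γ} {θ : Γ →* GL D.Idx K} (S : Setup D X θ)
  (ρ : E →* Γ) (hc : ρ.ker ≤ Subgroup.center E) {φ : ℕ → K → E}
  (hmap : ∀ r < D.nroots, ∀ t : K, ρ (φ r t) = X r t) (hadd : AddRel D φ)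
  (p : ℕ) (hpK : (p : K) = 0) (htor : ∀ z : E, ρ z = 1 → z ^ p = 1 → z = 1)
  (hcommL : ∀ r < D.nroots, ∀ s < D.nroots, s ≠ r → s ≠ D.neg r → D.commTerms r s = [] →
    ∀ t u : K, φ s u * φ r t = φ r t * φ s u)

include S hc hmap hadd hpK htor hcommL in
/-- the lifted commutator relation for a root `r` and a root `s` of a list on which everything is already
known -/
theorem lift_comm_ptor (r s : ℕ) (L' : List ℕ) (hr : r < D.nroots) (hs : s < D.nroots) (hne : s ≠ r)
    (hne' : s ≠ D.neg r) (hL'lt : ∀ q ∈ L', q < D.nroots) (hsL : s ∈ L')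
    (hterms : ∀ c ∈ D.commTerms r s, c.1 ∈ L') (hcl : ClosedL φ L') (hU : UniqueL X L') (t u : K) :
    φ s u * φ r t = φ r t * φ s u * wordG φ (D.commWord K r s t u) := by
  by_cases hnil : D.commTerms r s = []
  · have h1 := hcommL r hr s hs hne hne' hnil t u
    unfold ChevalleyDatum.commWord
    rw [hnil, List.map_nil, wordG_nil, mul_one]
    exact h1
  have hw : ∀ u : K, ∀ q ∈ ((s, u) :: D.commWord K r s t u), q.1 ∈ L' := by
    intro u q hq
    rcases List.mem_cons.1 hq with rfl | hq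
    · exact hsL
    · unfold ChevalleyDatum.commWord at hq
      obtain ⟨c, hc', rfl⟩ := List.mem_map.1 hq
      exact hterms c hc'
  obtain ⟨n, hn⟩ : ∃ n : K → E, ∀ u, n u = φ s u * wordG φ (D.commWord K r s t u) := ⟨_, fun _ => rfl⟩
  have hn' : ∀ u, n u = wordG φ ((s, u) :: D.commWord K r s t u) := by
    intro u
    rw [hn, wordG_cons]
  have hρn : ∀ u, ρ (n u) = (X r t)⁻¹ * X s u * X r t := by
    intro u
    rw [hn', map_wordG ρ hmap _ (fun q hq => hL'lt _ (hw u q hq)), wordG_cons, mul_assoc,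
      S.rel.comm' r s hr hs hne hne' t u]
    group
  obtain ⟨f, hf⟩ : ∃ f : K → E, ∀ u, f u = (φ r t)⁻¹ * φ s u * φ r t * (n u)⁻¹ := ⟨_, fun _ => rfl⟩
  have hρf : ∀ u, ρ (f u) = 1 := by
    intro u
    rw [hf, map_mul, map_inv, hρn, map_mul, map_mul, map_inv, hmap r hr, hmap s hs]
    group
  have hfc : ∀ u y, y * f u = f u * y := fun u y => central_of_map_one ρ hc _ (hρf u) y
  have hfn : ∀ u, (φ r t)⁻¹ * φ s u * φ r t = f u * n u := by
    intro u
    rw [hf]
    group
  have hzero : prodX φ L' (fun _ => (0 : K)) = 1 := hadd.prodX_zero L' hL'lt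
  have hnP : ∀ u, ∃ τ : ℕ → K, n u = prodX φ L' τ := by
    intro u
    obtain ⟨τ, hτ⟩ := closed_mulWord φ L' hcl _ (hw u) (fun _ => 0)
    exact ⟨τ, by rw [← hτ, hzero, one_mul, hn']⟩
  -- additivity
  have hfadd : ∀ u u', f (u + u') = f u * f u' := by
    intro u u'
    obtain ⟨τ, hτ⟩ := hnP u
    obtain ⟨τ₁, hτ₁⟩ := closed_mulWord φ L' hcl _ (hw u') τ
    obtain ⟨τ₂, hτ₂⟩ := hnP (u + u')
    have hnn : n u * n u' = prodX φ L' τ₁ := by rw [hτ, ← hτ₁, hn']
    have hρ1 : ρ (n (u + u')) = ρ (n u * n u') := by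
      rw [map_mul, hρn, hρn, hρn, ← S.rel.add s hs]
      group
    have hX : prodX X L' τ₂ = prodX X L' τ₁ := by
      rw [← map_prodX ρ hmap L' hL'lt, ← map_prodX ρ hmap L' hL'lt, ← hτ₂, ← hnn, hρ1]
    have hτeq : ∀ q ∈ L', τ₂ q = τ₁ q := hU τ₂ τ₁ hX
    have hnadd : n (u + u') = n u * n u' := by
      rw [hτ₂, hnn]
      exact prodX_congr φ L' _ _ hτeq
    have e1 : f (u + u') * n (u + u') = f u * n u * (f u' * n u') := by
      rw [← hfn, ← hfn, ← hfn, ← hadd s hs u u']
      group
    have e2 : f u * n u * (f u' * n u') = f u * f u' * (n u * n u') := by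
      rw [mul_assoc, ← mul_assoc (n u), hfc u' (n u)]
      group
    rw [e2, ← hnadd] at e1
    exact mul_right_cancel e1
  have hf0 : f 0 = 1 := by
    have h1 := hfadd 0 0
    rw [add_zero] at h1
    have h2 : f 0 * f 0 = f 0 * 1 := by rw [mul_one]; exact h1.symm
    exact mul_left_cancel h2
  have hfpow : ∀ (k : ℕ) (v : K), f ((k : K) * v) = f v ^ k := by
    intro k v
    induction k with
    | zero => rw [Nat.cast_zero, zero_mul, hf0, pow_zero]
    | succ k ih => rw [Nat.cast_succ, add_mul, one_mul, hfadd, ih, pow_succ]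
  have hf1 : ∀ v, f v = 1 := by
    intro v
    apply htor (f v) (hρf v)
    rw [← hfpow, hpK, zero_mul, hf0]
  have h3 := hfn u
  rw [hf1, one_mul, hn] at h3
  calc φ s u * φ r t = φ r t * ((φ r t)⁻¹ * φ s u * φ r t) := by group
    _ = φ r t * (φ s u * wordG φ (D.commWord K r s t u)) := by rw [h3]
    _ = φ r t * φ s u * wordG φ (D.commWord K r s t u) := by group

include S hc hmap hadd hpK htor hcommL in
/-- ordered products of the lifts over a list closed to the right are closed under multiplication -/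
theorem closedL_ptor (L : List ℕ) (hRC : RightClosed D L) (hU : UniqueL X L) : ClosedL φ L := by
  induction L with
  | nil =>
    intro t s hs
    simp at hs
  | cons r L' ih =>
    obtain ⟨hr, hrL, hall, hL'⟩ := hRC
    have hU' : UniqueL X L' := hU.tail (S.rel.zero r hr) hrL
    have ih' := ih hL' hU'
    apply hadd.closed_cons r L' hr hL'.lt hrL ih'
    intro s hs a b
    obtain ⟨hs1, hs2, hs3, hs4⟩ := hall s hs
    refine ⟨D.commWord K r s a b, ?_,
      lift_comm_ptor S ρ hc hmap hadd p hpK htor hcommL r s L' hr hs1 hs2 hs3 hL'.lt hs hs4 ih' hU' a b⟩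
    intro q hq
    unfold ChevalleyDatum.commWord at hq
    obtain ⟨c, hc', rfl⟩ := List.mem_map.1 hq
    exact hs4 c hc'

include S hc hmap hadd hpK htor hcommL in
/-- `ρ` is injective on the subgroup generated by the lifts over such a list -/
theorem lift_inj_ptor (L : List ℕ) (hRC : RightClosed D L) (hU : UniqueL X L)
    (y y' : E) (hy : y ∈ subL φ L) (hy' : y' ∈ subL φ L) (h : ρ y = ρ y') : y = y' := by
  have hcl := closedL_ptor S ρ hc hmap hadd p hpK htor hcommL L hRC hU
  obtain ⟨τ, rfl⟩ := hadd.exists_prodX_of_mem L hRC.lt hcl y hy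
  obtain ⟨τ', rfl⟩ := hadd.exists_prodX_of_mem L hRC.lt hcl y' hy'
  rw [map_prodX ρ hmap L hRC.lt, map_prodX ρ hmap L hRC.lt] at h
  exact prodX_congr φ L _ _ (hU τ τ' h)

include S hc hmap hadd hpK htor hcommL in
/-- the lifts satisfy Steinberg's relations -/
theorem stRel_ptor
    (hpairs : ∀ r < D.nroots, ∀ s < D.nroots, s ≠ r → s ≠ D.neg r →
      ∃ L : List ℕ, RightClosed D L ∧ UniqueL X L ∧ r ∈ L ∧ s ∈ L ∧ ∀ c ∈ D.commTerms r s, c.1 ∈ L) :
    StRel D φ := by
  refine ⟨hadd, ?_⟩
  intro r hr s hs hne hne' t u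
  obtain ⟨L, hRC, hU, hrL, hsL, hcL⟩ := hpairs r hr s hs hne hne'
  apply lift_inj_ptor S ρ hc hmap hadd p hpK htor hcommL L hRC hU
  · exact mul_mem (mul_mem (mul_mem (inv_mem (mem_subL φ L s hsL u)) (inv_mem (mem_subL φ L r hrL t)))
      (mem_subL φ L s hsL u)) (mem_subL φ L r hrL t)
  · apply wordG_mem'
    intro q hq
    unfold ChevalleyDatum.commWord at hq
    obtain ⟨c, hc', rfl⟩ := List.mem_map.1 hq
    exact mem_subL φ L _ (hcL c hc') _
  · rw [map_mul, map_mul, map_mul, map_inv, map_inv, hmap r hr, hmap s hs,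
      S.rel.comm r hr s hs hne hne' t u]
    symm
    apply map_wordG ρ hmap
    intro q hq
    unfold ChevalleyDatum.commWord at hq
    obtain ⟨c, hc', rfl⟩ := List.mem_map.1 hq
    exact hRC.lt _ (hcL c hc')

end ptor

section plift

variable (ρ : E →* Γ) (hc : ρ.ker ≤ Subgroup.center E) (hs : Function.Surjective ρ)
  (p : ℕ) (htor : ∀ z : E, ρ z = 1 → z ^ p = 1 → z = 1)
  (hdiv : ∀ z : E, ρ z = 1 → ∃ a : E, ρ a = 1 ∧ a ^ p = z)

include hc hs hdiv in
/-- an element of order dividing `p` has a lift of order dividing `p` -/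
theorem exists_plift (g : Γ) (hg : g ^ p = 1) : ∃ y : E, ρ y = g ∧ y ^ p = 1 := by
  obtain ⟨y₀, hy₀⟩ := hs g
  obtain ⟨a, ha1, hap⟩ := hdiv (y₀ ^ p)⁻¹ (by rw [map_inv, map_pow, hy₀, hg, inv_one])
  refine ⟨y₀ * a, by rw [map_mul, hy₀, ha1, mul_one], ?_⟩
  have hcm : Commute y₀ a := central_of_map_one ρ hc a ha1 y₀
  rw [hcm.mul_pow, hap, mul_inv_cancel]

include hc htor in
/-- the lift of order dividing `p` is unique -/
theorem plift_unique (y y' : E) (h : ρ y = ρ y') (hy : y ^ p = 1) (hy' : y' ^ p = 1) : y = y' := by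
  obtain ⟨z, hz1, rfl, hzc⟩ := exists_central_of_map_eq ρ hc y y' h
  have hcm : Commute y z := hzc y
  rw [hcm.mul_pow, hy, one_mul] at hy'
  rw [htor z hz1 hy', mul_one]

include hc htor in
/-- an element of order dividing `p` commutes with every element whose image commutes with its image -/
theorem comm_of_pow_eq_one (y y' : E) (h : ρ y * ρ y' = ρ y' * ρ y) (hy : y ^ p = 1) :
    y * y' = y' * y := by
  obtain ⟨c, hcdef⟩ : ∃ c : E, c = y * y' * y⁻¹ * y'⁻¹ := ⟨_, rfl⟩
  have hρc : ρ c = 1 := by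
    rw [hcdef]
    simp only [map_mul, map_inv]
    rw [h]
    group
  have hcc : ∀ x, x * c = c * x := fun x => central_of_map_one ρ hc c hρc x
  have hk : ∀ k : ℕ, y ^ k * y' = c ^ k * y' * y ^ k := by
    intro k
    induction k with
    | zero => simp
    | succ k ih =>
      have e1 : y * y' = c * y' * y := by
        rw [hcdef]
        group
      calc y ^ (k + 1) * y' = y ^ k * (y * y') := by rw [pow_succ]; group
        _ = y ^ k * (c * y' * y) := by rw [e1]
        _ = (y ^ k * c) * y' * y := by group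
        _ = (c * y ^ k) * y' * y := by rw [hcc (y ^ k)]
        _ = c * (y ^ k * y') * y := by group
        _ = c * (c ^ k * y' * y ^ k) * y := by rw [ih]
        _ = c ^ (k + 1) * y' * y ^ (k + 1) := by rw [pow_succ' c, pow_succ y]; group
  have hp := hk p
  rw [hy, one_mul, mul_one] at hp
  have hcp : c ^ p = 1 := by
    have : c ^ p * y' = 1 * y' := by rw [one_mul]; exact hp.symm
    exact mul_right_cancel this
  have hc1 : c = 1 := htor c hρc hcp
  have : y * y' = c * (y' * y) := by
    rw [hcdef]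
    group
  rw [this, hc1, one_mul]

end plift

section chev

variable {D : ChevalleyDatum}
  (hD : D ∈ [chevG2, chevB2, chevD4, chevF4, chevE6, chevE7, chevE8])

theorem XG_pow (r : ℕ) (hr : r < D.nroots) (t : K) (k : ℕ) :
    (XG hD r t) ^ k = XG hD r ((k : K) * t) := by
  have hrel := stRel_XG (K := K) hD
  induction k with
  | zero => rw [pow_zero, Nat.cast_zero, zero_mul, hrel.zero r hr]
  | succ k ih => rw [pow_succ, ih, hrel.add r hr, Nat.cast_succ, add_mul, one_mul]

/-- every central extension of the Chevalley group, in characteristic `p`, whose kernel is `p`-divisible without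
`p`-torsion receives a homomorphism from the presented group -/
theorem exists_cover_hom_ptor (p : ℕ) (hpK : (p : K) = 0)
    (hpairs : ∀ r < D.nroots, ∀ s < D.nroots, s ≠ r → s ≠ D.neg r →
      ∃ w : List ℕ, (∀ i ∈ w, i < D.rank) ∧ r ∈ listW D w ∧ s ∈ listW D w ∧
        ∀ c ∈ D.commTerms r s, c.1 ∈ listW D w)
    {E : Type*} [Group E]
    (σ : E →* D.group K) (hs : Function.Surjective σ) (hc : σ.ker ≤ Subgroup.center E)
    (htor : ∀ z : E, σ z = 1 → z ^ p = 1 → z = 1)
    (hdiv : ∀ z : E, σ z = 1 → ∃ a : E, σ a = 1 ∧ a ^ p = z) :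
    ∃ τ : D.SteinbergCover K →* E, ∀ (r : ℕ) (t : K), r < D.nroots →
      σ (τ (D.scGen K r t)) = XG hD r t := by
  have hrel := stRel_XG (K := K) hD
  have hXp : ∀ r < D.nroots, ∀ t : K, (XG hD r t) ^ p = 1 := by
    intro r hr t
    rw [XG_pow hD r hr t p, hpK, zero_mul, hrel.zero r hr]
  have hex : ∀ r, ∃ φr : K → E, r < D.nroots → ∀ t, σ (φr t) = XG hD r t ∧ (φr t) ^ p = 1 := by
    intro r
    by_cases hr : r < D.nroots
    · have h := fun t => exists_plift σ hc hs p hdiv (XG hD r t) (hXp r hr t)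
      choose φr hφr using h
      exact ⟨φr, fun _ t => hφr t⟩
    · exact ⟨fun _ => 1, fun h => absurd h hr⟩
  choose φ₀ hφ₀ using hex
  obtain ⟨φ, hφ⟩ : ∃ φ : ℕ → K → E, ∀ r t, φ r t = if r < D.nroots then φ₀ r t else 1 :=
    ⟨_, fun _ _ => rfl⟩
  have hmap : ∀ r < D.nroots, ∀ t : K, σ (φ r t) = XG hD r t := by
    intro r hr t
    rw [hφ, if_pos hr]
    exact (hφ₀ r hr t).1
  have hpow : ∀ r < D.nroots, ∀ t : K, (φ r t) ^ p = 1 := by
    intro r hr t
    rw [hφ, if_pos hr]
    exact (hφ₀ r hr t).2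
  have hadd : AddRel D φ := by
    intro r hr t u
    apply plift_unique σ hc p htor
    · rw [map_mul, hmap r hr, hmap r hr, hmap r hr, hrel.add r hr]
    · have hcm : Commute (φ r t) (φ r u) := by
        apply comm_of_pow_eq_one σ hc p htor _ _ _ (hpow r hr t)
        rw [hmap r hr, hmap r hr, hrel.add r hr, hrel.add r hr, add_comm]
      rw [hcm.mul_pow, hpow r hr, hpow r hr, one_mul]
    · exact hpow r hr _
  have hcommL : ∀ r < D.nroots, ∀ s < D.nroots, s ≠ r → s ≠ D.neg r → D.commTerms r s = [] →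
      ∀ t u : K, φ s u * φ r t = φ r t * φ s u := by
    intro r hr s hsn hne hne' hnil t u
    symm
    apply comm_of_pow_eq_one σ hc p htor _ _ _ (hpow r hr t)
    rw [hmap r hr, hmap s hsn]
    exact XG_comm_of hD r s hr ⟨hsn, Or.inr ⟨hne', hnil⟩⟩ t u
  have hst : StRel D φ := by
    apply stRel_ptor (setupG (K := K) hD) σ hc hmap hadd p hpK htor hcommL
    intro r hr s hsn hne hne'
    obtain ⟨w, hw, hrw, hsw, hcw⟩ := hpairs r hr s hsn hne hne'
    exact ⟨listW D w, (setupG (K := K) hD).rightClosed_listW w hw,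
      uniqueL_listW (setupG (K := K) hD) w hw, hrw, hsw, hcw⟩
  have h1 : ∀ r, D.nroots ≤ r → ∀ t, φ r t = 1 := by
    intro r hr t
    rw [hφ, if_neg (not_lt.2 hr)]
  obtain ⟨τ, hτ⟩ := exists_hom_of_stRel hst h1
  refine ⟨τ, ?_⟩
  intro r t hr
  rw [hτ, hmap r hr]

end chev

end Cfsg.Agent.Helper6.CExt
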