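import Mathlib
import Cfsg.Agent.Lib.Helper6.CExtChev
import Cfsg.Agent.Lib.Helper6.CExtStein

/-!
# Central extensions of a Chevalley group whose tables admit the commutator-calculus argument
-/

set_option autoImplicit false
set_option linter.unusedSectionVars false
set_option linter.unusedVariables false

namespace Cfsg.Agent.Helper6.CExt

open Cfsg Cfsg.Lie Cfsg.Agent.Lead.Chev Cfsg.Agent.Helper6.StC

variable {K : Type*} [Field K] {D : ChevalleyDatum}
  (hD : D ∈ [chevG2, chevB2, chevD4, chevF4, chevE6, chevE7, chevE8])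

/-- every central extension of the Chevalley group receives a homomorphism from the presented group -/
theorem exists_cover_hom_stein {sm : ℕ → ℕ → ℤ} {dec : ℕ → ℕ × ℕ} (T : SteinTab D sm dec)
    {E : Type*} [Group E] (σ : E →* D.group K) (hs : Function.Surjective σ)
    (hc : σ.ker ≤ Subgroup.center E) :
    ∃ τ : D.SteinbergCover K →* E, ∀ (r : ℕ) (t : K), r < D.nroots →
      σ (τ (D.scGen K r t)) = XG hD r t := by
  have hinj : ∀ r < D.nroots, ∀ t t' : K, XG hD r t = XG hD r t' → t = t' := by
    intro r hr t t' h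
    exact (setupG (K := K) hD).xGL_inj r hr t t' (congrArg Subtype.val h)
  obtain ⟨φ, hrel, hmap, h1⟩ := exists_stRel_stein σ hc hs (stRel_XG (K := K) hD) hinj T
  obtain ⟨τ, hτ⟩ := exists_hom_of_stRel hrel h1
  refine ⟨τ, ?_⟩
  intro r t hr
  rw [hτ, hmap r hr]

end Cfsg.Agent.Helper6.CExt
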