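import Mathlib
import Cfsg.Agent.Lib.Helper6.StronglyEmbedded
import Cfsg.Agent.S1224
import Cfsg.Agent.S1225
import Cfsg.Agent.S1226

/-!
Groups with a non-cyclic, non-normal Sylow 2-subgroup `T` in which the centraliser of every
involution is an elementary abelian 2-group.  `H = N_G(T)`.
-/

set_option autoImplicit false

namespace Cfsg.Agent.Helper6.CIT

open Cfsg.Agent.Helper6 Cfsg.Agent.Helper6.UniqueFix Cfsg.Agent.Helper6.SE
open Cfsg.Agent.S1224 (orderOf_two_iff)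

variable {G : Type*} [Group G] [Finite G]

/-- the standing hypothesis on centralisers of involutions -/
def Hyp (G : Type*) [Group G] : Prop :=
  ∀ t : G, orderOf t = 2 → IsMulCommutative (Subgroup.centralizer ({t} : Set G)) ∧
    ∀ c ∈ Subgroup.centralizer ({t} : Set G), c ^ 2 = 1

theorem se (T : Sylow 2 G) (hnc : ¬ IsCyclic (T : Subgroup G)) (hnn : ¬ (T : Subgroup G).Normal)
    (hC : Hyp G) : Cfsg.IsStronglyEmbedded (Subgroup.normalizer ((T : Subgroup G) : Set G)) :=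
  Cfsg.Agent.S1226.result T hnc hnn hC

theorem exists_invol (T : Sylow 2 G) (hnc : ¬ IsCyclic (T : Subgroup G)) :
    ∃ t₀ ∈ (T : Subgroup G), orderOf t₀ = 2 := by
  have hTne : (T : Subgroup G) ≠ ⊥ := by
    intro h
    apply hnc
    rw [h]
    infer_instance
  have h2T : 2 ∣ Nat.card (T : Subgroup G) := by
    obtain ⟨k, hk⟩ := T.2.exists_card_eq
    rcases Nat.eq_zero_or_pos k with h0 | h0
    · rw [h0, pow_zero] at hk
      exact absurd (Subgroup.card_eq_one.1 hk) hTne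
    · rw [hk]; exact dvd_pow_self 2 h0.ne'
  obtain ⟨t, ht⟩ := exists_prime_orderOf_dvd_card' 2 h2T
  exact ⟨t.1, t.2, by rw [Subgroup.orderOf_coe, ht]⟩

theorem cent_eq (T : Sylow 2 G) (hC : Hyp G) (t : G) (ht : orderOf t = 2)
    (htN : t ∈ Subgroup.normalizer ((T : Subgroup G) : Set G)) :
    Subgroup.centralizer ({t} : Set G) = (T : Subgroup G) :=
  Cfsg.Agent.S1226.centralizer_eq_sylow T hC t ht htN

theorem invol_mem_iff (T : Sylow 2 G) (hC : Hyp G) (t : G) (ht : orderOf t = 2) :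
    t ∈ Subgroup.normalizer ((T : Subgroup G) : Set G) ↔ t ∈ (T : Subgroup G) := by
  constructor
  · intro h
    rw [← cent_eq T hC t ht h, Subgroup.mem_centralizer_singleton_iff]
  · intro h
    exact Subgroup.le_normalizer h

theorem sq_eq_one (T : Sylow 2 G) (hnc : ¬ IsCyclic (T : Subgroup G)) (hC : Hyp G) (c : G)
    (hc : c ∈ (T : Subgroup G)) : c * c = 1 := by
  obtain ⟨t₀, ht₀T, ht₀⟩ := exists_invol T hnc
  have h1 := cent_eq T hC t₀ ht₀ (Subgroup.le_normalizer ht₀T)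
  have h2 := (hC t₀ ht₀).2 c (by rw [h1]; exact hc)
  rwa [pow_two] at h2

/-- elements of `T` other than `1` are involutions -/
theorem orderOf_eq_two (T : Sylow 2 G) (hnc : ¬ IsCyclic (T : Subgroup G)) (hC : Hyp G) (c : G)
    (hc : c ∈ (T : Subgroup G)) (hc1 : c ≠ 1) : orderOf c = 2 :=
  (orderOf_two_iff c).mpr ⟨hc1, sq_eq_one T hnc hC c hc⟩

/-- an element of odd order of `T` is trivial -/
theorem eq_one_of_odd (T : Sylow 2 G) (hnc : ¬ IsCyclic (T : Subgroup G)) (hC : Hyp G) (c : G)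
    (hc : c ∈ (T : Subgroup G)) (hodd : Odd (orderOf c)) : c = 1 := by
  obtain ⟨m, hm⟩ := hodd
  exact eq_one_of_sq_of_odd_pow (sq_eq_one T hnc hC c hc) m (by rw [← hm]; exact pow_orderOf_eq_one c)

theorem card_invol (T : Sylow 2 G) (hnc : ¬ IsCyclic (T : Subgroup G)) (hC : Hyp G) :
    Nat.card {t : G // orderOf t = 2 ∧ t ∈ Subgroup.normalizer ((T : Subgroup G) : Set G)} =
      Nat.card (T : Subgroup G) - 1 := by
  have h1 : Nat.card {t : G // orderOf t = 2 ∧ t ∈ Subgroup.normalizer ((T : Subgroup G) : Set G)} =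
      Nat.card {t : (T : Subgroup G) // t ≠ 1} := by
    apply Nat.card_congr
    exact
      { toFun := fun t => ⟨⟨t.1, (invol_mem_iff T hC t.1 t.2.1).mp t.2.2⟩, by
          intro e
          have : t.1 = 1 := congrArg Subtype.val e
          have h := t.2.1
          rw [this, orderOf_one] at h
          omega⟩
        invFun := fun t => ⟨t.1.1, orderOf_eq_two T hnc hC t.1.1 t.1.2 (fun e => t.2 (Subtype.ext e)),
          Subgroup.le_normalizer t.1.2⟩
        left_inv := fun t => rfl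
        right_inv := fun t => rfl }
  rw [h1]
  have : Fintype (T : Subgroup G) := Fintype.ofFinite _
  classical
  rw [Nat.card_eq_fintype_card, Nat.card_eq_fintype_card, Fintype.card_subtype_compl, Fintype.card_subtype_eq]

/-! ### The two-point stabiliser `D = H ∩ uHu⁻¹` -/

theorem mem_conj_iff (N : Subgroup G) (u d : G) :
    d ∈ N.map (MulAut.conj u).toMonoidHom ↔ u⁻¹ * d * u ∈ N := by
  rw [Subgroup.mem_map]
  constructor
  · rintro ⟨n, hn, rfl⟩
    simp only [MulEquiv.coe_toMonoidHom, MulAut.conj_apply]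
    have : u⁻¹ * (u * n * u⁻¹) * u = n := by group
    rw [this]; exact hn
  · intro h
    refine ⟨u⁻¹ * d * u, h, ?_⟩
    simp only [MulEquiv.coe_toMonoidHom, MulAut.conj_apply]
    group

theorem mem_D_iff (N : Subgroup G) (u d : G) :
    d ∈ N ⊓ N.map (MulAut.conj u).toMonoidHom ↔
      d • (QuotientGroup.mk 1 : G ⧸ N) = QuotientGroup.mk 1 ∧
      d • (QuotientGroup.mk u : G ⧸ N) = QuotientGroup.mk u := by
  rw [Subgroup.mem_inf, mem_conj_iff, smul_mk_eq_iff, smul_mk_eq_iff]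
  simp

section WithU

variable (T : Sylow 2 G) (hnc : ¬ IsCyclic (T : Subgroup G)) (hnn : ¬ (T : Subgroup G).Normal)
  (hC : Hyp G) (u : G) (hu : orderOf u = 2)
  (huH : u ∉ Subgroup.normalizer ((T : Subgroup G) : Set G))

include hnc hnn hC hu huH

theorem D_odd : Odd (Nat.card ↥(Subgroup.normalizer ((T : Subgroup G) : Set G) ⊓
    (Subgroup.normalizer ((T : Subgroup G) : Set G)).map (MulAut.conj u).toMonoidHom)) :=
  (se T hnc hnn hC).2.2 u huH

theorem D_inf_T (d : G) (hd : d ∈ Subgroup.normalizer ((T : Subgroup G) : Set G) ⊓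
    (Subgroup.normalizer ((T : Subgroup G) : Set G)).map (MulAut.conj u).toMonoidHom)
    (hdT : d ∈ (T : Subgroup G)) : d = 1 := by
  apply eq_one_of_odd T hnc hC d hdT
  exact Odd.of_dvd_nat (D_odd T hnc hnn hC u hu huH) (Subgroup.orderOf_dvd_natCard _ hd)

theorem D_trans (s t : G) (hs : s ∈ (T : Subgroup G)) (hs1 : s ≠ 1) (ht : t ∈ (T : Subgroup G)) (ht1 : t ≠ 1) :
    ∃ d ∈ Subgroup.normalizer ((T : Subgroup G) : Set G) ⊓
      (Subgroup.normalizer ((T : Subgroup G) : Set G)).map (MulAut.conj u).toMonoidHom, d * s * d⁻¹ = t :=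
  (Cfsg.Agent.S1225.result _ (se T hnc hnn hC) u hu huH s t (orderOf_eq_two T hnc hC s hs hs1)
    (Subgroup.le_normalizer hs) (orderOf_eq_two T hnc hC t ht ht1) (Subgroup.le_normalizer ht)).1

theorem D_free (d t : G) (hd : d ∈ Subgroup.normalizer ((T : Subgroup G) : Set G) ⊓
    (Subgroup.normalizer ((T : Subgroup G) : Set G)).map (MulAut.conj u).toMonoidHom)
    (ht : t ∈ (T : Subgroup G)) (ht1 : t ≠ 1) (h : d * t * d⁻¹ = t) : d = 1 := by
  apply D_inf_T T hnc hnn hC u hu huH d hd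
  rw [← cent_eq T hC t (orderOf_eq_two T hnc hC t ht ht1) (Subgroup.le_normalizer ht),
    Subgroup.mem_centralizer_singleton_iff]
  calc d * t = (d * t * d⁻¹) * d := by group
    _ = t * d := by rw [h]

theorem card_D : Nat.card ↥(Subgroup.normalizer ((T : Subgroup G) : Set G) ⊓
    (Subgroup.normalizer ((T : Subgroup G) : Set G)).map (MulAut.conj u).toMonoidHom) =
      Nat.card (T : Subgroup G) - 1 := by
  rw [← card_invol T hnc hC]
  obtain ⟨t₀, ht₀T, ht₀⟩ := exists_invol T hnc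
  have ht₀1 : t₀ ≠ 1 := ((orderOf_two_iff t₀).mp ht₀).1
  apply card_eq_of_rel
    ((Subgroup.normalizer ((T : Subgroup G) : Set G) ⊓
      (Subgroup.normalizer ((T : Subgroup G) : Set G)).map (MulAut.conj u).toMonoidHom : Subgroup G) : Set G)
    {t : G | orderOf t = 2 ∧ t ∈ Subgroup.normalizer ((T : Subgroup G) : Set G)}
    (fun d t => t = d * t₀ * d⁻¹)
  · intro d hd
    refine ⟨d * t₀ * d⁻¹, ⟨?_, ?_⟩, rfl⟩
    · rw [Cfsg.Agent.S1224.orderOf_conj, ht₀]
    · exact Subgroup.mul_mem _ (Subgroup.mul_mem _ hd.1 (Subgroup.le_normalizer ht₀T)) (Subgroup.inv_mem _ hd.1)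
  · rintro t ⟨ht, htN⟩
    have htT := (invol_mem_iff T hC t ht).mp htN
    have ht1 : t ≠ 1 := ((orderOf_two_iff t).mp ht).1
    obtain ⟨d, hd, hdt⟩ := D_trans T hnc hnn hC u hu huH t₀ t ht₀T ht₀1 htT ht1
    exact ⟨d, hd, hdt.symm⟩
  · rintro d₁ hd₁ d₂ hd₂ t - h₁ h₂
    have e : d₂⁻¹ * d₁ * t₀ * (d₂⁻¹ * d₁)⁻¹ = t₀ := by
      calc d₂⁻¹ * d₁ * t₀ * (d₂⁻¹ * d₁)⁻¹ = d₂⁻¹ * (d₁ * t₀ * d₁⁻¹) * d₂ := by group
        _ = d₂⁻¹ * (d₂ * t₀ * d₂⁻¹) * d₂ := by rw [← h₁, h₂]
        _ = t₀ := by group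
    have := D_free T hnc hnn hC u hu huH (d₂⁻¹ * d₁) t₀
      (Subgroup.mul_mem _ (Subgroup.inv_mem _ hd₂) hd₁) ht₀T ht₀1 e
    calc d₁ = d₂ * (d₂⁻¹ * d₁) := by group
      _ = d₂ := by rw [this, mul_one]
  · rintro d - t₁ - t₂ - h₁ h₂
    exact h₁.trans h₂.symm

theorem inverted (d : G) (hd : d ∈ Subgroup.normalizer ((T : Subgroup G) : Set G) ⊓
    (Subgroup.normalizer ((T : Subgroup G) : Set G)).map (MulAut.conj u).toMonoidHom) :
    u * d * u⁻¹ = d⁻¹ := by
  have hSE := se T hnc hnn hC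
  obtain ⟨hu1, huu⟩ := (orderOf_two_iff u).mp hu
  have hui : u⁻¹ = u := inv_eq_self_of_mul_self huu
  set N := Subgroup.normalizer ((T : Subgroup G) : Set G) with hN
  have hux : u • (QuotientGroup.mk 1 : G ⧸ N) = QuotientGroup.mk u := by
    rw [MulAction.Quotient.smul_mk, smul_eq_mul, mul_one]
  have huy : u • (QuotientGroup.mk u : G ⧸ N) = QuotientGroup.mk 1 := by
    rw [MulAction.Quotient.smul_mk, smul_eq_mul, huu]
  have hxy : (QuotientGroup.mk 1 : G ⧸ N) ≠ QuotientGroup.mk u := by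
    rw [mk_ne_iff]; simpa using huH
  have h1 := Cfsg.Agent.S1224.result N hSE _ _ hxy
  rw [hN, card_invol T hnc hC, ← card_D T hnc hnn hC u hu huH, ← hN] at h1
  -- bijection between involutions x ↦ y and inverted elements of D
  have h2 : Nat.card {i : G | orderOf i = 2 ∧ i • (QuotientGroup.mk 1 : G ⧸ N) = QuotientGroup.mk u} =
      Nat.card {d : G | d ∈ N ⊓ N.map (MulAut.conj u).toMonoidHom ∧ u * d * u⁻¹ = d⁻¹} := by
    apply card_eq_of_rel _ _ (fun i d => d = u * i)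
    · rintro i ⟨hi, hixy⟩
      obtain ⟨hi1, hii⟩ := (orderOf_two_iff i).mp hi
      have hii' : i⁻¹ = i := inv_eq_self_of_mul_self hii
      have hiyx : i • (QuotientGroup.mk u : G ⧸ N) = QuotientGroup.mk 1 := by
        rw [← hixy, ← mul_smul, hii, one_smul]
      refine ⟨u * i, ⟨?_, ?_⟩, rfl⟩
      · rw [mem_D_iff]
        constructor
        · rw [mul_smul, hixy, huy]
        · rw [mul_smul, hiyx, hux]
      · rw [mul_inv_rev, hii', hui]
        calc u * (u * i) * u = (u * u) * i * u := by group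
          _ = i * u := by rw [huu, one_mul]
    · rintro d ⟨hdD, hdinv⟩
      obtain ⟨hdx, hdy⟩ := (mem_D_iff N u d).mp hdD
      refine ⟨u * d, ⟨?_, ?_⟩, ?_⟩
      · rw [orderOf_two_iff]
        constructor
        · intro e
          have : (u * d) • (QuotientGroup.mk 1 : G ⧸ N) = QuotientGroup.mk u := by
            rw [mul_smul, hdx, hux]
          rw [e, one_smul] at this
          exact hxy this
        · rw [hui] at hdinv
          calc u * d * (u * d) = (u * d * u) * d := by group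
            _ = 1 := by rw [hdinv, inv_mul_cancel]
      · rw [mul_smul, hdx, hux]
      · show d = u * (u * d)
        rw [← mul_assoc, huu, one_mul]
    · rintro i₁ - i₂ - d - h₁ h₂
      exact mul_left_cancel (h₁.symm.trans h₂)
    · rintro i - d₁ - d₂ - h₁ h₂
      exact h₁.trans h₂.symm
  have h3 : {d : G | d ∈ N ⊓ N.map (MulAut.conj u).toMonoidHom ∧ u * d * u⁻¹ = d⁻¹} =
      ((N ⊓ N.map (MulAut.conj u).toMonoidHom : Subgroup G) : Set G) := by
    apply Set.eq_of_subset_of_ncard_le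
    · intro d hd'; exact hd'.1
    · rw [← Nat.card_coe_set_eq, ← Nat.card_coe_set_eq, ← h2]
      exact h1.symm.le
    · exact Set.toFinite _
  have : d ∈ {d : G | d ∈ N ⊓ N.map (MulAut.conj u).toMonoidHom ∧ u * d * u⁻¹ = d⁻¹} := by
    rw [h3]; exact hd
  exact this.2

theorem H_eq (h : G) (hh : h ∈ Subgroup.normalizer ((T : Subgroup G) : Set G)) :
    ∃ d ∈ Subgroup.normalizer ((T : Subgroup G) : Set G) ⊓
      (Subgroup.normalizer ((T : Subgroup G) : Set G)).map (MulAut.conj u).toMonoidHom,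
      ∃ t ∈ (T : Subgroup G), h = d * t := by
  obtain ⟨t₀, ht₀T, ht₀⟩ := exists_invol T hnc
  have ht₀1 : t₀ ≠ 1 := ((orderOf_two_iff t₀).mp ht₀).1
  have hconjT : h * t₀ * h⁻¹ ∈ (T : Subgroup G) := (Subgroup.mem_normalizer_iff.mp hh t₀).mp ht₀T
  have hconj1 : h * t₀ * h⁻¹ ≠ 1 := by
    intro e
    apply ht₀1
    calc t₀ = h⁻¹ * (h * t₀ * h⁻¹) * h := by group
      _ = 1 := by rw [e]; group
  obtain ⟨d, hd, hdt⟩ := D_trans T hnc hnn hC u hu huH t₀ (h * t₀ * h⁻¹) ht₀T ht₀1 hconjT hconj1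
  refine ⟨d, hd, d⁻¹ * h, ?_, by group⟩
  rw [← cent_eq T hC t₀ ht₀ (Subgroup.le_normalizer ht₀T), Subgroup.mem_centralizer_singleton_iff]
  calc d⁻¹ * h * t₀ = d⁻¹ * (h * t₀ * h⁻¹) * h := by group
    _ = d⁻¹ * (d * t₀ * d⁻¹) * h := by rw [hdt]
    _ = t₀ * (d⁻¹ * h) := by group

theorem four_le_card_T : 4 ≤ Nat.card (T : Subgroup G) := by
  obtain ⟨k, hk⟩ := T.2.exists_card_eq
  rcases k with _ | _ | k
  · exfalso
    apply hnc
    rw [pow_zero] at hk
    rw [Subgroup.card_eq_one.mp hk]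
    infer_instance
  · exfalso
    apply hnc
    rw [zero_add, pow_one] at hk
    have : Fact (Nat.Prime 2) := ⟨Nat.prime_two⟩
    exact isCyclic_of_prime_card hk
  · rw [hk]
    have : 2 ^ (k + 1 + 1) = 4 * 2 ^ k := by ring
    rw [this]
    have := Nat.one_le_two_pow (n := k)
    omega

theorem exists_ne_one_D : ∃ d ∈ Subgroup.normalizer ((T : Subgroup G) : Set G) ⊓
    (Subgroup.normalizer ((T : Subgroup G) : Set G)).map (MulAut.conj u).toMonoidHom, d ≠ 1 := by
  have h1 := card_D T hnc hnn hC u hu huH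
  have h2 := four_le_card_T T hnc hnn hC u hu huH
  have h3 : 1 < Nat.card ↥(Subgroup.normalizer ((T : Subgroup G) : Set G) ⊓
    (Subgroup.normalizer ((T : Subgroup G) : Set G)).map (MulAut.conj u).toMonoidHom) := by omega
  rw [Finite.one_lt_card_iff_nontrivial] at h3
  obtain ⟨d, hd⟩ := exists_ne (1 : ↥(Subgroup.normalizer ((T : Subgroup G) : Set G) ⊓
    (Subgroup.normalizer ((T : Subgroup G) : Set G)).map (MulAut.conj u).toMonoidHom))
  exact ⟨d.1, d.2, fun e => hd (Subtype.ext e)⟩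

theorem D_abelian (d₁ d₂ : G) (hd₁ : d₁ ∈ Subgroup.normalizer ((T : Subgroup G) : Set G) ⊓
    (Subgroup.normalizer ((T : Subgroup G) : Set G)).map (MulAut.conj u).toMonoidHom)
    (hd₂ : d₂ ∈ Subgroup.normalizer ((T : Subgroup G) : Set G) ⊓
    (Subgroup.normalizer ((T : Subgroup G) : Set G)).map (MulAut.conj u).toMonoidHom) :
    d₁ * d₂ = d₂ * d₁ := by
  have h1 := inverted T hnc hnn hC u hu huH d₁ hd₁
  have h2 := inverted T hnc hnn hC u hu huH d₂ hd₂
  have h3 := inverted T hnc hnn hC u hu huH (d₁ * d₂) (Subgroup.mul_mem _ hd₁ hd₂)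
  have h4 : (d₁ * d₂)⁻¹ = d₁⁻¹ * d₂⁻¹ := by
    rw [← h3, ← h1, ← h2]; group
  have h5 : d₁ * d₂ = (d₁⁻¹ * d₂⁻¹)⁻¹ := by rw [← h4, inv_inv]
  rw [h5]; group

/-- an element of `H` normalising `D` lies in `D` -/
theorem mem_D_of_normalizes (n : G) (hn : n ∈ Subgroup.normalizer ((T : Subgroup G) : Set G))
    (hnD : ∀ d ∈ Subgroup.normalizer ((T : Subgroup G) : Set G) ⊓
      (Subgroup.normalizer ((T : Subgroup G) : Set G)).map (MulAut.conj u).toMonoidHom,
      n * d * n⁻¹ ∈ Subgroup.normalizer ((T : Subgroup G) : Set G) ⊓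
      (Subgroup.normalizer ((T : Subgroup G) : Set G)).map (MulAut.conj u).toMonoidHom) :
    n ∈ Subgroup.normalizer ((T : Subgroup G) : Set G) ⊓
      (Subgroup.normalizer ((T : Subgroup G) : Set G)).map (MulAut.conj u).toMonoidHom := by
  obtain ⟨d₀, hd₀, t, ht, rfl⟩ := H_eq T hnc hnn hC u hu huH n hn
  obtain ⟨d, hd, hd1⟩ := exists_ne_one_D T hnc hnn hC u hu huH
  -- t normalises D
  have htD : t * d * t⁻¹ ∈ Subgroup.normalizer ((T : Subgroup G) : Set G) ⊓
      (Subgroup.normalizer ((T : Subgroup G) : Set G)).map (MulAut.conj u).toMonoidHom := by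
    have := hnD d hd
    have e : t * d * t⁻¹ = d₀⁻¹ * (d₀ * t * d * (d₀ * t)⁻¹) * d₀ := by group
    rw [e]
    exact Subgroup.mul_mem _ (Subgroup.mul_mem _ (Subgroup.inv_mem _ hd₀) this) hd₀
  -- the commutator lies in T ∩ D
  have hcT : t * d * t⁻¹ * d⁻¹ ∈ (T : Subgroup G) := by
    have h1 : d * t⁻¹ * d⁻¹ ∈ (T : Subgroup G) :=
      (Subgroup.mem_normalizer_iff.mp hd.1 t⁻¹).mp (Subgroup.inv_mem _ ht)
    have e : t * d * t⁻¹ * d⁻¹ = t * (d * t⁻¹ * d⁻¹) := by group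
    rw [e]
    exact Subgroup.mul_mem _ ht h1
  have hcD := Subgroup.mul_mem _ htD (Subgroup.inv_mem _ hd)
  have hc1 := D_inf_T T hnc hnn hC u hu huH _ hcD hcT
  have hcomm : d * t * d⁻¹ = t := by
    have e1 : t * d * t⁻¹ = d := by
      calc t * d * t⁻¹ = (t * d * t⁻¹ * d⁻¹) * d := by group
        _ = d := by rw [hc1, one_mul]
    calc d * t * d⁻¹ = (t * d * t⁻¹) * t * d⁻¹ := by rw [e1]
      _ = t := by group
  have ht1 : t = 1 := by
    by_contra ht1
    exact hd1 (D_free T hnc hnn hC u hu huH d t hd ht ht1 hcomm)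
  rw [ht1, mul_one]
  exact hd₀

/-- no element of `H` inverts `D` -/
theorem no_inverting (n : G) (hn : n ∈ Subgroup.normalizer ((T : Subgroup G) : Set G))
    (hnD : ∀ d ∈ Subgroup.normalizer ((T : Subgroup G) : Set G) ⊓
      (Subgroup.normalizer ((T : Subgroup G) : Set G)).map (MulAut.conj u).toMonoidHom,
      n * d * n⁻¹ = d⁻¹) : False := by
  have hnmem := mem_D_of_normalizes T hnc hnn hC u hu huH n hn (fun d hd => by
    rw [hnD d hd]; exact Subgroup.inv_mem _ hd)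
  obtain ⟨d, hd, hd1⟩ := exists_ne_one_D T hnc hnn hC u hu huH
  apply hd1
  have h1 := hnD d hd
  have h2 := D_abelian T hnc hnn hC u hu huH n d hnmem hd
  have h3 : d = d⁻¹ := by
    calc d = (n * d) * n⁻¹ := by rw [h2]; group
      _ = d⁻¹ := by rw [← h1]
  have hdd : d * d = 1 := by
    have : d * d⁻¹ = 1 := mul_inv_cancel d
    rwa [← h3] at this
  have hodd : Odd (orderOf d) :=
    Odd.of_dvd_nat (D_odd T hnc hnn hC u hu huH) (Subgroup.orderOf_dvd_natCard _ hd)
  obtain ⟨m, hm⟩ := hodd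
  exact eq_one_of_sq_of_odd_pow hdd m (by rw [← hm]; exact pow_orderOf_eq_one d)

end WithU

/-- every coset other than `H` is `u' H` for an involution `u'` -/
theorem exists_invol_swap (T : Sylow 2 G) (hnc : ¬ IsCyclic (T : Subgroup G)) (hnn : ¬ (T : Subgroup G).Normal)
    (hC : Hyp G) (z : G ⧸ Subgroup.normalizer ((T : Subgroup G) : Set G))
    (hz : z ≠ QuotientGroup.mk 1) :
    ∃ u' : G, orderOf u' = 2 ∧ u' ∉ Subgroup.normalizer ((T : Subgroup G) : Set G) ∧
      z = QuotientGroup.mk u' := by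
  have hSE := se T hnc hnn hC
  have hA := atMostOneFix _ hSE
  obtain ⟨t₀, ht₀T, ht₀⟩ := exists_invol T hnc
  obtain ⟨ht₀1, ht₀t₀⟩ := (orderOf_two_iff t₀).mp ht₀
  have ht₀x : t₀ • (QuotientGroup.mk 1 : G ⧸ Subgroup.normalizer ((T : Subgroup G) : Set G)) =
      QuotientGroup.mk 1 := by
    rw [smul_mk_eq_iff]; simpa using Subgroup.le_normalizer ht₀T
  obtain ⟨v, hv1, hvv, hvz⟩ := exists_invol_fix _ hSE z
  obtain ⟨hw1, hww, -, hwx, -⟩ := mid_props hA t₀ v ht₀1 ht₀t₀ hv1 hvv _ _ ht₀x hvz hz.symm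
  refine ⟨_, (orderOf_two_iff _).mpr ⟨hw1, hww⟩, ?_, ?_⟩
  · intro hmem
    apply hz
    rw [← hwx, smul_mk_eq_iff]
    simpa using hmem
  · rw [← hwx, MulAction.Quotient.smul_mk, smul_eq_mul, mul_one]

/-- a non-identity element of `T` fixes no coset other than `H` -/
theorem T_free (T : Sylow 2 G) (hnc : ¬ IsCyclic (T : Subgroup G)) (hnn : ¬ (T : Subgroup G).Normal)
    (hC : Hyp G) (t : G) (ht : t ∈ (T : Subgroup G))
    (z : G ⧸ Subgroup.normalizer ((T : Subgroup G) : Set G)) (hz : z ≠ QuotientGroup.mk 1)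
    (hfix : t • z = z) : t = 1 := by
  by_contra ht1
  have hSE := se T hnc hnn hC
  have hA := atMostOneFix _ hSE
  have htx : t • (QuotientGroup.mk 1 : G ⧸ Subgroup.normalizer ((T : Subgroup G) : Set G)) =
      QuotientGroup.mk 1 := by
    rw [smul_mk_eq_iff]; simpa using Subgroup.le_normalizer ht
  exact hz (hA t ht1 (sq_eq_one T hnc hC t ht) _ _ hfix htx)

end Cfsg.Agent.Helper6.CIT
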