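import Mathlib
import Cfsg.Agent.Lib.Helper20.CSDefs
import Cfsg.Agent.Lib.Helper21.V4Count
import Cfsg.Agent.Lib.Helper23.V4Residual

/-!
# S4016, piece V4ASM, core (helper6 for helper20)

The residual configuration `V4Cfg G` is impossible, given the two facts V4TI and V4SQ as hypotheses.
-/

set_option autoImplicit false

universe u

namespace Cfsg.Agent.Helper20.CS

open Subgroup
open scoped commutatorElement

variable {G : Type u} [Group G] [Finite G]

theorem v4asm_core (c : V4Cfg G)
    (hti : ∀ g : G, (∃ x ∈ (c.P : Subgroup G), x ≠ 1 ∧ g * x * g⁻¹ ∈ (c.P : Subgroup G)) →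
      g ∈ centralizer ({c.y} : Set G))
    (hsq : ∀ s : G, orderOf s = 2 → ∃ g : G, g * (c.y * s) ^ 2 * g⁻¹ ∈ (c.P : Subgroup G)) :
    False := by
  have hs := c.simple
  -- `G` is perfect
  have hperf : commutator G = ⊤ := by
    have hn : (commutator G).Normal := by
      rw [_root_.commutator_def]
      infer_instance
    rcases hs.eq_bot_or_eq_top_of_normal _ hn with hb | ht
    · exfalso
      obtain ⟨a, b, hab⟩ := c.nonab
      apply hab
      have h1 : ⁅a, b⁆ ∈ commutator G := by
        rw [_root_.commutator_def]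
        exact Subgroup.commutator_mem_commutator (Subgroup.mem_top a) (Subgroup.mem_top b)
      rw [hb, Subgroup.mem_bot] at h1
      exact (commutatorElement_eq_one_iff_commute.1 h1).eq
    · exact ht
  -- one class of involutions
  have hone : ∀ s t : G, orderOf s = 2 → orderOf t = 2 → IsConj s t := by
    intro s t hs2 ht2
    obtain ⟨g, hg⟩ := c.conj s hs2
    obtain ⟨h, hh⟩ := c.conj t ht2
    rw [isConj_iff]
    refine ⟨h * g⁻¹, ?_⟩
    rw [← hg, ← hh]
    group
  -- `|P|` is odd
  have hodd : Odd (Nat.card ↥(c.P : Subgroup G)) := by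
    obtain ⟨k, hk⟩ := IsPGroup.exists_card_eq c.P.2
    rw [hk]
    exact Odd.pow (by decide)
  have hyP : ∀ x ∈ (c.P : Subgroup G), x * c.y = c.y * x := fun x hx => (c.y_cent x hx).symm
  have hlt := Cfsg.Agent.Helper21.V4C.v4_count_lt (c.P : Subgroup G) c.y
    (Nat.card ↥(c.P : Subgroup G)) rfl hodd c.y_ord hyP c.card_cent_y hti c.conj hsq
  exact Cfsg.Agent.Helper23.V4R.v4_residual hperf c.S c.klein hone c.y c.y_mem c.y_ord
    (Nat.card ↥(c.P : Subgroup G)) c.card_cent_y c.card_cent_S hlt

end Cfsg.Agent.Helper20.CS
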