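import Mathlib
import Cfsg.Agent.Lib.Helper6.CSV4ASMCore
import Cfsg.Agent.Lib.Helper28.CSV4TI
import Cfsg.Agent.Lib.Helper28.CSV4SQ

/-!
# S4016, piece V4ASM (helper6 for helper20): the residual configuration is impossible.
-/

set_option autoImplicit false

universe u

namespace Cfsg.Agent.Helper20.CS

open Subgroup

variable {G : Type u} [Group G] [Finite G]

/-- PIECE V4ASM (duplicate of `v4_false` in Lib/Helper2/CSV4ASM.lean, renamed to avoid a name clash). -/
theorem v4_false_h6 (c : V4Cfg G) : False :=
  v4asm_core c (v4_ti c) (v4_sq c)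

end Cfsg.Agent.Helper20.CS
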