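import Mathlib
import Cfsg.Agent.Lib.Helper6.G2ShortA

/-!
# Products of commuting root elements: toral rows of the adjoint matrices and transport of supports

For a list `R` of positive roots whose root subgroups commute pairwise and such that no `e_{-a}` (`a ∈ R`) is moved
by a root element of `R` (a Boolean test on the chain table), the entry of `∏_{r ∈ R} x_r(c_r)` in row `h_i`
and column `e_{-r}` is `c_i(r) c_r`, and all other entries of the toral rows in the root columns vanish. Hence if
`n_w (∏ x_r(c_r)) n_w⁻¹ = ∏ x_r(c'_r)` then `w` maps the support of `c` into the support of `c'`.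
-/

set_option autoImplicit false
set_option linter.unusedSectionVars false
set_option linter.unusedSimpArgs false
set_option linter.unusedVariables false

namespace Cfsg.Agent.Helper6.CentPair

open Cfsg Cfsg.Lie Cfsg.Agent.Lead.Chev Cfsg.Agent.Helper6.ChevL Cfsg.Agent.Helper6.RootCent
  Cfsg.Agent.Helper6.HtF Cfsg.Agent.Helper5 Cfsg.Agent.Lead.ChevHt Cfsg.Agent.Helper6.G2S
variable {F : Type*} [Field F] {D : ChevalleyDatum}

def RowUnit (D : ChevalleyDatum) (F : Type*) [Field F] (u b : ℕ) : Prop :=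
  ∀ (hu : u < D.nroots) (t : F) (idx : D.Idx),
    D.x F b t (Sum.inr ⟨u, hu⟩) idx = if idx = Sum.inr ⟨u, hu⟩ then 1 else 0

def rowChk (D : ChevalleyDatum) (u b : ℕ) : Bool :=
  decide (u ≠ b) && (List.range D.nroots).all fun s => (D.chainCoeff b s u).isEmpty

theorem rowUnit_of_chk (u b : ℕ) (h : rowChk D u b = true) : RowUnit D F u b := by
  intro hu t idx
  unfold rowChk at h
  simp only [Bool.and_eq_true, decide_eq_true_eq, List.all_eq_true, List.mem_range, List.isEmpty_iff] at h
  obtain ⟨hub, hch⟩ := h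
  unfold ChevalleyDatum.x
  by_cases hb : b < D.nroots
  · rw [dif_pos hb]
    have h1 : (⟨u, hu⟩ : Fin D.nroots) ≠ ⟨b, hb⟩ := fun e => hub (congrArg Fin.val e)
    rcases idx with i | s
    · simp only [ChevalleyDatum.xMat, Matrix.of_apply, if_neg h1, reduceCtorEq, if_false]
    · simp only [ChevalleyDatum.xMat, Matrix.of_apply, Sum.inr.injEq]
      by_cases hsb : s = ⟨b, hb⟩
      · rw [if_pos hsb, if_neg h1, if_neg]
        rw [hsb]
        exact fun e => h1 e.symm
      · rw [if_neg hsb]
        by_cases hneg : s.val = D.negIdx.getD b 0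
        · rw [if_pos hneg, if_neg h1]
          by_cases hus : (⟨u, hu⟩ : Fin D.nroots) = s
          · rw [if_pos hus, if_pos hus.symm]
          · rw [if_neg hus, if_neg (fun e => hus e.symm)]
        · rw [if_neg hneg, hch s.val s.2, List.map_nil, List.sum_nil, add_zero]
          by_cases hus : (⟨u, hu⟩ : Fin D.nroots) = s
          · rw [if_pos hus, if_pos hus.symm]
          · rw [if_neg hus, if_neg (fun e => hus e.symm)]
  · rw [dif_neg hb, Matrix.one_apply]
    by_cases e : Sum.inr ⟨u, hu⟩ = idx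
    · rw [if_pos e, if_pos e.symm]
    · rw [if_neg e, if_neg (fun e' => e e'.symm)]

theorem neg_ne (hS : SignFacts D) (b : ℕ) (hb : b < D.nroots) : D.neg b ≠ b := by
  intro e
  rcases hS.pos_or_neg b hb with h | h
  · exact hS.not_both b h (e ▸ hS.neg_of_pos b h)
  · exact hS.not_both b (e ▸ hS.pos_of_neg b h) h

theorem x_inl_inl (b : ℕ) (t : F) (i j : Fin D.rank) :
    D.x F b t (Sum.inl i) (Sum.inl j) = if i = j then 1 else 0 := by
  unfold ChevalleyDatum.x
  by_cases hb : b < D.nroots
  · rw [dif_pos hb]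
    simp only [ChevalleyDatum.xMat, Matrix.of_apply]
  · rw [dif_neg hb, Matrix.one_apply]
    simp only [Sum.inl.injEq]

theorem x_inl_inr (hS : SignFacts D) (b : ℕ) (t : F) (i : Fin D.rank) (s : Fin D.nroots) :
    D.x F b t (Sum.inl i) (Sum.inr s) =
      if s.val = D.neg b ∧ b < D.nroots then ((cor D b i.val : ℤ) : F) * t else 0 := by
  unfold ChevalleyDatum.x
  by_cases hb : b < D.nroots
  · rw [dif_pos hb]
    simp only [ChevalleyDatum.xMat, Matrix.of_apply]
    by_cases hsb : s = ⟨b, hb⟩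
    · rw [if_pos hsb, if_neg]
      rintro ⟨e, -⟩
      rw [hsb] at e
      exact neg_ne hS b hb e.symm
    · rw [if_neg hsb]
      by_cases hneg : s.val = D.negIdx.getD b 0
      · rw [if_pos hneg, if_pos ⟨hneg, hb⟩]
        rfl
      · rw [if_neg hneg, if_neg]
        rintro ⟨e, -⟩
        exact hneg e
  · rw [dif_neg hb, Matrix.one_apply, if_neg (by simp), if_neg]
    rintro ⟨-, e⟩
    exact hb e


theorem row_mul_unit {n : Type*} [Fintype n] [DecidableEq n] (A B : Matrix n n F) (k : n)
    (hA : ∀ j, A k j = if j = k then 1 else 0) (hB : ∀ j, B k j = if j = k then 1 else 0) :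
    ∀ j, (A * B) k j = if j = k then 1 else 0 := by
  intro j
  rw [Matrix.mul_apply]
  simp only [hA, ite_mul, one_mul, zero_mul, Finset.sum_ite_eq', Finset.mem_univ, if_true]
  exact hB j

theorem wordMat_row_unit (u : ℕ) (hu : u < D.nroots) (w : List (ℕ × F))
    (h : ∀ q ∈ w, RowUnit D F u q.1) :
    ∀ idx, D.wordMat F w (Sum.inr ⟨u, hu⟩) idx = if idx = Sum.inr ⟨u, hu⟩ then 1 else 0 := by
  induction w with
  | nil =>
    intro idx
    rw [wordMat_nil, Matrix.one_apply]
    by_cases e : Sum.inr ⟨u, hu⟩ = idx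
    · rw [if_pos e, if_pos e.symm]
    · rw [if_neg e, if_neg (fun e' => e e'.symm)]
  | cons q w ih =>
    rw [wordMat_cons]
    exact row_mul_unit _ _ _ (fun j => h q List.mem_cons_self hu q.2 j)
      (ih fun q' hq' => h q' (List.mem_cons_of_mem _ hq'))

/-- the toral rows of a word of root elements -/
theorem wordMat_inl_inr (hS : SignFacts D) (w : List (ℕ × F)) (hlt : ∀ q ∈ w, q.1 < D.nroots)
    (hrow : w.Pairwise (fun a b => RowUnit D F (D.neg a.1) b.1)) (i : Fin D.rank) (s : Fin D.nroots) :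
    D.wordMat F w (Sum.inl i) (Sum.inr s) =
      (w.map fun q => if s.val = D.neg q.1 then ((cor D q.1 i.val : ℤ) : F) * q.2 else 0).sum := by
  induction w with
  | nil =>
    rw [wordMat_nil, Matrix.one_apply, if_neg (by simp)]
    rfl
  | cons q w ih =>
    have hq := hlt q List.mem_cons_self
    have hnq := hS.neg_lt q.1 hq
    rw [List.pairwise_cons] at hrow
    rw [wordMat_cons, Matrix.mul_apply, Fintype.sum_sum_type, List.map_cons, List.sum_cons,
      ← ih (fun q' hq' => hlt q' (List.mem_cons_of_mem _ hq')) hrow.2]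
    have h1 : ∑ j : Fin D.rank, D.x F q.1 q.2 (Sum.inl i) (Sum.inl j) * D.wordMat F w (Sum.inl j) (Sum.inr s) =
        D.wordMat F w (Sum.inl i) (Sum.inr s) := by
      simp only [x_inl_inl, ite_mul, one_mul, zero_mul, Finset.sum_ite_eq, Finset.mem_univ, if_true]
    have h2 : ∑ s' : Fin D.nroots, D.x F q.1 q.2 (Sum.inl i) (Sum.inr s') * D.wordMat F w (Sum.inr s') (Sum.inr s) =
        if s.val = D.neg q.1 then ((cor D q.1 i.val : ℤ) : F) * q.2 else 0 := by
      have hu := wordMat_row_unit (D.neg q.1) hnq w (fun q' hq' => hrow.1 q' hq')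
      have e : ∀ s' : Fin D.nroots, D.x F q.1 q.2 (Sum.inl i) (Sum.inr s') * D.wordMat F w (Sum.inr s') (Sum.inr s) =
          if s' = ⟨D.neg q.1, hnq⟩ then ((cor D q.1 i.val : ℤ) : F) * q.2 * D.wordMat F w (Sum.inr ⟨D.neg q.1, hnq⟩) (Sum.inr s)
          else 0 := by
        intro s'
        rw [x_inl_inr hS]
        by_cases e' : s' = ⟨D.neg q.1, hnq⟩
        · rw [if_pos e', if_pos ⟨by rw [e'], hq⟩, e']
        · rw [if_neg e', if_neg, zero_mul]
          rintro ⟨e'', -⟩
          exact e' (Fin.ext e'')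
      simp only [e, Finset.sum_ite_eq', Finset.mem_univ, if_true]
      rw [hu]
      by_cases e' : s.val = D.neg q.1
      · rw [if_pos e', if_pos, mul_one]
        exact congrArg Sum.inr (Fin.ext e')
      · rw [if_neg e', if_neg, mul_zero]
        intro e''
        exact e' (congrArg Fin.val (Sum.inr.inj e''))
    rw [h1, h2, add_comm]


/-! ## abelian products of root subgroups -/

theorem sum_map_single {M : Type*} [AddCommMonoid M] (L : List ℕ) (hnd : L.Nodup) (k : ℕ) (hk : k ∈ L) (f : ℕ → M)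
    (h : ∀ i ∈ L, i ≠ k → f i = 0) : (L.map f).sum = f k := by
  induction L with
  | nil => simp at hk
  | cons a L ih =>
    rw [List.map_cons, List.sum_cons]
    have hnd' := (List.nodup_cons.1 hnd).2
    have ha := (List.nodup_cons.1 hnd).1
    by_cases hak : a = k
    · subst hak
      have : (L.map f).sum = 0 := by
        apply List.sum_eq_zero
        intro x hx
        obtain ⟨i, hi, rfl⟩ := List.mem_map.1 hx
        apply h i (List.mem_cons_of_mem _ hi)
        rintro rfl
        exact ha hi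
      rw [this, add_zero]
    · rw [h a List.mem_cons_self hak, zero_add]
      rcases List.mem_cons.1 hk with e | e
      · exact absurd e.symm hak
      · exact ih hnd' e (fun i hi => h i (List.mem_cons_of_mem _ hi))

/-- the data of an abelian product of positive root subgroups -/
structure AbData (D : ChevalleyDatum) (F : Type*) [Field F] (R : List ℕ) : Prop where
  pos : ∀ r ∈ R, D.IsPosRoot r
  nodup : R.Nodup
  row : ∀ a ∈ R, ∀ b ∈ R, RowUnit D F (D.neg a) b
  comm : ∀ a ∈ R, ∀ b ∈ R, a ≠ b → CentOK D F a b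

/-- the Boolean test of `AbData` in characteristic two -/
def abChk (D : ChevalleyDatum) (R : List ℕ) : Bool :=
  (R.all fun r => decide (D.IsPosRoot r)) && decide R.Nodup &&
  (R.all fun a => R.all fun b => rowChk D (D.neg a) b) &&
  (R.all fun a => R.all fun b => decide (a = b) || evenChk D a b)

theorem abData_of_chk [CharP F 2] (R : List ℕ) (h : abChk D R = true) : AbData D F R := by
  unfold abChk at h
  simp only [Bool.and_eq_true, List.all_eq_true, decide_eq_true_eq, Bool.or_eq_true] at h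
  obtain ⟨⟨⟨h1, h2⟩, h3⟩, h4⟩ := h
  refine ⟨h1, h2, fun a ha b hb => rowUnit_of_chk _ _ (h3 a ha b hb), fun a ha b hb hab => ?_⟩
  rcases h4 a ha b hb with e | e
  · exact absurd e hab
  · exact centOK_of_evenChk D a b e

/-- the product of the root elements `x_r(c_r)`, `r ∈ R` -/
def PGL (hX : XAdd D F) (R : List ℕ) (c : ℕ → F) : GL D.Idx F :=
  wordGL D hX (R.map fun r => (r, c r))

theorem PGL_nil (hX : XAdd D F) (c : ℕ → F) : PGL hX [] c = 1 := rfl

theorem PGL_cons (hX : XAdd D F) (r : ℕ) (R : List ℕ) (c : ℕ → F) :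
    PGL hX (r :: R) c = xGL D hX r (c r) * PGL hX R c := by
  unfold PGL
  rw [List.map_cons, wordGL_cons]

theorem PGL_congr (hX : XAdd D F) (R : List ℕ) (c c' : ℕ → F) (h : ∀ r ∈ R, c r = c' r) :
    PGL hX R c = PGL hX R c' := by
  unfold PGL
  congr 1
  apply List.map_congr_left
  intro r hr
  rw [h r hr]

theorem PGL_mem_rootGen (hX : XAdd D F) (R : List ℕ) (c : ℕ → F) :
    PGL hX R c ∈ rootGen D F (fun r => r ∈ R) := by
  apply wordGL_mem_rootGen
  intro q hq
  obtain ⟨r, hr, rfl⟩ := List.mem_map.1 hq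
  exact hr

section ab

variable (hF : ChevFacts D F) {R : List ℕ} (hA : AbData D F R)
include hF hA

theorem AbData.lt (r : ℕ) (hr : r ∈ R) : r < D.nroots := (hA.pos r hr).1

/-- the entries of the toral rows of `∏ x_r(c_r)` -/
theorem PGL_entry (c : ℕ → F) (i : Fin D.rank) (s : Fin D.nroots) :
    ((PGL hF.xadd R c : GL D.Idx F) : Matrix D.Idx D.Idx F) (Sum.inl i) (Sum.inr s) =
      if D.neg s.val ∈ R then ((cor D (D.neg s.val) i.val : ℤ) : F) * c (D.neg s.val) else 0 := by
  unfold PGL
  rw [wordGL_val, wordMat_inl_inr hF.sign]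
  · rw [List.map_map]
    by_cases hs : D.neg s.val ∈ R
    · rw [if_pos hs, sum_map_single R hA.nodup (D.neg s.val) hs]
      · simp only [Function.comp_apply]
        rw [if_pos (hF.sign.neg_neg s.val s.2).symm]
      · intro r hr hrs
        simp only [Function.comp_apply]
        rw [if_neg]
        intro e
        apply hrs
        rw [e, hF.sign.neg_neg r (hA.lt hF r hr)]
    · rw [if_neg hs]
      apply List.sum_eq_zero
      intro x hx
      obtain ⟨r, hr, rfl⟩ := List.mem_map.1 hx
      simp only [Function.comp_apply]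
      rw [if_neg]
      intro e
      apply hs
      rw [e, hF.sign.neg_neg r (hA.lt hF r hr)]
      exact hr
  · intro q hq
    obtain ⟨r, hr, rfl⟩ := List.mem_map.1 hq
    exact hA.lt hF r hr
  · rw [List.pairwise_map]
    apply List.pairwise_of_forall_mem_list
    intro a ha b hb
    exact hA.row a ha b hb

/-- the entry of `∏ x_r(c_r)` in row `h_i` and column `e_{-r}` -/
theorem PGL_entry_mem (c : ℕ → F) (i : Fin D.rank) (r : ℕ) (hr : r ∈ R) :
    ((PGL hF.xadd R c : GL D.Idx F) : Matrix D.Idx D.Idx F) (Sum.inl i)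
      (Sum.inr ⟨D.neg r, hF.sign.neg_lt r (hA.lt hF r hr)⟩) = ((cor D r i.val : ℤ) : F) * c r := by
  rw [PGL_entry hF hA]
  simp only [hF.sign.neg_neg r (hA.lt hF r hr)]
  rw [if_pos hr]

theorem PGL_inj (hcor : ∀ r < D.nroots, ∃ i : Fin D.rank, ((cor D r i.val : ℤ) : F) ≠ 0)
    (c c' : ℕ → F) (h : PGL hF.xadd R c = PGL hF.xadd R c') : ∀ r ∈ R, c r = c' r := by
  intro r hr
  obtain ⟨i, hi⟩ := hcor r (hA.lt hF r hr)
  have h1 := PGL_entry_mem hF hA c i r hr
  rw [h, PGL_entry_mem hF hA c' i r hr] at h1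
  exact (mul_left_cancel₀ hi h1).symm

theorem xGL_commute (a b : ℕ) (ha : a ∈ R) (hb : b ∈ R) (t u : F) :
    Commute (xGL D hF.xadd a t) (xGL D hF.xadd b u) := by
  by_cases hab : a = b
  · subst hab
    show xGL D hF.xadd a t * xGL D hF.xadd a u = xGL D hF.xadd a u * xGL D hF.xadd a t
    rw [xGL_mul, xGL_mul, add_comm]
  · refine commute_of_centOK hF b a (hA.lt hF b hb) (hA.lt hF a ha) hab ?_ (hA.comm b hb a ha (Ne.symm hab)) u t
    intro e
    have := hF.sign.neg_of_pos b (hA.pos b hb)
    rw [← e] at this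
    exact hF.sign.not_both a (hA.pos a ha) this

theorem xGL_commute_PGL (a : ℕ) (ha : a ∈ R) (t : F) (R' : List ℕ) (hR' : ∀ r ∈ R', r ∈ R) (c : ℕ → F) :
    Commute (xGL D hF.xadd a t) (PGL hF.xadd R' c) := by
  induction R' with
  | nil => rw [PGL_nil]; exact Commute.one_right _
  | cons r R' ih =>
    rw [PGL_cons]
    exact (xGL_commute hF hA a r ha (hR' r List.mem_cons_self) t (c r)).mul_right
      (ih fun r' hr' => hR' r' (List.mem_cons_of_mem _ hr'))

theorem PGL_add_aux (R' : List ℕ) (hR' : ∀ r ∈ R', r ∈ R) (c c' : ℕ → F) :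
    PGL hF.xadd R' (fun r => c r + c' r) = PGL hF.xadd R' c * PGL hF.xadd R' c' := by
  induction R' with
  | nil => simp [PGL_nil]
  | cons r R' ih =>
    have hR'' : ∀ r' ∈ R', r' ∈ R := fun r' hr' => hR' r' (List.mem_cons_of_mem _ hr')
    rw [PGL_cons, PGL_cons, PGL_cons, ih hR'', ← xGL_mul]
    have hc := xGL_commute_PGL hF hA r (hR' r List.mem_cons_self) (c' r) R' hR'' c
    calc xGL D hF.xadd r (c r) * xGL D hF.xadd r (c' r) * (PGL hF.xadd R' c * PGL hF.xadd R' c')
        = xGL D hF.xadd r (c r) * (xGL D hF.xadd r (c' r) * PGL hF.xadd R' c) * PGL hF.xadd R' c' := by group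
      _ = xGL D hF.xadd r (c r) * (PGL hF.xadd R' c * xGL D hF.xadd r (c' r)) * PGL hF.xadd R' c' := by rw [hc.eq]
      _ = _ := by group

theorem PGL_add (c c' : ℕ → F) :
    PGL hF.xadd R (fun r => c r + c' r) = PGL hF.xadd R c * PGL hF.xadd R c' :=
  PGL_add_aux hF hA R (fun _ h => h) c c'

theorem PGL_zero_aux (R' : List ℕ) : PGL hF.xadd R' (fun _ => (0 : F)) = 1 := by
  induction R' with
  | nil => rfl
  | cons r R' ih => rw [PGL_cons, ih, xGL_zero, mul_one]

theorem PGL_single_aux (R' : List ℕ) (hnd : R'.Nodup) (k : ℕ) (hk : k ∈ R') (a : F) :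
    PGL hF.xadd R' (fun r => if r = k then a else 0) = xGL D hF.xadd k a := by
  induction R' with
  | nil => simp at hk
  | cons r R' ih =>
    rw [PGL_cons]
    have hnd' := (List.nodup_cons.1 hnd).2
    have hr := (List.nodup_cons.1 hnd).1
    by_cases hrk : r = k
    · subst hrk
      rw [if_pos rfl]
      have : PGL hF.xadd R' (fun r' => if r' = r then a else 0) = PGL hF.xadd R' (fun _ => (0 : F)) := by
        apply PGL_congr
        intro r' hr'
        rw [if_neg]
        rintro rfl
        exact hr hr'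
      rw [this, PGL_zero_aux hF hA, mul_one]
    · rw [if_neg hrk, xGL_zero, one_mul]
      rcases List.mem_cons.1 hk with e | e
      · exact absurd e.symm hrk
      · exact ih hnd' e

/-- the elements of the subgroup generated by the `X_r`, `r ∈ R` -/
theorem exists_PGL_of_mem (g : GL D.Idx F) (hg : g ∈ rootGen D F (fun r => r ∈ R)) :
    ∃ c : ℕ → F, g = PGL hF.xadd R c := by
  unfold rootGen at hg
  induction hg using Subgroup.closure_induction with
  | mem x hx =>
    obtain ⟨r, t, hr, hx⟩ := hx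
    have e : x = xGL D hF.xadd r t := Units.ext (by rw [hx, xGL_val])
    exact ⟨fun r' => if r' = r then t else 0, by rw [e, PGL_single_aux hF hA R hA.nodup r hr t]⟩
  | one => exact ⟨fun _ => 0, (PGL_zero_aux hF hA R).symm⟩
  | mul x y _ _ hx hy =>
    obtain ⟨c, rfl⟩ := hx
    obtain ⟨c', rfl⟩ := hy
    exact ⟨fun r => c r + c' r, (PGL_add hF hA c c').symm⟩
  | inv x _ hx =>
    obtain ⟨c, rfl⟩ := hx
    refine ⟨fun r => -c r, ?_⟩
    rw [inv_eq_iff_mul_eq_one, ← PGL_add hF hA]
    simp only [add_neg_cancel]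
    exact PGL_zero_aux hF hA R

end ab


section transport

variable (hF : ChevFacts D F) {R : List ℕ} (hA : AbData D F R)
include hF hA

/-- conjugation by an element of `H` -/
theorem diagonal_conj_PGL (h : GL D.Idx F) (hh : h ∈ D.diagonalSubgroup F) :
    ∃ χ : ℕ → F, (∀ r, χ r ≠ 0) ∧ (∀ r < D.nroots, ∀ t : F, h * xGL D hF.xadd r t * h⁻¹ = xGL D hF.xadd r (χ r * t)) ∧
      ∀ c : ℕ → F, h * PGL hF.xadd R c * h⁻¹ = PGL hF.xadd R (fun r => χ r * c r) := by
  obtain ⟨d, hd, hhd⟩ := exists_Tmat_of_mem D hF.hall h hh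
  refine ⟨chi D d, chi_ne_zero D d hd, fun r hr t => hF.Tmat_conj_xGL h d hd hhd r hr t, ?_⟩
  intro c
  have key : ∀ R' : List ℕ, (∀ r ∈ R', r ∈ R) →
      h * PGL hF.xadd R' c * h⁻¹ = PGL hF.xadd R' (fun r => chi D d r * c r) := by
    intro R' hR'
    induction R' with
    | nil => simp [PGL_nil]
    | cons r R' ih =>
      rw [PGL_cons, PGL_cons, ← ih (fun r' hr' => hR' r' (List.mem_cons_of_mem _ hr')),
        ← hF.Tmat_conj_xGL h d hd hhd r (hA.lt hF r (hR' r List.mem_cons_self))]
      group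
  exact key R (fun _ h => h)

/-- **transport of supports**: if `n_w` conjugates `∏ x_r(c_r)` to `∏ x_r(c'_r)` then `w` maps the support of `c`
into the support of `c'` -/
theorem support_transport (hcor : ∀ r < D.nroots, ∃ i : Fin D.rank, ((cor D r i.val : ℤ) : F) ≠ 0)
    (w : List ℕ) (hw : ∀ i ∈ w, i < D.rank) (c c' : ℕ → F)
    (h : nWordGL D hF.xadd w * PGL hF.xadd R c * (nWordGL D hF.xadd w)⁻¹ = PGL hF.xadd R c')
    (r : ℕ) (hr : r ∈ R) (hc : c r ≠ 0) : reflWord D w r ∈ R ∧ c' (reflWord D w r) ≠ 0 := by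
  set n := nWordGL D hF.xadd w with hn
  set P := PGL hF.xadd R c with hP
  set P' := PGL hF.xadd R c' with hP'
  have hmat : (n : Matrix D.Idx D.Idx F) * (P : Matrix D.Idx D.Idx F) =
      (P' : Matrix D.Idx D.Idx F) * (n : Matrix D.Idx D.Idx F) := by
    rw [← Units.val_mul, ← Units.val_mul]
    congr 1
    rw [← h]
    group
  have hrlt := hA.lt hF r hr
  have hs : D.neg r < D.nroots := hF.sign.neg_lt r hrlt
  have hr' : reflWord D w r < D.nroots := reflWord_lt D (etaOf D) hF.facts w hw r hrlt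
  have hs' : reflWord D w (D.neg r) < D.nroots := reflWord_lt D (etaOf D) hF.facts w hw _ hs
  have hneg : reflWord D w (D.neg r) = D.neg (reflWord D w r) := reflWord_neg D (etaOf D) hF.facts w hw r hrlt
  obtain ⟨ε, hε, hcol⟩ := hF.nWordGL_mulVec_inr w hw (D.neg r) hs
  -- the entries of `n` in position (toral, root) vanish
  have hn0 : ∀ (j : Fin D.rank) (t : Fin D.nroots), (n : Matrix D.Idx D.Idx F) (Sum.inl j) (Sum.inr t) = 0 := by
    intro j t
    obtain ⟨ε', -, hc'⟩ := hF.nWordGL_mulVec_inr w hw t.val t.2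
    have h1 := congrFun hc' (Sum.inl j)
    rw [bvec_inr_eq D t.val t.2, Matrix.mulVec_single_one, Matrix.col_apply,
      bvec_inr_eq D _ (reflWord_lt D (etaOf D) hF.facts w hw t.val t.2), Pi.smul_apply, Pi.single_apply] at h1
    simpa using h1
  set v : D.Idx → F := (P : Matrix D.Idx D.Idx F).mulVec (bvec D (.inr (D.neg r))) with hv
  have hv_inl : ∀ i : Fin D.rank, v (Sum.inl i) = ((cor D r i.val : ℤ) : F) * c r := by
    intro i
    rw [hv, bvec_inr_eq D _ hs, Matrix.mulVec_single_one, Matrix.col_apply]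
    exact PGL_entry_mem hF hA c i r hr
  have hsplit : v = c r • Hvec D r + (v - c r • Hvec D r) := by abel
  have hkey : ∀ j : Fin D.rank, ((n : Matrix D.Idx D.Idx F).mulVec v) (Sum.inl j) =
      c r * ((cor D (reflWord D w r) j.val : ℤ) : F) := by
    intro j
    rw [hsplit, Matrix.mulVec_add, Pi.add_apply, Matrix.mulVec_smul, hF.nWordGL_mulVec_Hvec w hw r hrlt,
      Pi.smul_apply, Hvec_inl, smul_eq_mul]
    have : ((n : Matrix D.Idx D.Idx F).mulVec (v - c r • Hvec D r)) (Sum.inl j) = 0 := by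
      rw [Matrix.mulVec, dotProduct]
      apply Finset.sum_eq_zero
      intro k _
      rcases k with i | t
      · rw [Pi.sub_apply, hv_inl i, Pi.smul_apply, Hvec_inl, smul_eq_mul, mul_comm (c r), sub_self, mul_zero]
      · rw [hn0 j t, zero_mul]
    rw [this, add_zero]
  have hkey2 : ∀ j : Fin D.rank, ((n : Matrix D.Idx D.Idx F).mulVec v) (Sum.inl j) =
      ε * (P' : Matrix D.Idx D.Idx F) (Sum.inl j) (Sum.inr ⟨reflWord D w (D.neg r), hs'⟩) := by
    intro j
    rw [hv, Matrix.mulVec_mulVec, hmat, ← Matrix.mulVec_mulVec, hcol, Matrix.mulVec_smul,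
      bvec_inr_eq D _ hs', Matrix.mulVec_single_one, Pi.smul_apply, Matrix.col_apply, smul_eq_mul]
  obtain ⟨j, hj⟩ := hcor (reflWord D w r) hr'
  have h3 := hkey2 j
  rw [hkey j, hP', PGL_entry hF hA] at h3
  simp only [hneg, hF.sign.neg_neg _ hr'] at h3
  by_cases hmem : reflWord D w r ∈ R
  · rw [if_pos hmem] at h3
    refine ⟨hmem, ?_⟩
    intro h0
    rw [h0, mul_zero, mul_zero] at h3
    exact mul_ne_zero hc hj h3
  · rw [if_neg hmem, mul_zero] at h3
    exact absurd h3 (mul_ne_zero hc hj)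

end transport

end Cfsg.Agent.Helper6.CentPair
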