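import Mathlib
import Cfsg.Prelude.Def_ChevB2

/-!
`B₂(2)` permutes six linear forms on its module: the data and the permutation representation.

The six row vectors `wv k` are permuted by every `x_r(t)`, `t ∈ 𝔽₂`; the long root elements act as transpositions
and these (with one conjugate) give all adjacent transpositions of `S₆`.
-/

set_option autoImplicit false
set_option linter.unusedSectionVars false

namespace Cfsg.Agent.Helper6.B2S6

open Cfsg Cfsg.Lie

/-- entrywise image of a root element under a ring homomorphism -/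
theorem xMat_map {F F' : Type*} [Field F] [Field F'] (D : ChevalleyDatum) (f : F →+* F')
    (r : Fin D.nroots) (t : F) : (D.xMat F r t).map f = D.xMat F' r (f t) := by
  ext row col
  simp only [Matrix.map_apply]
  unfold ChevalleyDatum.xMat
  simp only [Matrix.of_apply]
  rcases col with i | s
  · rcases row with i' | u
    · simp only
      split_ifs <;> simp
    · simp only
      split_ifs <;> simp
  · simp only
    by_cases hs : s = r
    · simp only [hs, if_true]
      rcases row with i | u
      · simp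
      · simp only
        split_ifs <;> simp
    · simp only [hs, if_false]
      by_cases hs2 : s.val = D.negIdx.getD r.val 0
      · simp only [hs2, if_true]
        rcases row with i | u
        · simp
        · simp only
          split_ifs <;> simp
      · simp only [hs2, if_false]
        rcases row with i | u
        · simp
        · simp only [map_add, map_list_sum, List.map_map]
          congr 1
          · split_ifs <;> simp
          · congr 1
            apply List.map_congr_left
            intro km _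
            simp

/-- the table of the six linear forms -/
def tabL : List (List ℕ) :=
  [[0, 1, 0, 0, 0, 1, 1, 0, 0, 1],
   [0, 1, 0, 0, 0, 1, 1, 0, 0, 0],
   [0, 1, 1, 0, 0, 1, 1, 0, 0, 0],
   [0, 1, 1, 0, 0, 1, 0, 0, 0, 1],
   [0, 1, 1, 0, 0, 0, 0, 0, 0, 1],
   [0, 1, 1, 0, 0, 0, 1, 0, 0, 1]]

/-- the entry of the `k`-th form at an index -/
def tabB (k : Fin 6) (i : chevB2.Idx) : Bool :=
  match i with
  | Sum.inl a => (tabL.getD k.val []).getD a.val 0 == 1
  | Sum.inr b => (tabL.getD k.val []).getD (2 + b.val) 0 == 1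

/-- the six linear forms over a field -/
def wv (F : Type*) [Field F] (k : Fin 6) : chevB2.Idx → F := fun i => if tabB k i then 1 else 0

/-- the permutations of the six forms effected by the `x_r(1)` -/
def sigL : List (List ℕ) :=
  [[1, 0, 2, 3, 4, 5],
   [1, 0, 3, 2, 5, 4],
   [1, 0, 5, 4, 3, 2],
   [0, 1, 2, 3, 5, 4],
   [0, 1, 2, 4, 3, 5],
   [3, 2, 1, 0, 5, 4],
   [5, 2, 1, 4, 3, 0],
   [0, 2, 1, 3, 4, 5]]

def sigF (r : Fin 8) (k : Fin 6) : Fin 6 :=
  ⟨((sigL.getD r.val []).getD k.val 0) % 6, Nat.mod_lt _ (by norm_num)⟩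

theorem sigF_invol : ∀ r : Fin 8, ∀ k : Fin 6, sigF r (sigF r k) = k := by decide

/-- the permutation of `x_r(1)` -/
def sigP (r : Fin 8) : Equiv.Perm (Fin 6) := ⟨sigF r, sigF r, sigF_invol r, sigF_invol r⟩

theorem sigP_inv (r : Fin 8) : (sigP r)⁻¹ = sigP r := by
  apply Equiv.ext
  intro k
  rfl

set_option maxRecDepth 4000 in
theorem act_one_zmod : ∀ r : Fin 8, ∀ k : Fin 6,
    Matrix.vecMul (wv (ZMod 2) k) (chevB2.xMat (ZMod 2) r 1) = wv (ZMod 2) (sigF r k) := by decide +kernel

set_option maxRecDepth 4000 in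
theorem act_zero_zmod : ∀ r : Fin 8, ∀ k : Fin 6,
    Matrix.vecMul (wv (ZMod 2) k) (chevB2.xMat (ZMod 2) r 0) = wv (ZMod 2) k := by decide +kernel

theorem tabB_inj : ∀ k k' : Fin 6, k ≠ k' → ∃ i : chevB2.Idx, tabB k i ≠ tabB k' i := by decide

theorem swap01 : Equiv.swap (0 : Fin 6) 1 = sigP 0 := by decide
theorem swap12 : Equiv.swap (1 : Fin 6) 2 = sigP 7 := by decide
theorem swap23 : Equiv.swap (2 : Fin 6) 3 = sigP 5 * sigP 0 * sigP 5 := by decide
theorem swap34 : Equiv.swap (3 : Fin 6) 4 = sigP 4 := by decide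
theorem swap45 : Equiv.swap (4 : Fin 6) 5 = sigP 3 := by decide

variable {F : Type*} [Field F]

theorem wv_injective : Function.Injective (wv F) := by
  intro k k' h
  by_contra hne
  obtain ⟨i, hi⟩ := tabB_inj k k' hne
  have h1 := congrFun h i
  unfold wv at h1
  cases hk : tabB k i <;> cases hk' : tabB k' i <;> simp_all

theorem wv_map (f : ZMod 2 →+* F) (k : Fin 6) : f ∘ wv (ZMod 2) k = wv F k := by
  funext i
  simp only [Function.comp_apply, wv]
  split_ifs <;> simp

/-- the forms are permuted by the root elements with parameter in the prime field -/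
theorem act_of_zmod (f : ZMod 2 →+* F) (r : Fin 8) (k : Fin 6) :
    Matrix.vecMul (wv F k) (chevB2.xMat F r 1) = wv F (sigF r k) ∧
      Matrix.vecMul (wv F k) (chevB2.xMat F r 0) = wv F k := by
  constructor
  · have h1 := act_one_zmod r k
    funext j
    have h2 := RingHom.map_vecMul f (chevB2.xMat (ZMod 2) r 1) (wv (ZMod 2) k) j
    rw [h1, xMat_map chevB2 f r 1, map_one, wv_map] at h2
    rw [← h2]
    exact congrFun (wv_map f (sigF r k)) j
  · have h1 := act_zero_zmod r k
    funext j
    have h2 := RingHom.map_vecMul f (chevB2.xMat (ZMod 2) r 0) (wv (ZMod 2) k) j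
    rw [h1, xMat_map chevB2 f r 0, map_zero, wv_map] at h2
    rw [← h2]
    exact congrFun (wv_map f k) j

/-- `g` permutes the six forms by `π` -/
def Pres (g : Matrix chevB2.Idx chevB2.Idx F) (π : Equiv.Perm (Fin 6)) : Prop :=
  ∀ k, Matrix.vecMul (wv F k) g = wv F (π k)

theorem Pres.unique {g : Matrix chevB2.Idx chevB2.Idx F} {π ρ : Equiv.Perm (Fin 6)}
    (h1 : Pres g π) (h2 : Pres g ρ) : π = ρ := by
  apply Equiv.ext
  intro k
  apply wv_injective (F := F)
  rw [← h1 k, ← h2 k]

theorem Pres.one : Pres (1 : Matrix chevB2.Idx chevB2.Idx F) 1 := by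
  intro k
  rw [Matrix.vecMul_one]
  rfl

theorem Pres.mul {g h : Matrix chevB2.Idx chevB2.Idx F} {π ρ : Equiv.Perm (Fin 6)}
    (h1 : Pres g π) (h2 : Pres h ρ) : Pres (g * h) (ρ * π) := by
  intro k
  rw [← Matrix.vecMul_vecMul, h1 k, h2 (π k)]
  rfl

theorem Pres.inv {g : GL chevB2.Idx F} {π : Equiv.Perm (Fin 6)}
    (h1 : Pres (g : Matrix chevB2.Idx chevB2.Idx F) π) :
    Pres ((g⁻¹ : GL chevB2.Idx F) : Matrix chevB2.Idx chevB2.Idx F) π⁻¹ := by
  intro k
  have h2 := h1 (π⁻¹ k)
  have h3 : π (π⁻¹ k) = k := by simp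
  rw [h3] at h2
  rw [← h2, Matrix.vecMul_vecMul, ← Units.val_mul, mul_inv_cancel, Units.val_one, Matrix.vecMul_one]

/-- the subgroup of the elements permuting the six forms -/
def Msub (F : Type*) [Field F] : Subgroup (GL chevB2.Idx F) where
  carrier := {g | ∃ π, Pres (g : Matrix chevB2.Idx chevB2.Idx F) π}
  one_mem' := ⟨1, Pres.one⟩
  mul_mem' := by
    rintro g h ⟨π, hπ⟩ ⟨ρ, hρ⟩
    exact ⟨ρ * π, by rw [Units.val_mul]; exact hπ.mul hρ⟩
  inv_mem' := by
    rintro g ⟨π, hπ⟩
    exact ⟨π⁻¹, hπ.inv⟩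

end Cfsg.Agent.Helper6.B2S6
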