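import Mathlib
import Cfsg.Prelude.Def_ChevStructure

/-!
# The subgroup `B = UH` of a Chevalley group: abstract consequences of the basic matrix identities
-/

namespace Cfsg.Agent.Helper6.ChevB

open Cfsg Cfsg.Lie Cfsg.Lie.ChevalleyDatum Matrix

variable {F : Type*} [Field F] (D : ChevalleyDatum)

lemma wordMat_nil : D.wordMat F [] = 1 := by simp [wordMat]

lemma wordMat_append (l l' : List (ℕ × F)) :
    D.wordMat F (l ++ l') = D.wordMat F l * D.wordMat F l' := by
  simp [wordMat]

/-- the product of the fundamental `h`'s along a list of indices -/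
def hProd (c : ℕ → F) (l : List ℕ) : Matrix D.Idx D.Idx F :=
  (l.map fun i => D.hMat F (D.simple i) (c i)).prod

lemma wordMat_flatMap (c : ℕ → F) (l : List ℕ) :
    D.wordMat F (l.flatMap fun i => D.hWord (D.simple i) (c i)) = hProd D c l := by
  induction l with
  | nil => simp [hProd, wordMat]
  | cons i l ih =>
    rw [List.flatMap_cons, wordMat_append, ih]
    simp [hProd, hMat]

/-- hypothesis: the shape of S1034 -/
def HFund (F : Type*) [Field F] (D : ChevalleyDatum) : Prop :=
  ∀ g : GL D.Idx F, g ∈ D.diagonalSubgroup F →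
    ∃ c : ℕ → F, (∀ i < D.rank, c i ≠ 0) ∧
      (g : Matrix D.Idx D.Idx F) =
        D.wordMat F ((List.range D.rank).flatMap fun i => D.hWord (D.simple i) (c i))

/-- hypothesis: the shape of S1032 -/
def HConj (F : Type*) [Field F] (D : ChevalleyDatum) : Prop :=
  ∀ (i s : ℕ), i < D.rank → s < D.nroots → ∀ c : F, c ≠ 0 → ∀ t : F,
    D.hMat F (D.simple i) c * D.x F s t = D.x F s (c ^ (D.cartan i s) * t) * D.hMat F (D.simple i) c

/-- hypothesis: the shape of S1033 -/
def HDiag (F : Type*) [Field F] (D : ChevalleyDatum) : Prop :=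
  ∀ i : ℕ, i < D.rank → ∀ c : F, c ≠ 0 →
    D.hMat F (D.simple i) c =
      Matrix.diagonal (Sum.elim (fun _ => (1 : F)) (fun s : Fin D.nroots => c ^ (D.cartan i s)))

/-- hypothesis: the shape of S1028 -/
def HUnip (F : Type*) [Field F] (D : ChevalleyDatum) : Prop :=
  ∀ g : GL D.Idx F, g ∈ D.posUnipotent F →
    ((g : Matrix D.Idx D.Idx F) - 1) ^ (D.rank + D.nroots) = 0

variable {D}

lemma hProd_conj (hconj : HConj F D) (c : ℕ → F) (l : List ℕ) (hl : ∀ i ∈ l, i < D.rank)
    (hc : ∀ i < D.rank, c i ≠ 0) {s : ℕ} (hs : s < D.nroots) (t : F) :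
    ∃ t' : F, hProd D c l * D.x F s t = D.x F s t' * hProd D c l := by
  induction l generalizing t with
  | nil => exact ⟨t, by simp [hProd]⟩
  | cons i l ih =>
    obtain ⟨t', ht'⟩ := ih (fun j hj => hl j (List.mem_cons_of_mem _ hj)) t
    have hi := hl i List.mem_cons_self
    refine ⟨c i ^ (D.cartan i s) * t', ?_⟩
    have e : hProd D c (i :: l) = D.hMat F (D.simple i) (c i) * hProd D c l := by
      simp [hProd]
    rw [e, mul_assoc, ht', ← mul_assoc, hconj i s hi hs (c i) (hc i hi) t', mul_assoc]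

lemma hProd_diag (hdiag : HDiag F D) (c : ℕ → F) (l : List ℕ) (hl : ∀ i ∈ l, i < D.rank)
    (hc : ∀ i < D.rank, c i ≠ 0) : ∃ d : D.Idx → F, hProd D c l = Matrix.diagonal d := by
  induction l with
  | nil => exact ⟨fun _ => 1, by simp [hProd]⟩
  | cons i l ih =>
    obtain ⟨d, hd⟩ := ih (fun j hj => hl j (List.mem_cons_of_mem _ hj))
    have hi := hl i List.mem_cons_self
    have e : hProd D c (i :: l) = D.hMat F (D.simple i) (c i) * hProd D c l := by
      simp [hProd]
    rw [e, hd, hdiag i hi (c i) (hc i hi), Matrix.diagonal_mul_diagonal]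
    exact ⟨_, rfl⟩

/-- every element of `H` is a diagonal matrix -/
lemma diag_of_mem (hfund : HFund F D) (hdiag : HDiag F D) {g : GL D.Idx F}
    (hg : g ∈ D.diagonalSubgroup F) :
    ∃ d : D.Idx → F, (g : Matrix D.Idx D.Idx F) = Matrix.diagonal d := by
  obtain ⟨c, hc, hgc⟩ := hfund g hg
  rw [hgc, wordMat_flatMap]
  exact hProd_diag hdiag c _ (fun i hi => List.mem_range.mp hi) hc

/-- `H` is commutative -/
lemma comm_of_mem (hfund : HFund F D) (hdiag : HDiag F D) {g h : GL D.Idx F}
    (hg : g ∈ D.diagonalSubgroup F) (hh : h ∈ D.diagonalSubgroup F) : g * h = h * g := by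
  obtain ⟨d, hd⟩ := diag_of_mem hfund hdiag hg
  obtain ⟨d', hd'⟩ := diag_of_mem hfund hdiag hh
  apply Units.ext
  rw [Units.val_mul, Units.val_mul, hd, hd', Matrix.diagonal_mul_diagonal,
    Matrix.diagonal_mul_diagonal]
  congr 1
  funext i
  exact mul_comm _ _

/-- conjugation by an element of `H` maps a subgroup generated by root elements into itself -/
lemma conj_mem_gen (hfund : HFund F D) (hconj : HConj F D) (P : ℕ → Prop)
    (hP : ∀ r, P r → r < D.nroots) {g : GL D.Idx F}
    (hg : g ∈ D.diagonalSubgroup F) {u : GL D.Idx F}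
    (hu : u ∈ Subgroup.closure {g : GL D.Idx F | ∃ (r : ℕ) (t : F), P r ∧
      (g : Matrix D.Idx D.Idx F) = D.x F r t}) :
    g * u * g⁻¹ ∈ Subgroup.closure {g : GL D.Idx F | ∃ (r : ℕ) (t : F), P r ∧
      (g : Matrix D.Idx D.Idx F) = D.x F r t} := by
  obtain ⟨c, hc, hgc⟩ := hfund g hg
  rw [wordMat_flatMap] at hgc
  have hmap : (Subgroup.closure {g : GL D.Idx F | ∃ (r : ℕ) (t : F), P r ∧
      (g : Matrix D.Idx D.Idx F) = D.x F r t}).map (MulAut.conj g).toMonoidHom ≤
      Subgroup.closure {g : GL D.Idx F | ∃ (r : ℕ) (t : F), P r ∧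
      (g : Matrix D.Idx D.Idx F) = D.x F r t} := by
    rw [MonoidHom.map_closure, Subgroup.closure_le]
    rintro _ ⟨v, ⟨r, t, hr, hv⟩, rfl⟩
    obtain ⟨t', ht'⟩ := hProd_conj hconj c (List.range D.rank)
      (fun i hi => List.mem_range.mp hi) hc (hP r hr) t
    apply Subgroup.subset_closure
    refine ⟨r, t', hr, ?_⟩
    show ((g * v * g⁻¹ : GL D.Idx F) : Matrix D.Idx D.Idx F) = _
    rw [Units.val_mul, Units.val_mul, hv, hgc, ht', mul_assoc, ← hgc, ← Units.val_mul,
      mul_inv_cancel, Units.val_one, mul_one]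
  exact hmap ⟨u, hu, rfl⟩

theorem le_normalizer_gen (hfund : HFund F D) (hconj : HConj F D) (P : ℕ → Prop)
    (hP : ∀ r, P r → r < D.nroots) :
    D.diagonalSubgroup F ≤ Subgroup.normalizer ((Subgroup.closure {g : GL D.Idx F |
      ∃ (r : ℕ) (t : F), P r ∧ (g : Matrix D.Idx D.Idx F) = D.x F r t} : Subgroup (GL D.Idx F)) :
        Set (GL D.Idx F)) := by
  intro g hg
  rw [Subgroup.mem_normalizer_iff]
  intro u
  constructor
  · exact conj_mem_gen hfund hconj P hP hg
  · intro hu
    have := conj_mem_gen hfund hconj P hP (inv_mem hg) hu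
    have e : g⁻¹ * (g * u * g⁻¹) * g⁻¹⁻¹ = u := by group
    rwa [e] at this

/-- conjugation by an element of `H` maps `U` into itself -/
lemma conj_mem (hfund : HFund F D) (hconj : HConj F D) {g : GL D.Idx F}
    (hg : g ∈ D.diagonalSubgroup F) {u : GL D.Idx F} (hu : u ∈ D.posUnipotent F) :
    g * u * g⁻¹ ∈ D.posUnipotent F :=
  conj_mem_gen hfund hconj D.IsPosRoot (fun _ h => h.1) hg hu

theorem le_normalizer (hfund : HFund F D) (hconj : HConj F D) :
    D.diagonalSubgroup F ≤ Subgroup.normalizer (D.posUnipotent F : Set (GL D.Idx F)) :=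
  le_normalizer_gen hfund hconj D.IsPosRoot (fun _ h => h.1)

theorem le_normalizer_neg (hfund : HFund F D) (hconj : HConj F D) :
    D.diagonalSubgroup F ≤ Subgroup.normalizer (D.negUnipotent F : Set (GL D.Idx F)) :=
  le_normalizer_gen hfund hconj D.IsNegRoot (fun _ h => h.1)

/-- every element of `B` is a product `u h` -/
theorem borel_decomp (hfund : HFund F D) (hconj : HConj F D) {b : GL D.Idx F}
    (hb : b ∈ D.borelSubgroup F) :
    ∃ u ∈ D.posUnipotent F, ∃ h ∈ D.diagonalSubgroup F, b = u * h := by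
  have hb' : b ∈ ((D.posUnipotent F ⊔ D.diagonalSubgroup F : Subgroup (GL D.Idx F)) :
      Set (GL D.Idx F)) := hb
  rw [Subgroup.coe_mul_of_right_le_normalizer_left _ _ (le_normalizer hfund hconj)] at hb'
  obtain ⟨u, hu, h, hh, rfl⟩ := hb'
  exact ⟨u, hu, h, hh, rfl⟩

/-- every element of `V ⊔ H` is a product `v h` -/
theorem neg_borel_decomp (hfund : HFund F D) (hconj : HConj F D) {b : GL D.Idx F}
    (hb : b ∈ D.negUnipotent F ⊔ D.diagonalSubgroup F) :
    ∃ u ∈ D.negUnipotent F, ∃ h ∈ D.diagonalSubgroup F, b = u * h := by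
  have hb' : b ∈ ((D.negUnipotent F ⊔ D.diagonalSubgroup F : Subgroup (GL D.Idx F)) :
      Set (GL D.Idx F)) := hb
  rw [Subgroup.coe_mul_of_right_le_normalizer_left _ _ (le_normalizer_neg hfund hconj)] at hb'
  obtain ⟨u, hu, h, hh, rfl⟩ := hb'
  exact ⟨u, hu, h, hh, rfl⟩

theorem inf_eq_bot (hfund : HFund F D) (hdiag : HDiag F D) (hunip : HUnip F D) :
    D.posUnipotent F ⊓ D.diagonalSubgroup F = ⊥ := by
  rw [eq_bot_iff]
  rintro g ⟨hgU, hgH⟩
  obtain ⟨d, hd⟩ := diag_of_mem hfund hdiag hgH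
  have h0 := hunip g hgU
  have hsub : (Matrix.diagonal d - 1 : Matrix D.Idx D.Idx F) = Matrix.diagonal (fun i => d i - 1) := by
    rw [← Matrix.diagonal_one, ← Matrix.diagonal_sub]
  rw [hd, hsub, Matrix.diagonal_pow] at h0
  rw [Subgroup.mem_bot]
  apply Units.ext
  rw [hd, Units.val_one, ← Matrix.diagonal_one]
  congr 1
  funext i
  have h1 := congrFun (congrFun h0 i) i
  simp only [Matrix.diagonal_apply_eq, Pi.pow_apply, Matrix.zero_apply] at h1
  have := eq_zero_of_pow_eq_zero h1
  linear_combination this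

theorem borel_solvable (hfund : HFund F D) (hconj : HConj F D) (hdiag : HDiag F D)
    (hnil : Group.IsNilpotent (D.posUnipotent F)) : Group.IsSolvable ↥(D.borelSubgroup F) := by
  have hN := le_normalizer hfund hconj
  have hUB : D.posUnipotent F ≤ D.borelSubgroup F := le_sup_left
  have hHB : D.diagonalSubgroup F ≤ D.borelSubgroup F := le_sup_right
  have hBN : D.borelSubgroup F ≤ Subgroup.normalizer (D.posUnipotent F : Set (GL D.Idx F)) :=
    sup_le Subgroup.le_normalizer hN
  have : ((D.posUnipotent F).subgroupOf (D.borelSubgroup F)).Normal :=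
    Subgroup.normal_subgroupOf_of_le_normalizer hBN
  have : Group.IsSolvable (D.posUnipotent F) := inferInstance
  have : Group.IsSolvable (D.diagonalSubgroup F) :=
    Group.isSolvable_of_comm (fun a b => Subtype.ext (comm_of_mem hfund hdiag a.2 b.2))
  let f : D.posUnipotent F →* D.borelSubgroup F := Subgroup.inclusion hUB
  let g : D.borelSubgroup F →* D.borelSubgroup F ⧸ (D.posUnipotent F).subgroupOf (D.borelSubgroup F) :=
    QuotientGroup.mk' _
  let k : D.diagonalSubgroup F →*
      D.borelSubgroup F ⧸ (D.posUnipotent F).subgroupOf (D.borelSubgroup F) :=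
    g.comp (Subgroup.inclusion hHB)
  have hk : Function.Surjective k := by
    intro y
    obtain ⟨b, rfl⟩ := QuotientGroup.mk'_surjective _ y
    have hb : (b : GL D.Idx F) ∈
        ((D.posUnipotent F ⊔ D.diagonalSubgroup F : Subgroup (GL D.Idx F)) : Set (GL D.Idx F)) :=
      b.2
    rw [Subgroup.coe_mul_of_right_le_normalizer_left _ _ hN] at hb
    obtain ⟨u, hu, h, hh, hb⟩ := hb
    refine ⟨⟨h, hh⟩, ?_⟩
    show g (Subgroup.inclusion hHB ⟨h, hh⟩) = g b
    rw [eq_comm]
    show (QuotientGroup.mk b : _ ⧸ _) = QuotientGroup.mk _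
    rw [QuotientGroup.eq, Subgroup.mem_subgroupOf]
    have : ((b⁻¹ * Subgroup.inclusion hHB ⟨h, hh⟩ : D.borelSubgroup F) : GL D.Idx F)
        = h⁻¹ * u⁻¹ * h⁻¹⁻¹ := by
      simp only [Subgroup.coe_mul, Subgroup.coe_inv, Subgroup.coe_inclusion, ← hb]
      group
    rw [this]
    exact conj_mem hfund hconj (inv_mem hh) (inv_mem hu)
  have : Group.IsSolvable (D.borelSubgroup F ⧸ (D.posUnipotent F).subgroupOf (D.borelSubgroup F)) :=
    Group.isSolvable_of_surjective hk
  refine Group.isSolvable_of_ker_le_range f g ?_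
  rw [QuotientGroup.ker_mk']
  intro x hx
  exact ⟨⟨x, hx⟩, rfl⟩

end Cfsg.Agent.Helper6.ChevB
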