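import Mathlib
import Cfsg.Agent.Lib.Helper5.ChevUnipotent

/-!
# The subgroup `V` consists of unitriangular matrices (opposite to `U`)
-/

set_option autoImplicit false
set_option linter.unusedSectionVars false
set_option linter.unusedSimpArgs false
set_option linter.unusedVariables false

namespace Cfsg.Agent.Helper6.ChevV

open Cfsg Cfsg.Lie Cfsg.Agent.Helper5

/-- table check: negative roots have index `< N`, their negatives index `≥ N`, and chains go down -/
def NegOk2 (D : ChevalleyDatum) : Prop :=
  ∀ r < D.nroots, D.IsNegRoot r →
    (r < D.nroots / 2 ∧ D.nroots / 2 ≤ D.negIdx.getD r 0 ∧ D.negIdx.getD r 0 < D.nroots ∧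
      ∀ e ∈ (D.chain.getD r #[]).toList, ∀ q ∈ e.2.toList, q.1 < e.1)

instance instDecidableNegOk2 (D : ChevalleyDatum) : Decidable (NegOk2 D) := by
  unfold NegOk2; infer_instance

theorem negOk2_G2 : NegOk2 chevG2 := by decide +kernel
theorem negOk2_B2 : NegOk2 chevB2 := by decide +kernel
theorem negOk2_D4 : NegOk2 chevD4 := by decide +kernel
theorem negOk2_F4 : NegOk2 chevF4 := by decide +kernel
theorem negOk2_E6 : NegOk2 chevE6 := by decide +kernel
theorem negOk2_E7 : NegOk2 chevE7 := by decide +kernel
theorem negOk2_E8 : NegOk2 chevE8 := by decide +kernel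

theorem negOk2_of_mem (D : ChevalleyDatum)
    (hD : D ∈ [chevG2, chevB2, chevD4, chevF4, chevE6, chevE7, chevE8]) : NegOk2 D := by
  simp only [List.mem_cons, List.mem_nil_iff, or_false] at hD
  rcases hD with rfl | rfl | rfl | rfl | rfl | rfl | rfl
  · exact negOk2_G2
  · exact negOk2_B2
  · exact negOk2_D4
  · exact negOk2_F4
  · exact negOk2_E6
  · exact negOk2_E7
  · exact negOk2_E8

/-- the reversed level -/
def revLevel (D : ChevalleyDatum) : D.Idx → ℕ := fun i => D.rank + D.nroots - 1 - chevLevel D i

theorem revLevel_lt (D : ChevalleyDatum) (i : D.Idx) : revLevel D i < D.rank + D.nroots := by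
  have := chevLevel_lt D i
  unfold revLevel
  omega

theorem revLevel_lt_iff (D : ChevalleyDatum) (i j : D.Idx) :
    revLevel D i < revLevel D j ↔ chevLevel D j < chevLevel D i := by
  have := chevLevel_lt D i
  have := chevLevel_lt D j
  unfold revLevel
  omega

/-- For a negative root `r`, `x_r(t) - 1` strictly lowers the reversed level. -/
theorem xMat_sub_one_lowers_neg {F : Type*} [Field F] (D : ChevalleyDatum) (hD : NegOk2 D)
    (r : Fin D.nroots) (hr : D.IsNegRoot r.val) (t : F) :
    Lowers (revLevel D) 1 (D.xMat F r t - 1) := by
  obtain ⟨hrN, hnegN, hnegN2, hchain⟩ := hD r.val r.2 hr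
  intro row col hlt
  have hlt' : chevLevel D col ≤ chevLevel D row := by
    have := chevLevel_lt D row
    have := chevLevel_lt D col
    unfold revLevel at hlt
    omega
  rw [Matrix.sub_apply]
  rcases col with i | s
  · rcases row with i' | u
    · simp [ChevalleyDatum.xMat, Matrix.one_apply]
    · by_cases hur : u = r
      · exfalso
        subst hur
        have := i.2
        simp only [chevLevel] at hlt'
        split_ifs at hlt' <;> omega
      · simp [ChevalleyDatum.xMat, Matrix.one_apply, hur]
  · by_cases hsr : s = r
    · rcases row with i' | u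
      · simp [ChevalleyDatum.xMat, Matrix.one_apply, hsr]
      · simp [ChevalleyDatum.xMat, Matrix.one_apply, hsr]
    · by_cases hneg : s.val = D.negIdx.getD r.val 0
      · rcases row with i' | u
        · exfalso
          have := i'.2
          simp only [chevLevel] at hlt'
          split_ifs at hlt' <;> omega
        · by_cases hus : u = s
          · simp [ChevalleyDatum.xMat, Matrix.one_apply, hsr, hneg, hus]
          · by_cases hur : u = r
            · exfalso
              subst hur
              simp only [chevLevel] at hlt'
              split_ifs at hlt' <;> omega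
            · simp [ChevalleyDatum.xMat, Matrix.one_apply, hsr, hneg, hus, hur]
      · rcases row with i' | u
        · simp only [ChevalleyDatum.xMat, Matrix.of_apply, hsr, hneg, if_false, Matrix.one_apply]
          simp
        · have hnil : D.chainCoeff r.val s.val u.val = [] := by
            rw [List.eq_nil_iff_forall_not_mem]
            intro km hkm
            obtain ⟨e, he, hes, q, hq, hqu⟩ := chainCoeff_mem D _ _ _ km hkm
            have h1 := hchain e he q hq
            rw [hes, hqu] at h1
            have h2 := chevLevel_inr_lt D u s h1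
            omega
          simp only [ChevalleyDatum.xMat, Matrix.of_apply, hsr, hneg, if_false, hnil, List.map_nil,
            List.sum_nil, add_zero, Matrix.one_apply, Sum.inr.injEq]
          simp

theorem negUnipotent_lowers {F : Type*} [Field F] (D : ChevalleyDatum) (hD : NegOk2 D)
    {g : GL D.Idx F} (hg : g ∈ D.negUnipotent F) :
    Lowers (revLevel D) 1 ((g : Matrix D.Idx D.Idx F) - 1) := by
  have hle : D.negUnipotent F ≤
      lowerSubgroup (R := F) (revLevel D) (D.rank + D.nroots) (revLevel_lt D) 1 le_rfl := by
    unfold ChevalleyDatum.negUnipotent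
    rw [Subgroup.closure_le]
    rintro g ⟨r, t, hr, hg⟩
    show Lowers (revLevel D) 1 ((g : Matrix D.Idx D.Idx F) - 1)
    rw [hg]
    unfold ChevalleyDatum.x
    rw [dif_pos hr.1]
    exact xMat_sub_one_lowers_neg D hD ⟨r, hr.1⟩ hr t
  exact hle hg

theorem posUnipotent_lowers {F : Type*} [Field F] (D : ChevalleyDatum) (hD : PosOk D)
    {g : GL D.Idx F} (hg : g ∈ D.posUnipotent F) :
    Lowers (chevLevel D) 1 ((g : Matrix D.Idx D.Idx F) - 1) :=
  posUnipotent_le_chevLower D hD hg

/-- a lower unitriangular matrix times a diagonal matrix which is upper unitriangular: all trivial -/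
theorem triangular_trivial {F : Type*} [Field F] (D : ChevalleyDatum)
    (A B : Matrix D.Idx D.Idx F) (d : D.Idx → F)
    (hA : Lowers (chevLevel D) 1 (A - 1)) (hB : Lowers (revLevel D) 1 (B - 1))
    (h : A * Matrix.diagonal d = B) : A = 1 ∧ B = 1 ∧ d = fun _ => 1 := by
  have hAii : ∀ i, A i i = 1 := by
    intro i
    have := hA i i (by omega)
    rw [Matrix.sub_apply, Matrix.one_apply_eq] at this
    exact sub_eq_zero.1 this
  have hBii : ∀ i, B i i = 1 := by
    intro i
    have := hB i i (by omega)
    rw [Matrix.sub_apply, Matrix.one_apply_eq] at this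
    exact sub_eq_zero.1 this
  have hd : d = fun _ => 1 := by
    funext i
    have := congrFun (congrFun h i) i
    rw [Matrix.mul_diagonal, hAii, hBii, one_mul] at this
    exact this
  have hAB : A = B := by
    rw [← h, hd]
    have : (Matrix.diagonal fun _ : D.Idx => (1 : F)) = 1 := Matrix.diagonal_one
    rw [this, mul_one]
  have hA1 : A = 1 := by
    ext i j
    by_cases hij : i = j
    · subst hij
      rw [hAii, Matrix.one_apply_eq]
    · rw [Matrix.one_apply_ne hij]
      by_cases hl : chevLevel D i < chevLevel D j + 1
      · have := hA i j hl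
        rwa [Matrix.sub_apply, Matrix.one_apply_ne hij, sub_zero] at this
      · have hl' : revLevel D i < revLevel D j + 1 := by
          have := (revLevel_lt_iff D i j).2 (by omega)
          omega
        have := hB i j hl'
        rw [Matrix.sub_apply, Matrix.one_apply_ne hij, sub_zero] at this
        rw [hAB]
        exact this
  exact ⟨hA1, hAB ▸ hA1, hd⟩

end Cfsg.Agent.Helper6.ChevV
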