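import Mathlib
import Cfsg.Agent.Lib.Helper6.ChevBorel
import Cfsg.Agent.Lib.Helper6.ChevNegUnip

/-!
# `UH ∩ V = 1` and `UH ∩ VH = H`
-/

set_option autoImplicit false

namespace Cfsg.Agent.Helper6.ChevB

open Cfsg Cfsg.Lie Cfsg.Lie.ChevalleyDatum Matrix Cfsg.Agent.Helper5 Cfsg.Agent.Helper6.ChevV

variable {F : Type*} [Field F] {D : ChevalleyDatum}

/-- if `u d = v` with `u ∈ U`, `d ∈ H`, `v ∈ V` then all three are trivial -/
theorem uhv_trivial (hfund : HFund F D) (hdiag : HDiag F D) (hpos : PosOk D) (hneg : NegOk2 D)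
    {u h v : GL D.Idx F} (hu : u ∈ D.posUnipotent F) (hh : h ∈ D.diagonalSubgroup F)
    (hv : v ∈ D.negUnipotent F) (he : u * h = v) : u = 1 ∧ h = 1 ∧ v = 1 := by
  obtain ⟨d, hd⟩ := diag_of_mem hfund hdiag hh
  have h1 := posUnipotent_lowers D hpos hu
  have h2 := negUnipotent_lowers D hneg hv
  have he' : (u : Matrix D.Idx D.Idx F) * Matrix.diagonal d = (v : Matrix D.Idx D.Idx F) := by
    rw [← hd, ← Units.val_mul, he]
  obtain ⟨hu1, hv1, hd1⟩ := triangular_trivial D _ _ d h1 h2 he'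
  refine ⟨Units.ext hu1, ?_, Units.ext hv1⟩
  apply Units.ext
  rw [hd, hd1, Units.val_one]
  exact Matrix.diagonal_one

theorem borel_inf_neg (hfund : HFund F D) (hconj : HConj F D) (hdiag : HDiag F D)
    (hpos : PosOk D) (hneg : NegOk2 D) :
    D.borelSubgroup F ⊓ D.negUnipotent F = ⊥ ∧
      D.borelSubgroup F ⊓ (D.negUnipotent F ⊔ D.diagonalSubgroup F) = D.diagonalSubgroup F := by
  constructor
  · rw [eq_bot_iff]
    rintro g ⟨hgB, hgV⟩
    obtain ⟨u, hu, h, hh, rfl⟩ := borel_decomp hfund hconj hgB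
    obtain ⟨-, -, hv1⟩ := uhv_trivial hfund hdiag hpos hneg hu hh hgV rfl
    exact hv1
  · apply le_antisymm
    · rintro g ⟨hgB, hgVH⟩
      obtain ⟨u, hu, h, hh, rfl⟩ := borel_decomp hfund hconj hgB
      obtain ⟨v, hv, h', hh', he⟩ := neg_borel_decomp hfund hconj hgVH
      have he2 : u * (h * h'⁻¹) = v := by
        rw [← mul_assoc, he, mul_assoc, mul_inv_cancel, mul_one]
      obtain ⟨hu1, -, -⟩ :=
        uhv_trivial hfund hdiag hpos hneg hu (mul_mem hh (inv_mem hh')) hv he2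
      show u * h ∈ D.diagonalSubgroup F
      rw [hu1, one_mul]
      exact hh
    · intro g hg
      exact ⟨(le_sup_right : D.diagonalSubgroup F ≤ D.borelSubgroup F) hg,
        (le_sup_right : D.diagonalSubgroup F ≤ D.negUnipotent F ⊔ D.diagonalSubgroup F) hg⟩

end Cfsg.Agent.Helper6.ChevB
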