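import Mathlib
import Cfsg.Agent.Lib.Helper6.ChevBorel

/-!
# `H` is normal in `N` (abstract part)
-/

set_option autoImplicit false

namespace Cfsg.Agent.Helper6.ChevB

open Cfsg Cfsg.Lie Cfsg.Lie.ChevalleyDatum Matrix

variable {F : Type*} [Field F] {D : ChevalleyDatum}

/-- hypothesis: the shape of S1023 -/
def HAdd (F : Type*) [Field F] (D : ChevalleyDatum) : Prop :=
  ∀ r < D.nroots, ∀ t u : F, D.x F r t * D.x F r u = D.x F r (t + u)

/-- hypothesis: a consequence of S1024 -/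
def HZero (F : Type*) [Field F] (D : ChevalleyDatum) : Prop :=
  ∀ r < D.nroots, D.x F r (0 : F) = 1

/-- table check: the Cartan integers of `-r` -/
def NegCartanOk (D : ChevalleyDatum) : Prop :=
  ∀ r < D.nroots, D.neg r < D.nroots ∧ ∀ i < D.rank, D.cartan i (D.neg r) = - D.cartan i r

instance (D : ChevalleyDatum) : Decidable (NegCartanOk D) := by unfold NegCartanOk; infer_instance

/-- the character `χ_s` of `∏ h_{p_i}(c_i)` -/
def chi (D : ChevalleyDatum) (c : ℕ → F) (l : List ℕ) (s : ℕ) : F :=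
  (l.map fun i => c i ^ D.cartan i s).prod

lemma hProd_conj_chi (hconj : HConj F D) (c : ℕ → F) (l : List ℕ) (hl : ∀ i ∈ l, i < D.rank)
    (hc : ∀ i < D.rank, c i ≠ 0) {s : ℕ} (hs : s < D.nroots) (t : F) :
    hProd D c l * D.x F s t = D.x F s (chi D c l s * t) * hProd D c l := by
  induction l generalizing t with
  | nil => simp [hProd, chi]
  | cons i l ih =>
    have hi := hl i List.mem_cons_self
    have e : hProd D c (i :: l) = D.hMat F (D.simple i) (c i) * hProd D c l := by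
      simp [hProd]
    have e2 : chi D c (i :: l) s = c i ^ D.cartan i s * chi D c l s := by
      simp [chi]
    rw [e, mul_assoc, ih (fun j hj => hl j (List.mem_cons_of_mem _ hj)) t, ← mul_assoc,
      hconj i s hi hs (c i) (hc i hi) _, mul_assoc, e2, mul_assoc]

lemma chi_ne_zero (c : ℕ → F) (l : List ℕ) (hl : ∀ i ∈ l, i < D.rank)
    (hc : ∀ i < D.rank, c i ≠ 0) (s : ℕ) : chi D c l s ≠ 0 := by
  unfold chi
  apply List.prod_ne_zero
  intro h0
  obtain ⟨i, hi, h⟩ := List.mem_map.1 h0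
  exact zpow_ne_zero _ (hc i (hl i hi)) h

lemma chi_neg (hneg : NegCartanOk D) (c : ℕ → F) (l : List ℕ) (hl : ∀ i ∈ l, i < D.rank)
    {r : ℕ} (hr : r < D.nroots) : chi D c l (D.neg r) = (chi D c l r)⁻¹ := by
  unfold chi
  induction l with
  | nil => simp
  | cons i l ih =>
    simp only [List.map_cons, List.prod_cons]
    rw [ih (fun j hj => hl j (List.mem_cons_of_mem _ hj)), (hneg r hr).2 i (hl i List.mem_cons_self),
      _root_.zpow_neg, mul_inv]

lemma nMat_eq (r : ℕ) (t : F) :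
    D.nMat F r t = D.x F r t * D.x F (D.neg r) (-t⁻¹) * D.x F r t := by
  simp [nMat, nWord, wordMat, mul_assoc]

lemma hMat_eq_nMat_mul (r : ℕ) (t : F) : D.hMat F r t = D.nMat F r t * D.nMat F r (-1) := by
  simp [hMat, hWord, nMat, wordMat]

lemma x_mul_neg (hadd : HAdd F D) (hzero : HZero F D) {r : ℕ} (hr : r < D.nroots) (t : F) :
    D.x F r t * D.x F r (-t) = 1 := by
  rw [hadd r hr, add_neg_cancel, hzero r hr]

lemma x_neg_mul (hadd : HAdd F D) (hzero : HZero F D) {r : ℕ} (hr : r < D.nroots) (t : F) :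
    D.x F r (-t) * D.x F r t = 1 := by
  rw [hadd r hr, neg_add_cancel, hzero r hr]

/-- `n_r(-1) n_r(1) = 1` -/
lemma nMat_neg_one_mul (hadd : HAdd F D) (hzero : HZero F D) (hneg : NegCartanOk D) {r : ℕ}
    (hr : r < D.nroots) : D.nMat F r (-1) * D.nMat F r 1 = 1 := by
  have hnr := (hneg r hr).1
  rw [nMat_eq, nMat_eq]
  have e1 : (-(-1 : F)⁻¹) = 1 := by
    rw [inv_neg, inv_one, neg_neg]
  have e2 : (-(1 : F)⁻¹) = -1 := by rw [inv_one]
  rw [e1, e2]
  calc D.x F r (-1) * D.x F (D.neg r) 1 * D.x F r (-1) * (D.x F r 1 * D.x F (D.neg r) (-1) * D.x F r 1)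
      = D.x F r (-1) * (D.x F (D.neg r) 1 * ((D.x F r (-1) * D.x F r 1) * D.x F (D.neg r) (-1))) *
          D.x F r 1 := by simp only [mul_assoc]
    _ = 1 := by
      rw [x_neg_mul hadd hzero hr, one_mul, x_mul_neg hadd hzero hnr, mul_one,
        x_neg_mul hadd hzero hr]

/-- `n_r(1) n_r(-1) = 1` -/
lemma nMat_one_mul_neg (hadd : HAdd F D) (hzero : HZero F D) (hneg : NegCartanOk D) {r : ℕ}
    (hr : r < D.nroots) : D.nMat F r 1 * D.nMat F r (-1) = 1 := by
  have hnr := (hneg r hr).1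
  rw [nMat_eq, nMat_eq]
  have e1 : (-(-1 : F)⁻¹) = 1 := by
    rw [inv_neg, inv_one, neg_neg]
  have e2 : (-(1 : F)⁻¹) = -1 := by rw [inv_one]
  rw [e1, e2]
  calc D.x F r 1 * D.x F (D.neg r) (-1) * D.x F r 1 * (D.x F r (-1) * D.x F (D.neg r) 1 * D.x F r (-1))
      = D.x F r 1 * (D.x F (D.neg r) (-1) * ((D.x F r 1 * D.x F r (-1)) * D.x F (D.neg r) 1)) *
          D.x F r (-1) := by simp only [mul_assoc]
    _ = 1 := by
      rw [x_mul_neg hadd hzero hr, one_mul, x_neg_mul hadd hzero hnr, mul_one,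
        x_mul_neg hadd hzero hr]

/-- `n_r(t) = h_r(t) n_r(1)` -/
lemma nMat_eq_hMat_mul (hadd : HAdd F D) (hzero : HZero F D) (hneg : NegCartanOk D) {r : ℕ}
    (hr : r < D.nroots) (t : F) : D.nMat F r t = D.hMat F r t * D.nMat F r 1 := by
  rw [hMat_eq_nMat_mul, mul_assoc, nMat_neg_one_mul hadd hzero hneg hr, mul_one]

/-- conjugating `n_r` by an element of `H` -/
lemma mem_mul_nMat (hfund : HFund F D) (hconj : HConj F D) (hadd : HAdd F D) (hzero : HZero F D)
    (hneg : NegCartanOk D) {g : GL D.Idx F} (hg : g ∈ D.diagonalSubgroup F) {r : ℕ}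
    (hr : r < D.nroots) :
    ∃ a : F, a ≠ 0 ∧ (g : Matrix D.Idx D.Idx F) * D.nMat F r 1 =
      D.hMat F r a * D.nMat F r 1 * (g : Matrix D.Idx D.Idx F) := by
  obtain ⟨c, hc, hgc⟩ := hfund g hg
  rw [wordMat_flatMap] at hgc
  have hl : ∀ i ∈ List.range D.rank, i < D.rank := fun i hi => List.mem_range.1 hi
  have hnr := (hneg r hr).1
  set a := chi D c (List.range D.rank) r with ha
  have hane : a ≠ 0 := chi_ne_zero c _ hl hc r
  refine ⟨a, hane, ?_⟩
  rw [← nMat_eq_hMat_mul hadd hzero hneg hr, hgc, nMat_eq, nMat_eq]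
  have e2 : (-(1 : F)⁻¹) = -1 := by rw [inv_one]
  rw [e2, ← mul_assoc, ← mul_assoc, hProd_conj_chi hconj c _ hl hc hr, mul_assoc (D.x F r _),
    hProd_conj_chi hconj c _ hl hc hnr, chi_neg hneg c _ hl hr, ← ha, mul_one, mul_neg, mul_one,
    ← mul_assoc, mul_assoc (D.x F r a * _), hProd_conj_chi hconj c _ hl hc hr, ← ha, mul_one,
    ← mul_assoc]

/-- the inverse of `n_r` is `n_r(-1)` -/
lemma coe_inv_of_nMat (hadd : HAdd F D) (hzero : HZero F D) (hneg : NegCartanOk D) {r : ℕ}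
    (hr : r < D.nroots) {n : GL D.Idx F} (hn : (n : Matrix D.Idx D.Idx F) = D.nMat F r 1) :
    ((n⁻¹ : GL D.Idx F) : Matrix D.Idx D.Idx F) = D.nMat F r (-1) := by
  have h1 : ((n⁻¹ : GL D.Idx F) : Matrix D.Idx D.Idx F) * (n : Matrix D.Idx D.Idx F) = 1 := by
    rw [← Units.val_mul, inv_mul_cancel, Units.val_one]
  calc ((n⁻¹ : GL D.Idx F) : Matrix D.Idx D.Idx F)
      = ((n⁻¹ : GL D.Idx F) : Matrix D.Idx D.Idx F) * (D.nMat F r 1 * D.nMat F r (-1)) := by
        rw [nMat_one_mul_neg hadd hzero hneg hr, mul_one]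
    _ = D.nMat F r (-1) := by rw [← mul_assoc, ← hn, h1, one_mul]

/-- `n_r` normalises `H` -/
theorem nMat_mem_normalizer (hfund : HFund F D) (hconj : HConj F D) (hadd : HAdd F D)
    (hzero : HZero F D) (hneg : NegCartanOk D) {r : ℕ} (hr : r < D.nroots) {n : GL D.Idx F}
    (hn : (n : Matrix D.Idx D.Idx F) = D.nMat F r 1) :
    n ∈ Subgroup.normalizer (D.diagonalSubgroup F : Set (GL D.Idx F)) := by
  have hgen : ∀ (k : GL D.Idx F) (t : F), t ≠ 0 → (k : Matrix D.Idx D.Idx F) = D.hMat F r t →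
      k ∈ D.diagonalSubgroup F := fun k t ht hk => Subgroup.subset_closure ⟨r, t, hr, ht, hk⟩
  -- (a)
  have ha : ∀ g ∈ D.diagonalSubgroup F, n * g * n⁻¹ ∈ D.diagonalSubgroup F := by
    intro g hg
    obtain ⟨a, hane, he⟩ := mem_mul_nMat hfund hconj hadd hzero hneg (inv_mem hg) hr
    have hk : g⁻¹ * n * g * n⁻¹ ∈ D.diagonalSubgroup F := by
      apply hgen _ a hane
      have h1 : ((g⁻¹ * n : GL D.Idx F) : Matrix D.Idx D.Idx F) =
          D.hMat F r a * (n : Matrix D.Idx D.Idx F) * ((g⁻¹ : GL D.Idx F) : Matrix D.Idx D.Idx F) := by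
        rw [Units.val_mul, hn, he]
      have h2 : (g⁻¹ * n * g * n⁻¹ : GL D.Idx F) = (g⁻¹ * n) * g * n⁻¹ := rfl
      rw [h2, Units.val_mul, Units.val_mul, h1, mul_assoc (D.hMat F r a * _), ← Units.val_mul,
        inv_mul_cancel, Units.val_one, mul_one, mul_assoc, ← Units.val_mul, mul_inv_cancel,
        Units.val_one, mul_one]
    have : n * g * n⁻¹ = g * (g⁻¹ * n * g * n⁻¹) := by group
    rw [this]
    exact mul_mem hg hk
  -- (b)
  have hb : n⁻¹ * n⁻¹ ∈ D.diagonalSubgroup F := by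
    apply hgen _ (-1) (neg_ne_zero.2 one_ne_zero)
    rw [Units.val_mul, coe_inv_of_nMat hadd hzero hneg hr hn, hMat_eq_nMat_mul]
  -- (c)
  have hc : ∀ g ∈ D.diagonalSubgroup F, n⁻¹ * g * n ∈ D.diagonalSubgroup F := by
    intro g hg
    have h1 : (n⁻¹ * n⁻¹) * g * (n⁻¹ * n⁻¹)⁻¹ ∈ D.diagonalSubgroup F :=
      mul_mem (mul_mem hb hg) (inv_mem hb)
    have h2 := ha _ h1
    have : n * ((n⁻¹ * n⁻¹) * g * (n⁻¹ * n⁻¹)⁻¹) * n⁻¹ = n⁻¹ * g * n := by group
    rwa [this] at h2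
  rw [Subgroup.mem_normalizer_iff]
  intro g
  constructor
  · exact ha g
  · intro h
    have := hc _ h
    have e : n⁻¹ * (n * g * n⁻¹) * n = g := by group
    rwa [e] at this

/-- `H` is normal in `N` -/
theorem diagonal_normal_monomial (hfund : HFund F D) (hconj : HConj F D) (hadd : HAdd F D)
    (hzero : HZero F D) (hneg : NegCartanOk D) :
    ((D.diagonalSubgroup F).subgroupOf (D.monomialSubgroup F)).Normal := by
  apply Subgroup.normal_subgroupOf_of_le_normalizer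
  unfold monomialSubgroup
  apply sup_le Subgroup.le_normalizer
  rw [Subgroup.closure_le]
  rintro n ⟨r, hr, hn⟩
  exact nMat_mem_normalizer hfund hconj hadd hzero hneg hr hn

end Cfsg.Agent.Helper6.ChevB
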