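import Mathlib
import Cfsg.Agent.Lib.Helper6.ChevNormal

/-!
# `B ≤ G`, `N ≤ G` and `B ⊔ N = G` (abstract part)
-/

set_option autoImplicit false

namespace Cfsg.Agent.Helper6.ChevB

open Cfsg Cfsg.Lie Cfsg.Lie.ChevalleyDatum Matrix

variable {F : Type*} [Field F] {D : ChevalleyDatum}

/-- table check: every root is positive or the negative of a positive root -/
def PosNegOk (D : ChevalleyDatum) : Prop :=
  ∀ r < D.nroots, D.IsPosRoot r ∨ (D.IsPosRoot (D.neg r) ∧ D.neg (D.neg r) = r)

instance (D : ChevalleyDatum) : Decidable (PosNegOk D) := by unfold PosNegOk; infer_instance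

/-- the root element as a unit -/
def xU (hadd : HAdd F D) (hzero : HZero F D) (r : ℕ) (hr : r < D.nroots) (t : F) : GL D.Idx F where
  val := D.x F r t
  inv := D.x F r (-t)
  val_inv := x_mul_neg hadd hzero hr t
  inv_val := x_neg_mul hadd hzero hr t

lemma xU_mem_group (hadd : HAdd F D) (hzero : HZero F D) (r : ℕ) (hr : r < D.nroots) (t : F) :
    xU hadd hzero r hr t ∈ D.group F := by
  apply Subgroup.subset_closure
  refine ⟨⟨r, hr⟩, t, ?_⟩
  show D.x F r t = _
  unfold ChevalleyDatum.x
  rw [dif_pos hr]

/-- an invertible matrix which is a word in root elements lies in the Chevalley group -/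
lemma word_mem_group (hadd : HAdd F D) (hzero : HZero F D) (w : List (ℕ × F)) :
    ∀ g : GL D.Idx F, (g : Matrix D.Idx D.Idx F) = D.wordMat F w → g ∈ D.group F := by
  induction w with
  | nil =>
    intro g hg
    have : g = 1 := Units.ext (by rw [hg, wordMat_nil, Units.val_one])
    rw [this]
    exact one_mem _
  | cons p w ih =>
    intro g hg
    have hw : D.wordMat F (p :: w) = D.x F p.1 p.2 * D.wordMat F w := by
      simp [wordMat]
    by_cases hr : p.1 < D.nroots
    · have h1 : (xU hadd hzero p.1 hr p.2)⁻¹ * g ∈ D.group F := by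
        apply ih
        rw [Units.val_mul, hg, hw, ← mul_assoc]
        show D.x F p.1 (-p.2) * D.x F p.1 p.2 * _ = _
        rw [x_neg_mul hadd hzero hr, one_mul]
      have : g = xU hadd hzero p.1 hr p.2 * ((xU hadd hzero p.1 hr p.2)⁻¹ * g) := by group
      rw [this]
      exact mul_mem (xU_mem_group hadd hzero _ hr _) h1
    · apply ih
      rw [hg, hw]
      unfold ChevalleyDatum.x
      rw [dif_neg hr, one_mul]

theorem group_facts (hadd : HAdd F D) (hzero : HZero F D)
    (hneg : NegCartanOk D) (hpn : PosNegOk D) :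
    D.borelSubgroup F ≤ D.group F ∧ D.monomialSubgroup F ≤ D.group F ∧
      D.borelSubgroup F ⊔ D.monomialSubgroup F = D.group F := by
  have hH : D.diagonalSubgroup F ≤ D.group F := by
    unfold diagonalSubgroup
    rw [Subgroup.closure_le]
    rintro g ⟨r, t, -, -, hg⟩
    exact word_mem_group hadd hzero _ g hg
  have hU : D.posUnipotent F ≤ D.group F := by
    unfold posUnipotent
    rw [Subgroup.closure_le]
    rintro g ⟨r, t, -, hg⟩
    apply word_mem_group hadd hzero [(r, t)] g
    rw [hg]
    simp [wordMat]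
  have hB : D.borelSubgroup F ≤ D.group F := sup_le hU hH
  have hN : D.monomialSubgroup F ≤ D.group F := by
    unfold monomialSubgroup
    apply sup_le hH
    rw [Subgroup.closure_le]
    rintro g ⟨r, -, hg⟩
    exact word_mem_group hadd hzero _ g hg
  refine ⟨hB, hN, le_antisymm (sup_le hB hN) ?_⟩
  -- every root element lies in `B ⊔ N`
  unfold ChevalleyDatum.group
  rw [Subgroup.closure_le]
  rintro g ⟨r, t, hg⟩
  have hgx : (g : Matrix D.Idx D.Idx F) = D.x F r.val t := by
    rw [hg]
    unfold ChevalleyDatum.x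
    rw [dif_pos r.2]
  have hUle : D.posUnipotent F ≤ D.borelSubgroup F ⊔ D.monomialSubgroup F :=
    le_trans le_sup_left le_sup_left
  have hHle : D.diagonalSubgroup F ≤ D.borelSubgroup F ⊔ D.monomialSubgroup F :=
    le_trans le_sup_right le_sup_left
  rcases hpn r.val r.2 with hpos | ⟨hpos, hnn⟩
  · exact hUle (Subgroup.subset_closure ⟨r.val, t, hpos, hgx⟩)
  · -- `r = -s` with `s` positive
    set s := D.neg r.val with hs
    have hsn : s < D.nroots := hpos.1
    by_cases ht : t = 0
    · have : g = 1 := Units.ext (by rw [hgx, ht, hzero r.val r.2, Units.val_one])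
      rw [this]
      exact one_mem _
    · -- `x_{-s}(t) = x_s(t⁻¹) n_s(-t⁻¹) x_s(t⁻¹)`
      set u : F := -t⁻¹ with hu
      have hune : u ≠ 0 := neg_ne_zero.2 (inv_ne_zero ht)
      have hut : -u⁻¹ = t := by
        rw [hu, inv_neg, inv_inv, neg_neg]
      -- the units involved
      let xs : GL D.Idx F := xU hadd hzero s hsn u
      let nU : GL D.Idx F := xs * g * xs
      have hnU : (nU : Matrix D.Idx D.Idx F) = D.nMat F s u := by
        rw [nMat_eq, hnn, hut]
        show D.x F s u * (g : Matrix D.Idx D.Idx F) * D.x F s u = _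
        rw [hgx]
      have hxs : xs ∈ D.borelSubgroup F ⊔ D.monomialSubgroup F :=
        hUle (Subgroup.subset_closure ⟨s, u, hpos, rfl⟩)
      -- `n_s(u) = h_s(u) n_s(1)`
      have hnmem : nU ∈ D.borelSubgroup F ⊔ D.monomialSubgroup F := by
        let n1 : GL D.Idx F :=
          xU hadd hzero s hsn 1 * xU hadd hzero (D.neg s) (hneg s hsn).1 (-(1 : F)⁻¹) *
            xU hadd hzero s hsn 1
        have hn1 : (n1 : Matrix D.Idx D.Idx F) = D.nMat F s 1 := by
          rw [nMat_eq]
          rfl
        have hn1mem : n1 ∈ D.monomialSubgroup F := by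
          apply (le_sup_right : _ ≤ D.monomialSubgroup F)
          exact Subgroup.subset_closure ⟨s, hsn, hn1⟩
        have hh : nU * n1⁻¹ ∈ D.diagonalSubgroup F := by
          apply Subgroup.subset_closure
          refine ⟨s, u, hsn, hune, ?_⟩
          rw [Units.val_mul, hnU, coe_inv_of_nMat hadd hzero hneg hsn hn1, hMat_eq_nMat_mul]
        have : nU = (nU * n1⁻¹) * n1 := by group
        rw [this]
        exact mul_mem (hHle hh) ((le_sup_right : D.monomialSubgroup F ≤ _) hn1mem)
      have : g = xs⁻¹ * nU * xs⁻¹ := by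
        show g = xs⁻¹ * (xs * g * xs) * xs⁻¹
        group
      rw [this]
      exact mul_mem (mul_mem (inv_mem hxs) hnmem) (inv_mem hxs)

end Cfsg.Agent.Helper6.ChevB
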