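import Mathlib
import Cfsg.Agent.Lib.Helper6.ChevGraphAut
import Cfsg.Prelude.Def_ChevD4

/-!
# Data of the graph automorphism of type D4, symmetry [3, 1, 0, 2]
-/

set_option autoImplicit false
set_option maxRecDepth 100000

namespace Cfsg.Agent.Helper6.ChevC.GD4b

open Cfsg Cfsg.Lie Cfsg.Agent.Lead.Chev Cfsg.Agent.Helper6.ChevT Cfsg.Agent.Helper6.ChevN

/-- the permutation of the roots -/
def piL : List ℕ := [0, 1, 3, 6, 8, 11, 2, 4, 7, 9, 5, 10, 13, 18, 14, 16, 19, 21, 12, 15, 17, 20, 22, 23]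
/-- the inverse permutation of the roots -/
def piInvL : List ℕ := [0, 1, 6, 2, 7, 10, 3, 8, 4, 9, 11, 5, 18, 12, 14, 19, 15, 20, 13, 16, 21, 17, 22, 23]
/-- the symmetry of the diagram -/
def rhoL : List ℕ := [3, 1, 0, 2]
/-- the inverse symmetry of the diagram -/
def rhoInvL : List ℕ := [2, 1, 3, 0]
/-- the signs -/
def mask : ℕ := 1769688
/-- the signs of the inverse -/
def maskInv : ℕ := 2785620

/-- the signed permutation -/
def gp : GP := ⟨fun v => piL.getD v 0, sgn mask, fun j => rhoL.getD j 0⟩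
/-- the inverse signed permutation -/
def gpInv : GP := ⟨fun v => piInvL.getD v 0, sgn maskInv, fun j => rhoInvL.getD j 0⟩

theorem ok : GPOk chevD4 gp := by
  refine ⟨?_, ?_, ?_⟩
  · decide +kernel
  · decide +kernel
  · decide +kernel

theorem inv1 : GPInv chevD4 gp gpInv := by
  refine ⟨?_, ?_, ?_, ?_, ?_⟩ <;> decide +kernel

theorem inv2 : GPInv chevD4 gpInv gp := by
  refine ⟨?_, ?_, ?_, ?_, ?_⟩ <;> decide +kernel

theorem conj : ∀ s < chevD4.nroots, conjOk chevD4 gp.sp s = true := by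
  decide +kernel

theorem data : GraphData chevD4 gp gpInv :=
  ⟨ok, inv1, inv2, fun v => sgn_eq _ _, conj⟩

theorem simple_lt : ∀ i < chevD4.rank, chevD4.simple i < chevD4.nroots := by
  decide +kernel

theorem neg_simple_lt : ∀ i < chevD4.rank, chevD4.neg (chevD4.simple i) < chevD4.nroots := by
  decide +kernel

theorem pi_simple : ∀ i < chevD4.rank, gp.π (chevD4.simple i) = chevD4.simple (rhoL.getD i 0) := by
  decide +kernel

theorem eps_simple : ∀ i < chevD4.rank, gp.ε (chevD4.simple i) = 1 := by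
  decide +kernel

theorem pi_neg_simple : ∀ i < chevD4.rank, gp.π (chevD4.neg (chevD4.simple i)) =
    chevD4.neg (chevD4.simple (rhoL.getD i 0)) := by
  decide +kernel

theorem eps_neg_simple : ∀ i < chevD4.rank, gp.ε (chevD4.neg (chevD4.simple i)) = 1 := by
  decide +kernel

end Cfsg.Agent.Helper6.ChevC.GD4b
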