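import Mathlib
import Cfsg.Agent.Lib.Helper6.ChevLTriv
import Cfsg.Agent.Lib.Lead.ChevFactsAll
import Cfsg.Agent.Lib.Lead.ChevWsTab
import Cfsg.Agent.Lib.Lead.ChevWeylTab
import Cfsg.Agent.S0320

/-!
`N / H` is the Coxeter group of the type: assembly from the `(B, N)`-pair (helper2's S0320) and a
table check of the orders of the products of two fundamental reflections on the roots.
-/

set_option autoImplicit false

namespace Cfsg.Agent.Helper6.ChevL

open Cfsg Cfsg.Lie Cfsg.Agent.Lead.Chev Cfsg.Agent.Helper2.BN Cfsg.Agent.Helper2.WordLen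

/-- the word `(i j)^k` -/
def pw (i j k : ℕ) : List ℕ := (List.replicate k [i, j]).flatten

theorem pw_zero (i j : ℕ) : pw i j 0 = [] := rfl

theorem pw_succ (i j k : ℕ) : pw i j (k + 1) = [i, j] ++ pw i j k := by
  unfold pw
  rw [List.replicate_succ, List.flatten_cons]

theorem mem_pw (i j k x : ℕ) (hx : x ∈ pw i j k) : x = i ∨ x = j := by
  induction k with
  | zero => simp [pw_zero] at hx
  | succ k ih =>
    rw [pw_succ] at hx
    simp only [List.cons_append, List.nil_append, List.mem_cons] at hx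
    rcases hx with h | h | h
    · exact Or.inl h
    · exact Or.inr h
    · exact ih h

/-- the table check: `(w_i w_j)^k` fixes all roots exactly when `M i j ∣ k`, for `k ≤ M i j` -/
def coxChk (D : ChevalleyDatum) (Ws : List ℕ) (n : ℕ) (M : Fin n → Fin n → ℕ) : Bool :=
  (List.finRange n).all fun i => (List.finRange n).all fun j =>
    decide (0 < M i j) &&
    ((List.range D.nroots).all fun r => reflWordP Ws (pw i.val j.val (M i j)) r == r) &&
    ((List.range (M i j)).all fun k => k == 0 ||
      (List.range D.nroots).any fun r => reflWordP Ws (pw i.val j.val k) r != r)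

variable {F : Type*} [Field F]

theorem nWordGL_pw (D : ChevalleyDatum) (hX : XAdd D F) (i j k : ℕ) :
    nWordGL D hX (pw i j k) = (nGL D hX (D.simple i) * nGL D hX (D.simple j)) ^ k := by
  induction k with
  | zero => rw [pw_zero, nWordGL_nil, pow_zero]
  | succ k ih =>
    rw [pw_succ, nWordGL_append, ih, pow_succ', nWordGL_cons, nWordGL_cons, nWordGL_nil, mul_one]

theorem main (D : ChevalleyDatum)
    (hD : D ∈ [chevG2, chevB2, chevD4, chevF4, chevE6, chevE7, chevE8]) (n : ℕ) (hn : D.rank = n)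
    (M : CoxeterMatrix (Fin n)) (hchk : coxChk D (wsOf D) n (fun i j => M i j) = true) :
    ∃ φ : ↥(D.monomialSubgroup F) →* M.Group, Function.Surjective φ ∧
      φ.ker = (D.diagonalSubgroup F).subgroupOf (D.monomialSubgroup F) ∧
      ∀ (i : Fin n) (g : ↥(D.monomialSubgroup F)),
        ((g : GL D.Idx F) : Matrix D.Idx D.Idx F) = D.nMat F (D.simple i) 1 → φ g = M.simple i := by
  classical
  subst hn
  have hF : ChevFacts D F := chevFacts_of_mem (F := F) D hD
  have hWs := wsTab_of_mem D hD
  -- unpack the table check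
  have hall : ∀ i j : Fin D.rank, 0 < M i j ∧
      (∀ r < D.nroots, reflWord D (pw i.val j.val (M i j)) r = r) ∧
      (∀ k, 0 < k → k < M i j → ∃ r < D.nroots, reflWord D (pw i.val j.val k) r ≠ r) := by
    intro i j
    unfold coxChk at hchk
    rw [List.all_eq_true] at hchk
    have h1 := hchk i (List.mem_finRange i)
    rw [List.all_eq_true] at h1
    have h2 := h1 j (List.mem_finRange j)
    simp only [Bool.and_eq_true, decide_eq_true_eq, List.all_eq_true, List.mem_range,
      beq_iff_eq, Bool.or_eq_true, List.any_eq_true, bne_iff_ne, ne_eq] at h2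
    have hpw : ∀ k, ∀ x ∈ pw i.val j.val k, x < D.rank := by
      intro k x hx
      rcases mem_pw _ _ _ _ hx with h | h
      · rw [h]; exact i.2
      · rw [h]; exact j.2
    refine ⟨h2.1.1, ?_, ?_⟩
    · intro r hr
      rw [← reflWordP_eq D (etaOf D) hF.facts (wsOf D) hWs _ (hpw _) r hr]
      exact h2.1.2 r hr
    · intro k hk0 hk
      rcases h2.2 k hk with h | ⟨r, hr, hne⟩
      · omega
      · exact ⟨r, hr, by
          rw [← reflWordP_eq D (etaOf D) hF.facts (wsOf D) hWs _ (hpw _) r hr]; exact hne⟩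
  -- the (B, N)-pair and its Coxeter system
  obtain ⟨cs, hcs⟩ := exists_coxeterSystem (σ hF.bnPair) (σ_mul_self hF.bnPair) (wp_surj hF.bnPair)
    (Cfsg.Agent.S0320.exchange' hF.bnPair) (σ_injective hF.bnPair)
  -- the distinguished generators
  have hnG : ∀ i : Fin D.rank, nGL D hF.xadd (D.simple i) ∈ D.group F :=
    fun i => nGL_mem_group D hF.xadd _
  have hnS : ∀ i : Fin D.rank, (⟨nGL D hF.xadd (D.simple i), hnG i⟩ : ↥(D.group F)) ∈ hF.bnPair.S :=
    fun i => ⟨i.val, i.2, nGL_val D hF.xadd _⟩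
  let sS : Fin D.rank → hF.bnPair.S := fun i => ⟨⟨nGL D hF.xadd (D.simple i), hnG i⟩, hnS i⟩
  have sS_inj : Function.Injective sS := by
    intro i j hij
    have e : nGL D hF.xadd (D.simple i) = nGL D hF.xadd (D.simple j) := by
      have := congrArg (fun s : hF.bnPair.S => ((s : ↥(D.group F)) : GL D.Idx F)) hij
      exact this
    apply Fin.ext
    apply hF.eq_of_nGL_inv_mul_mem_borel i.val j.val i.2 j.2
    rw [e, inv_mul_cancel]
    exact one_mem _
  have sS_surj : Function.Surjective sS := by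
    rintro ⟨s, i, hi, hs⟩
    refine ⟨⟨i, hi⟩, ?_⟩
    apply Subtype.ext
    apply Subtype.ext
    apply Units.ext
    show ((nGL D hF.xadd (D.simple i) : GL D.Idx F) : Matrix D.Idx D.Idx F) = _
    rw [nGL_val, hs]
  let e : Fin D.rank ≃ hF.bnPair.S := Equiv.ofBijective sS ⟨sS_inj, sS_surj⟩
  have he : ∀ i, e i = sS i := fun i => rfl
  -- the orders of the products of two generators
  have hM : ∀ i j : Fin D.rank,
      (coxMat (σ hF.bnPair) (σ_mul_self hF.bnPair) (σ_injective hF.bnPair)).M (e i) (e j) = M i j := by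
    intro i j
    obtain ⟨h0, h1, h2⟩ := hall i j
    rw [coxMat_apply, he, he]
    have hpw : ∀ k, ∀ x ∈ pw i.val j.val k, x < D.rank := by
      intro k x hx
      rcases mem_pw _ _ _ _ hx with h | h
      · rw [h]; exact i.2
      · rw [h]; exact j.2
    have key : ∀ k : ℕ, (σ hF.bnPair (sS i) * σ hF.bnPair (sS j)) ^ k = 1 ↔
        nWordGL D hF.xadd (pw i.val j.val k) ∈ D.borelSubgroup F := by
      intro k
      unfold σ
      rw [← map_mul, ← map_pow, π_eq_one_iff, nWordGL_pw]
      rfl
    rw [orderOf_eq_iff h0]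
    refine ⟨?_, ?_⟩
    · rw [key]
      exact diagonal_le_borel D (nWordGL_mem_diagonal_of_fix hF _ (hpw _) h1)
    · intro k hk hk0 hone
      rw [key] at hone
      obtain ⟨r, hr, hne⟩ := h2 k hk0 hk
      exact hne (fix_of_nWordGL_mem_borel hF _ (hpw _) hone r hr)
  have hMeq : (coxMat (σ hF.bnPair) (σ_mul_self hF.bnPair) (σ_injective hF.bnPair)).reindex e.symm = M := by
    apply CoxeterMatrix.ext
    ext i j
    show (coxMat (σ hF.bnPair) (σ_mul_self hF.bnPair) (σ_injective hF.bnPair)).reindex e.symm i j = M i j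
    rw [CoxeterMatrix.reindex_apply, Equiv.symm_symm]
    exact hM i j
  subst hMeq
  -- the homomorphism
  have hle : D.monomialSubgroup F ≤ D.group F := hF.monomial_le_group
  let ι : ↥(D.monomialSubgroup F) →* ↥hF.bnPair.N :=
    { toFun := fun x => ⟨⟨x.1, hle x.2⟩, x.2⟩
      map_one' := rfl
      map_mul' := fun _ _ => rfl }
  let cs' := cs.reindex e.symm
  refine ⟨cs'.mulEquiv.toMonoidHom.comp ((π hF.bnPair).comp ι), ?_, ?_, ?_⟩
  · apply Function.Surjective.comp cs'.mulEquiv.surjective
    apply Function.Surjective.comp (π_surj hF.bnPair)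
    rintro ⟨⟨y, hyG⟩, hy⟩
    exact ⟨⟨y, hy⟩, rfl⟩
  · ext x
    rw [MonoidHom.mem_ker, Subgroup.mem_subgroupOf]
    show cs'.mulEquiv (π hF.bnPair (ι x)) = 1 ↔ _
    rw [MulEquiv.map_eq_one_iff, π_eq_one_iff]
    show (x : GL D.Idx F) ∈ D.borelSubgroup F ↔ _
    constructor
    · intro h
      have h' : (x : GL D.Idx F) ∈ D.borelSubgroup F ⊓ D.monomialSubgroup F := ⟨h, x.2⟩
      rw [hF.borel_inf_monomial] at h'
      exact h'
    · intro h
      exact diagonal_le_borel D h
  · intro i g hg
    show cs'.mulEquiv (π hF.bnPair (ι g)) = _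
    have e1 : π hF.bnPair (ι g) = cs'.simple i := by
      rw [CoxeterSystem.reindex_simple, Equiv.symm_symm, hcs, he]
      unfold σ
      congr 1
      apply Subtype.ext
      apply Subtype.ext
      apply Units.ext
      show ((g : GL D.Idx F) : Matrix D.Idx D.Idx F) = ((nGL D hF.xadd (D.simple i) : GL D.Idx F) : Matrix D.Idx D.Idx F)
      rw [hg, nGL_val]
    rw [e1]
    exact cs'.mulEquiv.apply_symm_apply _

end Cfsg.Agent.Helper6.ChevL
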