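import Mathlib
import Cfsg.Agent.Lib.Helper6.ChevLCox
import Cfsg.Prelude.Def_ChevStructure

/-!
The table checks for `N / H ≅ W`: orders of `w_i w_j` on the roots against Mathlib's Coxeter matrices.
-/

set_option autoImplicit false

namespace Cfsg.Agent.Helper6.ChevL

open Cfsg Cfsg.Lie Cfsg.Agent.Lead.Chev

theorem coxOK_G2 : coxChk chevG2 commWs_G2 2 (fun i j => CoxeterMatrix.G₂ i j) = true := by
  decide +kernel

theorem coxOK_B2 : coxChk chevB2 commWs_B2 2 (fun i j => CoxeterMatrix.B 2 i j) = true := by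
  decide +kernel

theorem coxOK_D4 : coxChk chevD4 commWs_D4 4 (fun i j => Cfsg.Lie.coxeterD4 i j) = true := by
  decide +kernel

theorem coxOK_F4 : coxChk chevF4 commWs_F4 4 (fun i j => CoxeterMatrix.F₄ i j) = true := by
  decide +kernel

theorem coxOK_E6 : coxChk chevE6 commWs_E6 6 (fun i j => CoxeterMatrix.E₆ i j) = true := by
  decide +kernel

theorem coxOK_E7 : coxChk chevE7 commWs_E7 7 (fun i j => CoxeterMatrix.E₇ i j) = true := by
  decide +kernel

theorem coxOK_E8 : coxChk chevE8 commWs_E8 8 (fun i j => CoxeterMatrix.E₈ i j) = true := by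
  decide +kernel

end Cfsg.Agent.Helper6.ChevL
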