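import Mathlib
import Cfsg.Agent.Lib.Helper6.ChevNormal
import Cfsg.Agent.Lib.Helper6.ChevGen
import Cfsg.Prelude.Def_LieTypes
import Cfsg.Prelude.Def_ChevB2

/-!
# Table checks for the seven Chevalley data
-/

set_option autoImplicit false

namespace Cfsg.Agent.Helper6.ChevB

open Cfsg Cfsg.Lie

theorem negCartanOk_G2 : NegCartanOk chevG2 := by decide +kernel
theorem negCartanOk_B2 : NegCartanOk chevB2 := by decide +kernel
theorem negCartanOk_D4 : NegCartanOk chevD4 := by decide +kernel
theorem negCartanOk_F4 : NegCartanOk chevF4 := by decide +kernel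
theorem negCartanOk_E6 : NegCartanOk chevE6 := by decide +kernel
theorem negCartanOk_E7 : NegCartanOk chevE7 := by decide +kernel
theorem negCartanOk_E8 : NegCartanOk chevE8 := by decide +kernel

theorem negCartanOk_of_mem (D : ChevalleyDatum)
    (hD : D ∈ [chevG2, chevB2, chevD4, chevF4, chevE6, chevE7, chevE8]) : NegCartanOk D := by
  simp only [List.mem_cons, List.mem_nil_iff, or_false] at hD
  rcases hD with rfl | rfl | rfl | rfl | rfl | rfl | rfl
  · exact negCartanOk_G2
  · exact negCartanOk_B2
  · exact negCartanOk_D4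
  · exact negCartanOk_F4
  · exact negCartanOk_E6
  · exact negCartanOk_E7
  · exact negCartanOk_E8

theorem posNegOk_G2 : PosNegOk chevG2 := by decide +kernel
theorem posNegOk_B2 : PosNegOk chevB2 := by decide +kernel
theorem posNegOk_D4 : PosNegOk chevD4 := by decide +kernel
theorem posNegOk_F4 : PosNegOk chevF4 := by decide +kernel
theorem posNegOk_E6 : PosNegOk chevE6 := by decide +kernel
theorem posNegOk_E7 : PosNegOk chevE7 := by decide +kernel
theorem posNegOk_E8 : PosNegOk chevE8 := by decide +kernel

theorem posNegOk_of_mem (D : ChevalleyDatum)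
    (hD : D ∈ [chevG2, chevB2, chevD4, chevF4, chevE6, chevE7, chevE8]) : PosNegOk D := by
  simp only [List.mem_cons, List.mem_nil_iff, or_false] at hD
  rcases hD with rfl | rfl | rfl | rfl | rfl | rfl | rfl
  · exact posNegOk_G2
  · exact posNegOk_B2
  · exact posNegOk_D4
  · exact posNegOk_F4
  · exact posNegOk_E6
  · exact posNegOk_E7
  · exact posNegOk_E8

end Cfsg.Agent.Helper6.ChevB
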