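import Mathlib

/-!
# A verified Todd–Coxeter certificate checker (upper bounds for groups generated by involutions)
-/

namespace Cfsg.Agent.Helper6.TC

open Subgroup

variable {W : Type*} [Group W]

/-- product of the word `r` under `g` -/
def wp {M : Type*} [Monoid M] (g : ℕ → M) (r : List ℕ) : M := (r.map g).prod

@[simp] lemma wp_nil {M : Type*} [Monoid M] (g : ℕ → M) : wp g [] = 1 := by simp [wp]
@[simp] lemma wp_cons {M : Type*} [Monoid M] (g : ℕ → M) (a : ℕ) (r : List ℕ) :
    wp g (a :: r) = g a * wp g r := by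
  simp [wp]
lemma wp_append {M : Type*} [Monoid M] (g : ℕ → M) (r r' : List ℕ) :
    wp g (r ++ r') = wp g r * wp g r' := by
  simp [wp]

/-- follow the word `r` in the table `T` from `c` -/
def walk (T : ℕ → ℕ → ℕ) : List ℕ → ℕ → ℕ
  | [], c => c
  | a :: r, c => walk T r (T a c)

@[simp] lemma walk_nil (T : ℕ → ℕ → ℕ) (c : ℕ) : walk T [] c = c := rfl
@[simp] lemma walk_cons (T : ℕ → ℕ → ℕ) (a : ℕ) (r : List ℕ) (c : ℕ) :
    walk T (a :: r) c = walk T r (T a c) := rfl
lemma walk_append (T : ℕ → ℕ → ℕ) (r r' : List ℕ) (c : ℕ) :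
    walk T (r ++ r') c = walk T r' (walk T r c) := by
  induction r generalizing c with
  | nil => rfl
  | cons a r ih => simp [ih]

/-- the relator word `(i j)^m` -/
def relWord (m i j : ℕ) : List ℕ := (List.replicate m [i, j]).flatten

lemma relWord_succ (m i j : ℕ) : relWord (m + 1) i j = i :: j :: relWord m i j := by
  simp [relWord, List.replicate_succ]

lemma wp_relWord (g : ℕ → W) (m i j : ℕ) : wp g (relWord m i j) = (g i * g j) ^ m := by
  induction m with
  | zero => simp [relWord]
  | succ m ih => rw [relWord_succ, wp_cons, wp_cons, ih, pow_succ', mul_assoc]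

lemma mem_relWord {m i j a : ℕ} (h : a ∈ relWord m i j) : a = i ∨ a = j := by
  induction m with
  | zero => simp [relWord] at h
  | succ m ih =>
    rw [relWord_succ] at h
    simp only [List.mem_cons] at h
    rcases h with h | h | h
    · exact Or.inl h
    · exact Or.inr h
    · exact ih h

/-- The three kinds of certificate steps. -/
inductive Act
  | base (s : ℕ)
  | tree (c : ℕ)
  | rel (i j c0 pos : ℕ)

/-- Data of one level: a coset table for `ng` generators on `N` cosets of the subgroup generated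
by the first `ng - 1` generators, a spanning tree (`par`, `lab`), and a list of deduction steps. -/
structure Level where
  N : ℕ
  ng : ℕ
  T : ℕ → ℕ → ℕ
  par : ℕ → ℕ
  lab : ℕ → ℕ
  acts : List (List Act)

/-- coset representatives defined by the tree -/
noncomputable def rep (L : Level) (g : ℕ → W) : ℕ → W
  | 0 => 1
  | c + 1 => rep L g (min (L.par (c + 1)) c) * g (L.lab (c + 1))
termination_by c => c
decreasing_by omega

lemma rep_zero (L : Level) (g : ℕ → W) : rep L g 0 = 1 := by
  rw [rep]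

lemma rep_of_lt (L : Level) (g : ℕ → W) {c : ℕ} (h0 : 0 < c) (h : L.par c < c) :
    rep L g c = rep L g (L.par c) * g (L.lab c) := by
  obtain ⟨c, rfl⟩ : ∃ d, c = d + 1 := ⟨c - 1, by omega⟩
  rw [rep]
  congr 2
  omega

/-- the Schreier generator of the edge `(c, s)` -/
noncomputable def edge (L : Level) (g : ℕ → W) (c s : ℕ) : W :=
  rep L g c * g s * (rep L g (L.T s c))⁻¹

/-- the subgroup generated by the first `k` generators -/
def Hk (g : ℕ → W) (k : ℕ) : Subgroup W := closure (g '' Set.Iio k)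

lemma Hk_mono (g : ℕ → W) {k l : ℕ} (h : k ≤ l) : Hk g k ≤ Hk g l :=
  closure_mono (Set.image_mono (Set.Iio_subset_Iio h))

lemma gen_mem_Hk (g : ℕ → W) {s k : ℕ} (h : s < k) : g s ∈ Hk g k :=
  subset_closure ⟨s, h, rfl⟩

/-- the invariant: every edge recorded in the bitmask `K` has its Schreier generator in `H'` -/
def Good (L : Level) (g : ℕ → W) (K : ℕ) : Prop :=
  ∀ c < L.N, ∀ s < L.ng, K.testBit (c * L.ng + s) = true → edge L g c s ∈ Hk g (L.ng - 1)

def Closed (L : Level) : Prop := ∀ c < L.N, ∀ s < L.ng, L.T s c < L.N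

/-- all edges along the walk of `r` from `c` are recorded in `K` -/
def allKnown (L : Level) (K : ℕ) : List ℕ → ℕ → Bool
  | [], _ => true
  | a :: r, c => decide (a < L.ng) && K.testBit (c * L.ng + a) && allKnown L K r (L.T a c)

lemma path_mem (L : Level) (g : ℕ → W) (K : ℕ) (hcl : Closed L) (hK : Good L g K)
    (r : List ℕ) (c : ℕ) (hc : c < L.N) (h : allKnown L K r c = true) :
    rep L g c * wp g r * (rep L g (walk L.T r c))⁻¹ ∈ Hk g (L.ng - 1) ∧ walk L.T r c < L.N := by
  induction r generalizing c with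
  | nil => simp [hc]
  | cons a r ih =>
    simp only [allKnown, Bool.and_eq_true, decide_eq_true_eq] at h
    obtain ⟨⟨ha, hbit⟩, hr⟩ := h
    have h1 := hK c hc a ha hbit
    have hlt := hcl c hc a ha
    obtain ⟨h2, h3⟩ := ih (L.T a c) hlt hr
    refine ⟨?_, h3⟩
    have : rep L g c * wp g (a :: r) * (rep L g (walk L.T (a :: r) c))⁻¹
        = edge L g c a * (rep L g (L.T a c) * wp g r * (rep L g (walk L.T r (L.T a c)))⁻¹) := by
      simp only [edge, wp_cons, walk_cons]
      group
    rw [this]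
    exact mul_mem h1 h2


lemma enc_inj {ng c s c' s' : ℕ} (hs : s < ng) (hs' : s' < ng) (h : c * ng + s = c' * ng + s') :
    c = c' ∧ s = s' := by
  have h1 : (c * ng + s) / ng = c := by
    rw [Nat.add_comm, Nat.add_mul_div_right _ _ (by omega), Nat.div_eq_of_lt hs, Nat.zero_add]
  have h2 : (c' * ng + s') / ng = c' := by
    rw [Nat.add_comm, Nat.add_mul_div_right _ _ (by omega), Nat.div_eq_of_lt hs', Nat.zero_add]
  have hc : c = c' := by rw [← h1, ← h2, h]
  subst hc
  exact ⟨rfl, by omega⟩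

lemma testBit_set (K e i : ℕ) : (K ||| 1 <<< e).testBit i = (K.testBit i || decide (e = i)) := by
  rw [Nat.testBit_or, Nat.one_shiftLeft, Nat.testBit_two_pow]

lemma good_set (L : Level) (g : ℕ → W) (K : ℕ) (hK : Good L g K) (c0 s0 : ℕ) (hs0 : s0 < L.ng)
    (h : edge L g c0 s0 ∈ Hk g (L.ng - 1)) : Good L g (K ||| 1 <<< (c0 * L.ng + s0)) := by
  intro c hc s hs hbit
  rw [testBit_set, Bool.or_eq_true, decide_eq_true_eq] at hbit
  rcases hbit with hbit | hbit
  · exact hK c hc s hs hbit
  · obtain ⟨rfl, rfl⟩ := enc_inj hs0 hs hbit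
    exact h

/-- apply one certificate step to the bitmask of known edges -/
def applyAct (m : ℕ → ℕ → ℕ) (L : Level) (K : ℕ) : Act → ℕ
  | .base s => if s + 1 < L.ng ∧ L.T s 0 = 0 then K ||| 1 <<< (0 * L.ng + s) else K
  | .tree c =>
    if 0 < c ∧ L.par c < c ∧ L.lab c < L.ng ∧ L.T (L.lab c) (L.par c) = c then
      K ||| 1 <<< (L.par c * L.ng + L.lab c) else K
  | .rel i j c0 pos =>
    match (relWord (m i j) i j).drop pos with
    | [] => K
    | a :: r2 =>
      if i < L.ng ∧ j < L.ng ∧ c0 < L.N ∧ a < L.ng ∧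
          allKnown L K ((relWord (m i j) i j).take pos) c0 = true ∧
          allKnown L K r2 (L.T a (walk L.T ((relWord (m i j) i j).take pos) c0)) = true ∧
          walk L.T r2 (L.T a (walk L.T ((relWord (m i j) i j).take pos) c0)) = c0 then
        K ||| 1 <<< (walk L.T ((relWord (m i j) i j).take pos) c0 * L.ng + a)
      else K

lemma good_applyAct (m : ℕ → ℕ → ℕ) (L : Level) (g : ℕ → W) (hcl : Closed L)
    (hrel : ∀ i < L.ng, ∀ j < L.ng, (g i * g j) ^ m i j = 1)
    (K : ℕ) (hK : Good L g K) (act : Act) : Good L g (applyAct m L K act) := by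
  cases act with
  | base s =>
    simp only [applyAct]
    split_ifs with h
    · obtain ⟨h1, h2⟩ := h
      apply good_set L g K hK 0 s (by omega)
      simp only [edge, h2, rep_zero, one_mul, inv_one, mul_one]
      exact gen_mem_Hk g (by omega)
    · exact hK
  | tree c =>
    simp only [applyAct]
    split_ifs with h
    · obtain ⟨h1, h2, h3, h4⟩ := h
      apply good_set L g K hK _ _ h3
      simp only [edge, h4]
      rw [← rep_of_lt L g h1 h2, mul_inv_cancel]
      exact one_mem _
    · exact hK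
  | rel i j c0 pos =>
    simp only [applyAct]
    split
    · exact hK
    · rename_i a r2 hdrop
      split_ifs with h
      · obtain ⟨hi, hj, hc0, ha, hk1, hk2, hw⟩ := h
        apply good_set L g K hK _ _ ha
        set r := relWord (m i j) i j with hr
        set r1 := r.take pos with hr1
        have hsplit : r = r1 ++ a :: r2 := by
          rw [← hdrop, hr1, List.take_append_drop]
        obtain ⟨p1, hc1⟩ := path_mem L g K hcl hK r1 c0 hc0 hk1
        have hc2 := hcl _ hc1 a ha
        obtain ⟨p2, -⟩ := path_mem L g K hcl hK r2 _ hc2 hk2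
        rw [hw] at p2
        have hprod : wp g r1 * g a * wp g r2 = 1 := by
          have := wp_relWord g (m i j) i j
          rw [← hr, hsplit, wp_append, wp_cons, hrel i hi j hj] at this
          rw [mul_assoc]; exact this
        have : edge L g (walk L.T r1 c0) a =
            (rep L g c0 * wp g r1 * (rep L g (walk L.T r1 c0))⁻¹)⁻¹ *
              (rep L g (L.T a (walk L.T r1 c0)) * wp g r2 * (rep L g c0)⁻¹)⁻¹ := by
          have e1 : g a = (wp g r1)⁻¹ * (wp g r2)⁻¹ := by
            have : g a = (wp g r1)⁻¹ * (wp g r1 * g a * wp g r2) * (wp g r2)⁻¹ := by group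
            rw [this, hprod, mul_one]
          simp only [edge]
          rw [e1]
          group
        rw [this]
        exact mul_mem (inv_mem p1) (inv_mem p2)
      · exact hK

/-- evaluate `x` before passing it on (keeps kernel evaluation shallow) -/
def forceNat {α : Sort*} (x : ℕ) (f : ℕ → α) : α :=
  match x with
  | 0 => f 0
  | n + 1 => f (n + 1)

lemma forceNat_eq {α : Sort*} (x : ℕ) (f : ℕ → α) : forceNat x f = f x := by
  cases x <;> rfl

def runActs (m : ℕ → ℕ → ℕ) (L : Level) (K : ℕ) : List Act → ℕ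
  | [] => K
  | a :: acts => forceNat (applyAct m L K a) fun K' => runActs m L K' acts

lemma good_runActs (m : ℕ → ℕ → ℕ) (L : Level) (g : ℕ → W) (hcl : Closed L)
    (hrel : ∀ i < L.ng, ∀ j < L.ng, (g i * g j) ^ m i j = 1)
    (acts : List Act) (K : ℕ) (hK : Good L g K) : Good L g (runActs m L K acts) := by
  induction acts generalizing K with
  | nil => exact hK
  | cons a acts ih =>
    simp only [runActs, forceNat_eq]
    exact ih _ (good_applyAct m L g hcl hrel K hK a)

def runActs2 (m : ℕ → ℕ → ℕ) (L : Level) (K : ℕ) : List (List Act) → ℕ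
  | [] => K
  | a :: acts => forceNat (runActs m L K a) fun K' => runActs2 m L K' acts

lemma good_runActs2 (m : ℕ → ℕ → ℕ) (L : Level) (g : ℕ → W) (hcl : Closed L)
    (hrel : ∀ i < L.ng, ∀ j < L.ng, (g i * g j) ^ m i j = 1)
    (acts : List (List Act)) (K : ℕ) (hK : Good L g K) : Good L g (runActs2 m L K acts) := by
  induction acts generalizing K with
  | nil => exact hK
  | cons a acts ih =>
    simp only [runActs2, forceNat_eq]
    exact ih _ (good_runActs m L g hcl hrel a K hK)

lemma good_zero (L : Level) (g : ℕ → W) : Good L g 0 := by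
  intro c _ s _ h
  simp at h

/-- the Boolean check of a level certificate -/
def Level.ok (m : ℕ → ℕ → ℕ) (L : Level) : Bool :=
  decide (0 < L.N) && decide (0 < L.ng) &&
  ((List.range L.N).all fun c => (List.range L.ng).all fun s => decide (L.T s c < L.N)) &&
  forceNat (runActs2 m L 0 L.acts) fun K =>
    ((List.range L.N).all fun c => (List.range L.ng).all fun s => K.testBit (c * L.ng + s))

lemma Level.ok_spec (m : ℕ → ℕ → ℕ) (L : Level) (h : L.ok m = true) :
    0 < L.N ∧ 0 < L.ng ∧ Closed L ∧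
      ∀ c < L.N, ∀ s < L.ng, (runActs2 m L 0 L.acts).testBit (c * L.ng + s) = true := by
  simp only [Level.ok, forceNat_eq, Bool.and_eq_true, decide_eq_true_eq, List.all_eq_true,
    List.mem_range] at h
  obtain ⟨⟨⟨h1, h2⟩, h3⟩, h4⟩ := h
  exact ⟨h1, h2, h3, h4⟩


lemma gen_inv (m : ℕ → ℕ → ℕ) (g : ℕ → W) {n : ℕ} (hm : ∀ i < n, m i i = 1)
    (hrel : ∀ i < n, ∀ j < n, (g i * g j) ^ m i j = 1) {i : ℕ} (hi : i < n) : (g i)⁻¹ = g i := by
  have := hrel i hi i hi
  rw [hm i hi, pow_one] at this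
  exact inv_eq_of_mul_eq_one_right this

/-- Every element of the subgroup generated by the first `ng` generators is a product of an
element of the subgroup generated by the first `ng - 1` and a coset representative. -/
theorem Level.mem_mul_rep (m : ℕ → ℕ → ℕ) (L : Level) (g : ℕ → W) (hok : L.ok m = true)
    (hm : ∀ i < L.ng, m i i = 1)
    (hrel : ∀ i < L.ng, ∀ j < L.ng, (g i * g j) ^ m i j = 1) {w : W} (hw : w ∈ Hk g L.ng) :
    ∃ h ∈ Hk g (L.ng - 1), ∃ c < L.N, w = h * rep L g c := by
  obtain ⟨hN, hng, hcl, hall⟩ := L.ok_spec m hok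
  have hgood := good_runActs2 m L g hcl hrel L.acts 0 (good_zero L g)
  have hedge : ∀ c < L.N, ∀ s < L.ng, edge L g c s ∈ Hk g (L.ng - 1) :=
    fun c hc s hs => hgood c hc s hs (hall c hc s hs)
  have step : ∀ (x : W), (∃ h ∈ Hk g (L.ng - 1), ∃ c < L.N, x = h * rep L g c) →
      ∀ s < L.ng, ∃ h ∈ Hk g (L.ng - 1), ∃ c < L.N, x * g s = h * rep L g c := by
    rintro x ⟨h, hh, c, hc, rfl⟩ s hs
    refine ⟨h * edge L g c s, mul_mem hh (hedge c hc s hs), L.T s c, hcl c hc s hs, ?_⟩
    simp only [edge]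
    group
  unfold Hk at hw
  induction hw using closure_induction_right with
  | one => exact ⟨1, one_mem _, 0, hN, by rw [rep_zero, one_mul]⟩
  | mul_right x hx y hy ih =>
    obtain ⟨s, hs, rfl⟩ := hy
    exact step x ih s hs
  | mul_inv_cancel x hx y hy ih =>
    obtain ⟨s, hs, rfl⟩ := hy
    rw [gen_inv m g hm hrel hs]
    exact step x ih s hs

theorem Level.card_le (m : ℕ → ℕ → ℕ) (L : Level) (g : ℕ → W) (hok : L.ok m = true)
    (hm : ∀ i < L.ng, m i i = 1)
    (hrel : ∀ i < L.ng, ∀ j < L.ng, (g i * g j) ^ m i j = 1)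
    (hfin : (Hk g (L.ng - 1) : Set W).Finite) :
    (Hk g L.ng : Set W).Finite ∧
      (Hk g L.ng : Set W).ncard ≤ (Hk g (L.ng - 1) : Set W).ncard * L.N := by
  have hsub : (Hk g L.ng : Set W) ⊆
      (fun p : W × ℕ => p.1 * rep L g p.2) '' ((Hk g (L.ng - 1) : Set W) ×ˢ Set.Iio L.N) := by
    intro w hw
    obtain ⟨h, hh, c, hc, rfl⟩ := L.mem_mul_rep m g hok hm hrel hw
    exact ⟨(h, c), ⟨hh, hc⟩, rfl⟩
  have hfin2 : ((Hk g (L.ng - 1) : Set W) ×ˢ Set.Iio L.N).Finite := hfin.prod (Set.finite_Iio _)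
  refine ⟨(hfin2.image _).subset hsub, ?_⟩
  calc (Hk g L.ng : Set W).ncard ≤ _ := Set.ncard_le_ncard hsub (hfin2.image _)
    _ ≤ ((Hk g (L.ng - 1) : Set W) ×ˢ Set.Iio L.N).ncard := Set.ncard_image_le hfin2
    _ = _ := by rw [Set.ncard_prod, Set.ncard_Iio_nat]

/-- Boolean check of a chain of level certificates, the `k`-th having `k + 1` generators. -/
def chainOk (m : ℕ → ℕ → ℕ) : List Level → ℕ → Bool
  | [], _ => true
  | L :: Ls, k => decide (L.ng = k + 1) && L.ok m && chainOk m Ls (k + 1)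

theorem chain_card_le (m : ℕ → ℕ → ℕ) (g : ℕ → W) (Ls : List Level) (k P : ℕ)
    (hok : chainOk m Ls k = true)
    (hm : ∀ i < k + Ls.length, m i i = 1)
    (hrel : ∀ i < k + Ls.length, ∀ j < k + Ls.length, (g i * g j) ^ m i j = 1)
    (hfin : (Hk g k : Set W).Finite) (hcard : (Hk g k : Set W).ncard ≤ P) :
    (Hk g (k + Ls.length) : Set W).Finite ∧
      (Hk g (k + Ls.length) : Set W).ncard ≤ P * (Ls.map Level.N).prod := by
  induction Ls generalizing k P with
  | nil => simpa using ⟨hfin, hcard⟩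
  | cons L Ls ih =>
    simp only [chainOk, Bool.and_eq_true, decide_eq_true_eq] at hok
    obtain ⟨⟨hng, hLok⟩, hrest⟩ := hok
    simp only [List.length_cons] at hm hrel ⊢
    have hlt : L.ng ≤ k + (Ls.length + 1) := by omega
    have h1 := L.card_le m g hLok (fun i hi => hm i (by omega))
      (fun i hi j hj => hrel i (by omega) j (by omega)) (by rw [hng]; simpa using hfin)
    rw [hng] at h1
    simp only [Nat.add_sub_cancel] at h1
    have h2 := ih (k + 1) (P * L.N) hrest (fun i hi => hm i (by omega))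
      (fun i hi j hj => hrel i (by omega) j (by omega)) h1.1
      (h1.2.trans (Nat.mul_le_mul_right _ hcard))
    have e : k + 1 + Ls.length = k + (Ls.length + 1) := by omega
    rw [e] at h2
    refine ⟨h2.1, ?_⟩
    rw [List.map_cons, List.prod_cons, ← mul_assoc]
    exact h2.2

lemma Hk_zero (g : ℕ → W) : Hk g 0 = ⊥ := by
  simp [Hk]

theorem chain_card_le' (m : ℕ → ℕ → ℕ) (g : ℕ → W) (Ls : List Level)
    (hok : chainOk m Ls 0 = true)
    (hm : ∀ i < Ls.length, m i i = 1)
    (hrel : ∀ i < Ls.length, ∀ j < Ls.length, (g i * g j) ^ m i j = 1) :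
    (Hk g Ls.length : Set W).Finite ∧
      (Hk g Ls.length : Set W).ncard ≤ (Ls.map Level.N).prod := by
  have := chain_card_le m g Ls 0 1 hok (by simpa using hm) (by simpa using hrel)
    (by rw [Hk_zero]; simp) (by rw [Hk_zero]; simp)
  simpa using this


/-- the `i`-th byte of the natural number `A` -/
def get8 (A i : ℕ) : ℕ := (A >>> (8 * i)) % 256


/-! ### Actions on points and lower bounds -/

/-- the action of the generator `s` on points, as an endomorphism of `ℕ` -/
def actFun (T : ℕ → ℕ → ℕ) (N : ℕ) (s : ℕ) : Function.End ℕ := fun c => if c < N then T s c else c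

lemma End_mul_apply (f h : Function.End ℕ) (c : ℕ) : (f * h) c = f (h c) := rfl
lemma End_one_apply (c : ℕ) : (1 : Function.End ℕ) c = c := rfl

/-- A set of `N` points with a table for the generators. -/
structure Action where
  N : ℕ
  T : ℕ → ℕ → ℕ

def Action.ok (m : ℕ → ℕ → ℕ) (n : ℕ) (A : Action) : Bool :=
  ((List.range A.N).all fun c => (List.range n).all fun s => decide (A.T s c < A.N)) &&
  ((List.range n).all fun i => (List.range n).all fun j => (List.range A.N).all fun c =>
      decide (walk A.T (relWord (m i j) j i) c = c))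

lemma Action.ok_spec (m : ℕ → ℕ → ℕ) (n : ℕ) (A : Action) (h : A.ok m n = true) :
    (∀ c < A.N, ∀ s < n, A.T s c < A.N) ∧
      ∀ i < n, ∀ j < n, ∀ c < A.N, walk A.T (relWord (m i j) j i) c = c := by
  simp only [Action.ok, Bool.and_eq_true, decide_eq_true_eq, List.all_eq_true, List.mem_range] at h
  exact h

lemma actFun_of_lt (A : Action) {s c : ℕ} (hc : c < A.N) : actFun A.T A.N s c = A.T s c := by
  simp [actFun, hc]

lemma actFun_of_ge (A : Action) {s c : ℕ} (hc : ¬ c < A.N) : actFun A.T A.N s c = c := by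
  simp [actFun, hc]

lemma actFun_pow_lt (A : Action) (n : ℕ) (hcl : ∀ c < A.N, ∀ s < n, A.T s c < A.N)
    {i j : ℕ} (hi : i < n) (hj : j < n) (k c : ℕ) (hc : c < A.N) :
    ((actFun A.T A.N i * actFun A.T A.N j) ^ k) c = walk A.T (relWord k j i) c := by
  induction k generalizing c with
  | zero => simp [relWord, End_one_apply]
  | succ k ih =>
    rw [pow_succ, End_mul_apply, End_mul_apply, actFun_of_lt A hc,
      actFun_of_lt A (hcl c hc j hj), relWord_succ, walk_cons, walk_cons]
    exact ih _ (hcl _ (hcl c hc j hj) i hi)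

lemma actFun_pow_ge (A : Action) (i j k c : ℕ) (hc : ¬ c < A.N) :
    ((actFun A.T A.N i * actFun A.T A.N j) ^ k) c = c := by
  induction k with
  | zero => simp [End_one_apply]
  | succ k ih =>
    rw [pow_succ, End_mul_apply, End_mul_apply, actFun_of_ge A hc, actFun_of_ge A hc, ih]

lemma actFun_rel (m : ℕ → ℕ → ℕ) (n : ℕ) (A : Action) (h : A.ok m n = true)
    {i j : ℕ} (hi : i < n) (hj : j < n) :
    (actFun A.T A.N i * actFun A.T A.N j) ^ m i j = 1 := by
  obtain ⟨hcl, hrel⟩ := A.ok_spec m n h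
  funext c
  by_cases hc : c < A.N
  · rw [actFun_pow_lt A n hcl hi hj _ c hc, hrel i hi j hj c hc, End_one_apply]
  · rw [actFun_pow_ge A i j _ c hc, End_one_apply]

/-- the action of a word: `wp` of the generators' actions follows the reversed word -/
lemma wp_actFun (A : Action) (n : ℕ) (hcl : ∀ c < A.N, ∀ s < n, A.T s c < A.N)
    (r : List ℕ) (hr : ∀ a ∈ r, a < n) (c : ℕ) (hc : c < A.N) :
    wp (actFun A.T A.N) r c = walk A.T r.reverse c ∧ walk A.T r.reverse c < A.N := by
  induction r with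
  | nil => simp [End_one_apply, hc]
  | cons a r ih =>
    obtain ⟨h1, h2⟩ := ih (fun b hb => hr b (List.mem_cons_of_mem _ hb))
    rw [wp_cons, End_mul_apply, h1, actFun_of_lt A h2, List.reverse_cons, walk_append]
    simp only [walk_cons, walk_nil, true_and]
    exact hcl _ h2 a (hr a List.mem_cons_self)

/-- Data for one level of the lower bound: a base point `x` fixed by the first `ng - 1`
generators whose orbit under the first `ng` generators has at least `N` points `pt c`, reached
along the tree `par`, `lab`. -/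
structure LowerLevel where
  N : ℕ
  ng : ℕ
  x : ℕ
  par : ℕ → ℕ
  lab : ℕ → ℕ
  pt : ℕ → ℕ
  ipt : ℕ → ℕ

def LowerLevel.ok (A : Action) (LL : LowerLevel) : Bool :=
  decide (LL.x < A.N) && decide (0 < LL.ng) &&
  ((List.range (LL.ng - 1)).all fun s => decide (A.T s LL.x = LL.x)) &&
  decide (LL.pt 0 = LL.x) &&
  ((List.range LL.N).all fun c => decide (LL.pt c < A.N) && decide (LL.ipt (LL.pt c) = c) &&
     (decide (c = 0) || (decide (LL.par c < c) && decide (LL.lab c < LL.ng) &&
        decide (LL.pt c = A.T (LL.lab c) (LL.pt (LL.par c))))))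

lemma LowerLevel.ok_spec (A : Action) (LL : LowerLevel) (h : LL.ok A = true) :
    LL.x < A.N ∧ 0 < LL.ng ∧ (∀ s < LL.ng - 1, A.T s LL.x = LL.x) ∧ LL.pt 0 = LL.x ∧
      ∀ c < LL.N, LL.pt c < A.N ∧ LL.ipt (LL.pt c) = c ∧
        (c = 0 ∨ (LL.par c < c ∧ LL.lab c < LL.ng ∧
          LL.pt c = A.T (LL.lab c) (LL.pt (LL.par c)))) := by
  simp only [LowerLevel.ok, Bool.and_eq_true, Bool.or_eq_true, decide_eq_true_eq,
    List.all_eq_true, List.mem_range] at h
  obtain ⟨⟨⟨⟨h1, h2⟩, h3⟩, h4⟩, h5⟩ := h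
  refine ⟨h1, h2, h3, h4, fun c hc => ?_⟩
  obtain ⟨⟨h6, h7⟩, h8⟩ := h5 c hc
  refine ⟨h6, h7, ?_⟩
  rcases h8 with h8 | h8
  · exact Or.inl h8
  · exact Or.inr ⟨h8.1.1, h8.1.2, h8.2⟩

/-- the group elements carrying the base point to the points of the orbit -/
noncomputable def wit (LL : LowerLevel) (g : ℕ → W) : ℕ → W
  | 0 => 1
  | c + 1 => g (LL.lab (c + 1)) * wit LL g (min (LL.par (c + 1)) c)
termination_by c => c
decreasing_by omega

lemma wit_zero (LL : LowerLevel) (g : ℕ → W) : wit LL g 0 = 1 := by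
  rw [wit]

lemma wit_of_lt (LL : LowerLevel) (g : ℕ → W) {c : ℕ} (h0 : c ≠ 0) (h : LL.par c < c) :
    wit LL g c = g (LL.lab c) * wit LL g (LL.par c) := by
  obtain ⟨c, rfl⟩ : ∃ d, c = d + 1 := ⟨c - 1, by omega⟩
  rw [wit]
  congr 2
  omega

lemma wit_spec (A : Action) (LL : LowerLevel) (hok : LL.ok A = true) (φ : W →* Function.End ℕ)
    (g : ℕ → W) (hφ : ∀ s < LL.ng, φ (g s) = actFun A.T A.N s) (c : ℕ) (hc : c < LL.N) :
    wit LL g c ∈ Hk g LL.ng ∧ φ (wit LL g c) LL.x = LL.pt c := by
  obtain ⟨hx, hng, hfix, hpt0, hall⟩ := LL.ok_spec A hok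
  induction c using Nat.strong_induction_on with
  | _ c ih =>
    obtain ⟨h1, h2, h3⟩ := hall c hc
    rcases h3 with rfl | ⟨h3, h4, h5⟩
    · rw [wit_zero, map_one, End_one_apply, hpt0]
      exact ⟨one_mem _, rfl⟩
    · have hc0 : c ≠ 0 := by omega
      obtain ⟨i1, i2⟩ := ih (LL.par c) h3 (by omega)
      rw [wit_of_lt LL g hc0 h3]
      refine ⟨mul_mem (gen_mem_Hk g h4) i1, ?_⟩
      rw [map_mul, End_mul_apply, i2, hφ _ h4, actFun_of_lt A (hall _ (by omega)).1, h5]

lemma fix_of_mem (A : Action) (LL : LowerLevel) (hok : LL.ok A = true)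
    (φ : W →* Function.End ℕ)
    (g : ℕ → W) (hφ : ∀ s < LL.ng, φ (g s) = actFun A.T A.N s) {h : W}
    (hh : h ∈ Hk g (LL.ng - 1)) : φ h LL.x = LL.x := by
  obtain ⟨hx, hng, hfix, hpt0, hall⟩ := LL.ok_spec A hok
  unfold Hk at hh
  induction hh using closure_induction with
  | mem y hy =>
    obtain ⟨s, hs, rfl⟩ := hy
    have hs' : s < LL.ng - 1 := hs
    rw [hφ s (by omega), actFun_of_lt A hx, hfix s hs']
  | one => rw [map_one, End_one_apply]
  | mul a b _ _ iha ihb => rw [map_mul, End_mul_apply, ihb, iha]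
  | inv a _ iha =>
    calc φ a⁻¹ LL.x = φ a⁻¹ (φ a LL.x) := by rw [iha]
      _ = (φ a⁻¹ * φ a) LL.x := rfl
      _ = LL.x := by rw [← map_mul, inv_mul_cancel, map_one, End_one_apply]

theorem LowerLevel.card_le (A : Action) (LL : LowerLevel) (hok : LL.ok A = true)
    (φ : W →* Function.End ℕ) (g : ℕ → W) (hφ : ∀ s < LL.ng, φ (g s) = actFun A.T A.N s)
    (hfin : (φ '' (Hk g LL.ng : Set W)).Finite) :
    (φ '' (Hk g (LL.ng - 1) : Set W)).ncard * LL.N ≤ (φ '' (Hk g LL.ng : Set W)).ncard := by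
  obtain ⟨hx, hng, hfix, hpt0, hall⟩ := LL.ok_spec A hok
  have hle : Hk g (LL.ng - 1) ≤ Hk g LL.ng := Hk_mono g (by omega)
  rw [← Set.ncard_Iio_nat LL.N, ← Set.ncard_prod]
  apply Set.ncard_le_ncard_of_injOn
    (fun p : Function.End ℕ × ℕ => φ (wit LL g p.2) * p.1) _ _ hfin
  · rintro ⟨f, c⟩ ⟨⟨h, hh, rfl⟩, hc⟩
    refine ⟨wit LL g c * h, mul_mem (wit_spec A LL hok φ g hφ c hc).1 (hle hh), ?_⟩
    rw [map_mul]
  · rintro ⟨f, c⟩ ⟨⟨h, hh, rfl⟩, hc⟩ ⟨f', c'⟩ ⟨⟨h', hh', rfl⟩, hc'⟩ heq
    simp only at heq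
    have hc : c < LL.N := hc
    have hc' : c' < LL.N := hc'
    have e1 : (φ (wit LL g c) * φ h) LL.x = LL.pt c := by
      rw [End_mul_apply, fix_of_mem A LL hok φ g hφ hh, (wit_spec A LL hok φ g hφ c hc).2]
    have e2 : (φ (wit LL g c') * φ h') LL.x = LL.pt c' := by
      rw [End_mul_apply, fix_of_mem A LL hok φ g hφ hh', (wit_spec A LL hok φ g hφ c' hc').2]
    have hcc : c = c' := by
      rw [← (hall c hc).2.1, ← (hall c' hc').2.1, ← e1, ← e2, heq]
    subst hcc
    have : φ h = φ h' := by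
      calc φ h = φ (wit LL g c)⁻¹ * (φ (wit LL g c) * φ h) := by
            rw [← mul_assoc, ← map_mul, inv_mul_cancel, map_one, one_mul]
        _ = φ (wit LL g c)⁻¹ * (φ (wit LL g c) * φ h') := by rw [heq]
        _ = φ h' := by rw [← mul_assoc, ← map_mul, inv_mul_cancel, map_one, one_mul]
    rw [this]

def lowerChainOk (A : Action) : List LowerLevel → ℕ → Bool
  | [], _ => true
  | LL :: LLs, k => decide (LL.ng = k + 1) && LL.ok A && lowerChainOk A LLs (k + 1)

theorem lower_chain (A : Action) (φ : W →* Function.End ℕ) (g : ℕ → W) (LLs : List LowerLevel)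
    (k P : ℕ) (hok : lowerChainOk A LLs k = true)
    (hφ : ∀ s < k + LLs.length, φ (g s) = actFun A.T A.N s)
    (hfin : (φ '' (Hk g (k + LLs.length) : Set W)).Finite)
    (hP : P ≤ (φ '' (Hk g k : Set W)).ncard) :
    P * (LLs.map LowerLevel.N).prod ≤ (φ '' (Hk g (k + LLs.length) : Set W)).ncard := by
  induction LLs generalizing k P with
  | nil => simpa using hP
  | cons LL LLs ih =>
    simp only [lowerChainOk, Bool.and_eq_true, decide_eq_true_eq] at hok
    obtain ⟨⟨hng, hLok⟩, hrest⟩ := hok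
    simp only [List.length_cons] at hφ hfin ⊢
    have hfin1 : (φ '' (Hk g LL.ng : Set W)).Finite :=
      hfin.subset (Set.image_mono (Hk_mono g (by omega)))
    have h1 := LL.card_le A hLok φ g (fun s hs => hφ s (by omega)) hfin1
    rw [hng] at h1
    simp only [Nat.add_sub_cancel] at h1
    have e : k + 1 + LLs.length = k + (LLs.length + 1) := by omega
    have h2 := ih (k + 1) (P * LL.N) hrest (fun s hs => hφ s (by omega)) (by rw [e]; exact hfin)
      ((Nat.mul_le_mul_right _ hP).trans h1)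
    rw [e] at h2
    rw [List.map_cons, List.prod_cons, ← mul_assoc]
    exact h2

end Cfsg.Agent.Helper6.TC
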