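import Mathlib
import Cfsg.Agent.Lib.Helper6.ToddCoxeter

/-!
# Orders of Coxeter groups from certificates
-/

namespace Cfsg.Agent.Helper6.TC

open Subgroup

variable {n : ℕ}

/-- the simple reflections of a Coxeter group, indexed by `ℕ` -/
noncomputable def cgen (M : CoxeterMatrix (Fin n)) (i : ℕ) : M.Group :=
  if h : i < n then M.simple ⟨i, h⟩ else 1

lemma cgen_of_lt (M : CoxeterMatrix (Fin n)) {i : ℕ} (h : i < n) :
    cgen M i = M.simple ⟨i, h⟩ := by
  simp [cgen, h]

lemma cgen_val (M : CoxeterMatrix (Fin n)) (i : Fin n) : cgen M i = M.simple i := by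
  rw [cgen_of_lt M i.2]

lemma Hk_cgen_top (M : CoxeterMatrix (Fin n)) : Hk (cgen M) n = ⊤ := by
  rw [eq_top_iff, ← M.toCoxeterSystem.subgroup_closure_range_simple]
  apply Subgroup.closure_mono
  rintro _ ⟨i, rfl⟩
  exact ⟨i, i.2, cgen_val M i⟩

/-- A certificate for the order of a Coxeter group on `n` generators. -/
structure Cert where
  m : ℕ → ℕ → ℕ
  Ls : List Level
  A : Action
  LLs : List LowerLevel

def Cert.ok (n : ℕ) (C : Cert) : Bool :=
  decide (C.Ls.length = n) && chainOk C.m C.Ls 0 && C.A.ok C.m n &&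
    decide (C.LLs.length = n) && lowerChainOk C.A C.LLs 0 &&
    decide (C.LLs.map LowerLevel.N = C.Ls.map Level.N)

/-- the order predicted by a certificate -/
def Cert.order (C : Cert) : ℕ := (C.Ls.map Level.N).prod

theorem coxeter_main (M : CoxeterMatrix (Fin n)) (C : Cert)
    (hm : ∀ i j : Fin n, M i j = C.m i j) (hok : C.ok n = true) :
    Nat.card M.Group = C.order ∧
      ∃ φ : M.Group →* Function.End ℕ, Function.Injective φ ∧
        ∀ i : Fin n, φ (M.simple i) = actFun C.A.T C.A.N i := by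
  simp only [Cert.ok, Bool.and_eq_true, decide_eq_true_eq] at hok
  obtain ⟨⟨⟨⟨⟨hlen, hup⟩, hA⟩, hlen'⟩, hlow⟩, hN⟩ := hok
  set cs := M.toCoxeterSystem with hcs
  have hmd : ∀ i < n, C.m i i = 1 := by
    intro i hi
    rw [← hm ⟨i, hi⟩ ⟨i, hi⟩]
    exact M.diagonal _
  have hrel : ∀ i < n, ∀ j < n, (cgen M i * cgen M j) ^ C.m i j = 1 := by
    intro i hi j hj
    rw [cgen_of_lt M hi, cgen_of_lt M hj, ← hm ⟨i, hi⟩ ⟨j, hj⟩]
    exact cs.simple_mul_simple_pow _ _
  -- upper bound
  obtain ⟨hfin, hupper⟩ := chain_card_le' C.m (cgen M) C.Ls hup (by rwa [hlen])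
    (by rwa [hlen])
  rw [hlen, Hk_cgen_top, coe_top] at hfin hupper
  rw [Set.ncard_univ] at hupper
  have : Finite M.Group := Set.finite_univ_iff.mp hfin
  -- the action
  have hlift : M.IsLiftable (fun i : Fin n => actFun C.A.T C.A.N i) := by
    intro i j
    rw [hm i j]
    exact actFun_rel C.m n C.A hA i.2 j.2
  let φ : M.Group →* Function.End ℕ := cs.lift ⟨_, hlift⟩
  have hφs : ∀ i : Fin n, φ (M.simple i) = actFun C.A.T C.A.N i := fun i =>
    cs.lift_apply_simple hlift i
  have hφ : ∀ s < 0 + C.LLs.length, φ (cgen M s) = actFun C.A.T C.A.N s := by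
    intro s hs
    have hs' : s < n := by omega
    rw [cgen_of_lt M hs']
    exact hφs ⟨s, hs'⟩
  have hlower := lower_chain C.A φ (cgen M) C.LLs 0 1 hlow hφ (Set.toFinite _)
    (by rw [Hk_zero]; simp)
  rw [Nat.zero_add, hlen', Hk_cgen_top, coe_top, one_mul, hN] at hlower
  have himg : (φ '' Set.univ).ncard ≤ (Set.univ : Set M.Group).ncard :=
    Set.ncard_image_le Set.finite_univ
  rw [Set.ncard_univ] at himg
  have hcard : Nat.card M.Group = C.order := le_antisymm hupper (hlower.trans himg)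
  refine ⟨hcard, φ, ?_, hφs⟩
  have : (φ '' Set.univ).ncard = (Set.univ : Set M.Group).ncard := by
    rw [Set.ncard_univ]
    exact le_antisymm himg (hcard ▸ hlower)
  exact Set.injOn_univ.mp (Set.injOn_of_ncard_image_eq this Set.finite_univ)

end Cfsg.Agent.Helper6.TC
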