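import Mathlib
import Cfsg.Agent.Lib.Helper6.CoxeterCert

/-!
# Certificate for the Coxeter group of type D₄ with the central node last (generated data)
-/

namespace Cfsg.Agent.Helper6.TC

def mD4P : ℕ → ℕ → ℕ := fun i j => get8 0x1030303030102020302010203020201 (i * 4 + j)

def lvD4P_0 : Level where
  N := 2
  ng := 1
  T := fun s c => get8 0x1 (s * 2 + c)
  par := fun c => get8 0x0 c
  lab := fun c => get8 0x0 c
  acts := [
    [.tree 1, .rel 0 0 0 1]]

def lvD4P_1 : Level where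
  N := 2
  ng := 2
  T := fun s c => get8 0x10100 (s * 2 + c)
  par := fun c => get8 0x0 c
  lab := fun c => get8 0x100 c
  acts := [
    [.base 0, .tree 1, .rel 1 1 0 1, .rel 0 1 0 2]]

def lvD4P_2 : Level where
  N := 2
  ng := 3
  T := fun s c => get8 0x101000100 (s * 2 + c)
  par := fun c => get8 0x0 c
  lab := fun c => get8 0x200 c
  acts := [
    [.base 0, .base 1, .tree 1, .rel 2 2 0 1, .rel 0 2 0 2, .rel 1 2 0 2]]

def lvD4P_3 : Level where
  N := 24
  ng := 4
  T := fun s c => get8 0x16171514130d0e0f101112080706050c0b0a09040302000117131110160c15140f0e09120b0a0d0503020801070604001714121610150c130f0a0d110b0e09060408020701050300171516121114130c0b0e0d100f0a09070804030605010200 (s * 24 + c)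
  par := fun c => get8 0x16131110100c0c0c0b0a0908070605050302020101010000 c
  lab := fun c => get8 0x30202020102010000010203030303020202010201000300 c
  acts := [
    [.base 0, .base 1, .base 2, .tree 1, .tree 2, .tree 3, .tree 4, .tree 5, .tree 6, .tree 7, 
     .tree 8, .tree 9, .tree 10, .tree 11, .tree 12, .tree 13, .tree 14, .tree 15, .tree 16, 
     .tree 17, .tree 18, .tree 19, .tree 20, .tree 21, .tree 22, .tree 23, .rel 0 0 1 1, 
     .rel 0 0 11 1, .rel 0 0 12 1, .rel 1 1 1 1, .rel 1 1 2 1, .rel 1 1 10 1, .rel 1 1 12 1, 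
     .rel 1 1 16 1, .rel 2 2 1 1, .rel 2 2 2 1, .rel 2 2 3 1, .rel 2 2 5 1, .rel 2 2 9 1, 
     .rel 2 2 12 1],
    [.rel 2 2 16 1, .rel 2 2 17 1, .rel 2 2 19 1, .rel 3 3 0 1, .rel 3 3 5 1, .rel 3 3 6 1, 
     .rel 3 3 7 1, .rel 3 3 8 1, .rel 3 3 22 1, .rel 0 1 1 2, .rel 0 1 2 2, .rel 0 1 12 2, 
     .rel 0 1 16 2, .rel 0 2 1 2, .rel 0 2 2 2, .rel 0 2 3 2, .rel 0 2 5 2, .rel 0 2 12 2, 
     .rel 0 2 16 2, .rel 0 2 17 2, .rel 0 2 19 2, .rel 0 3 0 3, .rel 0 3 7 3, .rel 0 3 8 3, 
     .rel 1 2 1 2, .rel 1 2 2 2, .rel 1 2 3 2, .rel 1 2 5 2, .rel 1 2 12 2, .rel 1 2 16 2, 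
     .rel 1 2 17 2, .rel 1 2 19 2, .rel 1 3 0 3, .rel 1 3 2 2, .rel 1 3 6 3, .rel 1 3 8 3, 
     .rel 2 1 9 1, .rel 2 3 0 3, .rel 2 3 2 2, .rel 2 3 3 2],
    [.rel 2 3 5 3, .rel 2 3 8 3, .rel 3 0 3 3, .rel 3 0 4 3, .rel 3 1 4 3, .rel 3 1 13 2, 
     .rel 3 2 14 5, .rel 0 1 10 2, .rel 0 1 11 1, .rel 0 2 9 2, .rel 0 2 11 1, .rel 0 3 13 3, 
     .rel 0 3 14 3, .rel 0 3 21 2, .rel 1 3 20 2, .rel 2 3 19 2]]

def chainD4P : List Level := [lvD4P_0, lvD4P_1, lvD4P_2, lvD4P_3]

def actD4P : Action where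
  N := 24
  T := fun s c => get8 0x16171514130d0e0f101112080706050c0b0a09040302000117131110160c15140f0e09120b0a0d0503020801070604001714121610150c130f0a0d110b0e09060408020701050300171516121114130c0b0e0d100f0a09070804030605010200 (s * 24 + c)

def lowD4P_0 : LowerLevel where
  N := 2
  ng := 1
  x := 1
  par := fun c => get8 0x0 c
  lab := fun c => get8 0x0 c
  pt := fun c => get8 0x201 c
  ipt := fun c => get8 0x10000 c

def lowD4P_1 : LowerLevel where
  N := 2
  ng := 2
  x := 10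
  par := fun c => get8 0x0 c
  lab := fun c => get8 0x100 c
  pt := fun c => get8 0xe0a c
  ipt := fun c => get8 0x10000000000000000000000000000 c

def lowD4P_2 : LowerLevel where
  N := 2
  ng := 3
  x := 9
  par := fun c => get8 0x0 c
  lab := fun c => get8 0x200 c
  pt := fun c => get8 0xd09 c
  ipt := fun c => get8 0x100000000000000000000000000 c

def lowD4P_3 : LowerLevel where
  N := 24
  ng := 4
  x := 0
  par := fun c => get8 0x16131110100c0c0c0b0a0908070605050302020101010000 c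
  lab := fun c => get8 0x30202020102010000010203030303020202010201000300 c
  pt := fun c => get8 0x17161514131211100f0e0d0c0b0a09080706050403020100 c
  ipt := fun c => get8 0x17161514131211100f0e0d0c0b0a09080706050403020100 c

def certD4P : Cert where
  m := mD4P
  Ls := chainD4P
  A := actD4P
  LLs := [lowD4P_0, lowD4P_1, lowD4P_2, lowD4P_3]


theorem certD4P_ok : certD4P.ok 4 = true := by decide +kernel

theorem certD4P_order : certD4P.order = 192 := by decide +kernel

end Cfsg.Agent.Helper6.TC
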