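import Mathlib
import Cfsg.Agent.Lib.Helper6.CoxeterCert

/-!
# Certificates for the Coxeter groups of types B₂, G₂, D₄, F₄ (generated data)
-/

namespace Cfsg.Agent.Helper6.TC

def mB2 : ℕ → ℕ → ℕ := fun i j => get8 0x1040401 (i * 2 + j)

def lvB2_0 : Level where
  N := 2
  ng := 1
  T := fun s c => get8 0x1 (s * 2 + c)
  par := fun c => get8 0x0 c
  lab := fun c => get8 0x0 c
  acts := [
    [.tree 1, .rel 0 0 0 1]]

def lvB2_1 : Level where
  N := 4
  ng := 2
  T := fun s c => get8 0x203000103010200 (s * 4 + c)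
  par := fun c => get8 0x2010000 c
  lab := fun c => get8 0x1000100 c
  acts := [
    [.base 0, .tree 1, .tree 2, .tree 3, .rel 0 0 1 1, .rel 1 1 0 1, .rel 1 1 2 1, .rel 0 1 0 4]]

def chainB2 : List Level := [lvB2_0, lvB2_1]

def actB2 : Action where
  N := 4
  T := fun s c => get8 0x203000103010200 (s * 4 + c)

def lowB2_0 : LowerLevel where
  N := 2
  ng := 1
  x := 1
  par := fun c => get8 0x0 c
  lab := fun c => get8 0x0 c
  pt := fun c => get8 0x201 c
  ipt := fun c => get8 0x10000 c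

def lowB2_1 : LowerLevel where
  N := 4
  ng := 2
  x := 0
  par := fun c => get8 0x2010000 c
  lab := fun c => get8 0x1000100 c
  pt := fun c => get8 0x3020100 c
  ipt := fun c => get8 0x3020100 c

def certB2 : Cert where
  m := mB2
  Ls := chainB2
  A := actB2
  LLs := [lowB2_0, lowB2_1]

def mG2 : ℕ → ℕ → ℕ := fun i j => get8 0x1060601 (i * 2 + j)

def lvG2_0 : Level where
  N := 2
  ng := 1
  T := fun s c => get8 0x1 (s * 2 + c)
  par := fun c => get8 0x0 c
  lab := fun c => get8 0x0 c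
  acts := [
    [.tree 1, .rel 0 0 0 1]]

def lvG2_1 : Level where
  N := 6
  ng := 2
  T := fun s c => get8 0x40502030001050304010200 (s * 6 + c)
  par := fun c => get8 0x40302010000 c
  lab := fun c => get8 0x10001000100 c
  acts := [
    [.base 0, .tree 1, .tree 2, .tree 3, .tree 4, .tree 5, .rel 0 0 1 1, .rel 0 0 3 1, 
     .rel 1 1 0 1, .rel 1 1 2 1, .rel 1 1 4 1, .rel 0 1 0 6]]

def chainG2 : List Level := [lvG2_0, lvG2_1]

def actG2 : Action where
  N := 6
  T := fun s c => get8 0x40502030001050304010200 (s * 6 + c)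

def lowG2_0 : LowerLevel where
  N := 2
  ng := 1
  x := 1
  par := fun c => get8 0x0 c
  lab := fun c => get8 0x0 c
  pt := fun c => get8 0x201 c
  ipt := fun c => get8 0x10000 c

def lowG2_1 : LowerLevel where
  N := 6
  ng := 2
  x := 0
  par := fun c => get8 0x40302010000 c
  lab := fun c => get8 0x10001000100 c
  pt := fun c => get8 0x50403020100 c
  ipt := fun c => get8 0x50403020100 c

def certG2 : Cert where
  m := mG2
  Ls := chainG2
  A := actG2
  LLs := [lowG2_0, lowG2_1]

def mD4 : ℕ → ℕ → ℕ := fun i j => get8 0x1020302020103020303010302020301 (i * 4 + j)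

def lvD4_0 : Level where
  N := 2
  ng := 1
  T := fun s c => get8 0x1 (s * 2 + c)
  par := fun c => get8 0x0 c
  lab := fun c => get8 0x0 c
  acts := [
    [.tree 1, .rel 0 0 0 1]]

def lvD4_1 : Level where
  N := 3
  ng := 2
  T := fun s c => get8 0x20001010200 (s * 3 + c)
  par := fun c => get8 0x10000 c
  lab := fun c => get8 0x100 c
  acts := [
    [.base 0, .tree 1, .tree 2, .rel 0 0 1 1, .rel 1 1 0 1, .rel 0 1 0 3]]

def lvD4_2 : Level where
  N := 4
  ng := 3
  T := fun s c => get8 0x30200010301020002030100 (s * 4 + c)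
  par := fun c => get8 0x2010000 c
  lab := fun c => get8 0x10200 c
  acts := [
    [.base 0, .base 1, .tree 1, .tree 2, .tree 3, .rel 0 0 2 1, .rel 1 1 1 1, .rel 2 2 0 1, 
     .rel 0 2 0 2, .rel 1 0 1 2, .rel 1 2 0 3, .rel 2 0 2 2]]

def lvD4_3 : Level where
  N := 8
  ng := 4
  T := fun s c => get8 0x607050403020001070603020504010007050604030102000706040502030100 (s * 8 + c)
  par := fun c => get8 0x605030202010000 c
  lab := fun c => get8 0x301020200010300 c
  acts := [
    [.base 0, .base 1, .base 2, .tree 1, .tree 2, .tree 3, .tree 4, .tree 5, .tree 6, .tree 7, 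
     .rel 0 0 2 1, .rel 1 1 1 1, .rel 1 1 5 1, .rel 2 2 2 1, .rel 2 2 3 1, .rel 3 3 0 1, 
     .rel 3 3 6 1, .rel 0 2 2 2, .rel 0 2 3 2, .rel 0 3 0 2, .rel 1 0 1 2, .rel 1 2 3 3, 
     .rel 1 3 0 3, .rel 2 3 0 2, .rel 2 3 2 1, .rel 2 3 6 2, .rel 3 0 2 2, .rel 3 0 4 2, 
     .rel 3 1 5 3, .rel 1 2 1 2, .rel 0 1 4 2, .rel 0 3 6 2]]

def chainD4 : List Level := [lvD4_0, lvD4_1, lvD4_2, lvD4_3]

def actD4 : Action where
  N := 16
  T := fun s c => get8 0xe0f0d0c0b0a080907060302050401000f0e0b0a0d0c090806070504030200010f0d0e0c0b090a0807050604030102000f0e0c0d0a0b09080706040502030100 (s * 16 + c)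

def lowD4_0 : LowerLevel where
  N := 2
  ng := 1
  x := 2
  par := fun c => get8 0x0 c
  lab := fun c => get8 0x0 c
  pt := fun c => get8 0x302 c
  ipt := fun c => get8 0x1000000 c

def lowD4_1 : LowerLevel where
  N := 3
  ng := 2
  x := 1
  par := fun c => get8 0x10000 c
  lab := fun c => get8 0x100 c
  pt := fun c => get8 0x30201 c
  ipt := fun c => get8 0x2010000 c

def lowD4_2 : LowerLevel where
  N := 4
  ng := 3
  x := 0
  par := fun c => get8 0x2010000 c
  lab := fun c => get8 0x10200 c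
  pt := fun c => get8 0x3020100 c
  ipt := fun c => get8 0x3020100 c

def lowD4_3 : LowerLevel where
  N := 8
  ng := 4
  x := 8
  par := fun c => get8 0x605030202010000 c
  lab := fun c => get8 0x301020200010300 c
  pt := fun c => get8 0xf0e0d0c0b0a0908 c
  ipt := fun c => get8 0x7060504030201000000000000000000 c

def certD4 : Cert where
  m := mD4
  Ls := chainD4
  A := actD4
  LLs := [lowD4_0, lowD4_1, lowD4_2, lowD4_3]

def mF4 : ℕ → ℕ → ℕ := fun i j => get8 0x1030202030104020204010302020301 (i * 4 + j)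

def lvF4_0 : Level where
  N := 2
  ng := 1
  T := fun s c => get8 0x1 (s * 2 + c)
  par := fun c => get8 0x0 c
  lab := fun c => get8 0x0 c
  acts := [
    [.tree 1, .rel 0 0 0 1]]

def lvF4_1 : Level where
  N := 3
  ng := 2
  T := fun s c => get8 0x20001010200 (s * 3 + c)
  par := fun c => get8 0x10000 c
  lab := fun c => get8 0x100 c
  acts := [
    [.base 0, .tree 1, .tree 2, .rel 0 0 1 1, .rel 1 1 0 1, .rel 0 1 0 3]]

def lvF4_2 : Level where
  N := 8
  ng := 3
  T := fun s c => get8 0x60703020504000107050604030102000706040502030100 (s * 8 + c)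
  par := fun c => get8 0x605030202010000 c
  lab := fun c => get8 0x201020200010200 c
  acts := [
    [.base 0, .base 1, .tree 1, .tree 2, .tree 3, .tree 4, .tree 5, .tree 6, .tree 7, 
     .rel 0 0 2 1, .rel 1 1 1 1, .rel 1 1 5 1, .rel 2 2 0 1, .rel 2 2 2 1, .rel 2 2 3 1, 
     .rel 2 2 6 1, .rel 0 2 0 2, .rel 0 2 2 2, .rel 0 2 3 2, .rel 1 0 1 2, .rel 1 2 0 4, 
     .rel 1 2 3 4, .rel 0 1 4 2, .rel 0 2 6 2]]

def lvF4_3 : Level where
  N := 24
  ng := 4
  T := fun s c => get8 0x161715141311120f100d0e0a080c060b050907040302000117151612101411130f0c0b0e0d08090a0704030605010200171614151312110e0d100f0c090a0b0607080504020301001716151314100f12110e0d0c0b0a07080905060304020100 (s * 24 + c)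
  par := fun c => get8 0x1615141210100f0e0d0c0b0a080806060504030302010000 c
  lab := fun c => get8 0x30201020200000101020203030203010302020001020300 c
  acts := [
    [.base 0, .base 1, .base 2, .tree 1, .tree 2, .tree 3, .tree 4, .tree 5, .tree 6, .tree 7, 
     .tree 8, .tree 9, .tree 10, .tree 11, .tree 12, .tree 13, .tree 14, .tree 15, .tree 16, 
     .tree 17, .tree 18, .tree 19, .tree 20, .tree 21, .tree 22, .tree 23, .rel 0 0 3 1, 
     .rel 0 0 15 1, .rel 0 0 16 1, .rel 1 1 2 1, .rel 1 1 6 1, .rel 1 1 13 1, .rel 1 1 14 1, 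
     .rel 1 1 20 1, .rel 2 2 1 1, .rel 2 2 3 1, .rel 2 2 4 1, .rel 2 2 8 1, .rel 2 2 11 1, 
     .rel 2 2 12 1],
    [.rel 2 2 16 1, .rel 2 2 18 1, .rel 2 2 21 1, .rel 3 3 0 1, .rel 3 3 5 1, .rel 3 3 6 1, 
     .rel 3 3 8 1, .rel 3 3 10 1, .rel 3 3 22 1, .rel 0 2 3 2, .rel 0 2 4 2, .rel 0 2 16 2, 
     .rel 0 2 18 2, .rel 0 3 0 2, .rel 0 3 5 2, .rel 0 3 6 2, .rel 1 3 0 2, .rel 1 3 6 2, 
     .rel 1 3 8 2, .rel 2 0 1 1, .rel 2 1 1 3, .rel 2 3 0 3, .rel 2 3 8 3, .rel 2 3 10 3, 
     .rel 3 1 2 2, .rel 3 1 5 1, .rel 3 1 13 2, .rel 3 1 14 2, .rel 3 2 3 3, .rel 0 1 2 3, 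
     .rel 0 1 5 2, .rel 0 1 7 2, .rel 0 2 7 1, .rel 0 2 8 2, .rel 0 2 11 2, .rel 0 3 3 1, 
     .rel 0 3 10 2, .rel 0 3 13 2, .rel 0 3 15 1, .rel 0 3 16 1],
    [.rel 1 0 13 2, .rel 1 0 14 2, .rel 1 2 4 4, .rel 1 2 9 3, .rel 1 2 18 4, .rel 1 3 10 2, 
     .rel 1 3 22 2, .rel 2 0 15 2, .rel 2 1 12 3, .rel 2 3 15 3, .rel 2 3 17 3, .rel 3 1 20 2, 
     .rel 3 2 21 3, .rel 0 1 19 2, .rel 0 2 21 2, .rel 0 3 22 2]]

def chainF4 : List Level := [lvF4_0, lvF4_1, lvF4_2, lvF4_3]

def actF4 : Action where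
  N := 24
  T := fun s c => get8 0x161715141311120f100d0e0a080c060b050907040302000117151612101411130f0c0b0e0d08090a0704030605010200171614151312110e0d100f0c090a0b0607080504020301001716151314100f12110e0d0c0b0a07080905060304020100 (s * 24 + c)

def lowF4_0 : LowerLevel where
  N := 2
  ng := 1
  x := 3
  par := fun c => get8 0x0 c
  lab := fun c => get8 0x0 c
  pt := fun c => get8 0x403 c
  ipt := fun c => get8 0x100000000 c

def lowF4_1 : LowerLevel where
  N := 3
  ng := 2
  x := 2
  par := fun c => get8 0x10000 c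
  lab := fun c => get8 0x100 c
  pt := fun c => get8 0x40302 c
  ipt := fun c => get8 0x201000000 c

def lowF4_2 : LowerLevel where
  N := 8
  ng := 3
  x := 1
  par := fun c => get8 0x605030202010000 c
  lab := fun c => get8 0x201020200010200 c
  pt := fun c => get8 0xa08060504030201 c
  ipt := fun c => get8 0x700060005040302010000 c

def lowF4_3 : LowerLevel where
  N := 24
  ng := 4
  x := 0
  par := fun c => get8 0x1615141210100f0e0d0c0b0a080806060504030302010000 c
  lab := fun c => get8 0x30201020200000101020203030203010302020001020300 c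
  pt := fun c => get8 0x17161514131211100f0e0d0c0b0a09080706050403020100 c
  ipt := fun c => get8 0x17161514131211100f0e0d0c0b0a09080706050403020100 c

def certF4 : Cert where
  m := mF4
  Ls := chainF4
  A := actF4
  LLs := [lowF4_0, lowF4_1, lowF4_2, lowF4_3]


theorem certB2_ok : certB2.ok 2 = true := by decide +kernel
theorem certG2_ok : certG2.ok 2 = true := by decide +kernel
theorem certD4_ok : certD4.ok 4 = true := by decide +kernel
theorem certF4_ok : certF4.ok 4 = true := by decide +kernel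

theorem mB2_eq : ∀ i j : Fin 2, (CoxeterMatrix.B 2) i j = mB2 i j := by
  intro i j; fin_cases i <;> fin_cases j <;> decide +kernel
theorem mG2_eq : ∀ i j : Fin 2, CoxeterMatrix.G₂ i j = mG2 i j := by
  intro i j; fin_cases i <;> fin_cases j <;> decide +kernel
theorem mF4_eq : ∀ i j : Fin 4, CoxeterMatrix.F₄ i j = mF4 i j := by
  intro i j; fin_cases i <;> fin_cases j <;> decide +kernel

theorem certB2_order : certB2.order = 8 := by decide +kernel
theorem certG2_order : certG2.order = 12 := by decide +kernel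
theorem certD4_order : certD4.order = 192 := by decide +kernel
theorem certF4_order : certF4.order = 1152 := by decide +kernel

end Cfsg.Agent.Helper6.TC
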