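import Mathlib
import Cfsg.Agent.Lib.Helper6.CoxeterCert

/-!
# Orders of elements of Coxeter groups through a faithful action on points
-/

namespace Cfsg.Agent.Helper6.TC

variable {n : ℕ}

/-- the action of the word `r` (as a product of generators) on the point `y` -/
def wordAct (A : Action) (r : List ℕ) (y : ℕ) : ℕ := walk A.T r.reverse y

def orderOk (A : Action) (n : ℕ) (r : List ℕ) (h x0 : ℕ) : Bool :=
  decide (0 < h) && decide (x0 < A.N) && (r.all fun a => decide (a < n)) &&
  ((List.range A.N).all fun c => decide ((wordAct A r)^[h] c = c)) &&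
  ((List.range h).all fun t => decide (t = 0) || decide ((wordAct A r)^[t] x0 ≠ x0))

lemma orderOk_spec (A : Action) (n : ℕ) (r : List ℕ) (h x0 : ℕ) (hok : orderOk A n r h x0 = true) :
    0 < h ∧ x0 < A.N ∧ (∀ a ∈ r, a < n) ∧ (∀ c < A.N, (wordAct A r)^[h] c = c) ∧
      ∀ t < h, t = 0 ∨ (wordAct A r)^[t] x0 ≠ x0 := by
  simp only [orderOk, Bool.and_eq_true, Bool.or_eq_true, decide_eq_true_eq, List.all_eq_true,
    List.mem_range] at hok
  obtain ⟨⟨⟨⟨h1, h2⟩, h3⟩, h4⟩, h5⟩ := hok
  exact ⟨h1, h2, h3, h4, h5⟩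

lemma wp_actFun_ge (A : Action) (r : List ℕ) (c : ℕ) (hc : ¬ c < A.N) :
    wp (actFun A.T A.N) r c = c := by
  induction r with
  | nil => simp [End_one_apply]
  | cons a r ih => rw [wp_cons, End_mul_apply, ih, actFun_of_ge A hc]

lemma pow_wp_actFun (A : Action) (n : ℕ) (hcl : ∀ c < A.N, ∀ s < n, A.T s c < A.N)
    (r : List ℕ) (hr : ∀ a ∈ r, a < n) (t c : ℕ) (hc : c < A.N) :
    (wp (actFun A.T A.N) r ^ t) c = (wordAct A r)^[t] c := by
  induction t generalizing c with
  | zero => simp [End_one_apply]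
  | succ t ih =>
    obtain ⟨h1, h2⟩ := wp_actFun A n hcl r hr c hc
    rw [pow_succ, End_mul_apply, h1, Function.iterate_succ_apply]
    exact ih _ h2

lemma pow_wp_actFun_ge (A : Action) (r : List ℕ) (t c : ℕ) (hc : ¬ c < A.N) :
    (wp (actFun A.T A.N) r ^ t) c = c := by
  induction t with
  | zero => simp [End_one_apply]
  | succ t ih => rw [pow_succ, End_mul_apply, wp_actFun_ge A r c hc, ih]

theorem orderOf_wp_actFun (m : ℕ → ℕ → ℕ) (A : Action) (n : ℕ) (hA : A.ok m n = true)
    (r : List ℕ) (h x0 : ℕ) (hok : orderOk A n r h x0 = true) :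
    orderOf (wp (actFun A.T A.N) r) = h := by
  obtain ⟨hcl, -⟩ := A.ok_spec m n hA
  obtain ⟨h1, h2, h3, h4, h5⟩ := orderOk_spec A n r h x0 hok
  rw [orderOf_eq_iff h1]
  constructor
  · funext c
    by_cases hc : c < A.N
    · rw [pow_wp_actFun A n hcl r h3 h c hc, h4 c hc, End_one_apply]
    · rw [pow_wp_actFun_ge A r h c hc, End_one_apply]
  · intro t ht ht0 heq
    rcases h5 t ht with h6 | h6
    · omega
    · apply h6
      rw [← pow_wp_actFun A n hcl r h3 t x0 h2, heq, End_one_apply]

lemma map_wp {G H : Type*} [Monoid G] [Monoid H] (φ : G →* H) (g : ℕ → G) (r : List ℕ) :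
    φ (wp g r) = wp (fun i => φ (g i)) r := by
  simp [wp, map_list_prod, List.map_map, Function.comp_def]

lemma wp_congr {G : Type*} [Monoid G] (g g' : ℕ → G) (r : List ℕ) (h : ∀ a ∈ r, g a = g' a) :
    wp g r = wp g' r := by
  unfold wp
  rw [List.map_congr_left h]

/-- the order of the product of the generators along a word, in a Coxeter group with a
verified certificate -/
theorem coxeter_orderOf_word (M : CoxeterMatrix (Fin n)) (C : Cert)
    (hm : ∀ i j : Fin n, M i j = C.m i j) (hok : C.ok n = true)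
    (r : List ℕ) (h x0 : ℕ) (hord : orderOk C.A n r h x0 = true) :
    orderOf (wp (cgen M) r) = h := by
  obtain ⟨-, φ, hinj, hφ⟩ := coxeter_main M C hm hok
  have hA : C.A.ok C.m n = true := by
    simp only [Cert.ok, Bool.and_eq_true] at hok
    exact hok.1.1.1.2
  obtain ⟨-, -, h3, -, -⟩ := orderOk_spec C.A n r h x0 hord
  rw [← orderOf_injective φ hinj, map_wp,
    wp_congr _ (actFun C.A.T C.A.N) r (fun a ha => by
      rw [cgen_of_lt M (h3 a ha)]; exact hφ ⟨a, h3 a ha⟩)]
  exact orderOf_wp_actFun C.m C.A n hA r h x0 hord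

lemma coxeterElement_eq (M : CoxeterMatrix (Fin n)) :
    ((List.finRange n).map M.simple).prod = wp (cgen M) (List.range n) := by
  unfold wp
  rw [← List.map_coe_finRange_eq_range, List.map_map]
  congr 1
  apply List.map_congr_left
  intro i _
  exact (cgen_val M i).symm

theorem coxeterElement_orderOf (M : CoxeterMatrix (Fin n)) (C : Cert)
    (hm : ∀ i j : Fin n, M i j = C.m i j) (hok : C.ok n = true)
    (h x0 : ℕ) (hord : orderOk C.A n (List.range n) h x0 = true) :
    orderOf ((List.finRange n).map M.simple).prod = h := by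
  rw [coxeterElement_eq]
  exact coxeter_orderOf_word M C hm hok _ h x0 hord

end Cfsg.Agent.Helper6.TC
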