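import Mathlib
import Cfsg.Agent.Lib.Helper6.CoxeterOrder

/-!
# Faithful actions on points: equality of words, centres, generation
-/

namespace Cfsg.Agent.Helper6.TC

open Subgroup

variable {W : Type*} [Group W]

/-- A group generated by involutions `g 0, …, g (n-1)` acting faithfully on points through the
table of the action `A`. -/
structure Faithful (A : Action) (n : ℕ) (g : ℕ → W) where
  φ : W →* Function.End ℕ
  inj : Function.Injective φ
  hφ : ∀ i < n, φ (g i) = actFun A.T A.N i
  top : Hk g n = ⊤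
  closed : ∀ c < A.N, ∀ s < n, A.T s c < A.N
  hinv : ∀ i < n, (g i)⁻¹ = g i

namespace Faithful

variable {A : Action} {n : ℕ} {g : ℕ → W} (F : Faithful A n g)

include F

lemma φ_wp (r : List ℕ) (hr : ∀ a ∈ r, a < n) : F.φ (wp g r) = wp (actFun A.T A.N) r := by
  rw [map_wp]
  exact wp_congr _ _ r (fun a ha => F.hφ a (hr a ha))

lemma φ_wp_apply (r : List ℕ) (hr : ∀ a ∈ r, a < n) {y : ℕ} (hy : y < A.N) :
    F.φ (wp g r) y = wordAct A r y := by
  rw [F.φ_wp r hr]
  exact (wp_actFun A n F.closed r hr y hy).1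

lemma wordAct_lt (r : List ℕ) (hr : ∀ a ∈ r, a < n) {y : ℕ} (hy : y < A.N) :
    wordAct A r y < A.N :=
  (wp_actFun A n F.closed r hr y hy).2

/-- two words with the same action on all points represent the same group element -/
lemma wp_eq_of_act (r r' : List ℕ) (hr : ∀ a ∈ r, a < n) (hr' : ∀ a ∈ r', a < n)
    (h : ∀ y < A.N, wordAct A r y = wordAct A r' y) : wp g r = wp g r' := by
  apply F.inj
  rw [F.φ_wp r hr, F.φ_wp r' hr']
  funext y
  by_cases hy : y < A.N
  · rw [(wp_actFun A n F.closed r hr y hy).1, (wp_actFun A n F.closed r' hr' y hy).1]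
    exact h y hy
  · rw [wp_actFun_ge A r y hy, wp_actFun_ge A r' y hy]

lemma mem_top (w : W) : w ∈ closure (g '' Set.Iio n) := by
  have := F.top
  unfold Hk at this
  rw [this]
  exact Subgroup.mem_top w

lemma φ_lt (w : W) {y : ℕ} (hy : y < A.N) : F.φ w y < A.N := by
  have hw := F.mem_top w
  induction hw using closure_induction_right generalizing y with
  | one => rwa [map_one, End_one_apply]
  | mul_right x hx z hz ih =>
    obtain ⟨s, hs, rfl⟩ := hz
    rw [map_mul, End_mul_apply, F.hφ s hs, actFun_of_lt A hy]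
    exact ih (F.closed y hy s hs)
  | mul_inv_cancel x hx z hz ih =>
    obtain ⟨s, hs, rfl⟩ := hz
    rw [F.hinv s hs, map_mul, End_mul_apply, F.hφ s hs, actFun_of_lt A hy]
    exact ih (F.closed y hy s hs)

lemma φ_ge (w : W) {y : ℕ} (hy : ¬ y < A.N) : F.φ w y = y := by
  have hw := F.mem_top w
  induction hw using closure_induction_right with
  | one => rw [map_one, End_one_apply]
  | mul_right x hx z hz ih =>
    obtain ⟨s, hs, rfl⟩ := hz
    rw [map_mul, End_mul_apply, F.hφ s hs, actFun_of_ge A hy, ih]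
  | mul_inv_cancel x hx z hz ih =>
    obtain ⟨s, hs, rfl⟩ := hz
    rw [F.hinv s hs, map_mul, End_mul_apply, F.hφ s hs, actFun_of_ge A hy, ih]

lemma wp_reverse (r : List ℕ) (hr : ∀ a ∈ r, a < n) : wp g r.reverse = (wp g r)⁻¹ := by
  induction r with
  | nil => simp
  | cons a r ih =>
    rw [List.reverse_cons, wp_append, wp_cons, wp_nil, mul_one, wp_cons, mul_inv_rev,
      ih (fun b hb => hr b (List.mem_cons_of_mem _ hb)), F.hinv a (hr a List.mem_cons_self)]

omit F in
lemma wp_flatten_replicate (g : ℕ → W) (k : ℕ) (r : List ℕ) :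
    wp g (List.replicate k r).flatten = wp g r ^ k := by
  induction k with
  | zero => simp
  | succ k ih => rw [List.replicate_succ, List.flatten_cons, wp_append, ih, pow_succ']

/-- an element commuting with all generators is central -/
lemma mem_center_of_comm (z : W) (h : ∀ i < n, z * g i = g i * z) : z ∈ center W := by
  rw [Subgroup.mem_center_iff]
  intro w
  have hle : closure (g '' Set.Iio n) ≤ centralizer {z} := by
    rw [closure_le]
    rintro _ ⟨i, hi, rfl⟩
    rw [SetLike.mem_coe, mem_centralizer_singleton_iff]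
    exact (h i hi).symm
  have := hle (F.mem_top w)
  rw [mem_centralizer_singleton_iff] at this
  exact this

end Faithful

/-! ### The centre -/

/-- Data determining the centre: a base point `b` from which every point is reached along the
tree (`par`, `lab`, `pt`, `ipt`), the list `fixl` of the points fixed by all the generators fixing
`b`, and for each of them a central word `zs` carrying `b` there. -/
structure CenterData where
  b : ℕ
  par : ℕ → ℕ
  lab : ℕ → ℕ
  pt : ℕ → ℕ
  ipt : ℕ → ℕ
  fixl : List ℕ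
  zs : List (List ℕ)

def centerOk (A : Action) (n : ℕ) (D : CenterData) : Bool :=
  decide (D.b < A.N) && decide (D.pt 0 = D.b) &&
  ((List.range A.N).all fun c => decide (D.pt c < A.N) &&
    (decide (c = 0) || (decide (D.par c < c) && decide (D.lab c < n) &&
      decide (D.pt c = A.T (D.lab c) (D.pt (D.par c)))))) &&
  ((List.range A.N).all fun y => decide (D.ipt y < A.N) && decide (D.pt (D.ipt y) = y)) &&
  ((List.range A.N).all fun y =>
    (!((List.range n).all fun s => decide (A.T s D.b = D.b → A.T s y = y))) ||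
      decide (y ∈ D.fixl)) &&
  decide (D.zs.length = D.fixl.length) &&
  ((List.range D.zs.length).all fun j =>
     ((D.zs.getD j []).all fun a => decide (a < n)) &&
     decide (wordAct A (D.zs.getD j []) D.b = D.fixl.getD j 0) &&
     ((List.range n).all fun i => (List.range A.N).all fun y =>
        decide (wordAct A (D.zs.getD j [] ++ [i]) y = wordAct A (i :: D.zs.getD j []) y)))

lemma centerOk_spec (A : Action) (n : ℕ) (D : CenterData) (h : centerOk A n D = true) :
    D.b < A.N ∧ D.pt 0 = D.b ∧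
    (∀ c < A.N, D.pt c < A.N ∧ (c = 0 ∨ (D.par c < c ∧ D.lab c < n ∧
      D.pt c = A.T (D.lab c) (D.pt (D.par c))))) ∧
    (∀ y < A.N, D.ipt y < A.N ∧ D.pt (D.ipt y) = y) ∧
    (∀ y < A.N, (∀ s < n, A.T s D.b = D.b → A.T s y = y) → y ∈ D.fixl) ∧
    D.zs.length = D.fixl.length ∧
    (∀ j < D.zs.length, (∀ a ∈ D.zs.getD j [], a < n) ∧
      wordAct A (D.zs.getD j []) D.b = D.fixl.getD j 0 ∧
      ∀ i < n, ∀ y < A.N,
        wordAct A (D.zs.getD j [] ++ [i]) y = wordAct A (i :: D.zs.getD j []) y) := by
  simp only [centerOk, Bool.and_eq_true, Bool.or_eq_true, Bool.not_eq_true', decide_eq_true_eq,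
    List.all_eq_true, List.mem_range, List.all_eq_false] at h
  obtain ⟨⟨⟨⟨⟨⟨h1, h2⟩, h3⟩, h4⟩, h5⟩, h6⟩, h7⟩ := h
  refine ⟨h1, h2, ?_, h4, ?_, h6, ?_⟩
  · intro c hc
    obtain ⟨h8, h9⟩ := h3 c hc
    refine ⟨h8, ?_⟩
    rcases h9 with h9 | h9
    · exact Or.inl h9
    · exact Or.inr ⟨h9.1.1, h9.1.2, h9.2⟩
  · intro y hy hfix
    rcases h5 y hy with ⟨s, hs, hns⟩ | hmem
    · exact absurd (hfix s hs) hns
    · exact hmem
  · intro j hj
    obtain ⟨⟨h8, h9⟩, h10⟩ := h7 j hj
    exact ⟨h8, h9, h10⟩

/-- the element carrying `b` to the point `pt c` -/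
noncomputable def cwit (D : CenterData) (g : ℕ → W) : ℕ → W
  | 0 => 1
  | c + 1 => g (D.lab (c + 1)) * cwit D g (min (D.par (c + 1)) c)
termination_by c => c
decreasing_by omega

lemma cwit_zero (D : CenterData) (g : ℕ → W) : cwit D g 0 = 1 := by
  rw [cwit]

lemma cwit_of_lt (D : CenterData) (g : ℕ → W) {c : ℕ} (h0 : c ≠ 0) (h : D.par c < c) :
    cwit D g c = g (D.lab c) * cwit D g (D.par c) := by
  obtain ⟨c, rfl⟩ : ∃ d, c = d + 1 := ⟨c - 1, by omega⟩
  rw [cwit]
  congr 2
  omega

variable {A : Action} {n : ℕ} {g : ℕ → W}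

lemma cwit_spec (F : Faithful A n g) (D : CenterData) (hD : centerOk A n D = true) (c : ℕ)
    (hc : c < A.N) : F.φ (cwit D g c) D.b = D.pt c := by
  obtain ⟨h1, h2, h3, -⟩ := centerOk_spec A n D hD
  induction c using Nat.strong_induction_on with
  | _ c ih =>
    obtain ⟨h4, h5⟩ := h3 c hc
    rcases h5 with rfl | ⟨h5, h6, h7⟩
    · rw [cwit_zero, map_one, End_one_apply, h2]
    · have hc0 : c ≠ 0 := by omega
      rw [cwit_of_lt D g hc0 h5, map_mul, End_mul_apply, ih (D.par c) h5 (by omega), F.hφ _ h6,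
        actFun_of_lt A (h3 _ (by omega)).1, h7]

/-- a central element is determined by the image of the base point -/
lemma central_eq_of_apply_eq (F : Faithful A n g) (D : CenterData) (hD : centerOk A n D = true)
    {z z' : W} (hz : z ∈ center W) (hz' : z' ∈ center W) (h : F.φ z D.b = F.φ z' D.b) :
    z = z' := by
  obtain ⟨h1, h2, h3, h4, -⟩ := centerOk_spec A n D hD
  apply F.inj
  funext y
  by_cases hy : y < A.N
  · obtain ⟨h5, h6⟩ := h4 y hy
    have hu := cwit_spec F D hD (D.ipt y) h5
    rw [h6] at hu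
    set u := cwit D g (D.ipt y)
    have e1 : F.φ z y = F.φ u (F.φ z D.b) := by
      rw [← hu]
      change (F.φ z * F.φ u) D.b = (F.φ u * F.φ z) D.b
      rw [← map_mul, ← map_mul, Subgroup.mem_center_iff.mp hz u]
    have e2 : F.φ z' y = F.φ u (F.φ z' D.b) := by
      rw [← hu]
      change (F.φ z' * F.φ u) D.b = (F.φ u * F.φ z') D.b
      rw [← map_mul, ← map_mul, Subgroup.mem_center_iff.mp hz' u]
    rw [e1, e2, h]
  · rw [F.φ_ge z hy, F.φ_ge z' hy]

lemma central_word (F : Faithful A n g) (D : CenterData) (hD : centerOk A n D = true)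
    {j : ℕ} (hj : j < D.zs.length) : wp g (D.zs.getD j []) ∈ center W := by
  obtain ⟨-, -, -, -, -, -, h7⟩ := centerOk_spec A n D hD
  obtain ⟨h8, -, h10⟩ := h7 j hj
  apply F.mem_center_of_comm
  intro i hi
  have := F.wp_eq_of_act (D.zs.getD j [] ++ [i]) (i :: D.zs.getD j [])
    (by
      intro a ha
      rcases List.mem_append.mp ha with ha | ha
      · exact h8 a ha
      · rw [List.mem_singleton] at ha; omega)
    (by
      intro a ha
      rcases List.mem_cons.mp ha with ha | ha
      · omega
      · exact h8 a ha)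
    (h10 i hi)
  rw [wp_append, wp_cons, wp_cons, wp_nil, mul_one] at this
  exact this

lemma central_exists (F : Faithful A n g) (D : CenterData) (hD : centerOk A n D = true)
    {z : W} (hz : z ∈ center W) : ∃ j < D.zs.length, z = wp g (D.zs.getD j []) := by
  obtain ⟨h1, h2, h3, h4, h5, h6, h7⟩ := centerOk_spec A n D hD
  have hy : F.φ z D.b < A.N := F.φ_lt z h1
  have hmem : F.φ z D.b ∈ D.fixl := by
    apply h5 _ hy
    intro s hs hfix
    have e1 : F.φ (g s) (F.φ z D.b) = A.T s (F.φ z D.b) := by
      rw [F.hφ s hs, actFun_of_lt A hy]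
    have e2 : F.φ (g s) (F.φ z D.b) = F.φ z D.b := by
      change (F.φ (g s) * F.φ z) D.b = _
      rw [← map_mul, Subgroup.mem_center_iff.mp hz (g s), map_mul, End_mul_apply, F.hφ s hs,
        actFun_of_lt A h1, hfix]
    rw [← e1, e2]
  obtain ⟨j, hj, hjy⟩ := List.getElem_of_mem hmem
  have hj' : j < D.zs.length := by omega
  refine ⟨j, hj', ?_⟩
  obtain ⟨h8, h9, -⟩ := h7 j hj'
  apply central_eq_of_apply_eq F D hD hz (central_word F D hD hj')
  rw [F.φ_wp_apply _ h8 h1, h9, ← hjy]
  simp [List.getD_eq_getElem?_getD, hj]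

theorem center_result (F : Faithful A n g) (D : CenterData) (hD : centerOk A n D = true)
    (hnodup : D.fixl.Nodup) (cw : List ℕ) (ks : List ℕ)
    (hzs : D.zs = ks.map fun k => (List.replicate k cw).flatten) :
    Nat.card (center W) = D.zs.length ∧ center W ≤ zpowers (wp g cw) := by
  obtain ⟨h1, h2, h3, h4, h5, h6, h7⟩ := centerOk_spec A n D hD
  constructor
  · have hbij : Function.Bijective (fun j : Fin D.zs.length =>
        (⟨wp g (D.zs.getD j []), central_word F D hD j.2⟩ : center W)) := by
      constructor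
      · intro j j' hjj
        have e : wp g (D.zs.getD j []) = wp g (D.zs.getD j' []) := congrArg Subtype.val hjj
        have e1 := (h7 j j.2)
        have e2 := (h7 j' j'.2)
        have : D.fixl.getD j 0 = D.fixl.getD j' 0 := by
          rw [← e1.2.1, ← e2.2.1, ← F.φ_wp_apply _ e1.1 h1, ← F.φ_wp_apply _ e2.1 h1, e]
        have hj : (j : ℕ) < D.fixl.length := by rw [← h6]; exact j.2
        have hj' : (j' : ℕ) < D.fixl.length := by rw [← h6]; exact j'.2
        simp only [List.getD_eq_getElem?_getD, List.getElem?_eq_getElem hj,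
          List.getElem?_eq_getElem hj', Option.getD_some] at this
        exact Fin.ext ((List.Nodup.getElem_inj_iff hnodup).mp this)
      · rintro ⟨z, hz⟩
        obtain ⟨j, hj, rfl⟩ := central_exists F D hD hz
        exact ⟨⟨j, hj⟩, rfl⟩
    rw [← Nat.card_eq_of_bijective _ hbij, Nat.card_fin]
  · intro z hz
    obtain ⟨j, hj, rfl⟩ := central_exists F D hD hz
    have hjk : j < ks.length := by rw [hzs, List.length_map] at hj; exact hj
    have : D.zs.getD j [] = (List.replicate (ks[j]) cw).flatten := by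
      rw [hzs]
      simp [List.getD_eq_getElem?_getD, hjk]
    rw [this, Faithful.wp_flatten_replicate]
    exact pow_mem (mem_zpowers _) _

end Cfsg.Agent.Helper6.TC
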