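import Mathlib
import Cfsg.Agent.Lib.Helper6.CoxeterFaithful

/-!
# Coxeter groups with a reordering of the generators: faithful actions from certificates
-/

namespace Cfsg.Agent.Helper6.TC

open Subgroup

variable {n : ℕ}

/-- the simple reflections in the order given by `σ`, indexed by `ℕ` -/
noncomputable def cgenP (M : CoxeterMatrix (Fin n)) (σ : Equiv.Perm (Fin n)) (i : ℕ) : M.Group :=
  if h : i < n then M.simple (σ ⟨i, h⟩) else 1

lemma cgenP_of_lt (M : CoxeterMatrix (Fin n)) (σ : Equiv.Perm (Fin n)) {i : ℕ} (h : i < n) :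
    cgenP M σ i = M.simple (σ ⟨i, h⟩) := by
  simp [cgenP, h]

lemma cgenP_val (M : CoxeterMatrix (Fin n)) (σ : Equiv.Perm (Fin n)) (i : Fin n) :
    cgenP M σ i = M.simple (σ i) := by
  rw [cgenP_of_lt M σ i.2]

lemma Hk_cgenP_top (M : CoxeterMatrix (Fin n)) (σ : Equiv.Perm (Fin n)) :
    Hk (cgenP M σ) n = ⊤ := by
  rw [eq_top_iff, ← M.toCoxeterSystem.subgroup_closure_range_simple]
  apply Subgroup.closure_mono
  rintro _ ⟨i, rfl⟩
  refine ⟨(σ.symm i : Fin n), (σ.symm i).2, ?_⟩
  rw [cgenP_val, Equiv.apply_symm_apply]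
  rfl

theorem coxeter_faithful_perm (M : CoxeterMatrix (Fin n)) (σ : Equiv.Perm (Fin n)) (C : Cert)
    (hm : ∀ i j : Fin n, M (σ i) (σ j) = C.m i j) (hok : C.ok n = true) :
    Nat.card M.Group = C.order ∧ Nonempty (Faithful C.A n (cgenP M σ)) := by
  have hm' : ∀ i j : Fin n, (M.reindex σ.symm) i j = C.m i j := by
    intro i j
    rw [CoxeterMatrix.reindex_apply]
    exact hm i j
  obtain ⟨hcard, φ', hinj, hφ'⟩ := coxeter_main (M.reindex σ.symm) C hm' hok
  let ψ : (M.reindex σ.symm).Group ≃* M.Group := M.reindexGroupEquiv σ.symm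
  have hA : C.A.ok C.m n = true := by
    simp only [Cert.ok, Bool.and_eq_true] at hok
    exact hok.1.1.1.2
  refine ⟨?_, ⟨{
    φ := φ'.comp ψ.symm.toMonoidHom
    inj := hinj.comp ψ.symm.injective
    hφ := ?_
    top := Hk_cgenP_top M σ
    closed := (C.A.ok_spec C.m n hA).1
    hinv := ?_ }⟩⟩
  · rw [← hcard]
    exact Nat.card_congr ψ.symm.toEquiv
  · intro i hi
    rw [cgenP_of_lt M σ hi]
    change φ' (ψ.symm (M.simple (σ ⟨i, hi⟩))) = _
    rw [CoxeterMatrix.reindexGroupEquiv_symm_apply_simple, Equiv.symm_apply_apply]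
    exact hφ' ⟨i, hi⟩
  · intro i hi
    rw [cgenP_of_lt M σ hi]
    exact M.toCoxeterSystem.inv_simple _

lemma coxeterElement_eq_perm (M : CoxeterMatrix (Fin n)) (σ : Equiv.Perm (Fin n)) (cw : List ℕ)
    (hcw : cw = (List.finRange n).map (fun i => ((σ.symm i : Fin n) : ℕ))) :
    ((List.finRange n).map M.simple).prod = wp (cgenP M σ) cw := by
  unfold wp
  rw [hcw, List.map_map]
  congr 1
  apply List.map_congr_left
  intro i _
  simp only [Function.comp_apply]
  rw [cgenP_val, Equiv.apply_symm_apply]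

end Cfsg.Agent.Helper6.TC
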