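import Mathlib
import Cfsg.Agent.Lib.Helper6.CoxeterPerm
import Cfsg.Agent.Lib.Helper6.CoxeterDataSmall
import Cfsg.Agent.Lib.Helper6.CoxeterDataE
import Cfsg.Agent.Lib.Helper6.CoxeterDataD4P

/-!
# Centre data for the Coxeter groups of types B₂, G₂, D₄, F₄, E₆, E₇, E₈ (generated data)
-/

namespace Cfsg.Agent.Helper6.TC


def centB2 : CenterData where
  b := 0
  par := fun c => get8 0x2010000 c
  lab := fun c => get8 0x1000100 c
  pt := fun c => c
  ipt := fun c => c
  fixl := [0, 3]
  zs := [0, 2].map fun k => (List.replicate k [0, 1]).flatten


def centG2 : CenterData where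
  b := 0
  par := fun c => get8 0x40302010000 c
  lab := fun c => get8 0x10001000100 c
  pt := fun c => c
  ipt := fun c => c
  fixl := [0, 5]
  zs := [0, 3].map fun k => (List.replicate k [0, 1]).flatten


def centD4P : CenterData where
  b := 0
  par := fun c => get8 0x16131110100c0c0c0b0a0908070605050302020101010000 c
  lab := fun c => get8 0x30202020102010000010203030303020202010201000300 c
  pt := fun c => c
  ipt := fun c => c
  fixl := [0, 23]
  zs := [0, 3].map fun k => (List.replicate k [0, 3, 1, 2]).flatten


def centF4 : CenterData where
  b := 0
  par := fun c => get8 0x1615141210100f0e0d0c0b0a080806060504030302010000 c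
  lab := fun c => get8 0x30201020200000101020203030203010302020001020300 c
  pt := fun c => c
  ipt := fun c => c
  fixl := [0, 23]
  zs := [0, 6].map fun k => (List.replicate k [0, 1, 2, 3]).flatten


def centE6 : CenterData where
  b := 0
  par := fun c => get8 0x19181715141311110f0f0d0c0b0a0a090806060504030302010000 c
  lab := fun c => get8 0x203040405050105030504050402040303000002020103040500 c
  pt := fun c => c
  ipt := fun c => c
  fixl := [0]
  zs := [0].map fun k => (List.replicate k [0, 1, 2, 3, 4, 5]).flatten


def centE7 : CenterData where
  b := 0
  par := fun c => get8 0x36353433312f2f2e2d2c2b2928272625232222201f1f1e1c1c1a19191717161413131110100f0e0d0c0b0b0a090707060504040302010000 c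
  lab := fun c => get8 0x605040302020101030304040504050605060005060205060306060406040506050106050306050405040204030300000202010304050600 c
  pt := fun c => c
  ipt := fun c => c
  fixl := [0, 55]
  zs := [0, 9].map fun k => (List.replicate k [0, 1, 2, 3, 4, 5, 6]).flatten


def centE8 : CenterData where
  b := 0
  par := fun c => get8 0xeeedecebeae8e6e6e5e4e3e2e0dfdedddcd9d8d8d7d5d4d4d3d2d0d0cfcdcccccac8c8c7c6c5c3c2c2bfbfbdbcbcbbb9b9b8b7b6b5b3b2b1b0b0aeadacacabaaa7a7a6a5a3a3a2a1a09e9e9d9c9a989897969595929291908f8f8e8c8b8a89898887858483838281807d7c7c7b7a797877767574737271706f6e6d6c6b6a696968666564636262605f5e5d5c5b5b5a5957565554545251504f4e4d4d4b4a4947464646454342424140403e3d3c3c3a3a3837353534343230302f2f2e2d2b2a2a2929272525242422222120201e1d1c1c1a1919181615141413121111100f0e0d0c0c0b0a080807060505040302010000 c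
  lab := fun c => get8 0x70605040302020101030304040504050605060000050602020506030306060404060405040506050105010605030105030605040305040504020405040204030402040303000204030300000203030000020201030000020201030000020201030400020201030405000201030405060001020304050607020303040506070603040405060705040405050607040405050606070305060506070702050607060702010506070106070306060703070406070704070506070407050606070705060007070506020705070603070606040706040507060501070605030605040504020403030000020201030405060700 c
  pt := fun c => c
  ipt := fun c => c
  fixl := [0, 239]
  zs := [0, 15].map fun k => (List.replicate k [0, 1, 2, 3, 4, 5, 6, 7]).flatten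

theorem centB2_ok : centerOk certB2.A 2 centB2 = true := by decide +kernel
theorem centG2_ok : centerOk certG2.A 2 centG2 = true := by decide +kernel
theorem centD4P_ok : centerOk certD4P.A 4 centD4P = true := by decide +kernel
theorem centF4_ok : centerOk certF4.A 4 centF4 = true := by decide +kernel
theorem centE6_ok : centerOk certE6.A 6 centE6 = true := by decide +kernel
theorem centE7_ok : centerOk certE7.A 7 centE7 = true := by decide +kernel
theorem centE8_ok : centerOk certE8.A 8 centE8 = true := by decide +kernel

end Cfsg.Agent.Helper6.TC
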