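import Mathlib
import Cfsg.Agent.Lib.Helper6.CoxeterFaithful

/-!
# Generation by a word and some reflections, checked through a faithful action
-/

namespace Cfsg.Agent.Helper6.TC

open Subgroup

variable {W : Type*} [Group W]

/-- the word of the reflection `u * s_i * u⁻¹` -/
def tword (t : List ℕ × ℕ) : List ℕ := t.1 ++ t.2 :: t.1.reverse

/-- Data for a generation statement: the word `cw`, the reflections `tws` and, for each generator,
an expression as a list of blocks (`0` for `cw`, `1` for its inverse, `k + 2` for the `k`-th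
reflection). -/
structure GenData where
  cw : List ℕ
  tws : List (List ℕ × ℕ)
  exprs : List (List ℕ)

def GenData.blockWord (D : GenData) : ℕ → List ℕ
  | 0 => D.cw
  | 1 => D.cw.reverse
  | k + 2 => tword (D.tws.getD k ([], 0))

def genOk (A : Action) (n : ℕ) (D : GenData) : Bool :=
  (D.cw.all fun a => decide (a < n)) &&
  (D.tws.all fun t => (t.1.all fun a => decide (a < n)) && decide (t.2 < n)) &&
  decide (D.exprs.length = n) &&
  ((List.range n).all fun i =>
    ((D.exprs.getD i []).all fun k => decide (k < D.tws.length + 2)) &&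
    ((List.range A.N).all fun y =>
      decide (wordAct A ((D.exprs.getD i []).map D.blockWord).flatten y = A.T i y)))

lemma genOk_spec (A : Action) (n : ℕ) (D : GenData) (h : genOk A n D = true) :
    (∀ a ∈ D.cw, a < n) ∧ (∀ t ∈ D.tws, (∀ a ∈ t.1, a < n) ∧ t.2 < n) ∧ D.exprs.length = n ∧
    ∀ i < n, (∀ k ∈ D.exprs.getD i [], k < D.tws.length + 2) ∧
      ∀ y < A.N, wordAct A ((D.exprs.getD i []).map D.blockWord).flatten y = A.T i y := by
  simp only [genOk, Bool.and_eq_true, decide_eq_true_eq, List.all_eq_true, List.mem_range] at h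
  obtain ⟨⟨⟨h1, h2⟩, h3⟩, h4⟩ := h
  exact ⟨h1, h2, h3, h4⟩

variable {A : Action} {n : ℕ} {g : ℕ → W}

lemma tword_lt (t : List ℕ × ℕ) (h1 : ∀ a ∈ t.1, a < n) (h2 : t.2 < n) :
    ∀ a ∈ tword t, a < n := by
  intro a ha
  simp only [tword, List.mem_append, List.mem_cons, List.mem_reverse] at ha
  rcases ha with ha | rfl | ha
  · exact h1 a ha
  · exact h2
  · exact h1 a ha

lemma wp_tword (F : Faithful A n g) (t : List ℕ × ℕ) (h1 : ∀ a ∈ t.1, a < n) :
    wp g (tword t) = wp g t.1 * g t.2 * (wp g t.1)⁻¹ := by
  rw [tword, wp_append, wp_cons, F.wp_reverse _ h1, mul_assoc]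

lemma blockWord_lt (D : GenData) (hD : genOk A n D = true) {k : ℕ}
    (hk : k < D.tws.length + 2) : ∀ a ∈ D.blockWord k, a < n := by
  obtain ⟨h1, h2, -, -⟩ := genOk_spec A n D hD
  match k, hk with
  | 0, _ => exact h1
  | 1, _ =>
    intro a ha
    exact h1 a (List.mem_reverse.mp ha)
  | k + 2, hk =>
    have hk' : k < D.tws.length := by omega
    have : D.tws.getD k ([], 0) = D.tws[k] := by
      simp [List.getD_eq_getElem?_getD, hk']
    simp only [GenData.blockWord, this]
    exact tword_lt _ (h2 _ (List.getElem_mem hk')).1 (h2 _ (List.getElem_mem hk')).2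

theorem gen_result (F : Faithful A n g) (D : GenData) (hD : genOk A n D = true) (S : Set W)
    (hc : wp g D.cw ∈ S) (ht : ∀ t ∈ D.tws, wp g (tword t) ∈ S) : closure S = ⊤ := by
  obtain ⟨h1, h2, h3, h4⟩ := genOk_spec A n D hD
  have hblock : ∀ k < D.tws.length + 2, wp g (D.blockWord k) ∈ closure S := by
    intro k hk
    match k, hk with
    | 0, _ => exact subset_closure hc
    | 1, _ =>
      simp only [GenData.blockWord]
      rw [F.wp_reverse _ h1]
      exact inv_mem (subset_closure hc)
    | k + 2, hk =>
      have hk' : k < D.tws.length := by omega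
      have : D.tws.getD k ([], 0) = D.tws[k] := by
        simp [List.getD_eq_getElem?_getD, hk']
      simp only [GenData.blockWord, this]
      exact subset_closure (ht _ (List.getElem_mem hk'))
  have hflat : ∀ e : List ℕ, (∀ k ∈ e, k < D.tws.length + 2) →
      wp g (e.map D.blockWord).flatten ∈ closure S ∧
        ∀ a ∈ (e.map D.blockWord).flatten, a < n := by
    intro e he
    induction e with
    | nil => simp
    | cons k e ih =>
      obtain ⟨i1, i2⟩ := ih (fun k' hk' => he k' (List.mem_cons_of_mem _ hk'))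
      rw [List.map_cons, List.flatten_cons, wp_append]
      refine ⟨mul_mem (hblock k (he k List.mem_cons_self)) i1, ?_⟩
      intro a ha
      rcases List.mem_append.mp ha with ha | ha
      · exact blockWord_lt D hD (he k List.mem_cons_self) a ha
      · exact i2 a ha
  rw [eq_top_iff, ← F.top]
  unfold Hk
  rw [closure_le]
  rintro _ ⟨i, hi, rfl⟩
  have hi : i < n := hi
  obtain ⟨h5, h6⟩ := h4 i hi
  obtain ⟨i1, i2⟩ := hflat _ h5
  have : wp g ((D.exprs.getD i []).map D.blockWord).flatten = wp g [i] := by
    apply F.wp_eq_of_act _ _ i2 (by intro a ha; rw [List.mem_singleton] at ha; omega)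
    intro y hy
    rw [h6 y hy]
    simp [wordAct]
  rw [wp_cons, wp_nil, mul_one] at this
  rw [SetLike.mem_coe, ← this]
  exact i1

end Cfsg.Agent.Helper6.TC
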