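import Mathlib
import Cfsg.Agent.Lib.Helper6.CoxeterGen
import Cfsg.Agent.Lib.Helper6.CoxeterPerm
import Cfsg.Agent.Lib.Helper6.CoxeterDataSmall
import Cfsg.Agent.Lib.Helper6.CoxeterDataE

/-!
# Generation data for the Coxeter groups of types B₂, G₂, D₄, F₄, E₆, E₇, E₈ (generated data)
-/

namespace Cfsg.Agent.Helper6.TC


def genB2 : GenData where
  cw := [0, 1]
  tws := [([], 0)]
  exprs := [[2],
    [2, 0]]


def genG2 : GenData where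
  cw := [0, 1]
  tws := [([], 0)]
  exprs := [[2],
    [2, 0]]


def genD4 : GenData where
  cw := [0, 1, 2, 3]
  tws := [([], 0), ([], 2)]
  exprs := [[2],
    [0, 2, 1],
    [3],
    [1, 2, 1, 3, 0, 2, 0]]


def genF4 : GenData where
  cw := [0, 1, 2, 3]
  tws := [([], 0), ([], 2)]
  exprs := [[2],
    [0, 2, 1],
    [3],
    [0, 3, 1]]


def genE6 : GenData where
  cw := [0, 1, 2, 3, 4, 5]
  tws := [([], 0)]
  exprs := [[2],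
    [1, 2, 1, 1, 1, 2, 0, 0, 0, 2, 0],
    [0, 2, 1],
    [0, 0, 0, 0, 0, 2, 1, 1, 1, 1, 1],
    [0, 0, 0, 0, 0, 0, 2, 1, 1, 1, 1, 1, 1],
    [1, 1, 1, 1, 1, 2, 0, 0, 0, 0, 0]]


def genE7 : GenData where
  cw := [0, 1, 2, 3, 4, 5, 6]
  tws := [([], 1)]
  exprs := [[0, 0, 0, 2, 0, 0, 2, 1, 1, 2, 1, 1, 1],
    [2],
    [1, 1, 1, 2, 1, 1, 2, 0, 0, 2, 0, 0, 0],
    [2, 1, 1, 2, 1, 1, 2, 0, 0, 2, 0, 0, 2],
    [0, 2, 1, 1, 2, 1, 1, 2, 0, 0, 2, 0, 0, 2, 1],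
    [1, 1, 2, 0, 0, 2, 0, 0, 2, 1, 1, 2, 1, 1, 2, 0, 0],
    [1, 2, 0, 0, 2, 0, 0, 2, 1, 1, 2, 1, 1, 2, 0]]


def genE8 : GenData where
  cw := [0, 1, 2, 3, 4, 5, 6, 7]
  tws := [([], 0)]
  exprs := [[2],
    [1, 2, 1, 1, 2, 1, 1, 1, 2, 0, 0, 0, 2, 0, 0, 2, 0],
    [0, 2, 1],
    [0, 0, 0, 0, 2, 0, 0, 0, 2, 1, 1, 1, 2, 1, 1, 1, 1],
    [0, 0, 0, 0, 0, 2, 0, 0, 0, 2, 1, 1, 1, 2, 1, 1, 1, 1, 1],
    [0, 0, 0, 0, 0, 0, 2, 0, 0, 0, 2, 1, 1, 1, 2, 1, 1, 1, 1, 1, 1],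
    [1, 1, 1, 1, 1, 2, 1, 1, 1, 2, 0, 0, 0, 2, 0, 0, 0, 0, 0],
    [1, 1, 1, 1, 2, 1, 1, 1, 2, 0, 0, 0, 2, 0, 0, 0, 0]]

theorem genB2_ok : genOk certB2.A 2 genB2 = true := by decide +kernel
theorem genG2_ok : genOk certG2.A 2 genG2 = true := by decide +kernel
theorem genD4_ok : genOk certD4.A 4 genD4 = true := by decide +kernel
theorem genF4_ok : genOk certF4.A 4 genF4 = true := by decide +kernel
theorem genE6_ok : genOk certE6.A 6 genE6 = true := by decide +kernel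
theorem genE7_ok : genOk certE7.A 7 genE7 = true := by decide +kernel
theorem genE8_ok : genOk certE8.A 8 genE8 = true := by decide +kernel

end Cfsg.Agent.Helper6.TC
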