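import Mathlib
import Cfsg.Agent.Lib.Helper6.FoldCalc
import Cfsg.Prelude.Def_ChevD4
import Cfsg.Prelude.Def_ChevG2

/-!
# Folding `D₄` onto `G₂`: the table and the verified relations
-/

set_option autoImplicit false
set_option maxRecDepth 100000

namespace Cfsg.Agent.Helper6.Fold.D4

open Cfsg Cfsg.Lie Cfsg.Agent.Lead.Chev

/-- the classes of roots of `D₄` over the roots of `G₂`, with signs -/
def tab : Tab := [[(0, -1)],
  [(1, -1)],
  [(2, -1), (6, 1), (3, -1)],
  [(4, 1), (7, -1), (8, -1)],
  [(5, 1), (10, 1), (11, 1)],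
  [(9, 1)],
  [(14, 1)],
  [(18, 1), (13, 1), (12, 1)],
  [(15, -1), (19, 1), (16, -1)],
  [(17, 1), (20, -1), (21, -1)],
  [(22, -1)],
  [(23, -1)]]

theorem addOK : ∀ a < 12, addChk chevD4 tab a = true := by decide +kernel

theorem hOK : ∀ a < 12, hChk chevD4 chevG2 tab a = true := by decide +kernel

theorem relOK_0 : ∀ s < 12, relChk chevD4 chevG2 tab 0 s = true := by decide +kernel

theorem relOK_1 : ∀ s < 12, relChk chevD4 chevG2 tab 1 s = true := by decide +kernel

theorem relOK_2 : ∀ s < 12, relChk chevD4 chevG2 tab 2 s = true := by decide +kernel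

theorem relOK_3 : ∀ s < 12, relChk chevD4 chevG2 tab 3 s = true := by decide +kernel

theorem relOK_4 : ∀ s < 12, relChk chevD4 chevG2 tab 4 s = true := by decide +kernel

theorem relOK_5 : ∀ s < 12, relChk chevD4 chevG2 tab 5 s = true := by decide +kernel

theorem relOK_6 : ∀ s < 12, relChk chevD4 chevG2 tab 6 s = true := by decide +kernel

theorem relOK_7 : ∀ s < 12, relChk chevD4 chevG2 tab 7 s = true := by decide +kernel

theorem relOK_8 : ∀ s < 12, relChk chevD4 chevG2 tab 8 s = true := by decide +kernel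

theorem relOK_9 : ∀ s < 12, relChk chevD4 chevG2 tab 9 s = true := by decide +kernel

theorem relOK_10 : ∀ s < 12, relChk chevD4 chevG2 tab 10 s = true := by decide +kernel

theorem relOK_11 : ∀ s < 12, relChk chevD4 chevG2 tab 11 s = true := by decide +kernel

theorem relOK : ∀ r < 12, ∀ s < 12, relChk chevD4 chevG2 tab r s = true := by
  intro r hr
  interval_cases r
  · exact relOK_0
  · exact relOK_1
  · exact relOK_2
  · exact relOK_3
  · exact relOK_4
  · exact relOK_5
  · exact relOK_6
  · exact relOK_7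
  · exact relOK_8
  · exact relOK_9
  · exact relOK_10
  · exact relOK_11

end Cfsg.Agent.Helper6.Fold.D4
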