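import Mathlib
import Cfsg.Agent.Lib.Helper6.FoldD4
import Cfsg.Agent.Lib.Helper6.FoldTw
import Cfsg.Agent.Lib.Helper6.FoldFix
import Cfsg.Agent.Lib.Lead.TwD4Torus

/-!
# The fixed points of the triality automorphism of `D₄(K)` form a group isomorphic to `G₂(K)`
-/

set_option autoImplicit false
set_option linter.unusedSectionVars false
set_option linter.unusedSimpArgs false
set_option linter.unusedVariables false
set_option maxRecDepth 100000

namespace Cfsg.Agent.Helper6.Fold.D4

open Cfsg Cfsg.Lie Cfsg.Agent.Lead.Chev Cfsg.Agent.Lead.Tw Cfsg.Agent.Helper6.ChevC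

variable {K : Type*} [Field K]

theorem fixOK : ∀ a < 12, fixChk chevD4 tab GD4a.gp.π GD4a.gp.ε a = true := by decide +kernel

theorem ltOK : ∀ a < 12, ∀ e ∈ tab.getD a [], e.1 < 24 := by decide +kernel

theorem posOK : ∀ a < 12, chevG2.IsPosRoot a → ∀ e ∈ tab.getD a [], chevD4.IsPosRoot e.1 := by decide +kernel

theorem foldOK : FoldOK chevD4 chevG2 (Lead.Tw.D4.hF (K := K)).xadd tab :=
  FoldOK.of_chk chevD4 chevG2 _ tab (by decide) ltOK addOK relOK hOK

/-- the triality twist, without field automorphism -/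
noncomputable abbrev T0 (K : Type*) [Field K] : Twist chevD4 K (Lead.Tw.D4.hF (K := K)).xadd :=
  Lead.Tw.D4.tw (RingEquiv.refl K)

theorem hc (r : ℕ) (hr : r < chevD4.nroots) (t : K) : (T0 K).c r t = ((GD4a.gp.ε r : ℤ) : K) * t := rfl

theorem Y_fixed' (a : ℕ) (ha : a < 12) (t : K) :
    (T0 K).σ (Y chevD4 (Lead.Tw.D4.hF (K := K)).xadd tab a t) = Y chevD4 (Lead.Tw.D4.hF (K := K)).xadd tab a t :=
  Y_fixed Lead.Tw.D4.hF (T0 K) tab GD4a.gp.ε hc a (ltOK a ha) (fixOK a ha) t

theorem hmem7 : chevD4 ∈ [chevG2, chevB2, chevD4, chevF4, chevE6, chevE7, chevE8] := by simp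

theorem fixed_mem [Fintype K] (g : GL chevD4.Idx K) (hg : g ∈ chevD4.group K) (hfix : (T0 K).σ g = g) :
    g ∈ orthGroup Lead.Tw.D4.hF (T0 K) Lead.Tw.D4.S :=
  fixed_mem_orthGroup (Lead.Tw.D4.orthData (RingEquiv.refl K)) (corSize_of_mem chevD4 hmem7)
    (corComb_of_mem chevD4 hmem7) (RingEquiv.refl K) Lead.Tw.D4.πe (fun i => rfl)
    (fun i hi t => Lead.Tw.D4.c_simple (RingEquiv.refl K) i hi t)
    (fun i hi t => Lead.Tw.D4.c_neg_simple (RingEquiv.refl K) i hi t) Lead.Tw.D4.hperm (Lead.Tw.D4.hcm (RingEquiv.refl K))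
    Lead.Tw.D4.hcart Lead.Tw.D4.hρs (Lead.Tw.D4.hker (RingEquiv.refl K) (fun t => rfl)) g hg hfix

/-- the generators of the twisted group are folded root elements -/
theorem orthGroup_le :
    orthGroup Lead.Tw.D4.hF (T0 K) Lead.Tw.D4.S ≤
      Subgroup.closure {g | ∃ a < chevG2.nroots, ∃ t : K, g = Y chevD4 (Lead.Tw.D4.hF (K := K)).xadd tab a t} := by
  unfold orthGroup
  rw [Subgroup.closure_le]
  have hS : ∀ v ∈ Lead.Tw.D4.S, v = [1] ∨ v = [0, 2, 3] := by
    intro v hv
    simpa [Lead.Tw.D4.S] using hv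
  have hs := Lead.Tw.D4.simple_vals
  have hn := Lead.Tw.D4.neg_simple_vals
  rintro g (⟨v, hv, f, hf, rfl⟩ | ⟨v, hv, f, hf, rfl⟩)
  · rcases hS v hv with rfl | rfl
    · apply Subgroup.subset_closure
      refine ⟨6, by decide, f 1, ?_⟩
      show (List.map (fun i => xGL chevD4 _ (chevD4.simple i) (f i)) [1]).prod =
        wordGL chevD4 _ [(14, ((1 : ℤ) : K) * f 1)]
      rw [List.map_cons, List.map_nil, List.prod_cons, List.prod_nil, wordGL_singleton, hs.2.1, Int.cast_one,
        one_mul, mul_one]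
      rfl
    · apply Subgroup.subset_closure
      refine ⟨7, by decide, f 0, ?_⟩
      have h0 : f 2 = f 0 := by
        have := hf 0 (by simp)
        rw [Lead.Tw.D4.c_simple _ 0 (by norm_num)] at this
        exact this
      have h2 : f 3 = f 2 := by
        have := hf 2 (by simp)
        rw [Lead.Tw.D4.c_simple _ 2 (by norm_num)] at this
        exact this
      show (List.map (fun i => xGL chevD4 _ (chevD4.simple i) (f i)) [0, 2, 3]).prod =
        wordGL chevD4 _ [(18, ((1 : ℤ) : K) * f 0), (13, ((1 : ℤ) : K) * f 0), (12, ((1 : ℤ) : K) * f 0)]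
      rw [List.map_cons, List.map_cons, List.map_cons, List.map_nil, List.prod_cons, List.prod_cons,
        List.prod_cons, List.prod_nil, wordGL_cons, wordGL_cons, wordGL_singleton, hs.1, hs.2.2.1, hs.2.2.2,
        Int.cast_one, one_mul, h2, h0, mul_one]
      rfl
  · rcases hS v hv with rfl | rfl
    · apply Subgroup.subset_closure
      refine ⟨5, by decide, f 1, ?_⟩
      show (List.map (fun i => xGL chevD4 _ (chevD4.neg (chevD4.simple i)) (f i)) [1]).prod =
        wordGL chevD4 _ [(9, ((1 : ℤ) : K) * f 1)]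
      rw [List.map_cons, List.map_nil, List.prod_cons, List.prod_nil, wordGL_singleton, hn.2.1, Int.cast_one,
        one_mul, mul_one]
      rfl
    · apply Subgroup.subset_closure
      refine ⟨4, by decide, f 0, ?_⟩
      have h0 : f 2 = f 0 := by
        have := hf 0 (by simp)
        rw [Lead.Tw.D4.c_neg_simple _ 0 (by norm_num)] at this
        exact this
      have h2 : f 3 = f 2 := by
        have := hf 2 (by simp)
        rw [Lead.Tw.D4.c_neg_simple _ 2 (by norm_num)] at this
        exact this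
      show (List.map (fun i => xGL chevD4 _ (chevD4.neg (chevD4.simple i)) (f i)) [0, 2, 3]).prod =
        wordGL chevD4 _ [(5, ((1 : ℤ) : K) * f 0), (10, ((1 : ℤ) : K) * f 0), (11, ((1 : ℤ) : K) * f 0)]
      rw [List.map_cons, List.map_cons, List.map_cons, List.map_nil, List.prod_cons, List.prod_cons,
        List.prod_cons, List.prod_nil, wordGL_cons, wordGL_cons, wordGL_singleton, hn.1, hn.2.2.1, hn.2.2.2,
        Int.cast_one, one_mul, h2, h0, mul_one]
      rfl

/-- **`G₂(K)` is isomorphic to the group of fixed points of the triality twist on `D₄(K)`** -/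
theorem nonempty_equiv [Fintype K] :
    Nonempty (↥(chevG2.group K) ≃* ↥(orthGroup Lead.Tw.D4.hF (T0 K) Lead.Tw.D4.S)) :=
  fold_equiv (D := chevD4) (D' := chevG2) (by simp) Lead.Tw.D4.hF (T0 K) Lead.Tw.D4.S tab foldOK fixed_mem
    (fun a ha t => Y_fixed' a ha t) orthGroup_le (fun a ha => posOK a ha.1 ha) 5 (by decide) 14 (by decide) 1
    (Or.inl rfl) (by decide)

/-- the fixed points are exactly the twisted group -/
theorem mem_orthGroup_iff [Fintype K] (g : GL chevD4.Idx K) :
    g ∈ orthGroup Lead.Tw.D4.hF (T0 K) Lead.Tw.D4.S ↔ g ∈ chevD4.group K ∧ (T0 K).σ g = g := by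
  have h := Lead.Tw.D4.orthData (RingEquiv.refl K)
  constructor
  · intro hg
    exact ⟨h.le_group hg, h.fixed g hg⟩
  · rintro ⟨hg, hfix⟩
    exact fixed_mem g hg hfix

end Cfsg.Agent.Helper6.Fold.D4
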