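import Mathlib
import Cfsg.Agent.Lib.Helper6.FrobCent
import Cfsg.Agent.Lib.Helper6.FieldFix

/-!
For a field automorphism `σ` of `F` and a subgroup `K` of the Chevalley group `G` over `F` lying between the group
generated by the `x_s(t)`, `σ t = t`, and the group of fixed points of the entrywise map `σ`:
`C_G(K) = 1` and `N_G(K)` is the group of fixed points.
-/

set_option autoImplicit false
set_option linter.unusedSectionVars false
set_option linter.unusedVariables false

namespace Cfsg.Agent.Helper6.FrobNorm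

open Cfsg Cfsg.Lie Cfsg.Agent.Lead.Chev Cfsg.Agent.Lead.Tw Cfsg.Agent.Helper6.FieldMap
  Cfsg.Agent.Helper6.FieldFix

variable {F : Type*} [Field F]

/-- the subgroup generated by the root elements with fixed parameter -/
def fixGen (D : ChevalleyDatum) (σ : F ≃+* F) : Subgroup (GL D.Idx F) :=
  Subgroup.closure {g : GL D.Idx F | ∃ (s : ℕ) (t : F), σ t = t ∧ (g : Matrix D.Idx D.Idx F) = D.x F s t}

variable {D : ChevalleyDatum} (hF : ChevFacts D F) (σ : F ≃+* F)
include hF

theorem xGL_mem_fixGen (r : ℕ) (t : F) (ht : σ t = t) : xGL D hF.xadd r t ∈ fixGen D σ :=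
  Subgroup.subset_closure ⟨r, t, ht, xGL_val D hF.xadd r t⟩

theorem wordGL_mem_fixGen (w : List (ℕ × F)) (hw : ∀ q ∈ w, σ q.2 = q.2) :
    wordGL D hF.xadd w ∈ fixGen D σ := by
  induction w with
  | nil => rw [wordGL_nil]; exact one_mem _
  | cons q w ih =>
    rw [wordGL_cons]
    exact mul_mem (xGL_mem_fixGen hF σ q.1 q.2 (hw q List.mem_cons_self))
      (ih fun q' hq' => hw q' (List.mem_cons_of_mem _ hq'))

theorem nGL_mem_fixGen (r : ℕ) : nGL D hF.xadd r ∈ fixGen D σ := by
  unfold nGL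
  refine wordGL_mem_fixGen hF σ _ ?_
  intro q hq
  simp only [ChevalleyDatum.nWord, List.mem_cons, List.mem_nil_iff, or_false] at hq
  rcases hq with rfl | rfl | rfl <;> simp

theorem nWordGL_mem_fixGen (w : List ℕ) : nWordGL D hF.xadd w ∈ fixGen D σ := by
  induction w with
  | nil => rw [nWordGL_nil]; exact one_mem _
  | cons i w ih =>
    rw [nWordGL_cons]
    exact mul_mem (nGL_mem_fixGen hF σ _) ih

theorem fixGen_le_group : fixGen D σ ≤ D.group F := by
  unfold fixGen
  rw [Subgroup.closure_le]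
  rintro g ⟨s, t, -, hg⟩
  have : g = xGL D hF.xadd s t := Units.ext (by rw [hg, xGL_val])
  rw [this]
  exact xGL_mem_group D hF.xadd s t

theorem fixGen_fixed (g : GL D.Idx F) (hg : g ∈ fixGen D σ) : mapGL D (σ : F →+* F) g = g := by
  unfold fixGen at hg
  induction hg using Subgroup.closure_induction with
  | mem x hx =>
    obtain ⟨s, t, ht, hx⟩ := hx
    have : x = xGL D hF.xadd s t := Units.ext (by rw [hx, xGL_val])
    rw [this, mapGL_xGL D _ hF.xadd hF.xadd]
    congr 1
  | one => exact map_one _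
  | mul x y _ _ hx hy => rw [map_mul, hx, hy]
  | inv x _ hx => rw [map_inv, hx]

/-- fixed elements of `U` -/
theorem unip_mem_fixGen (u : GL D.Idx F) (hu : u ∈ D.posUnipotent F)
    (hfix : mapGL D (σ : F →+* F) u = u) : u ∈ fixGen D σ := by
  obtain ⟨t, ht⟩ := exists_prodL_of_mem D hF.xadd.add hF.xadd.zero hF.comm hF.poscomm u hu
  have h1 : prodL D D.posRoots (fun r => σ (t r)) = prodL D D.posRoots t := by
    have := prodL_map D (σ : F →+* F) D.posRoots t
    rw [← ht] at this
    have h2 := congrArg (fun g : GL D.Idx F => (g : Matrix D.Idx D.Idx F)) hfix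
    simp only [mapGL_val] at h2
    rw [← ht, ← h2]
    exact this.symm
  have h2 := prodL_posRoots_inj D hF.ufacts hF.xadd.add hF.xadd.zero _ _ h1
  have e : u = wordGL D hF.xadd (D.posRoots.map fun r => (r, t r)) := by
    apply Units.ext
    rw [wordGL_val, ht]
    unfold prodL
    congr 1
  rw [e]
  refine wordGL_mem_fixGen hF σ _ ?_
  intro q hq
  obtain ⟨r, hr, rfl⟩ := List.mem_map.1 hq
  apply h2
  unfold ChevalleyDatum.posRoots at hr
  rw [List.mem_filter] at hr
  exact of_decide_eq_true hr.2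

/-- the decomposition of a fixed point -/
theorem exists_decomp (hS : CorSize D) (g : GL D.Idx F) (hg : g ∈ D.group F)
    (hfix : mapGL D (σ : F →+* F) g = g) :
    ∃ l₁ ∈ fixGen D σ, ∃ h ∈ D.diagonalSubgroup F, ∃ l₂ ∈ fixGen D σ,
      mapGL D (σ : F →+* F) h = h ∧ g = l₁ * h * l₂ := by
  obtain ⟨u₁, hu₁, n, hn, u, hu, f1, f2, f3, rfl⟩ :=
    (fieldTwist hF σ).exists_fixed_canonical hF hS g hg hfix
  obtain ⟨h, hh, w, hw, rfl⟩ :=
    exists_word_of_mem_monomial D hF.xadd (etaOf D) hF.nsimple hF.simple_lt hF.orbit n hn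
  have hwfix : mapGL D (σ : F →+* F) (nWordGL D hF.xadd w) = nWordGL D hF.xadd w :=
    mapGL_nWordGL D _ hF.xadd hF.xadd w
  have hhfix : mapGL D (σ : F →+* F) h = h := by
    have : mapGL D (σ : F →+* F) (h * nWordGL D hF.xadd w) = h * nWordGL D hF.xadd w := f2
    rw [map_mul, hwfix] at this
    exact mul_right_cancel this
  refine ⟨u₁, unip_mem_fixGen hF σ u₁ hu₁ f1, h, hh, nWordGL D hF.xadd w * u,
    mul_mem (nWordGL_mem_fixGen hF σ w)
      (unip_mem_fixGen hF σ u (hF.negPartN_le_posUnipotent _ hu) f3), hhfix, ?_⟩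
  group

/-- a fixed element of `H` normalizes the subgroup `fixGen` -/
theorem diagonal_conj_fixGen (hinj : ∀ r < D.nroots, ∀ t : F, D.x F r t = 1 → t = 0)
    (h : GL D.Idx F) (hh : h ∈ D.diagonalSubgroup F) (hfix : mapGL D (σ : F →+* F) h = h)
    (l : GL D.Idx F) (hl : l ∈ fixGen D σ) : h * l * h⁻¹ ∈ fixGen D σ := by
  unfold fixGen at hl
  induction hl using Subgroup.closure_induction with
  | mem x hx =>
    obtain ⟨s, t, ht, hx⟩ := hx
    have ex : x = xGL D hF.xadd s t := Units.ext (by rw [hx, xGL_val])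
    rw [ex]
    by_cases hs : s < D.nroots
    · obtain ⟨c, hc, hconj⟩ := hF.diagonal_conj_xGL h hh s hs
      have hσc : σ c = c := by
        have h1 := hconj 1
        have h2 := congrArg (mapGL D (σ : F →+* F)) h1
        rw [map_mul, map_mul, map_inv, hfix, mapGL_xGL D _ hF.xadd hF.xadd,
          mapGL_xGL D _ hF.xadd hF.xadd] at h2
        have h3 : ((σ : F →+* F) : F → F) 1 = 1 := map_one _
        rw [h3, h1, mul_one] at h2
        have h4 : xGL D hF.xadd s (c - (σ : F →+* F) c) = 1 := by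
          rw [sub_eq_add_neg, ← xGL_mul, ← xGL_inv, ← h2, mul_inv_cancel]
        have h5 := congrArg (fun g : GL D.Idx F => (g : Matrix D.Idx D.Idx F)) h4
        simp only [xGL_val, Units.val_one] at h5
        have := hinj s hs _ h5
        exact (sub_eq_zero.1 this).symm
      rw [hconj t]
      refine xGL_mem_fixGen hF σ _ _ ?_
      rw [map_mul, hσc, ht]
    · rw [xGL_of_ge D hF.xadd s (not_lt.1 hs), mul_one, mul_inv_cancel]
      exact one_mem _
  | one => rw [mul_one, mul_inv_cancel]; exact one_mem _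
  | mul x y _ _ hx hy =>
    have : h * (x * y) * h⁻¹ = (h * x * h⁻¹) * (h * y * h⁻¹) := by group
    rw [this]
    exact mul_mem hx hy
  | inv x _ hx =>
    have : h * x⁻¹ * h⁻¹ = (h * x * h⁻¹)⁻¹ := by group
    rw [this]
    exact inv_mem hx

variable (K : Subgroup (GL D.Idx F)) (hKG : K ≤ D.group F) (hLK : fixGen D σ ≤ K)
  (hKfix : ∀ g ∈ K, mapGL D (σ : F →+* F) g = g)
include hKG hLK hKfix

/-- a fixed point conjugates `K` into itself -/
theorem conj_mem_of_fixed (hS : CorSize D) (hinj : ∀ r < D.nroots, ∀ t : F, D.x F r t = 1 → t = 0)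
    (g : GL D.Idx F) (hg : g ∈ D.group F) (hfix : mapGL D (σ : F →+* F) g = g)
    (y : GL D.Idx F) (hy : y ∈ K) : g * y * g⁻¹ ∈ K := by
  obtain ⟨l₁, hl₁, h, hh, l₂, hl₂, hhfix, rfl⟩ := exists_decomp hF σ hS g hg hfix
  set y' := l₂ * y * l₂⁻¹ with hy'
  have hy'K : y' ∈ K := mul_mem (mul_mem (hLK hl₂) hy) (inv_mem (hLK hl₂))
  obtain ⟨l₃, hl₃, h', hh', l₄, hl₄, -, e⟩ := exists_decomp hF σ hS y' (hKG hy'K) (hKfix y' hy'K)
  have hcomm : h * h' = h' * h := diagonalSubgroup_comm D hF.hall h h' hh hh'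
  have e1 : h * y' * h⁻¹ = (h * l₃ * h⁻¹ * l₃⁻¹) * y' * (l₄⁻¹ * (h * l₄ * h⁻¹)) := by
    rw [e]
    have : h * (l₃ * h' * l₄) * h⁻¹ = (h * l₃ * h⁻¹) * (h * h') * h⁻¹ * (h * l₄ * h⁻¹) := by group
    rw [this, hcomm]
    group
  have h1 : h * y' * h⁻¹ ∈ K := by
    rw [e1]
    refine mul_mem (mul_mem (hLK ?_) hy'K) (hLK ?_)
    · exact mul_mem (diagonal_conj_fixGen hF σ hinj h hh hhfix l₃ hl₃) (inv_mem hl₃)
    · exact mul_mem (inv_mem hl₄) (diagonal_conj_fixGen hF σ hinj h hh hhfix l₄ hl₄)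
  have e2 : l₁ * h * l₂ * y * (l₁ * h * l₂)⁻¹ = l₁ * (h * y' * h⁻¹) * l₁⁻¹ := by
    rw [hy']
    group
  rw [e2]
  exact mul_mem (mul_mem (hLK hl₁) h1) (inv_mem (hLK hl₁))

/-- **the main theorem** -/
theorem main (hS : CorSize D) (hinj : ∀ r < D.nroots, ∀ t : F, D.x F r t = 1 → t = 0) :
    D.group F ⊓ Subgroup.centralizer (K : Set (GL D.Idx F)) = ⊥ ∧
    ∀ g : GL D.Idx F, g ∈ D.group F →
      (g ∈ Subgroup.normalizer (K : Set (GL D.Idx F)) ↔ mapGL D (σ : F →+* F) g = g) := by
  have hcent : ∀ z : GL D.Idx F, z ∈ D.group F → (∀ y ∈ K, z * y = y * z) → z = 1 := by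
    intro z hz hzc
    apply Cfsg.Agent.Helper6.FrobCent.eq_one_of_commute hF z hz hinj
    intro r hr
    exact hzc _ (hLK (xGL_mem_fixGen hF σ r 1 (map_one σ)))
  constructor
  · rw [eq_bot_iff]
    rintro z ⟨hzG, hzC⟩
    rw [Subgroup.mem_bot]
    apply hcent z hzG
    intro y hy
    have hzC' : z ∈ Subgroup.centralizer (K : Set (GL D.Idx F)) := hzC
    rw [Subgroup.mem_centralizer_iff] at hzC'
    exact (hzC' y hy).symm
  · intro g hg
    constructor
    · intro hgN
      rw [Subgroup.mem_normalizer_iff] at hgN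
      set z := g⁻¹ * mapGL D (σ : F →+* F) g with hz
      have hzG : z ∈ D.group F := by
        refine mul_mem (inv_mem hg) ?_
        exact map_group_le D (σ : F →+* F) hF.xadd hF.xadd ⟨g, hg, rfl⟩
      have hz1 : z = 1 := by
        apply hcent z hzG
        intro y hy
        have h1 : g * y * g⁻¹ ∈ K := (hgN y).1 hy
        have h2 := hKfix _ h1
        rw [map_mul, map_mul, map_inv, hKfix y hy] at h2
        rw [hz]
        have : mapGL D (σ : F →+* F) g * y = g * y * g⁻¹ * mapGL D (σ : F →+* F) g := by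
          rw [← h2]
          group
        calc g⁻¹ * mapGL D (σ : F →+* F) g * y = g⁻¹ * (mapGL D (σ : F →+* F) g * y) := by group
          _ = g⁻¹ * (g * y * g⁻¹ * mapGL D (σ : F →+* F) g) := by rw [this]
          _ = y * (g⁻¹ * mapGL D (σ : F →+* F) g) := by group
      rw [hz] at hz1
      have : mapGL D (σ : F →+* F) g = g * (g⁻¹ * mapGL D (σ : F →+* F) g) := by group
      rw [this, hz1, mul_one]
    · intro hfix
      rw [Subgroup.mem_normalizer_iff]
      intro y
      constructor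
      · intro hy
        exact conj_mem_of_fixed hF σ K hKG hLK hKfix hS hinj g hg hfix y hy
      · intro hy
        have hfix' : mapGL D (σ : F →+* F) g⁻¹ = g⁻¹ := by rw [map_inv, hfix]
        have := conj_mem_of_fixed hF σ K hKG hLK hKfix hS hinj g⁻¹ (inv_mem hg) hfix' _ hy
        have e : g⁻¹ * (g * y * g⁻¹) * g⁻¹⁻¹ = y := by group
        rwa [e] at this

end Cfsg.Agent.Helper6.FrobNorm
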