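import Mathlib
import Cfsg.Agent.Lib.Helper6.G2InvB

/-!
# Involutions of `G₂(q)`, `q` even: every involution of `U` is conjugate to a root element
-/

set_option autoImplicit false
set_option linter.unusedSectionVars false
set_option linter.unusedSimpArgs false
set_option linter.unusedVariables false

namespace Cfsg.Agent.Helper6.G2Inv

open Cfsg Cfsg.Lie Cfsg.Agent.Lead.Chev Cfsg.Agent.Helper6.ChevL Cfsg.Agent.Helper6.RootCent
  Cfsg.Agent.Helper6.HtF Cfsg.Agent.Helper5 Cfsg.Agent.Lead.ChevHt Cfsg.Agent.Helper6.G2S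

variable {F : Type*} [Field F] [CharP F 2] (hF : ChevFacts chevG2 F)
include hF

omit hF in
theorem two0 : (2 : F) = 0 := CharTwo.two_eq_zero

/-- the relations satisfied by the coordinates of an involution -/
theorem invol_facts (p s a b e d : F) (h : NF hF p s a b e d * NF hF p s a b e d = 1) :
    p * s = 0 ∧ s ^ 2 * a + s * b = 0 ∧ s * a ^ 2 + (a * b + p * e) = 0 := by
  rw [sq_NF, ← NF_zero hF] at h
  obtain ⟨-, -, h8, -, h10, h11⟩ := NF_inj hF _ _ _ _ _ _ _ _ _ _ _ _ h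
  have hps : p * s = 0 := by rw [c2, add_zero] at h8; exact h8
  refine ⟨hps, ?_, ?_⟩
  · have : s ^ 2 * a + s * b = s ^ 2 * (p * s) + (s * (p * s ^ 2) + (p * s ^ 3 + (s ^ 2 * a + (s * b + (e + e))))) := by
      linear_combination (-(s ^ 2) - s ^ 2 - s ^ 2) * hps - e * (two0 (F := F))
    rw [this, h10]
  · have : s * a ^ 2 + (a * b + p * e) =
        s * (p * s) ^ 2 + ((a + a) * (p * s ^ 2) + (s * a ^ 2 + (a * b + (p * e + (d + d))))) := by
      linear_combination (-(s ^ 2 * p) - 2 * a * s) * hps - d * (two0 (F := F))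
    rw [this, h11]

omit hF in
/-- a conjugate of an involution is an involution -/
theorem CJ.sq_eq_one {u v : GL chevG2.Idx F} (h : CJ u v) (hu : u * u = 1) : v * v = 1 := by
  obtain ⟨g, -, rfl⟩ := h
  calc g * u * g⁻¹ * (g * u * g⁻¹) = g * (u * u) * g⁻¹ := by group
    _ = 1 := by rw [hu]; group

omit hF in
theorem CJ.ne_one {u v : GL chevG2.Idx F} (h : CJ u v) (hu : u ≠ 1) : v ≠ 1 := by
  obtain ⟨g, -, rfl⟩ := h
  intro h1
  apply hu
  calc u = g⁻¹ * (g * u * g⁻¹) * g := by group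
    _ = 1 := by rw [h1]; group

theorem NF_x6 (t : F) : NF hF t 0 0 0 0 0 = xGL chevG2 hF.xadd 6 t := by
  simp only [NF, xGL_zero, mul_one]
theorem NF_x7 (t : F) : NF hF 0 t 0 0 0 0 = xGL chevG2 hF.xadd 7 t := by
  simp only [NF, xGL_zero, mul_one, one_mul]
theorem NF_x8 (t : F) : NF hF 0 0 t 0 0 0 = xGL chevG2 hF.xadd 8 t := by
  simp only [NF, xGL_zero, mul_one, one_mul]
theorem NF_x9 (t : F) : NF hF 0 0 0 t 0 0 = xGL chevG2 hF.xadd 9 t := by
  simp only [NF, xGL_zero, mul_one, one_mul]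
theorem NF_x10 (t : F) : NF hF 0 0 0 0 t 0 = xGL chevG2 hF.xadd 10 t := by
  simp only [NF, xGL_zero, mul_one, one_mul]
theorem NF_x11 (t : F) : NF hF 0 0 0 0 0 t = xGL chevG2 hF.xadd 11 t := by
  simp only [NF, xGL_zero, mul_one, one_mul]

/-- the case `s ≠ 0` -/
theorem case_B (hsq : ∀ x : F, ∃ y : F, y * y = x) (s a e d : F) (hs : s ≠ 0) :
    CJ (NF hF 0 s a (s * a) e d) (xGL chevG2 hF.xadd 7 s) := by
  have h2 := two0 (F := F)
  -- step 1: conjugate by `x_b(a / s)`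
  have k1 := CJ_x hF 6 (a / s) (NF hF 0 s a (s * a) e d)
  rw [conj6] at k1
  set e₁ := a / s * s ^ 3 + e with he₁
  set d₁ := a * (a / s * s ^ 2) + (a / s * e + d) with hd₁
  have z8 : a / s * s + a = 0 := by
    rw [div_mul_cancel₀ a hs]; exact c2 a
  have z9 : a / s * s ^ 2 + s * a = 0 := by
    have : a / s * s ^ 2 = s * a := by field_simp
    rw [this]; exact c2 _
  rw [NF_congr hF rfl rfl z8 z9 rfl rfl] at k1
  -- step 2: conjugate by `x_{2a+b}(e₁ / s)`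
  have k2 := CJ_x hF 9 (e₁ / s) (NF hF 0 s 0 0 e₁ d₁)
  rw [conj9] at k2
  have z10 : s * (e₁ / s) + e₁ = 0 := by
    rw [mul_div_cancel₀ e₁ hs]; exact c2 _
  have z11 : 0 * (e₁ / s) + d₁ = d₁ := by rw [zero_mul, zero_add]
  rw [NF_congr hF rfl rfl rfl rfl z10 z11] at k2
  -- step 3: conjugate by `x_{a+b}(c)` with `s c² = d₁`
  obtain ⟨c, hc⟩ := hsq (d₁ / s)
  have hc' : s * c ^ 2 = d₁ := by
    rw [pow_two, hc, mul_div_cancel₀ d₁ hs]
  have k3 := CJ_x hF 8 c (NF hF 0 s 0 0 0 d₁)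
  rw [conj8] at k3
  have y10 : s ^ 2 * c + 0 = s ^ 2 * c := add_zero _
  have y11 : c * 0 + (s * c ^ 2 + d₁) = 0 := by
    rw [hc', mul_zero, zero_add]; exact c2 _
  rw [NF_congr hF rfl rfl rfl rfl y10 y11] at k3
  -- step 4: conjugate by `x_{2a+b}(s c)`
  have k4 := CJ_x hF 9 (s * c) (NF hF 0 s 0 0 (s ^ 2 * c) 0)
  rw [conj9] at k4
  have x10 : s * (s * c) + s ^ 2 * c = 0 := by
    have : s * (s * c) = s ^ 2 * c := by ring
    rw [this]; exact c2 _
  have x11 : (0 : F) * (s * c) + 0 = 0 := by rw [zero_mul, zero_add]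
  rw [NF_congr hF rfl rfl rfl rfl x10 x11, NF_x7] at k4
  exact ((k1.trans k2).trans k3).trans k4


/-- the case `s = 0`, `p ≠ 0`: first reduction -/
theorem case_A1 (p a b e d : F) (hp : p ≠ 0)
    (hu : NF hF p 0 a b e d * NF hF p 0 a b e d = 1) :
    ∃ b₁ : F, CJ (NF hF p 0 a b e d) (NF hF p 0 0 b₁ 0 0) := by
  have k1 := CJ_x hF 7 (a / p) (NF hF p 0 a b e d)
  rw [conj7] at k1
  have z8 : p * (a / p) + a = 0 := by
    rw [mul_div_cancel₀ a hp]; exact c2 a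
  set b₁ := p * (a / p) ^ 2 + b with hb₁
  set E := (a / p) ^ 2 * (p * (a / p) + a) + (a / p * (p * (a / p) ^ 2 + b) +
    ((0 : F) ^ 2 * (p * (a / p)) + (0 * (p * (a / p) ^ 2) + (p * (a / p) ^ 3 + e)))) with hE
  set D := a / p * (p * (a / p) + a) ^ 2 + ((0 : F) * (p * (a / p)) ^ 2 + (a * (p * (a / p) ^ 2) + d)) with hD
  rw [NF_congr hF rfl rfl z8 rfl rfl rfl] at k1
  have hu1 := k1.sq_eq_one hu
  obtain ⟨-, -, h3⟩ := invol_facts hF _ _ _ _ _ _ hu1
  have hE0 : E = 0 := by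
    have : p * E = 0 := by
      have : (0 : F) * 0 ^ 2 + (0 * b₁ + p * E) = p * E := by ring
      rw [← this, h3]
    rcases mul_eq_zero.1 this with h | h
    · exact absurd h hp
    · exact h
  rw [hE0] at k1
  have k2 := CJ_x hF 10 (D / p) (NF hF p 0 0 b₁ 0 D)
  rw [conj10] at k2
  have z11 : p * (D / p) + D = 0 := by
    rw [mul_div_cancel₀ D hp]; exact c2 D
  rw [NF_congr hF rfl rfl rfl rfl rfl z11] at k2
  exact ⟨b₁, k1.trans k2⟩

/-- conjugation of `x_b(p) x_{2a+b}(b)` by `x_{-a}(c)` -/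
theorem conj4 (c p b : F) :
    xGL chevG2 hF.xadd 4 c * (xGL chevG2 hF.xadd 6 p * xGL chevG2 hF.xadd 9 b) * xGL chevG2 hF.xadd 4 c =
      xGL chevG2 hF.xadd 6 (p + c ^ 2 * b) * (xGL chevG2 hF.xadd 9 b * xGL chevG2 hF.xadd 11 (c * b ^ 2)) := by
  have e1 : xGL chevG2 hF.xadd 4 c * xGL chevG2 hF.xadd 6 p =
      xGL chevG2 hF.xadd 6 p * xGL chevG2 hF.xadd 4 c := ((c_6_4 hF p c).eq).symm
  have e2 : xGL chevG2 hF.xadd 4 c * xGL chevG2 hF.xadd 9 b * xGL chevG2 hF.xadd 4 c =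
      xGL chevG2 hF.xadd 9 b * (xGL chevG2 hF.xadd 6 (c ^ 2 * b) * xGL chevG2 hF.xadd 11 (c * b ^ 2)) := by
    rw [mul_assoc, rel_4_9 hF c b]
    calc xGL chevG2 hF.xadd 4 c * (xGL chevG2 hF.xadd 4 c * xGL chevG2 hF.xadd 9 b *
          (xGL chevG2 hF.xadd 6 (c ^ 2 * b) * xGL chevG2 hF.xadd 11 (c * b ^ 2)))
        = (xGL chevG2 hF.xadd 4 c * xGL chevG2 hF.xadd 4 c) * (xGL chevG2 hF.xadd 9 b *
          (xGL chevG2 hF.xadd 6 (c ^ 2 * b) * xGL chevG2 hF.xadd 11 (c * b ^ 2))) := by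
          simp only [mul_assoc]
      _ = _ := by rw [xGL_sq hF, one_mul]
  have e3 : xGL chevG2 hF.xadd 9 b * xGL chevG2 hF.xadd 6 (c ^ 2 * b) =
      xGL chevG2 hF.xadd 6 (c ^ 2 * b) * xGL chevG2 hF.xadd 9 b := ((c_6_9 hF (c ^ 2 * b) b).eq).symm
  calc xGL chevG2 hF.xadd 4 c * (xGL chevG2 hF.xadd 6 p * xGL chevG2 hF.xadd 9 b) * xGL chevG2 hF.xadd 4 c
      = (xGL chevG2 hF.xadd 4 c * xGL chevG2 hF.xadd 6 p) * xGL chevG2 hF.xadd 9 b * xGL chevG2 hF.xadd 4 c := by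
        simp only [mul_assoc]
    _ = xGL chevG2 hF.xadd 6 p * (xGL chevG2 hF.xadd 4 c * xGL chevG2 hF.xadd 9 b * xGL chevG2 hF.xadd 4 c) := by
        rw [e1]; simp only [mul_assoc]
    _ = xGL chevG2 hF.xadd 6 p * ((xGL chevG2 hF.xadd 9 b * xGL chevG2 hF.xadd 6 (c ^ 2 * b)) *
          xGL chevG2 hF.xadd 11 (c * b ^ 2)) := by
        rw [e2]; simp only [mul_assoc]
    _ = xGL chevG2 hF.xadd 6 (p + c ^ 2 * b) * (xGL chevG2 hF.xadd 9 b * xGL chevG2 hF.xadd 11 (c * b ^ 2)) := by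
        rw [e3, ← xGL_mul]; simp only [mul_assoc]

/-- the case `s = 0`, `p ≠ 0`: the mixed case -/
theorem case_A1b (hsq : ∀ x : F, ∃ y : F, y * y = x) (p b : F) (hp : p ≠ 0) (hb : b ≠ 0) :
    CJ (NF hF p 0 0 b 0 0) (xGL chevG2 hF.xadd 9 b) := by
  obtain ⟨c, hc⟩ := hsq (p / b)
  have hc' : c ^ 2 * b = p := by
    rw [pow_two, hc, div_mul_cancel₀ p hb]
  have e0 : NF hF p 0 0 b 0 0 = xGL chevG2 hF.xadd 6 p * xGL chevG2 hF.xadd 9 b := by
    simp only [NF, xGL_zero, mul_one, one_mul]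
  have k1 : CJ (NF hF p 0 0 b 0 0) (NF hF 0 0 0 b 0 (c * b ^ 2)) := by
    refine ⟨xGL chevG2 hF.xadd 4 c, xGL_mem_group _ _ _ _, ?_⟩
    rw [xGL_inv' hF, e0, conj4 hF, hc', c2, xGL_zero, one_mul]
    simp only [NF, xGL_zero, mul_one, one_mul]
  have k2 := CJ_x hF 8 (c * b) (NF hF 0 0 0 b 0 (c * b ^ 2))
  rw [conj8] at k2
  have z10 : (0 : F) ^ 2 * (c * b) + 0 = 0 := by ring
  have z11 : c * b * b + (0 * (c * b) ^ 2 + c * b ^ 2) = 0 := by
    have : c * b * b + (0 * (c * b) ^ 2 + c * b ^ 2) = c * b ^ 2 + c * b ^ 2 := by ring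
    rw [this]; exact c2 _
  rw [NF_congr hF rfl rfl rfl rfl z10 z11, NF_x9] at k2
  exact k1.trans k2

/-- the case `p = s = 0` -/
theorem case_A2 (hsq : ∀ x : F, ∃ y : F, y * y = x) (a b e d : F) (hab : a * b = 0)
    (hne : NF hF 0 0 a b e d ≠ 1) :
    (∃ t : F, t ≠ 0 ∧ (CJ (NF hF 0 0 a b e d) (xGL chevG2 hF.xadd 10 t) ∨
      CJ (NF hF 0 0 a b e d) (xGL chevG2 hF.xadd 11 t))) ∨
    (∃ t : F, t ≠ 0 ∧ (CJ (NF hF 0 0 a b e d) (xGL chevG2 hF.xadd 8 t) ∨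
      CJ (NF hF 0 0 a b e d) (xGL chevG2 hF.xadd 9 t))) := by
  by_cases ha : a = 0
  · subst ha
    by_cases hb : b = 0
    · subst hb
      left
      by_cases he : e = 0
      · subst he
        have hd : d ≠ 0 := by
          rintro rfl
          exact hne (NF_zero hF)
        exact ⟨d, hd, Or.inr (CJ.of_eq (NF_x11 hF d))⟩
      · have k1 := CJ_x hF 6 (d / e) (NF hF 0 0 0 0 e d)
        rw [conj6] at k1
        have z8 : d / e * 0 + 0 = (0 : F) := by ring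
        have z9 : d / e * 0 ^ 2 + 0 = (0 : F) := by ring
        have z10 : d / e * 0 ^ 3 + e = e := by ring
        have z11 : 0 * (d / e * 0 ^ 2) + (d / e * e + d) = 0 := by
          rw [div_mul_cancel₀ d he, zero_mul, zero_add]; exact c2 d
        rw [NF_congr hF rfl rfl z8 z9 z10 z11, NF_x10] at k1
        exact ⟨e, he, Or.inl k1⟩
    · right
      have k1 := CJ_x hF 7 (e / b) (NF hF 0 0 0 b e d)
      rw [conj7] at k1
      have z8 : (0 : F) * (e / b) + 0 = 0 := by ring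
      have z9 : 0 * (e / b) ^ 2 + b = b := by ring
      have z10 : (e / b) ^ 2 * (0 * (e / b) + 0) + (e / b * (0 * (e / b) ^ 2 + b) +
          ((0 : F) ^ 2 * (0 * (e / b)) + (0 * (0 * (e / b) ^ 2) + (0 * (e / b) ^ 3 + e)))) = 0 := by
        have : (e / b) ^ 2 * (0 * (e / b) + 0) + (e / b * (0 * (e / b) ^ 2 + b) +
          ((0 : F) ^ 2 * (0 * (e / b)) + (0 * (0 * (e / b) ^ 2) + (0 * (e / b) ^ 3 + e)))) = e / b * b + e := by ring
        rw [this, div_mul_cancel₀ e hb]; exact c2 e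
      have z11 : e / b * (0 * (e / b) + 0) ^ 2 + ((0 : F) * (0 * (e / b)) ^ 2 + (0 * (0 * (e / b) ^ 2) + d)) = d := by
        ring
      rw [NF_congr hF rfl rfl z8 z9 z10 z11] at k1
      have k2 := CJ_x hF 8 (d / b) (NF hF 0 0 0 b 0 d)
      rw [conj8] at k2
      have y10 : (0 : F) ^ 2 * (d / b) + 0 = 0 := by ring
      have y11 : d / b * b + (0 * (d / b) ^ 2 + d) = 0 := by
        rw [div_mul_cancel₀ d hb, zero_mul, zero_add]; exact c2 d
      rw [NF_congr hF rfl rfl rfl rfl y10 y11, NF_x9] at k2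
      exact ⟨b, hb, Or.inr (k1.trans k2)⟩
  · right
    have hb : b = 0 := by
      rcases mul_eq_zero.1 hab with h | h
      · exact absurd h ha
      · exact h
    subst hb
    obtain ⟨c, hc⟩ := hsq (e / a)
    have hc' : c ^ 2 * a = e := by
      rw [pow_two, hc, div_mul_cancel₀ e ha]
    have k1 := CJ_x hF 7 c (NF hF 0 0 a 0 e d)
    rw [conj7] at k1
    have z8 : (0 : F) * c + a = a := by ring
    have z9 : (0 : F) * c ^ 2 + 0 = 0 := by ring
    have z10 : c ^ 2 * (0 * c + a) + (c * (0 * c ^ 2 + 0) +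
        ((0 : F) ^ 2 * (0 * c) + (0 * (0 * c ^ 2) + (0 * c ^ 3 + e)))) = 0 := by
      have : c ^ 2 * (0 * c + a) + (c * (0 * c ^ 2 + 0) +
        ((0 : F) ^ 2 * (0 * c) + (0 * (0 * c ^ 2) + (0 * c ^ 3 + e)))) = c ^ 2 * a + e := by ring
      rw [this, hc']; exact c2 e
    set d₁ := c * (0 * c + a) ^ 2 + ((0 : F) * (0 * c) ^ 2 + (a * (0 * c ^ 2) + d)) with hd₁
    rw [NF_congr hF rfl rfl z8 z9 z10 rfl] at k1
    have k2 := CJ_x hF 9 (d₁ / a) (NF hF 0 0 a 0 0 d₁)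
    rw [conj9] at k2
    have y10 : (0 : F) * (d₁ / a) + 0 = 0 := by ring
    have y11 : a * (d₁ / a) + d₁ = 0 := by
      rw [mul_div_cancel₀ d₁ ha]; exact c2 _
    rw [NF_congr hF rfl rfl rfl rfl y10 y11, NF_x8] at k2
    exact ⟨a, ha, Or.inl (k1.trans k2)⟩

/-- every involution of `U` is conjugate to a root element -/
theorem reduce (hsq : ∀ x : F, ∃ y : F, y * y = x) (u : GL chevG2.Idx F) (hu : u ∈ chevG2.posUnipotent F)
    (h2 : u * u = 1) (h1 : u ≠ 1) :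
    (∃ t : F, t ≠ 0 ∧ (CJ u (xGL chevG2 hF.xadd 6 t) ∨ CJ u (xGL chevG2 hF.xadd 10 t) ∨
      CJ u (xGL chevG2 hF.xadd 11 t))) ∨
    (∃ t : F, t ≠ 0 ∧ (CJ u (xGL chevG2 hF.xadd 7 t) ∨ CJ u (xGL chevG2 hF.xadd 8 t) ∨
      CJ u (xGL chevG2 hF.xadd 9 t))) := by
  obtain ⟨p, s, a, b, e, d, rfl⟩ := exists_NF hF u hu
  obtain ⟨f1, f2, f3⟩ := invol_facts hF p s a b e d h2
  by_cases hs : s = 0
  · subst hs
    by_cases hp : p = 0
    · subst hp
      have hab : a * b = 0 := by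
        have : (0 : F) * a ^ 2 + (a * b + 0 * e) = a * b := by ring
        rw [← this, f3]
      rcases case_A2 hF hsq a b e d hab h1 with ⟨t, ht, h | h⟩ | ⟨t, ht, h | h⟩
      · exact Or.inl ⟨t, ht, Or.inr (Or.inl h)⟩
      · exact Or.inl ⟨t, ht, Or.inr (Or.inr h)⟩
      · exact Or.inr ⟨t, ht, Or.inr (Or.inl h)⟩
      · exact Or.inr ⟨t, ht, Or.inr (Or.inr h)⟩
    · obtain ⟨b₁, k1⟩ := case_A1 hF p a b e d hp h2
      by_cases hb : b₁ = 0
      · subst hb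
        rw [NF_x6] at k1
        exact Or.inl ⟨p, hp, Or.inl k1⟩
      · exact Or.inr ⟨b₁, hb, Or.inr (Or.inr (k1.trans (case_A1b hF hsq p b₁ hp hb)))⟩
  · have hp : p = 0 := by
      rcases mul_eq_zero.1 f1 with h | h
      · exact h
      · exact absurd h hs
    subst hp
    have hb : b = s * a := by
      have h : s * (s * a + b) = 0 := by
        have : s * (s * a + b) = s ^ 2 * a + s * b := by ring
        rw [this, f2]
      rcases mul_eq_zero.1 h with h | h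
      · exact absurd h hs
      · have : b = s * a + (s * a + b) := by
          rw [← add_assoc, c2, zero_add]
        rw [this, h, add_zero]
    subst hb
    exact Or.inr ⟨s, hs, Or.inl (case_B hF hsq s a e d hs)⟩

end Cfsg.Agent.Helper6.G2Inv
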