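import Mathlib
import Cfsg.Agent.Lib.Helper6.G2InvC
import Cfsg.Agent.Lib.Helper6.SylowConj
import Cfsg.Agent.Lib.Lead.ChevSub
import Cfsg.Agent.S1059

/-!
# Involutions of `G₂(q)`, `q` even: fusion of root elements, the Sylow argument, and the two classes
-/

set_option autoImplicit false
set_option linter.unusedSectionVars false
set_option linter.unusedSimpArgs false
set_option linter.unusedVariables false

namespace Cfsg.Agent.Helper6.G2Inv

open Cfsg Cfsg.Lie Cfsg.Agent.Lead.Chev Cfsg.Agent.Helper6.ChevL Cfsg.Agent.Helper6.RootCent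
  Cfsg.Agent.Helper6.HtF Cfsg.Agent.Helper5 Cfsg.Agent.Lead.ChevHt Cfsg.Agent.Helper6.G2S

variable {F : Type*} [Field F]

theorem pos_list : ∀ r < 12, chevG2.IsPosRoot r → r ∈ [6, 7, 8, 9, 10, 11] := by decide +kernel

theorem orbit11_step : ∀ r ∈ [0, 1, 5, 6, 10, 11], ∀ i < 2, chevG2.reflectRoot i r ∈ [0, 1, 5, 6, 10, 11] := by
  decide +kernel

theorem orbit11 (w : List ℕ) (hw : ∀ i ∈ w, i < chevG2.rank) :
    reflWord chevG2 w 11 ∈ [0, 1, 5, 6, 10, 11] := by
  induction w with
  | nil => simp [reflWord]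
  | cons i w ih =>
    simp only [reflWord]
    exact orbit11_step _ (ih fun j hj => hw j (List.mem_cons_of_mem _ hj)) i (hw i List.mem_cons_self)

theorem length_all_G2 : (subFrom chevG2 (fun _ => true) 0).length = 6 := by decide +kernel

section gen

variable (hF : ChevFacts chevG2 F)
include hF

theorem card_posUnipotent_G2 [Fintype F] : Nat.card (chevG2.posUnipotent F) = Fintype.card F ^ 6 := by
  have h := card_subGrp (F := F) chevG2 hF.ufacts hF.xadd.add hF.xadd.zero hF.comm hF.poscomm (fun _ => true)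
    (fun _ _ _ _ _ _ _ _ _ => rfl)
  rw [length_all_G2] at h
  rw [← h]
  congr 1
  unfold subGrp ChevalleyDatum.posUnipotent
  congr 1
  ext g
  simp

/-- a generator of `U` -/
theorem gen_cases (g : GL chevG2.Idx F)
    (hg : ∃ (r : ℕ) (t : F), chevG2.IsPosRoot r ∧ (g : Matrix chevG2.Idx chevG2.Idx F) = chevG2.x F r t) :
    ∃ r ∈ [6, 7, 8, 9, 10, 11], ∃ t : F, g = xGL chevG2 hF.xadd r t := by
  obtain ⟨r, t, hr, e⟩ := hg
  exact ⟨r, pos_list r hr.1 hr, t, Units.ext e⟩

end gen

section char2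

variable [CharP F 2] (hF : ChevFacts chevG2 F)
include hF

theorem cast_sign (w : List ℕ) (hw : ∀ i ∈ w, i < chevG2.rank) (s : ℕ) :
    ((signWord chevG2 (etaOf chevG2) w s : ℤ) : F) = 1 := by
  rcases signWord_sq chevG2 (etaOf chevG2) w (fun i hi s => (hF.nsimple i (hw i hi)).sign s) s with h | h
  · rw [h]; simp
  · rw [h]; exact cast_neg_one hF

/-- conjugation by a Weyl group representative -/
theorem weyl_conj (w : List ℕ) (hw : ∀ i ∈ w, i < chevG2.rank) (s : ℕ) (hs : s < chevG2.nroots) (t : F) :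
    CJ (xGL chevG2 hF.xadd s t) (xGL chevG2 hF.xadd (reflWord chevG2 w s) t) := by
  refine ⟨nWordGL chevG2 hF.xadd w, nWordGL_mem_group _ _ _, ?_⟩
  rw [nWordGL_conj chevG2 hF.xadd (etaOf chevG2) hF.nsimple w hw s hs t, cast_sign hF w hw, one_mul]

/-- conjugation by a torus element -/
theorem torus_conj (i : ℕ) (hi : i < chevG2.rank) (s : ℕ) (hs : s < chevG2.nroots) (c : F) (hc : c ≠ 0) (v : F) :
    CJ (xGL chevG2 hF.xadd s v) (xGL chevG2 hF.xadd s (c ^ (chevG2.cartan i s) * v)) := by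
  refine ⟨hGLt chevG2 hF.xadd (chevG2.simple i) c, hGLt_mem_group _ _ _ _, ?_⟩
  rw [mul_inv_eq_iff_eq_mul]
  apply Units.ext
  rw [Units.val_mul, Units.val_mul, hGLt_val, hF.hsimple i hi c hc, xGL_val, xGL_val]
  exact hF.hconj i hi s hs c hc v

theorem long_conj (r : ℕ) (hr : r = 6 ∨ r = 10 ∨ r = 11) (t : F) (ht : t ≠ 0) :
    CJ (xGL chevG2 hF.xadd r t) (xGL chevG2 hF.xadd 11 1) := by
  have k0 : CJ (xGL chevG2 hF.xadd 11 t) (xGL chevG2 hF.xadd 11 1) := by
    have := torus_conj hF 1 (by decide) 11 (by decide) t⁻¹ (inv_ne_zero ht) t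
    have e : chevG2.cartan 1 11 = 1 := by decide +kernel
    rw [e, zpow_one, inv_mul_cancel₀ ht] at this
    exact this
  rcases hr with rfl | rfl | rfl
  · have := weyl_conj hF [1, 0] (by decide) 6 (by decide) t
    have e : reflWord chevG2 [1, 0] 6 = 11 := by decide +kernel
    rw [e] at this
    exact this.trans k0
  · have := weyl_conj hF [1] (by decide) 10 (by decide) t
    have e : reflWord chevG2 [1] 10 = 11 := by decide +kernel
    rw [e] at this
    exact this.trans k0
  · exact k0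

theorem short_conj (r : ℕ) (hr : r = 7 ∨ r = 8 ∨ r = 9) (t : F) (ht : t ≠ 0) :
    CJ (xGL chevG2 hF.xadd r t) (xGL chevG2 hF.xadd 9 1) := by
  have k0 : CJ (xGL chevG2 hF.xadd 9 t) (xGL chevG2 hF.xadd 9 1) := by
    have := torus_conj hF 0 (by decide) 9 (by decide) t⁻¹ (inv_ne_zero ht) t
    have e : chevG2.cartan 0 9 = 1 := by decide +kernel
    rw [e, zpow_one, inv_mul_cancel₀ ht] at this
    exact this
  rcases hr with rfl | rfl | rfl
  · have := weyl_conj hF [0, 1] (by decide) 7 (by decide) t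
    have e : reflWord chevG2 [0, 1] 7 = 9 := by decide +kernel
    rw [e] at this
    exact this.trans k0
  · have := weyl_conj hF [0] (by decide) 8 (by decide) t
    have e : reflWord chevG2 [0] 8 = 9 := by decide +kernel
    rw [e] at this
    exact this.trans k0
  · exact k0

/-- every involution of `U` is conjugate to `x_{3a+2b}(1)` or `x_{2a+b}(1)` -/
theorem reduce' (hsq : ∀ x : F, ∃ y : F, y * y = x) (u : GL chevG2.Idx F) (hu : u ∈ chevG2.posUnipotent F)
    (h2 : u * u = 1) (h1 : u ≠ 1) :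
    CJ u (xGL chevG2 hF.xadd 11 1) ∨ CJ u (xGL chevG2 hF.xadd 9 1) := by
  rcases reduce hF hsq u hu h2 h1 with ⟨t, ht, h | h | h⟩ | ⟨t, ht, h | h | h⟩
  · exact Or.inl (h.trans (long_conj hF 6 (Or.inl rfl) t ht))
  · exact Or.inl (h.trans (long_conj hF 10 (Or.inr (Or.inl rfl)) t ht))
  · exact Or.inl (h.trans (long_conj hF 11 (Or.inr (Or.inr rfl)) t ht))
  · exact Or.inr (h.trans (short_conj hF 7 (Or.inl rfl) t ht))
  · exact Or.inr (h.trans (short_conj hF 8 (Or.inr (Or.inl rfl)) t ht))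
  · exact Or.inr (h.trans (short_conj hF 9 (Or.inr (Or.inr rfl)) t ht))

end char2

end Cfsg.Agent.Helper6.G2Inv
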