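import Mathlib
import Cfsg.Agent.Lib.Helper6.G2InvD
import Cfsg.Agent.Lib.Lead.ChevBruhat
import Cfsg.Agent.Lib.Lead.ChevBV

/-!
# Involutions of `G₂(q)`, `q` even: the two classes are distinct, and the Sylow argument
-/

set_option autoImplicit false
set_option linter.unusedSectionVars false
set_option linter.unusedSimpArgs false
set_option linter.unusedVariables false

namespace Cfsg.Agent.Helper6.G2Inv

open Cfsg Cfsg.Lie Cfsg.Agent.Lead.Chev Cfsg.Agent.Helper6.ChevL Cfsg.Agent.Helper6.RootCent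
  Cfsg.Agent.Helper6.HtF Cfsg.Agent.Helper5 Cfsg.Agent.Lead.ChevHt Cfsg.Agent.Helper6.G2S

variable {F : Type*} [Field F]

theorem neg_list : ∀ r ∈ [0, 1, 5], chevG2.IsNegRoot r := by decide +kernel

section char2

variable [CharP F 2] (hF : ChevFacts chevG2 F)
include hF

/-- `x_{3a+2b}(t)` is central in `U` -/
theorem x11_central (t : F) (u : GL chevG2.Idx F) (hu : u ∈ chevG2.posUnipotent F) :
    u * xGL chevG2 hF.xadd 11 t = xGL chevG2 hF.xadd 11 t * u := by
  unfold ChevalleyDatum.posUnipotent at hu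
  induction hu using Subgroup.closure_induction with
  | mem x hx =>
    obtain ⟨r, hr, c, rfl⟩ := gen_cases hF x hx
    simp only [List.mem_cons, List.mem_nil_iff, or_false] at hr
    rcases hr with rfl | rfl | rfl | rfl | rfl | rfl
    · exact (c_6_11 hF c t).eq
    · exact (c_7_11 hF c t).eq
    · exact (c_8_11 hF c t).eq
    · exact (c_9_11 hF c t).eq
    · exact (c_10_11 hF c t).eq
    · rw [mg hF, mg hF, add_comm]
  | one => rw [one_mul, mul_one]
  | mul x y _ _ hx hy => rw [mul_assoc, hy, ← mul_assoc, hx, mul_assoc]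
  | inv x _ hx =>
    have : x⁻¹ * xGL chevG2 hF.xadd 11 t = x⁻¹ * (xGL chevG2 hF.xadd 11 t * x) * x⁻¹ := by group
    rw [this, ← hx]
    group

/-- conjugation by `U` preserves the shape `x_{2a+b}(c) x_{3a+b}(*) x_{3a+2b}(*)` -/
theorem stab_b (c : F) (v : GL chevG2.Idx F) (hv : v ∈ chevG2.posUnipotent F) :
    (∀ e d : F, ∃ e' d' : F, v * NF hF 0 0 0 c e d * v⁻¹ = NF hF 0 0 0 c e' d') ∧
    (∀ e d : F, ∃ e' d' : F, v⁻¹ * NF hF 0 0 0 c e d * v = NF hF 0 0 0 c e' d') := by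
  unfold ChevalleyDatum.posUnipotent at hv
  induction hv using Subgroup.closure_induction with
  | mem x hx =>
    obtain ⟨r, hr, t, rfl⟩ := gen_cases hF x hx
    rw [xGL_inv' hF]
    have key : ∀ e d : F, ∃ e' d' : F, xGL chevG2 hF.xadd r t * NF hF 0 0 0 c e d * xGL chevG2 hF.xadd r t =
        NF hF 0 0 0 c e' d' := by
      intro e d
      simp only [List.mem_cons, List.mem_nil_iff, or_false] at hr
      rcases hr with rfl | rfl | rfl | rfl | rfl | rfl
      · rw [conj6]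
        exact ⟨_, _, NF_congr hF rfl rfl (by ring) (by ring) rfl rfl⟩
      · rw [conj7]
        exact ⟨_, _, NF_congr hF rfl rfl (by ring) (by ring) rfl rfl⟩
      · rw [conj8]
        exact ⟨_, _, NF_congr hF rfl rfl rfl rfl rfl rfl⟩
      · rw [conj9]
        exact ⟨_, _, NF_congr hF rfl rfl rfl rfl rfl rfl⟩
      · rw [conj10]
        exact ⟨_, _, NF_congr hF rfl rfl rfl rfl rfl rfl⟩
      · rw [conj11]
        exact ⟨_, _, rfl⟩
    exact ⟨key, key⟩
  | one =>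
    refine ⟨fun e d => ⟨e, d, by simp⟩, fun e d => ⟨e, d, by simp⟩⟩
  | mul x y _ _ hx hy =>
    constructor
    · intro e d
      obtain ⟨e1, d1, h1⟩ := hy.1 e d
      obtain ⟨e2, d2, h2⟩ := hx.1 e1 d1
      refine ⟨e2, d2, ?_⟩
      rw [← h2, ← h1]
      group
    · intro e d
      obtain ⟨e1, d1, h1⟩ := hx.2 e d
      obtain ⟨e2, d2, h2⟩ := hy.2 e1 d1
      refine ⟨e2, d2, ?_⟩
      rw [← h2, ← h1]
      group
  | inv x _ hx =>
    refine ⟨fun e d => ?_, fun e d => ?_⟩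
    · obtain ⟨e1, d1, h1⟩ := hx.2 e d
      exact ⟨e1, d1, by rw [inv_inv]; exact h1⟩
    · obtain ⟨e1, d1, h1⟩ := hx.1 e d
      exact ⟨e1, d1, by rw [inv_inv]; exact h1⟩

/-- the long and the short root involutions are not conjugate -/
theorem not_conj (hS : CorSize chevG2) : ¬ CJ (xGL chevG2 hF.xadd 11 (1 : F)) (xGL chevG2 hF.xadd 9 1) := by
  rintro ⟨h, hh, e⟩
  obtain ⟨b, hb, w, hw, u, hu, rfl⟩ := hF.exists_bruhat hS h hh
  have hu' : u ∈ chevG2.posUnipotent F := hF.negPart_le_posUnipotent w hu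
  have h9 : xGL chevG2 hF.xadd 9 (1 : F) ≠ 1 := by
    intro h1
    rw [← xGL_zero chevG2 hF.xadd 9] at h1
    exact one_ne_zero (xGL_pos_inj hF 9 pos9 _ _ h1)
  -- reduce to `b * x_{r'}(1) * b⁻¹ = x_9(1)`
  have e1 : b * xGL chevG2 hF.xadd (reflWord chevG2 w 11) (1 : F) * b⁻¹ = xGL chevG2 hF.xadd 9 1 := by
    rw [← e]
    have h1 : u * xGL chevG2 hF.xadd 11 (1 : F) * u⁻¹ = xGL chevG2 hF.xadd 11 1 := by
      rw [x11_central hF 1 u hu']; group
    have h2 := nWordGL_conj chevG2 hF.xadd (etaOf chevG2) hF.nsimple w hw 11 (by decide) (1 : F)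
    rw [cast_sign hF w hw, one_mul] at h2
    rw [← h2]
    calc b * (nWordGL chevG2 hF.xadd w * xGL chevG2 hF.xadd 11 1 * (nWordGL chevG2 hF.xadd w)⁻¹) * b⁻¹
        = b * (nWordGL chevG2 hF.xadd w * (u * xGL chevG2 hF.xadd 11 1 * u⁻¹) * (nWordGL chevG2 hF.xadd w)⁻¹) * b⁻¹ := by
          rw [h1]
      _ = b * nWordGL chevG2 hF.xadd w * u * xGL chevG2 hF.xadd 11 1 * (b * nWordGL chevG2 hF.xadd w * u)⁻¹ := by group
  have e2 : xGL chevG2 hF.xadd (reflWord chevG2 w 11) (1 : F) = b⁻¹ * xGL chevG2 hF.xadd 9 1 * b := by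
    rw [← e1]; group
  have hor := orbit11 w hw
  simp only [List.mem_cons, List.mem_nil_iff, or_false] at hor
  have hneg : ∀ r ∈ [0, 1, 5], reflWord chevG2 w 11 = r → False := by
    intro r hr hrr
    have hV : xGL chevG2 hF.xadd r (1 : F) ∈ chevG2.negUnipotent F :=
      Subgroup.subset_closure ⟨r, 1, neg_list r hr, by rw [xGL_val]⟩
    have hB : xGL chevG2 hF.xadd r (1 : F) ∈ chevG2.borelSubgroup F := by
      rw [← hrr, e2]
      exact mul_mem (mul_mem (inv_mem hb)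
        (posUnipotent_le_borel chevG2 (xGL_mem_posUnipotent chevG2 hF.xadd 9 pos9 1))) hb
    have h1 : xGL chevG2 hF.xadd r (1 : F) ∈ chevG2.borelSubgroup F ⊓ chevG2.negUnipotent F := ⟨hB, hV⟩
    rw [hF.borel_inf_negUnipotent, Subgroup.mem_bot] at h1
    rw [hrr, h1] at e1
    apply h9
    rw [← e1]; group
  have hpos : ∀ p e d : F, reflWord chevG2 w 11 ∈ [6, 10, 11] →
      xGL chevG2 hF.xadd (reflWord chevG2 w 11) (1 : F) = NF hF p 0 0 0 e d → False := by
    intro p e0 d0 _ hNF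
    obtain ⟨u₁, hu₁, h₁, hh₁, hbe⟩ := (hF.mem_borel_iff b⁻¹).1 (inv_mem hb)
    obtain ⟨c, hc, hconj⟩ := hF.diagonal_conj_xGL h₁ hh₁ 9 (by decide)
    have e3 : xGL chevG2 hF.xadd (reflWord chevG2 w 11) (1 : F) =
        u₁ * xGL chevG2 hF.xadd 9 (c * 1) * u₁⁻¹ := by
      rw [e2, ← hconj 1]
      have : b = (b⁻¹)⁻¹ := (inv_inv b).symm
      rw [this, hbe]
      group
    rw [mul_one, ← NF_x9 hF c] at e3
    obtain ⟨e', d', h4⟩ := (stab_b hF c u₁ hu₁).1 0 0
    rw [h4, hNF] at e3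
    exact hc (NF_inj hF _ _ _ _ _ _ _ _ _ _ _ _ e3).2.2.2.1.symm
  rcases hor with h0 | h0 | h0 | h0 | h0 | h0
  · exact hneg 0 (by simp) h0
  · exact hneg 1 (by simp) h0
  · exact hneg 5 (by simp) h0
  · exact hpos 1 0 0 (by rw [h0]; simp) (by rw [h0, NF_x6])
  · exact hpos 0 1 0 (by rw [h0]; simp) (by rw [h0, NF_x10])
  · exact hpos 0 0 1 (by rw [h0]; simp) (by rw [h0, NF_x11])

end char2

end Cfsg.Agent.Helper6.G2Inv
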