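import Mathlib
import Cfsg.Agent.Lib.Helper6.G2InvE

/-!
# Involutions of `G₂(q)`, `q` even: the Sylow argument and the classification
-/

set_option autoImplicit false
set_option linter.unusedSectionVars false
set_option linter.unusedSimpArgs false
set_option linter.unusedVariables false

namespace Cfsg.Agent.Helper6.G2Inv

open Cfsg Cfsg.Lie Cfsg.Agent.Lead.Chev Cfsg.Agent.Helper6.ChevL Cfsg.Agent.Helper6.RootCent
  Cfsg.Agent.Helper6.HtF Cfsg.Agent.Helper5 Cfsg.Agent.Lead.ChevHt Cfsg.Agent.Helper6.G2S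

variable {F : Type*} [Field F]

theorem odd_pred_pow (q k : ℕ) (hq : Even q) (hq0 : 0 < q) (hk : k ≠ 0) : Odd (q ^ k - 1) := by
  have h1 : Even (q ^ k) := (Nat.even_pow' hk).2 hq
  have h2 : 1 ≤ q ^ k := Nat.one_le_pow _ _ hq0
  exact Nat.Even.sub_odd h2 h1 odd_one

section fin

variable [Fintype F] [CharP F 2] (hF : ChevFacts chevG2 F)
include hF

theorem card_even : Even (Fintype.card F) ∧ 0 < Fintype.card F ∧ ∃ n : ℕ, Fintype.card F = 2 ^ n := by
  obtain ⟨n, -, hn⟩ := FiniteField.card F 2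
  refine ⟨?_, Fintype.card_pos, n, hn⟩
  rw [hn]
  exact (Nat.even_pow' n.ne_zero).2 even_two

/-- every involution of `G` is conjugate into `U` -/
theorem sylow_step (g : GL chevG2.Idx F) (hg : g ∈ chevG2.group F) (h2 : g * g = 1) :
    ∃ h ∈ chevG2.group F, h * g * h⁻¹ ∈ chevG2.posUnipotent F := by
  classical
  have : Fact (Nat.Prime 2) := ⟨Nat.prime_two⟩
  obtain ⟨hev, hpos, n, hn⟩ := card_even hF
  have hle : chevG2.posUnipotent F ≤ chevG2.group F := hF.posUnipotent_le_group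
  have hcardU : Nat.card ((chevG2.posUnipotent F).subgroupOf (chevG2.group F)) = 2 ^ (n * 6) := by
    rw [Nat.card_congr (Subgroup.subgroupOfEquivOfLe hle).toEquiv, card_posUnipotent_G2 hF, hn, pow_mul]
  have hcardG : Nat.card (chevG2.group F) =
      Fintype.card F ^ 6 * (Fintype.card F ^ 2 - 1) * (Fintype.card F ^ 6 - 1) :=
    Cfsg.Agent.S1059.result rfl
  have hP : IsPGroup 2 ((chevG2.posUnipotent F).subgroupOf (chevG2.group F)) := IsPGroup.of_card hcardU
  have hidx : ¬ 2 ∣ ((chevG2.posUnipotent F).subgroupOf (chevG2.group F)).index := by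
    have h1 := Subgroup.card_mul_index ((chevG2.posUnipotent F).subgroupOf (chevG2.group F))
    rw [hcardG, hcardU, pow_mul, ← hn, mul_assoc] at h1
    have h3 : ((chevG2.posUnipotent F).subgroupOf (chevG2.group F)).index =
        (Fintype.card F ^ 2 - 1) * (Fintype.card F ^ 6 - 1) :=
      Nat.eq_of_mul_eq_mul_left (pow_pos hpos 6) h1
    rw [h3, ← even_iff_two_dvd, Nat.not_even_iff_odd]
    exact (odd_pred_pow _ 2 hev hpos (by norm_num)).mul (odd_pred_pow _ 6 hev hpos (by norm_num))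
  have hZ : IsPGroup 2 (Subgroup.zpowers (⟨g, hg⟩ : chevG2.group F)) := by
    have hγ2 : (⟨g, hg⟩ : chevG2.group F) ^ 2 = 1 := by
      apply Subtype.ext
      rw [pow_two]
      exact h2
    intro x
    refine ⟨1, ?_⟩
    obtain ⟨x, hx⟩ := x
    obtain ⟨m, rfl⟩ := Subgroup.mem_zpowers_iff.1 hx
    apply Subtype.ext
    simp only [pow_one, Subgroup.coe_pow, Subgroup.coe_one]
    rw [← zpow_natCast, ← zpow_mul, mul_comm, zpow_mul, zpow_natCast, hγ2, one_zpow]
  obtain ⟨k, -, hk⟩ := Cfsg.Agent.Helper6.Fus.exists_conj_le_sylow (hP.toSylow hidx) ⊤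
    (Subgroup.zpowers (⟨g, hg⟩ : chevG2.group F)) le_top le_top hZ
  have h3 := hk ⟨g, hg⟩ (Subgroup.mem_zpowers _)
  refine ⟨k, k.2, ?_⟩
  exact h3

theorem mem_list_iff (y : GL chevG2.Idx F) :
    (y : Matrix chevG2.Idx chevG2.Idx F) ∈ [chevG2.x F 11 1, chevG2.x F 9 1] ↔
      y = xGL chevG2 hF.xadd 11 1 ∨ y = xGL chevG2 hF.xadd 9 1 := by
  simp only [List.mem_cons, List.mem_nil_iff, or_false]
  constructor
  · rintro (h | h)
    · exact Or.inl (Units.ext (by rw [h, xGL_val]))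
    · exact Or.inr (Units.ext (by rw [h, xGL_val]))
  · rintro (rfl | rfl)
    · exact Or.inl (xGL_val _ _ _ _)
    · exact Or.inr (xGL_val _ _ _ _)

theorem x_ne_one (r : ℕ) (hr : chevG2.IsPosRoot r) : xGL chevG2 hF.xadd r (1 : F) ≠ 1 := by
  intro h1
  rw [← xGL_zero chevG2 hF.xadd r] at h1
  exact one_ne_zero (xGL_pos_inj hF r hr _ _ h1)

theorem x_order (r : ℕ) (hr : chevG2.IsPosRoot r) : orderOf (xGL chevG2 hF.xadd r (1 : F)) = 2 := by
  have : Fact (Nat.Prime 2) := ⟨Nat.prime_two⟩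
  apply orderOf_eq_prime
  · rw [pow_two, xGL_sq hF]
  · exact x_ne_one hF r hr

/-- `G₂(q)`, `q` even, has exactly two classes of involutions -/
theorem main (hS : CorSize chevG2) :
    (∀ y : GL chevG2.Idx F, (y : Matrix chevG2.Idx chevG2.Idx F) ∈ [chevG2.x F 11 1, chevG2.x F 9 1] →
      y ∈ chevG2.group F ∧ orderOf y = 2) ∧
    (∀ g ∈ chevG2.group F, orderOf g = 2 → ∃ y ∈ chevG2.group F,
      (y : Matrix chevG2.Idx chevG2.Idx F) ∈ [chevG2.x F 11 1, chevG2.x F 9 1] ∧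
        ∃ h ∈ chevG2.group F, h * g * h⁻¹ = y) ∧
    (∀ y₁ ∈ chevG2.group F, ∀ y₂ ∈ chevG2.group F,
      (y₁ : Matrix chevG2.Idx chevG2.Idx F) ∈ [chevG2.x F 11 1, chevG2.x F 9 1] →
      (y₂ : Matrix chevG2.Idx chevG2.Idx F) ∈ [chevG2.x F 11 1, chevG2.x F 9 1] →
      (∃ h ∈ chevG2.group F, h * y₁ * h⁻¹ = y₂) →
        (y₁ : Matrix chevG2.Idx chevG2.Idx F) = (y₂ : Matrix chevG2.Idx chevG2.Idx F)) := by
  refine ⟨?_, ?_, ?_⟩
  · intro y hy
    rcases (mem_list_iff hF y).1 hy with rfl | rfl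
    · exact ⟨xGL_mem_group _ _ _ _, x_order hF 11 pos11⟩
    · exact ⟨xGL_mem_group _ _ _ _, x_order hF 9 pos9⟩
  · intro g hg ho
    have h2 : g * g = 1 := by
      rw [← pow_two, ← ho]
      exact pow_orderOf_eq_one g
    have h1 : g ≠ 1 := by
      rintro rfl
      rw [orderOf_one] at ho
      omega
    obtain ⟨k, hk, hu⟩ := sylow_step hF g hg h2
    have hcj : CJ g (k * g * k⁻¹) := ⟨k, hk, rfl⟩
    have hsq : ∀ x : F, ∃ y : F, y * y = x := by
      intro x
      obtain ⟨r, hr⟩ := FiniteField.isSquare_of_char_two (ringChar.eq F 2) x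
      exact ⟨r, hr.symm⟩
    rcases reduce' hF hsq (k * g * k⁻¹) hu (hcj.sq_eq_one h2) (hcj.ne_one h1) with h | h
    · obtain ⟨m, hm, e⟩ := hcj.trans h
      exact ⟨_, xGL_mem_group _ _ _ _, (mem_list_iff hF _).2 (Or.inl rfl), m, hm, e⟩
    · obtain ⟨m, hm, e⟩ := hcj.trans h
      exact ⟨_, xGL_mem_group _ _ _ _, (mem_list_iff hF _).2 (Or.inr rfl), m, hm, e⟩
  · intro y₁ _ y₂ _ h1 h2 hc
    rcases (mem_list_iff hF y₁).1 h1 with rfl | rfl <;> rcases (mem_list_iff hF y₂).1 h2 with rfl | rfl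
    · rfl
    · exact absurd hc (not_conj hF hS)
    · exfalso
      obtain ⟨m, hm, e⟩ := hc
      apply not_conj hF hS
      refine ⟨m⁻¹, inv_mem hm, ?_⟩
      rw [← e]
      group
    · rfl

end fin

end Cfsg.Agent.Helper6.G2Inv
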