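import Mathlib

/-!
# Sylow 2-subgroups of `GL₂(q)`: numerics and transport along conjugation
-/

namespace Cfsg.Agent.Helper6.GL2

open Matrix

/-- `2`-adic valuation of `2^k * c` for odd `c`. -/
lemma factorization_two_pow_mul {k c : ℕ} (hc : Odd c) : (2 ^ k * c).factorization 2 = k := by
  have hc0 : c ≠ 0 := by rintro rfl; simp at hc
  rw [Nat.factorization_mul (pow_ne_zero _ two_ne_zero) hc0, Finsupp.add_apply,
    Nat.Prime.factorization_pow Nat.prime_two,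
    Nat.factorization_eq_zero_of_not_dvd (by rwa [← even_iff_two_dvd, Nat.not_even_iff_odd])]
  simp

section
variable {F : Type*} [Field F] [Fintype F]

lemma card_GL2 : Nat.card (GL (Fin 2) F) =
    (Fintype.card F ^ 2 - 1) * (Fintype.card F ^ 2 - Fintype.card F) := by
  rw [Matrix.card_GL_field, Fin.prod_univ_two]
  simp

/-- `q ≡ 1 mod 4`: the order of a Sylow 2-subgroup -/
lemma card_sylow_one (P : Sylow 2 (GL (Fin 2) F)) {n a : ℕ} (ha : Odd a) (hn : 2 ≤ n)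
    (hq : Fintype.card F = 2 ^ n * a + 1) : Nat.card P = 2 ^ (2 * n + 1) := by
  rw [Sylow.card_eq_multiplicity, card_GL2, hq]
  congr 1
  obtain ⟨n', rfl⟩ : ∃ n', n = n' + 2 := ⟨n - 2, by omega⟩
  have e : ((2 ^ (n' + 2) * a + 1) ^ 2 - 1) * ((2 ^ (n' + 2) * a + 1) ^ 2 - (2 ^ (n' + 2) * a + 1))
      = 2 ^ (2 * (n' + 2) + 1) * (a * (2 ^ (n' + 1) * a + 1) * (a * (2 ^ (n' + 2) * a + 1))) := by
    have h1 : (2 ^ (n' + 2) * a + 1) ^ 2 - 1 = 2 ^ (n' + 2) * a * (2 ^ (n' + 2) * a + 2) := by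
      apply Nat.sub_eq_of_eq_add; ring
    have h2 : (2 ^ (n' + 2) * a + 1) ^ 2 - (2 ^ (n' + 2) * a + 1)
        = 2 ^ (n' + 2) * a * (2 ^ (n' + 2) * a + 1) := by
      apply Nat.sub_eq_of_eq_add; ring
    rw [h1, h2]
    ring
  rw [e]
  apply factorization_two_pow_mul
  apply Odd.mul
  · apply Odd.mul ha
    exact Even.add_one (by rw [pow_succ]; exact (even_two.mul_left _).mul_right _)
  · apply Odd.mul ha
    exact Even.add_one (by rw [pow_succ]; exact (even_two.mul_left _).mul_right _)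

/-- `q ≡ 3 mod 4`: the order of a Sylow 2-subgroup -/
lemma card_sylow_three (P : Sylow 2 (GL (Fin 2) F)) {m u : ℕ} (hu : Odd u) (hm : 2 ≤ m)
    (hq : Fintype.card F + 1 = 2 ^ m * u) : Nat.card P = 2 ^ (m + 2) := by
  rw [Sylow.card_eq_multiplicity, card_GL2]
  congr 1
  obtain ⟨m', rfl⟩ : ∃ m', m = m' + 2 := ⟨m - 2, by omega⟩
  obtain ⟨v, rfl⟩ := hu
  have hq' : Fintype.card F = 2 ^ (m' + 2) * (2 * v + 1) - 1 := by omega
  have hpos : 1 ≤ 2 ^ (m' + 2) * (2 * v + 1) := Nat.one_le_iff_ne_zero.mpr (by positivity)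
  -- q = 4 w + 3
  obtain ⟨w, hw⟩ : ∃ w, Fintype.card F = 2 * (2 ^ (m' + 1) * (2 * v + 1) - 1) + 1 := by
    refine ⟨0, ?_⟩
    have : 2 ^ (m' + 2) * (2 * v + 1) = 2 * (2 ^ (m' + 1) * (2 * v + 1)) := by ring
    have h1 : 1 ≤ 2 ^ (m' + 1) * (2 * v + 1) := Nat.one_le_iff_ne_zero.mpr (by positivity)
    omega
  set z := 2 ^ (m' + 1) * (2 * v + 1) - 1 with hz
  have hz1 : z + 1 = 2 ^ (m' + 1) * (2 * v + 1) := by
    have h1 : 1 ≤ 2 ^ (m' + 1) * (2 * v + 1) := Nat.one_le_iff_ne_zero.mpr (by positivity)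
    omega
  have hzodd : Odd z := by
    have : Even (z + 1) := by
      rw [hz1, pow_succ]; exact ((even_two.mul_left _).mul_right _)
    exact Nat.even_add_one.mp this |> fun h => Nat.not_even_iff_odd.mp h
  have e : ((2 * z + 1) ^ 2 - 1) * ((2 * z + 1) ^ 2 - (2 * z + 1))
      = 2 ^ (m' + 2 + 2) * (z * (2 * v + 1) * (z * (2 * z + 1))) := by
    have h1 : (2 * z + 1) ^ 2 - 1 = 2 * z * (2 * (z + 1)) := by
      apply Nat.sub_eq_of_eq_add; ring
    have h2 : (2 * z + 1) ^ 2 - (2 * z + 1) = 2 * z * (2 * z + 1) := by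
      apply Nat.sub_eq_of_eq_add; ring
    rw [h1, h2, hz1]
    ring
  rw [hw, e]
  apply factorization_two_pow_mul
  apply Odd.mul
  · exact hzodd.mul ⟨v, rfl⟩
  · exact hzodd.mul ⟨z, rfl⟩

end

end Cfsg.Agent.Helper6.GL2
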