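import Mathlib
import Cfsg.Agent.Lib.Helper6.GL2Sylow
import Cfsg.Agent.Lib.Helper6.SylowConj

/-!
# The wreathed 2-subgroup of `GL₂(F)`: diagonal matrices and the swap
-/

namespace Cfsg.Agent.Helper6.GL2

open Matrix

variable {F : Type*} [Field F]

/-- diagonal matrices -/
def dg : Fˣ × Fˣ →* GL (Fin 2) F where
  toFun p := ⟨!![(p.1 : F), 0; 0, (p.2 : F)], !![((p.1⁻¹ : Fˣ) : F), 0; 0, ((p.2⁻¹ : Fˣ) : F)],
    by ext i j; fin_cases i <;> fin_cases j <;> simp [Matrix.mul_apply, Fin.sum_univ_two],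
    by ext i j; fin_cases i <;> fin_cases j <;> simp [Matrix.mul_apply, Fin.sum_univ_two]⟩
  map_one' := by
    apply Units.ext
    ext i j; fin_cases i <;> fin_cases j <;> simp
  map_mul' p p' := by
    apply Units.ext
    ext i j; fin_cases i <;> fin_cases j <;> simp [Matrix.mul_apply, Fin.sum_univ_two]

lemma dg_val (p : Fˣ × Fˣ) : ((dg p : GL (Fin 2) F) : Matrix (Fin 2) (Fin 2) F) =
    !![(p.1 : F), 0; 0, (p.2 : F)] := rfl

lemma dg_injective : Function.Injective (dg : Fˣ × Fˣ →* GL (Fin 2) F) := by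
  intro p p' h
  have h' := congrArg (fun g : GL (Fin 2) F => (g : Matrix (Fin 2) (Fin 2) F)) h
  simp only [dg_val] at h'
  have h0 := congrFun (congrFun h' 0) 0
  have h1 := congrFun (congrFun h' 1) 1
  simp at h0 h1
  exact Prod.ext (Units.ext h0) (Units.ext h1)

/-- the swap matrix -/
def sw : GL (Fin 2) F :=
  ⟨!![0, 1; 1, 0], !![0, 1; 1, 0],
    by ext i j; fin_cases i <;> fin_cases j <;> simp [Matrix.mul_apply, Fin.sum_univ_two],
    by ext i j; fin_cases i <;> fin_cases j <;> simp [Matrix.mul_apply, Fin.sum_univ_two]⟩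

lemma sw_mul_sw : (sw : GL (Fin 2) F) * sw = 1 := by
  apply Units.ext
  ext i j; fin_cases i <;> fin_cases j <;> simp [sw, Matrix.mul_apply, Fin.sum_univ_two]

lemma sw_inv : (sw : GL (Fin 2) F)⁻¹ = sw := inv_eq_of_mul_eq_one_right sw_mul_sw

lemma sw_ne_one : (sw : GL (Fin 2) F) ≠ 1 := by
  intro h
  have h' := congrArg (fun g : GL (Fin 2) F => (g : Matrix (Fin 2) (Fin 2) F) 0 0) h
  simp [sw] at h'

lemma orderOf_sw : orderOf (sw : GL (Fin 2) F) = 2 :=
  orderOf_eq_prime (by rw [pow_two, sw_mul_sw]) sw_ne_one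

lemma sw_conj_dg (u v : Fˣ) : (sw : GL (Fin 2) F) * dg (u, v) * sw⁻¹ = dg (v, u) := by
  rw [sw_inv]
  apply Units.ext
  ext i j; fin_cases i <;> fin_cases j <;>
    simp [sw, dg, Matrix.mul_apply, Fin.sum_univ_two]


/-- the wreathed 2-subgroup generated by the diagonal matrices with entries in `⟨a⟩` and the swap
is a 2-group, if `a` has 2-power order -/
lemma isPGroup_wreathed (a : Fˣ) {n : ℕ} (ha : orderOf a = 2 ^ n) :
    IsPGroup 2 (((Subgroup.zpowers a).prod (Subgroup.zpowers a)).map dg ⊔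
      Subgroup.zpowers (sw : GL (Fin 2) F) : Subgroup (GL (Fin 2) F)) := by
  have hA : IsPGroup 2 ((Subgroup.zpowers a).prod (Subgroup.zpowers a)) := by
    apply IsPGroup.of_card (n := n + n)
    rw [Nat.card_congr (Subgroup.prodEquiv _ _).toEquiv, Nat.card_prod, Nat.card_zpowers, ha,
      pow_add]
  have hZ : IsPGroup 2 (Subgroup.zpowers (sw : GL (Fin 2) F)) := by
    apply IsPGroup.of_card (n := 1)
    rw [Nat.card_zpowers, orderOf_sw, pow_one]
  apply IsPGroup.to_sup_of_normal_left' (hA.map dg) hZ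
  rw [Subgroup.zpowers_le]
  rw [Subgroup.mem_normalizer_iff]
  have key : ∀ h : GL (Fin 2) F,
      h ∈ ((Subgroup.zpowers a).prod (Subgroup.zpowers a)).map dg →
      sw * h * sw⁻¹ ∈ ((Subgroup.zpowers a).prod (Subgroup.zpowers a)).map dg := by
    rintro _ ⟨⟨u, v⟩, ⟨hu, hv⟩, rfl⟩
    rw [sw_conj_dg]
    exact ⟨(v, u), ⟨hv, hu⟩, rfl⟩
  intro h
  constructor
  · exact key h
  · intro hh
    have := key _ hh
    rw [sw_inv] at this
    have e : sw * (sw * h * sw) * sw = h := by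
      calc sw * (sw * h * sw) * sw = (sw * sw) * h * (sw * sw) := by group
        _ = h := by rw [sw_mul_sw, one_mul, mul_one]
    rw [sw_inv] at hh
    rw [e] at this
    exact this

/-- the wreathed configuration inside any Sylow 2-subgroup -/
theorem exists_wreathed [Fintype F] (P : Sylow 2 (GL (Fin 2) F)) (a : Fˣ) {n : ℕ} (ha : orderOf a = 2 ^ n) :
    ∃ x y z : (P : Subgroup (GL (Fin 2) F)), orderOf x = 2 ^ n ∧ x * y = y * x ∧
      Subgroup.zpowers x ⊓ Subgroup.zpowers y = ⊥ ∧ orderOf z = 2 ∧ z * x * z⁻¹ = y := by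
  obtain ⟨g, -, hg⟩ := Fus.exists_conj_le_sylow P ⊤ _ le_top le_top (isPGroup_wreathed a ha)
  have hx : dg (a, 1) ∈ (((Subgroup.zpowers a).prod (Subgroup.zpowers a)).map dg ⊔
      Subgroup.zpowers (sw : GL (Fin 2) F) : Subgroup (GL (Fin 2) F)) :=
    Subgroup.mem_sup_left ⟨(a, 1), ⟨Subgroup.mem_zpowers a, Subgroup.one_mem _⟩, rfl⟩
  have hy : dg (1, a) ∈ (((Subgroup.zpowers a).prod (Subgroup.zpowers a)).map dg ⊔
      Subgroup.zpowers (sw : GL (Fin 2) F) : Subgroup (GL (Fin 2) F)) :=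
    Subgroup.mem_sup_left ⟨(1, a), ⟨Subgroup.one_mem _, Subgroup.mem_zpowers a⟩, rfl⟩
  have hz : (sw : GL (Fin 2) F) ∈ (((Subgroup.zpowers a).prod (Subgroup.zpowers a)).map dg ⊔
      Subgroup.zpowers (sw : GL (Fin 2) F) : Subgroup (GL (Fin 2) F)) :=
    Subgroup.mem_sup_right (Subgroup.mem_zpowers _)
  -- conjugation by g as an injective hom
  let c : GL (Fin 2) F →* GL (Fin 2) F := (MulAut.conj g).toMonoidHom
  have hc : Function.Injective c := (MulAut.conj g).injective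
  have hcP : ∀ h ∈ (((Subgroup.zpowers a).prod (Subgroup.zpowers a)).map dg ⊔
      Subgroup.zpowers (sw : GL (Fin 2) F) : Subgroup (GL (Fin 2) F)),
      c h ∈ (P : Subgroup (GL (Fin 2) F)) := fun h hh => hg h hh
  refine ⟨⟨c (dg (a, 1)), hcP _ hx⟩, ⟨c (dg (1, a)), hcP _ hy⟩, ⟨c sw, hcP _ hz⟩,
    ?_, ?_, ?_, ?_, ?_⟩
  · rw [Subgroup.orderOf_mk, orderOf_injective c hc, orderOf_injective dg dg_injective,
      Prod.orderOf_mk, orderOf_one, ha]
    simp
  · apply Subtype.ext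
    simp only [Subgroup.coe_mul]
    rw [← map_mul, ← map_mul, ← map_mul, ← map_mul]
    congr 2
    ext <;> simp
  · rw [eq_bot_iff]
    rintro ⟨w, hw⟩ ⟨h1, h2⟩
    have h1 : (⟨w, hw⟩ : (P : Subgroup (GL (Fin 2) F))) ∈
        Subgroup.zpowers (⟨c (dg (a, 1)), hcP _ hx⟩ : (P : Subgroup (GL (Fin 2) F))) := h1
    have h2 : (⟨w, hw⟩ : (P : Subgroup (GL (Fin 2) F))) ∈
        Subgroup.zpowers (⟨c (dg (1, a)), hcP _ hy⟩ : (P : Subgroup (GL (Fin 2) F))) := h2
    rw [Subgroup.mem_zpowers_iff] at h1 h2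
    obtain ⟨k, hk⟩ := h1
    obtain ⟨l, hl⟩ := h2
    have hk' : c (dg ((a, 1) ^ k)) = w := by
      have := congrArg Subtype.val hk
      rw [map_zpow, map_zpow]
      simpa using this
    have hl' : c (dg ((1, a) ^ l)) = w := by
      have := congrArg Subtype.val hl
      rw [map_zpow, map_zpow]
      simpa using this
    have heq : ((a, 1) : Fˣ × Fˣ) ^ k = (1, a) ^ l := dg_injective (hc (hk'.trans hl'.symm))
    have h1 : a ^ k = 1 := by simpa using congrArg Prod.fst heq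
    rw [Subgroup.mem_bot]
    apply Subtype.ext
    show w = 1
    rw [← hk']
    have : ((a, 1) : Fˣ × Fˣ) ^ k = 1 := by
      ext <;> simp [h1]
    rw [this, map_one, map_one]
  · rw [Subgroup.orderOf_mk, orderOf_injective c hc, orderOf_sw]
  · apply Subtype.ext
    simp only [Subgroup.coe_mul, Subgroup.coe_inv]
    rw [← map_inv, ← map_mul, ← map_mul, sw_conj_dg]

end Cfsg.Agent.Helper6.GL2
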