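import Mathlib
import Cfsg.Agent.Lib.Helper6.GL2Wreathed
import Cfsg.Agent.Lib.Helper6.QDConverse
import Cfsg.Agent.Lib.Helper16.UniqueOrderP

/-!
# The quasi-dihedral 2-subgroup of `GL₂(F)`, `|F| ≡ 3 mod 4`
-/

namespace Cfsg.Agent.Helper6.GL2

open Matrix

variable {F : Type*} [Field F]

/-- the matrix of multiplication by `a + b i` -/
def cx (a b : F) : Matrix (Fin 2) (Fin 2) F := !![a, -b; b, a]

lemma cx_mul (a b c d : F) : cx a b * cx c d = cx (a * c - b * d) (a * d + b * c) := by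
  ext i j; fin_cases i <;> fin_cases j <;> simp [cx, Matrix.mul_apply, Fin.sum_univ_two] <;> ring

lemma cx_one : cx (1 : F) 0 = 1 := by
  ext i j; fin_cases i <;> fin_cases j <;> simp [cx]

lemma cx_inj {a b c d : F} (h : cx a b = cx c d) : a = c ∧ b = d := by
  have h0 := congrFun (congrFun h 0) 0
  have h1 := congrFun (congrFun h 1) 0
  simp [cx] at h0 h1
  exact ⟨h0, h1⟩

lemma norm_ne_zero (hns : ¬ IsSquare (-1 : F)) {a b : F} (h : ¬ (a = 0 ∧ b = 0)) :
    a ^ 2 + b ^ 2 ≠ 0 := by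
  intro h0
  by_cases hb : b = 0
  · subst hb
    simp at h0
    exact h ⟨h0, rfl⟩
  · apply hns
    refine ⟨a / b, ?_⟩
    field_simp
    linear_combination -h0

/-- the subgroup of the matrices `cx a b` -/
def Cx (hns : ¬ IsSquare (-1 : F)) : Subgroup (GL (Fin 2) F) where
  carrier := {g | ∃ a b, (g : Matrix (Fin 2) (Fin 2) F) = cx a b}
  mul_mem' := by
    rintro g h ⟨a, b, hg⟩ ⟨c, d, hh⟩
    exact ⟨_, _, by rw [Units.val_mul, hg, hh, cx_mul]⟩
  one_mem' := ⟨1, 0, by rw [Units.val_one, cx_one]⟩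
  inv_mem' := by
    rintro g ⟨a, b, hg⟩
    have hab : ¬ (a = 0 ∧ b = 0) := by
      rintro ⟨rfl, rfl⟩
      have h1 : (g : Matrix (Fin 2) (Fin 2) F) * ((g⁻¹ : GL (Fin 2) F) : Matrix (Fin 2) (Fin 2) F)
          = 1 := by rw [← Units.val_mul, mul_inv_cancel, Units.val_one]
      rw [hg] at h1
      have h2 := congrFun (congrFun h1 0) 0
      simp [cx, Matrix.mul_apply] at h2
    have hν := norm_ne_zero hns hab
    refine ⟨a / (a ^ 2 + b ^ 2), -b / (a ^ 2 + b ^ 2), ?_⟩
    apply Units.inv_eq_of_mul_eq_one_right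
    rw [hg, cx_mul, ← cx_one]
    congr 1 <;> field_simp <;> ring

lemma mem_Cx (hns : ¬ IsSquare (-1 : F)) (g : GL (Fin 2) F) :
    g ∈ Cx hns ↔ ∃ a b, (g : Matrix (Fin 2) (Fin 2) F) = cx a b := Iff.rfl

lemma Cx_comm (hns : ¬ IsSquare (-1 : F)) (g h : Cx hns) : g * h = h * g := by
  obtain ⟨a, b, hg⟩ := g.2
  obtain ⟨c, d, hh⟩ := h.2
  apply Subtype.ext
  apply Units.ext
  simp only [Subgroup.coe_mul, Units.val_mul]
  rw [hg, hh, cx_mul, cx_mul]
  congr 1 <;> ring

/-- the unit with matrix `cx a b` -/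
noncomputable def cxUnit (hns : ¬ IsSquare (-1 : F)) (a b : F) (h : ¬ (a = 0 ∧ b = 0)) :
    GL (Fin 2) F :=
  ⟨cx a b, cx (a / (a ^ 2 + b ^ 2)) (-b / (a ^ 2 + b ^ 2)),
    by
      have hν := norm_ne_zero hns h
      rw [cx_mul, ← cx_one]; congr 1 <;> field_simp <;> ring,
    by
      have hν := norm_ne_zero hns h
      rw [cx_mul, ← cx_one]; congr 1 <;> field_simp <;> ring⟩

lemma cxUnit_mem (hns : ¬ IsSquare (-1 : F)) (a b : F) (h : ¬ (a = 0 ∧ b = 0)) :
    cxUnit hns a b h ∈ Cx hns := ⟨a, b, rfl⟩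

section card
variable [Fintype F]

lemma card_Cx (hns : ¬ IsSquare (-1 : F)) : Nat.card (Cx hns) = Fintype.card F ^ 2 - 1 := by
  classical
  have e : Cx hns ≃ {p : F × F | p ≠ (0, 0)} :=
    { toFun := fun g => ⟨((g : GL (Fin 2) F) 0 0, (g : GL (Fin 2) F) 1 0), by
        obtain ⟨a, b, hg⟩ := g.2
        intro h0
        have h1 : (g : GL (Fin 2) F).val 0 0 = 0 := congrArg Prod.fst h0
        have h2 : (g : GL (Fin 2) F).val 1 0 = 0 := congrArg Prod.snd h0
        rw [hg] at h1 h2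
        simp [cx] at h1 h2
        subst h1 h2
        have h3 : ((g : GL (Fin 2) F) : Matrix (Fin 2) (Fin 2) F) *
            (((g : GL (Fin 2) F)⁻¹ : GL (Fin 2) F) : Matrix (Fin 2) (Fin 2) F) = 1 := by
          rw [← Units.val_mul, mul_inv_cancel, Units.val_one]
        rw [hg] at h3
        have h4 := congrFun (congrFun h3 0) 0
        simp [cx, Matrix.mul_apply] at h4⟩
      invFun := fun p => ⟨cxUnit hns p.1.1 p.1.2 (by
        rintro ⟨h1, h2⟩
        exact p.2 (Prod.ext h1 h2)), cxUnit_mem hns _ _ _⟩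
      left_inv := by
        intro g
        obtain ⟨a, b, hg⟩ := g.2
        apply Subtype.ext
        apply Units.ext
        simp only [cxUnit]
        rw [hg]
        simp [cx]
      right_inv := by
        intro p
        apply Subtype.ext
        simp [cxUnit, cx] }
  rw [Nat.card_congr e, Nat.card_eq_fintype_card, Set.card_ne_eq, Fintype.card_prod, pow_two]

end card

/-- an involution of `Cx` is `-1` -/
lemma Cx_involution (hns : ¬ IsSquare (-1 : F)) (h2 : (2 : F) ≠ 0) {g : GL (Fin 2) F}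
    (hg : g ∈ Cx hns) (hsq : g * g = 1) (hne : g ≠ 1) :
    (g : Matrix (Fin 2) (Fin 2) F) = cx (-1) 0 := by
  obtain ⟨a, b, hab⟩ := hg
  have h1 : cx a b * cx a b = cx 1 0 := by
    rw [← hab, ← Units.val_mul, hsq, Units.val_one, cx_one]
  rw [cx_mul] at h1
  obtain ⟨e1, e2⟩ := cx_inj h1
  have hab0 : a * b = 0 := by
    have : 2 * (a * b) = 0 := by linear_combination e2
    rcases mul_eq_zero.mp this with h | h
    · exact absurd h h2
    · exact h
  rcases mul_eq_zero.mp hab0 with ha | hb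
  · subst ha
    exfalso
    apply hns
    exact ⟨b, by linear_combination e1⟩
  · subst hb
    have : (a - 1) * (a + 1) = 0 := by linear_combination e1
    rcases mul_eq_zero.mp this with h | h
    · exfalso
      apply hne
      apply Units.ext
      rw [hab, Units.val_one, ← cx_one]
      congr 1
      linear_combination h
    · rw [hab]
      congr 1
      linear_combination h

end Cfsg.Agent.Helper6.GL2
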