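import Mathlib
import Cfsg.Agent.Lib.Helper6.GL2QD

/-!
# The quasi-dihedral configuration in a Sylow 2-subgroup of `GL₂(F)`, `|F| ≡ 3 mod 4`
-/

namespace Cfsg.Agent.Helper6.GL2

open Matrix

variable {F : Type*} [Field F] [Fintype F]

/-- Frobenius: the `q`-th power of `cx a b` is `cx a (-b)` -/
lemma cx_pow_card (hq : Fintype.card F % 4 = 3) (a b : F) :
    cx a b ^ Fintype.card F = cx a (-b) := by
  classical
  obtain ⟨p, hp⟩ := CharP.exists F
  obtain ⟨n, hprime, hcard⟩ := FiniteField.card F p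
  have : Fact p.Prime := ⟨hprime⟩
  have : CharP (Matrix (Fin 2) (Fin 2) F) p := inferInstance
  have hdecomp : cx a b = a • (1 : Matrix (Fin 2) (Fin 2) F) + b • cx 0 1 := by
    ext i j; fin_cases i <;> fin_cases j <;> simp [cx]
  have hcomm : Commute (a • (1 : Matrix (Fin 2) (Fin 2) F)) (b • cx 0 1) :=
    (Commute.one_left _).smul_left a
  have hJ2 : cx (0 : F) 1 * cx 0 1 = -1 := by
    rw [cx_mul]
    ext i j; fin_cases i <;> fin_cases j <;> simp [cx]
  have hJ4 : cx (0 : F) 1 ^ 4 = 1 := by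
    have : cx (0 : F) 1 ^ 4 = (cx 0 1 * cx 0 1) * (cx 0 1 * cx 0 1) := by
      simp only [pow_succ, pow_zero, one_mul, mul_assoc]
    rw [this, hJ2]
    simp
  have hJq : cx (0 : F) 1 ^ Fintype.card F = -cx 0 1 := by
    have hq4 : Fintype.card F = 4 * (Fintype.card F / 4) + 3 := by omega
    rw [hq4, pow_add, pow_mul, hJ4, one_pow, one_mul]
    have : cx (0 : F) 1 ^ 3 = (cx 0 1 * cx 0 1) * cx 0 1 := by
      simp only [pow_succ, pow_zero, one_mul]
    rw [this, hJ2]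
    simp
  rw [hdecomp]
  conv_lhs => rw [hcard]
  rw [add_pow_char_pow_of_commute p n hcomm, ← hcard, smul_pow, smul_pow, one_pow,
    FiniteField.pow_card, FiniteField.pow_card, hJq]
  ext i j; fin_cases i <;> fin_cases j <;> simp [cx]

omit [Fintype F] in
lemma two_ne_zero_of_not_isSquare (hns : ¬ IsSquare (-1 : F)) : (2 : F) ≠ 0 := by
  intro h
  apply hns
  refine ⟨1, ?_⟩
  linear_combination -h

lemma card_sylow_Cx (hns : ¬ IsSquare (-1 : F)) (S : Sylow 2 (Cx hns)) {m u : ℕ} (hu : Odd u)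
    (hm : 2 ≤ m) (hq : Fintype.card F + 1 = 2 ^ m * u) : Nat.card S = 2 ^ (m + 1) := by
  rw [Sylow.card_eq_multiplicity, card_Cx]
  congr 1
  obtain ⟨m', rfl⟩ : ∃ m', m = m' + 2 := ⟨m - 2, by omega⟩
  obtain ⟨v, rfl⟩ := hu
  have h1 : 1 ≤ 2 ^ (m' + 1) * (2 * v + 1) := Nat.one_le_iff_ne_zero.mpr (by positivity)
  set z := 2 ^ (m' + 1) * (2 * v + 1) - 1 with hz
  have hz1 : z + 1 = 2 ^ (m' + 1) * (2 * v + 1) := by omega
  have hqz : Fintype.card F = 2 * z + 1 := by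
    have : 2 ^ (m' + 2) * (2 * v + 1) = 2 * (2 ^ (m' + 1) * (2 * v + 1)) := by ring
    omega
  have hzodd : Odd z := by
    have : Even (z + 1) := by
      rw [hz1, pow_succ]; exact ((even_two.mul_left _).mul_right _)
    exact Nat.not_even_iff_odd.mp (Nat.even_add_one.mp this)
  have e : (2 * z + 1) ^ 2 - 1 = 2 ^ (m' + 2 + 1) * (z * (2 * v + 1)) := by
    have h3 : (2 * z + 1) ^ 2 - 1 = 2 * z * (2 * (z + 1)) := by
      apply Nat.sub_eq_of_eq_add; ring
    rw [h3, hz1]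
    ring
  rw [hqz, e]
  exact factorization_two_pow_mul (hzodd.mul ⟨v, rfl⟩)

end Cfsg.Agent.Helper6.GL2
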