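import Mathlib
import Cfsg.Agent.Lib.Helper6.GL2QD2

/-!
# The quasi-dihedral configuration in a Sylow 2-subgroup of `GL₂(F)`, `|F| ≡ 3 mod 4` (assembly)
-/

namespace Cfsg.Agent.Helper6.GL2

open Matrix

variable {F : Type*} [Field F] [Fintype F]

/-- the diagonal involution `diag(1, -1)` -/
noncomputable def yy : GL (Fin 2) F := dg (1, -1)

omit [Fintype F] in
lemma yy_mul_yy : (yy : GL (Fin 2) F) * yy = 1 := by
  unfold yy
  rw [← map_mul]
  have : ((1, -1) : Fˣ × Fˣ) * (1, -1) = 1 := by ext <;> simp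
  rw [this, map_one]

omit [Fintype F] in
lemma yy_inv : (yy : GL (Fin 2) F)⁻¹ = yy := inv_eq_of_mul_eq_one_right yy_mul_yy

omit [Fintype F] in
lemma yy_ne_one (h2 : (2 : F) ≠ 0) : (yy : GL (Fin 2) F) ≠ 1 := by
  intro h
  have h' := congrArg (fun g : GL (Fin 2) F => (g : Matrix (Fin 2) (Fin 2) F) 1 1) h
  simp [yy, dg_val] at h'
  apply h2
  linear_combination -h'

omit [Fintype F] in
lemma orderOf_yy (h2 : (2 : F) ≠ 0) : orderOf (yy : GL (Fin 2) F) = 2 :=
  orderOf_eq_prime (by rw [pow_two, yy_mul_yy]) (yy_ne_one h2)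

omit [Fintype F] in
lemma yy_conj_cx {g : GL (Fin 2) F} {a b : F} (hg : (g : Matrix (Fin 2) (Fin 2) F) = cx a b) :
    ((yy * g * yy⁻¹ : GL (Fin 2) F) : Matrix (Fin 2) (Fin 2) F) = cx a (-b) := by
  rw [yy_inv, Units.val_mul, Units.val_mul, hg]
  ext i j; fin_cases i <;> fin_cases j <;>
    simp [yy, dg_val, cx, Matrix.mul_apply, Fin.sum_univ_two]

theorem exists_qd (P : Sylow 2 (GL (Fin 2) F)) (hq4 : Fintype.card F % 4 = 3) {m u : ℕ}
    (hu : Odd u) (hm : 2 ≤ m) (hq : Fintype.card F + 1 = 2 ^ m * u) :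
    ∃ x y : (P : Subgroup (GL (Fin 2) F)), orderOf x = 2 ^ (m + 1) ∧ orderOf y = 2 ∧
      y * x * y⁻¹ = x ^ (2 ^ m - 1) := by
  have hns : ¬ IsSquare (-1 : F) := by
    rw [FiniteField.isSquare_neg_one_iff]
    simp [hq4]
  have h2 : (2 : F) ≠ 0 := two_ne_zero_of_not_isSquare hns
  let S : Sylow 2 (Cx hns) := default
  have hScard := card_sylow_Cx hns S hu hm hq
  have hcyc : IsCyclic S := by
    apply Cfsg.Agent.Helper16.isCyclic_of_comm_of_uniqueOrderP S.2
    · intro a b
      apply Subtype.ext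
      simp only [Subgroup.coe_mul]
      exact Cx_comm hns _ _
    · intro x y hx hy
      have key : ∀ w : S, orderOf w = 2 →
          (((w : Cx hns) : GL (Fin 2) F) : Matrix (Fin 2) (Fin 2) F) = cx (-1) 0 := by
        intro w hw
        have hw' : orderOf ((w : Cx hns) : GL (Fin 2) F) = 2 := by
          rw [Subgroup.orderOf_coe, Subgroup.orderOf_coe, hw]
        apply Cx_involution hns h2 (w : Cx hns).2
        · rw [← pow_two]
          have := pow_orderOf_eq_one ((w : Cx hns) : GL (Fin 2) F)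
          rwa [hw'] at this
        · intro h1
          rw [h1, orderOf_one] at hw'
          omega
      have : y = x := by
        apply Subtype.ext
        apply Subtype.ext
        apply Units.ext
        rw [key x hx, key y hy]
      rw [this]
      exact Subgroup.mem_zpowers x
  obtain ⟨s, hs⟩ := hcyc.exists_generator
  have hso : orderOf s = 2 ^ (m + 1) := by
    rw [orderOf_eq_card_of_forall_mem_zpowers hs, hScard]
  set x0 : GL (Fin 2) F := ((s : Cx hns) : GL (Fin 2) F) with hx0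
  have hx0o : orderOf x0 = 2 ^ (m + 1) := by
    rw [hx0, Subgroup.orderOf_coe, Subgroup.orderOf_coe, hso]
  obtain ⟨a, b, hab⟩ : ∃ a b, (x0 : Matrix (Fin 2) (Fin 2) F) = cx a b := (s : Cx hns).2
  -- conjugation by yy is the q-th power
  have hconj : yy * x0 * yy⁻¹ = x0 ^ Fintype.card F := by
    apply Units.ext
    rw [yy_conj_cx hab, Units.val_pow_eq_pow_val, hab, cx_pow_card hq4]
  have hpow : x0 ^ Fintype.card F = x0 ^ (2 ^ m - 1) := by
    obtain ⟨v, rfl⟩ := hu
    have h1 : 1 ≤ 2 ^ m := Nat.one_le_two_pow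
    have : Fintype.card F = (2 ^ m - 1) + 2 ^ (m + 1) * v := by
      have : 2 ^ m * (2 * v + 1) = 2 ^ (m + 1) * v + 2 ^ m := by ring
      omega
    rw [this, pow_add, pow_mul, ← hx0o, pow_orderOf_eq_one, one_pow, mul_one]
  have hconj' : yy * x0 * yy⁻¹ = x0 ^ (2 ^ m - 1) := hconj.trans hpow
  -- the 2-subgroup generated by x0 and yy
  have hK : IsPGroup 2 (Subgroup.zpowers x0 ⊔ Subgroup.zpowers (yy : GL (Fin 2) F) :
      Subgroup (GL (Fin 2) F)) := by
    apply IsPGroup.to_sup_of_normal_left'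
    · apply IsPGroup.of_card (n := m + 1)
      rw [Nat.card_zpowers, hx0o]
    · apply IsPGroup.of_card (n := 1)
      rw [Nat.card_zpowers, orderOf_yy h2, pow_one]
    · rw [Subgroup.zpowers_le]
      apply Fus.mem_normalizer_of_conj_mem
      intro t ht
      obtain ⟨k, rfl⟩ := Subgroup.mem_zpowers_iff.mp ht
      rw [← conj_zpow, hconj']
      exact Subgroup.zpow_mem _ (Subgroup.pow_mem _ (Subgroup.mem_zpowers _) _) _
  obtain ⟨g, -, hg⟩ := Fus.exists_conj_le_sylow P ⊤ _ le_top le_top hK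
  let c : GL (Fin 2) F →* GL (Fin 2) F := (MulAut.conj g).toMonoidHom
  have hc : Function.Injective c := (MulAut.conj g).injective
  have hcP : ∀ h ∈ (Subgroup.zpowers x0 ⊔ Subgroup.zpowers (yy : GL (Fin 2) F) :
      Subgroup (GL (Fin 2) F)), c h ∈ (P : Subgroup (GL (Fin 2) F)) := fun h hh => hg h hh
  refine ⟨⟨c x0, hcP _ (Subgroup.mem_sup_left (Subgroup.mem_zpowers _))⟩,
    ⟨c yy, hcP _ (Subgroup.mem_sup_right (Subgroup.mem_zpowers _))⟩, ?_, ?_, ?_⟩
  · rw [Subgroup.orderOf_mk, orderOf_injective c hc, hx0o]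
  · rw [Subgroup.orderOf_mk, orderOf_injective c hc, orderOf_yy h2]
  · apply Subtype.ext
    simp only [Subgroup.coe_mul, Subgroup.coe_inv, Subgroup.coe_pow]
    rw [← map_inv, ← map_mul, ← map_mul, hconj', map_pow]

end Cfsg.Agent.Helper6.GL2
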