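import Mathlib
import Cfsg.Agent.Lib.Helper6.StPres

/-!
The exceptional graph endomorphisms `x_r(t) ↦ x_{ρ r}(φ(t)^{λ(r)})` of the Chevalley groups of types B₂, F₄
(characteristic 2) and G₂ (characteristic 3), constructed from Steinberg's presentation.
-/

set_option autoImplicit false
set_option linter.unusedSectionVars false
set_option linter.unusedVariables false

namespace Cfsg.Agent.Helper6.GA

open Cfsg Cfsg.Lie Cfsg.Agent.Lead.Chev Cfsg.Agent.Helper6.StC Cfsg.Agent.Helper6.ChevL
  Cfsg.Agent.Helper6.SL2Hom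

/-- a formal term: root, integer coefficient, exponents of `T` and `U` -/
abbrev Ent := ℕ × ℤ × ℕ × ℕ

/-- the image of the right-hand side of the commutator formula for `(r, s)` -/
def F1 (D : ChevalleyDatum) (ρ lam : ℕ → ℕ) (r s : ℕ) : List Ent :=
  (D.commTerms r s).map fun c =>
    (ρ c.1, c.2.1 ^ lam c.1 * (-1) ^ (c.2.2.1 * lam c.1), c.2.2.1 * lam c.1, c.2.2.2 * lam c.1)

/-- the right-hand side of the commutator formula for `(ρ r, ρ s)` -/
def F2 (D : ChevalleyDatum) (ρ lam : ℕ → ℕ) (r s : ℕ) : List Ent :=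
  (D.commTerms (ρ r) (ρ s)).map fun c => (c.1, c.2.1 * (-1) ^ c.2.2.1, lam r * c.2.2.1, lam s * c.2.2.2)

/-- reduce the coefficients modulo `p` and drop the zero terms -/
def normE (p : ℕ) (L : List Ent) : List Ent :=
  (L.map fun e => (e.1, e.2.1 % (p : ℤ), e.2.2)).filter fun e => decide (e.2.1 ≠ 0)

/-- the root elements for `c₁`, `c₂` commute in characteristic `p` -/
def commOK (D : ChevalleyDatum) (p : ℕ) (c₁ c₂ : ℕ) : Bool :=
  decide (c₁ = c₂) || (decide (c₁ < D.nroots) && decide (c₂ < D.nroots) && decide (c₂ ≠ D.neg c₁) &&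
    (D.commTerms c₁ c₂).all fun c => decide (c.2.1 % (p : ℤ) = 0))

/-- the check of the relation (R2) for the pair `(r, s)` -/
def chkR2 (D : ChevalleyDatum) (p : ℕ) (ρ lam : ℕ → ℕ) (r s : ℕ) : Bool :=
  decide ((normE p (F1 D ρ lam r s)).Perm (normE p (F2 D ρ lam r s))) &&
    ((normE p (F2 D ρ lam r s)).all fun x => (normE p (F2 D ρ lam r s)).all fun y => commOK D p x.1 y.1) &&
    ((D.commTerms r s).all fun c => decide (c.1 < D.nroots))

/-- the combinatorial data of a graph symmetry -/
structure GraphData (D : ChevalleyDatum) (p : ℕ) (ρ lam : ℕ → ℕ) : Prop where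
  rho_lt : ∀ r < D.nroots, ρ r < D.nroots
  rho_rho : ∀ r < D.nroots, ρ (ρ r) = r
  rho_neg : ∀ r < D.nroots, ρ (D.neg r) = D.neg (ρ r)
  lam_neg : ∀ r < D.nroots, lam (D.neg r) = lam r
  lam_cases : ∀ r < D.nroots, lam r = 1 ∨ lam r = p
  lam_mul : ∀ r < D.nroots, lam r * lam (ρ r) = p
  r2 : ∀ r < D.nroots, ∀ s < D.nroots, s ≠ r → s ≠ D.neg r → chkR2 D p ρ lam r s = true

variable {K : Type*} [Field K]

/-- the value of a formal term -/
def evE (T U : K) (e : Ent) : ℕ × K := (e.1, (e.2.1 : K) * T ^ e.2.2.1 * U ^ e.2.2.2)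

section charp

variable {D : ChevalleyDatum} (hF : ChevFacts D K) (p : ℕ) [Fact p.Prime] [CharP K p]

include hF in
/-- the terms with coefficient divisible by `p` may be dropped -/
theorem wordGL_normE (T U : K) (L : List Ent) :
    wordGL D hF.xadd (L.map (evE T U)) = wordGL D hF.xadd ((normE p L).map (evE T U)) := by
  induction L with
  | nil => rfl
  | cons e L ih =>
    have hcast : ((e.2.1 : ℤ) : K) = ((e.2.1 % (p : ℤ) : ℤ) : K) := CharP.intCast_eq_intCast_mod K p
    unfold normE at ih ⊢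
    rw [List.map_cons, List.map_cons, wordGL_cons, ih]
    by_cases h0 : e.2.1 % (p : ℤ) = 0
    · rw [List.filter_cons_of_neg (by simpa using h0)]
      have : (evE T U e).2 = 0 := by
        unfold evE
        rw [hcast, h0]
        simp
      rw [this, xGL_zero, one_mul]
    · rw [List.filter_cons_of_pos (by simpa using h0), List.map_cons, wordGL_cons]
      congr 1
      unfold evE
      rw [hcast]

include hF in
theorem commute_of_commOK (c₁ c₂ : ℕ) (h : commOK D p c₁ c₂ = true) (v₁ v₂ : K) :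
    Commute (xGL D hF.xadd c₁ v₁) (xGL D hF.xadd c₂ v₂) := by
  unfold commOK at h
  rw [Bool.or_eq_true] at h
  rcases h with h | h
  · rw [decide_eq_true_eq] at h
    subst h
    show _ * _ = _ * _
    rw [xGL_mul, xGL_mul, add_comm]
  · simp only [Bool.and_eq_true, decide_eq_true_eq, List.all_eq_true] at h
    obtain ⟨⟨⟨h1, h2⟩, h3⟩, h4⟩ := h
    by_cases h12 : c₂ = c₁
    · subst h12
      show _ * _ = _ * _
      rw [xGL_mul, xGL_mul, add_comm]
    · have hc := hF.comm c₁ h1 c₂ h2 h12 h3 v₁ v₂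
      have hw : D.wordMat K (D.commWord K c₁ c₂ v₁ v₂) = 1 := by
        rw [← wordGL_val D hF.xadd]
        have : wordGL D hF.xadd (D.commWord K c₁ c₂ v₁ v₂) = 1 := by
          unfold ChevalleyDatum.commWord
          generalize D.commTerms c₁ c₂ = l at h4
          induction l with
          | nil => rfl
          | cons c l ih =>
            rw [List.map_cons, wordGL_cons, ih fun c' hc' => h4 c' (List.mem_cons_of_mem _ hc')]
            have h5 := h4 c List.mem_cons_self
            have hcast : ((c.2.1 : ℤ) : K) = ((c.2.1 % (p : ℤ) : ℤ) : K) := CharP.intCast_eq_intCast_mod K p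
            have : (c.2.1 : K) * (-v₁) ^ c.2.2.1 * v₂ ^ c.2.2.2 = 0 := by
              rw [hcast, h5]
              simp
            rw [this, xGL_zero, one_mul]
        rw [this]
        rfl
      rw [hw, mul_one] at hc
      show _ * _ = _ * _
      apply Units.ext
      rw [Units.val_mul, Units.val_mul, xGL_val, xGL_val]
      exact hc.symm

include hF in
/-- the key identity behind the relation (R2) -/
theorem wordGL_F1_eq_F2 (ρ lam : ℕ → ℕ) (r s : ℕ) (h : chkR2 D p ρ lam r s = true) (T U : K) :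
    wordGL D hF.xadd ((F1 D ρ lam r s).map (evE T U)) = wordGL D hF.xadd ((F2 D ρ lam r s).map (evE T U)) := by
  unfold chkR2 at h
  rw [Bool.and_eq_true, Bool.and_eq_true, decide_eq_true_eq] at h
  obtain ⟨⟨hperm, hcomm⟩, -⟩ := h
  rw [wordGL_normE hF p T U (F1 D ρ lam r s), wordGL_normE hF p T U (F2 D ρ lam r s)]
  unfold wordGL
  rw [List.map_map, List.map_map]
  apply (List.Perm.prod_eq' (hperm.symm.map _) ?_).symm
  rw [List.pairwise_map]
  apply List.pairwise_of_forall_mem_list
  intro x hx y hy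
  simp only [List.all_eq_true] at hcomm
  exact commute_of_commOK hF p _ _ (hcomm x hx y hy) _ _

end charp

section hom

variable {D : ChevalleyDatum} (hD : D ∈ [chevG2, chevB2, chevD4, chevF4, chevE6, chevE7, chevE8])
  (p : ℕ) [Fact p.Prime] [CharP K p] {ρ lam : ℕ → ℕ} (hG : GraphData D p ρ lam) (φ : K →+* K)

/-- the images of the generators -/
def xR (hX : XAdd D K) (ρ lam : ℕ → ℕ) (φ : K →+* K) (q : Fin D.nroots × K) : GL D.Idx K :=
  xGL D hX (ρ q.1.val) (φ q.2 ^ lam q.1.val)

theorem lift_xR_stX (hX : XAdd D K) (r : ℕ) (hr : r < D.nroots) (t : K) :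
    FreeGroup.lift (xR hX ρ lam φ) (D.stX r t) = xGL D hX (ρ r) (φ t ^ lam r) := by
  unfold ChevalleyDatum.stX
  rw [dif_pos hr, FreeGroup.lift_apply_of]
  rfl

theorem lift_xR_stWord (hX : XAdd D K) (w : List (ℕ × K)) (hw : ∀ q ∈ w, q.1 < D.nroots) :
    FreeGroup.lift (xR hX ρ lam φ) (D.stWord w) =
      wordGL D hX (w.map fun q => (ρ q.1, φ q.2 ^ lam q.1)) := by
  unfold ChevalleyDatum.stWord wordGL
  rw [map_list_prod, List.map_map, List.map_map]
  congr 1
  apply List.map_congr_left
  intro q hq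
  exact lift_xR_stX φ hX q.1 (hw q hq) q.2

include hG in
theorem pow_lam_add (r : ℕ) (hr : r < D.nroots) (a b : K) : (a + b) ^ lam r = a ^ lam r + b ^ lam r := by
  rcases hG.lam_cases r hr with h | h
  · rw [h, pow_one, pow_one, pow_one]
  · rw [h]
    exact add_pow_char a b p

include hG in
theorem neg_pow_lam (r : ℕ) (hr : r < D.nroots) (a : K) : (-a) ^ lam r = -(a ^ lam r) := by
  rcases hG.lam_cases r hr with h | h
  · rw [h, pow_one, pow_one]
  · rw [h, neg_pow, neg_one_pow_char K p, neg_one_mul]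

include hG in
/-- the image of `n̄_r(t)` -/
theorem lift_xR_stN (r : ℕ) (hr : r < D.nroots) (t : K) :
    FreeGroup.lift (xR (chevFacts_of_mem (F := K) D hD).xadd ρ lam φ) (D.stN r t) =
      nGLt D (chevFacts_of_mem (F := K) D hD).xadd (ρ r) (φ t ^ lam r) := by
  have hF := chevFacts_of_mem (F := K) D hD
  have hnr := hF.sign.neg_lt r hr
  unfold ChevalleyDatum.stN ChevalleyDatum.nWord
  rw [lift_xR_stWord φ hF.xadd _ (by
    intro q hq
    simp only [List.mem_cons, List.not_mem_nil, or_false] at hq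
    rcases hq with rfl | rfl | rfl
    · exact hr
    · exact hnr
    · exact hr)]
  rw [List.map_cons, List.map_cons, List.map_cons, List.map_nil, wordGL_cons, wordGL_cons, wordGL_singleton,
    nGLt_eq, hG.rho_neg r hr, hG.lam_neg r hr, map_neg, map_inv₀, neg_pow_lam p hG r hr, inv_pow, mul_assoc]

include hG in
/-- the image of `h̄_r(t)` -/
theorem lift_xR_stH (r : ℕ) (hr : r < D.nroots) (t : K) :
    FreeGroup.lift (xR (chevFacts_of_mem (F := K) D hD).xadd ρ lam φ) (D.stH r t) =
      hGLt D (chevFacts_of_mem (F := K) D hD).xadd (ρ r) (φ t ^ lam r) := by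
  have hF := chevFacts_of_mem (F := K) D hD
  have h1 := lift_xR_stN hD p hG φ r hr t
  have h2 := lift_xR_stN hD p hG φ r hr (-1)
  unfold ChevalleyDatum.stN at h1 h2
  unfold ChevalleyDatum.stH ChevalleyDatum.hWord
  unfold ChevalleyDatum.stWord at h1 h2 ⊢
  rw [List.map_append, List.prod_append, map_mul, h1, h2, hGLt_eq, map_neg, map_one,
    neg_pow_lam p hG r hr, one_pow]

include hG in
/-- the relators hold for the images -/
theorem lift_xR_rel : ∀ g ∈ D.steinbergRels K,
    FreeGroup.lift (xR (chevFacts_of_mem (F := K) D hD).xadd ρ lam φ) g = 1 := by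
  have hF := chevFacts_of_mem (F := K) D hD
  rintro g ((⟨r, t₁, t₂, hr, rfl⟩ | ⟨r, s, t, u, hr, hs, hne, hne', rfl⟩) | ⟨r, t₁, t₂, hr, ht₁, ht₂, rfl⟩)
  · rw [map_mul, map_mul, map_inv, lift_xR_stX φ hF.xadd r hr, lift_xR_stX φ hF.xadd r hr,
      lift_xR_stX φ hF.xadd r hr, xGL_mul, map_add, pow_lam_add p hG r hr, mul_inv_cancel]
  · have hchk := hG.r2 r hr s hs hne hne'
    have hlt : ∀ c ∈ D.commTerms r s, c.1 < D.nroots := by
      unfold chkR2 at hchk
      rw [Bool.and_eq_true] at hchk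
      have := hchk.2
      simp only [List.all_eq_true, decide_eq_true_eq] at this
      exact this
    have hρr := hG.rho_lt r hr
    have hρs := hG.rho_lt s hs
    have hne1 : ρ s ≠ ρ r := by
      intro e
      apply hne
      rw [← hG.rho_rho s hs, e, hG.rho_rho r hr]
    have hne2 : ρ s ≠ D.neg (ρ r) := by
      intro e
      apply hne'
      rw [← hG.rho_rho s hs, e, ← hG.rho_neg r hr, hG.rho_rho _ (hF.sign.neg_lt r hr)]
    rw [map_mul, map_mul, map_mul, map_mul, map_inv, map_inv, map_inv, lift_xR_stX φ hF.xadd r hr,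
      lift_xR_stX φ hF.xadd s hs, mul_inv_eq_one]
    rw [lift_xR_stWord φ hF.xadd _ (by
      intro q hq
      unfold ChevalleyDatum.commWord at hq
      obtain ⟨c, hc, rfl⟩ := List.mem_map.1 hq
      exact hlt c hc)]
    have hcomm := comm_GL D hF.xadd (ρ r) (ρ s) (hF.comm _ hρr _ hρs hne1 hne2) (φ t ^ lam r) (φ u ^ lam s)
    rw [commutatorElement_def, inv_inv, inv_inv] at hcomm
    rw [hcomm]
    -- both sides are values of formal words
    have e1 : (D.commWord K r s t u).map (fun q => (ρ q.1, φ q.2 ^ lam q.1)) =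
        (F1 D ρ lam r s).map (evE (φ t) (φ u)) := by
      unfold ChevalleyDatum.commWord F1
      rw [List.map_map, List.map_map]
      apply List.map_congr_left
      intro c hc
      simp only [Function.comp, evE]
      congr 1
      rw [map_mul, map_mul, map_pow, map_pow, map_neg, map_intCast]
      push_cast
      rw [mul_pow, mul_pow, neg_pow (φ t), mul_pow, ← pow_mul, ← pow_mul, ← pow_mul]
      ring
    have e2 : D.commWord K (ρ r) (ρ s) (φ t ^ lam r) (φ u ^ lam s) =
        (F2 D ρ lam r s).map (evE (φ t) (φ u)) := by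
      unfold ChevalleyDatum.commWord F2
      rw [List.map_map]
      apply List.map_congr_left
      intro c hc
      simp only [Function.comp, evE]
      congr 1
      push_cast
      rw [neg_pow (φ t ^ lam r), ← pow_mul, ← pow_mul]
      ring
    rw [e1, e2]
    exact (wordGL_F1_eq_F2 hF p ρ lam r s hchk (φ t) (φ u)).symm
  · rw [map_mul, map_mul, map_inv, lift_xR_stH hD p hG φ r hr, lift_xR_stH hD p hG φ r hr,
      lift_xR_stH hD p hG φ r hr, mul_inv_eq_one, map_mul, mul_pow]
    have hd := diag2_of_mem D hD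
    have h1 := (rankOne_root hF hd (ρ r) (hG.rho_lt r hr)).hmul (φ t₁ ^ lam r) (φ t₂ ^ lam r)
      (pow_ne_zero _ ((map_ne_zero φ).2 ht₁)) (pow_ne_zero _ ((map_ne_zero φ).2 ht₂))
    rw [hh_eq hF, hh_eq hF, hh_eq hF] at h1
    exact h1.symm

/-- the homomorphism from the Steinberg group -/
noncomputable def psiGL : D.SteinbergGroup K →* GL D.Idx K :=
  PresentedGroup.toGroup (lift_xR_rel hD p hG φ)

theorem psiGL_mk (r : ℕ) (hr : r < D.nroots) (t : K) :
    psiGL hD p hG φ (PresentedGroup.mk (D.steinbergRels K) (D.stX r t)) =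
      xGL D (chevFacts_of_mem (F := K) D hD).xadd (ρ r) (φ t ^ lam r) :=
  lift_xR_stX φ _ r hr t

theorem psiGL_mem (x : D.SteinbergGroup K) : psiGL hD p hG φ x ∈ D.group K := by
  have hx : x ∈ (⊤ : Subgroup (D.SteinbergGroup K)) := trivial
  rw [← gen_eq_top (D.steinbergRels K)] at hx
  induction hx using Subgroup.closure_induction with
  | mem y hy =>
    obtain ⟨r, hr, t, rfl⟩ := hy
    rw [psiGL_mk hD p hG φ r hr]
    exact xGL_mem_group D _ _ _
  | one => rw [map_one]; exact one_mem _
  | mul a b _ _ ha hb => rw [map_mul]; exact mul_mem ha hb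
  | inv a _ ha => rw [map_inv]; exact inv_mem ha

/-- the homomorphism to the Chevalley group -/
noncomputable def psiG : D.SteinbergGroup K →* D.group K :=
  (psiGL hD p hG φ).codRestrict (D.group K) (psiGL_mem hD p hG φ)

theorem psiG_surjective (hsurj : ∀ r < D.nroots, ∀ v : K, ∃ t : K, φ t ^ lam r = v) :
    Function.Surjective (psiG hD p hG φ) := by
  have hF := chevFacts_of_mem (F := K) D hD
  have hle : D.group K ≤ (psiGL hD p hG φ).range := by
    apply group_le_of D hF.xadd
    intro r hr v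
    obtain ⟨t, ht⟩ := hsurj (ρ r) (hG.rho_lt r hr) v
    refine ⟨PresentedGroup.mk (D.steinbergRels K) (D.stX (ρ r) t), ?_⟩
    rw [psiGL_mk hD p hG φ _ (hG.rho_lt r hr), hG.rho_rho r hr, ht]
  intro y
  obtain ⟨x, hx⟩ := hle y.2
  exact ⟨x, Subtype.ext hx⟩

/-- the relators hold in the Chevalley group -/
theorem hlift0 : ∀ r ∈ D.steinbergRels K,
    FreeGroup.lift (xF D (chevFacts_of_mem (F := K) D hD).xadd) r = 1 :=
  lift_rel (chevFacts_of_mem (F := K) D hD) (diag2_of_mem D hD)

theorem ker_le_ker (hsurj : ∀ r < D.nroots, ∀ v : K, ∃ t : K, φ t ^ lam r = v) :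
    (thetaG hD (D.steinbergRels K) (hlift0 hD)).ker ≤ (psiG hD p hG φ).ker := by
  have hF := chevFacts_of_mem (F := K) D hD
  have hsub : D.steinbergRelsAB K ⊆ D.steinbergRels K := by
    rintro g (hg | hg)
    · exact Or.inl (Or.inl hg)
    · exact Or.inl (Or.inr hg)
  intro z hz
  have hzc := thetaG_ker_le hD (D.steinbergRels K) hsub (hlift0 hD) hz
  rw [MonoidHom.mem_ker]
  apply Subtype.ext
  rw [Subgroup.coe_one]
  apply eq_one_of_central hF (corSize_of_mem D hD) _ (Subtype.mem _)
  intro g hg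
  obtain ⟨x, hx⟩ := psiG_surjective hD p hG φ hsurj ⟨g, hg⟩
  have hg' : g = ((psiG hD p hG φ x : D.group K) : GL D.Idx K) := by rw [hx]
  rw [hg', ← Subgroup.coe_mul, ← Subgroup.coe_mul, ← map_mul, ← map_mul]
  rw [Subgroup.mem_center_iff] at hzc
  rw [hzc x]

/-- the graph endomorphism of the Chevalley group -/
noncomputable def graphHom (hsurj : ∀ r < D.nroots, ∀ v : K, ∃ t : K, φ t ^ lam r = v) :
    D.group K →* D.group K :=
  (thetaG hD (D.steinbergRels K) (hlift0 hD)).liftOfSurjective (thetaG_surjective hD _ (hlift0 hD))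
    ⟨psiG hD p hG φ, ker_le_ker hD p hG φ hsurj⟩

theorem graphHom_comp (hsurj : ∀ r < D.nroots, ∀ v : K, ∃ t : K, φ t ^ lam r = v) :
    (graphHom hD p hG φ hsurj).comp (thetaG hD (D.steinbergRels K) (hlift0 hD)) = psiG hD p hG φ :=
  MonoidHom.liftOfRightInverse_comp _ _ _ _

/-- the graph endomorphism on the root elements -/
theorem graphHom_apply (hsurj : ∀ r < D.nroots, ∀ v : K, ∃ t : K, φ t ^ lam r = v)
    (g : D.group K) (r : ℕ) (hr : r < D.nroots) (t : K)
    (hg : ((g : GL D.Idx K) : Matrix D.Idx D.Idx K) = D.x K r t) :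
    (((graphHom hD p hG φ hsurj g : D.group K) : GL D.Idx K) : Matrix D.Idx D.Idx K) =
      D.x K (ρ r) (φ t ^ lam r) := by
  have hF := chevFacts_of_mem (F := K) D hD
  have e : g = thetaG hD (D.steinbergRels K) (hlift0 hD) (PresentedGroup.mk _ (D.stX r t)) := by
    apply Subtype.ext
    apply Units.ext
    rw [hg, thetaG_val, thetaGL_mk]
    rfl
  have h1 := congrArg (fun f => f (PresentedGroup.mk (D.steinbergRels K) (D.stX r t)))
    (graphHom_comp hD p hG φ hsurj)
  simp only [MonoidHom.comp_apply] at h1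
  rw [e, h1]
  show ((psiGL hD p hG φ _ : GL D.Idx K) : Matrix D.Idx D.Idx K) = _
  rw [psiGL_mk hD p hG φ r hr]
  rfl

end hom

end Cfsg.Agent.Helper6.GA
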