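import Mathlib
import Cfsg.Agent.Lib.Helper6.GraphAut

/-!
The graph symmetries of B₂, F₄ (characteristic 2) and G₂ (characteristic 3): tables and the resulting
automorphisms.
-/

set_option autoImplicit false
set_option Elab.async false
set_option linter.unusedSectionVars false
set_option linter.unusedVariables false

namespace Cfsg.Agent.Helper6.GA

open Cfsg Cfsg.Lie Cfsg.Agent.Lead.Chev Cfsg.Agent.Helper6.StC Cfsg.Agent.Helper6.ChevL

def rhoL_B2 : List ℕ := [1, 0, 3, 2, 5, 4, 7, 6]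
def lamL_B2 : List ℕ := [1, 2, 2, 1, 1, 2, 2, 1]
def rho_B2 (r : ℕ) : ℕ := rhoL_B2.getD r 0
def lam_B2 (r : ℕ) : ℕ := lamL_B2.getD r 0

theorem graphData_B2 : GraphData chevB2 2 rho_B2 lam_B2 := by
  refine ⟨?_, ?_, ?_, ?_, ?_, ?_, ?_⟩ <;> decide +kernel

theorem simple_B2 : ∀ i < chevB2.rank,
    rho_B2 (chevB2.simple i) = chevB2.simple (([(1, 2), (0, 1)] : List (ℕ × ℕ)).getD i (0, 1)).1 ∧
    lam_B2 (chevB2.simple i) = (([(1, 2), (0, 1)] : List (ℕ × ℕ)).getD i (0, 1)).2 := by decide +kernel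

def rhoL_F4 : List ℕ := [3, 7, 8, 0, 9, 11, 18, 1, 2, 4, 15, 5, 16, 21, 23, 10, 12, 19, 6, 17, 22, 13, 20, 14, 33, 27, 34, 25, 30, 41, 28, 35, 37, 24, 26, 31, 42, 32, 43, 45, 46, 29, 36, 38, 47, 39, 40, 44]
def lamL_F4 : List ℕ := [1, 1, 1, 2, 1, 1, 1, 2, 2, 2, 2, 2, 2, 2, 2, 1, 1, 1, 2, 2, 2, 1, 1, 1, 1, 1, 1, 2, 2, 2, 1, 1, 1, 2, 2, 2, 2, 2, 2, 2, 2, 1, 1, 1, 2, 1, 1, 1]
def rho_F4 (r : ℕ) : ℕ := rhoL_F4.getD r 0
def lam_F4 (r : ℕ) : ℕ := lamL_F4.getD r 0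

theorem graphData_F4 : GraphData chevF4 2 rho_F4 lam_F4 := by
  refine ⟨?_, ?_, ?_, ?_, ?_, ?_, ?_⟩ <;> decide +kernel

theorem simple_F4 : ∀ i < chevF4.rank,
    rho_F4 (chevF4.simple i) = chevF4.simple (([(3, 2), (2, 2), (1, 1), (0, 1)] : List (ℕ × ℕ)).getD i (0, 1)).1 ∧
    lam_F4 (chevF4.simple i) = (([(3, 2), (2, 2), (1, 1), (0, 1)] : List (ℕ × ℕ)).getD i (0, 1)).2 := by decide +kernel

def rhoL_G2 : List ℕ := [2, 3, 0, 1, 5, 4, 7, 6, 10, 11, 8, 9]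
def lamL_G2 : List ℕ := [1, 1, 3, 3, 3, 1, 1, 3, 3, 3, 1, 1]
def rho_G2 (r : ℕ) : ℕ := rhoL_G2.getD r 0
def lam_G2 (r : ℕ) : ℕ := lamL_G2.getD r 0

theorem graphData_G2 : GraphData chevG2 3 rho_G2 lam_G2 := by
  refine ⟨?_, ?_, ?_, ?_, ?_, ?_, ?_⟩ <;> decide +kernel

theorem simple_G2 : ∀ i < chevG2.rank,
    rho_G2 (chevG2.simple i) = chevG2.simple (([(1, 3), (0, 1)] : List (ℕ × ℕ)).getD i (0, 1)).1 ∧
    lam_G2 (chevG2.simple i) = (([(1, 3), (0, 1)] : List (ℕ × ℕ)).getD i (0, 1)).2 := by decide +kernel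

variable {K : Type*} [Field K]

/-- the graph automorphism -/
theorem exists_graphEquiv {D : ChevalleyDatum}
    (hD : D ∈ [chevG2, chevB2, chevD4, chevF4, chevE6, chevE7, chevE8]) (p : ℕ) [Fact p.Prime] [CharP K p]
    {ρ lam : ℕ → ℕ} (hG : GraphData D p ρ lam) (hperf : ∀ x : K, ∃ y : K, y ^ p = x) :
    ∃ α : D.group K ≃* D.group K, ∀ (g : D.group K) (r : ℕ) (t : K), r < D.nroots →
      ((g : GL D.Idx K) : Matrix D.Idx D.Idx K) = D.x K r t →
        ((α g : GL D.Idx K) : Matrix D.Idx D.Idx K) = D.x K (ρ r) (t ^ lam r) := by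
  have hF := chevFacts_of_mem (F := K) D hD
  haveI : PerfectRing K p := PerfectRing.ofSurjective K p (fun x => by
    obtain ⟨y, hy⟩ := hperf x
    exact ⟨y, by rw [frobenius_def, hy]⟩)
  set ψ : K →+* K := ((frobeniusEquiv K p).symm : K →+* K) with hψdef
  have hψ1 : ∀ x : K, ψ x ^ p = x := fun x => frobeniusEquiv_symm_pow_p K p x
  have hψ2 : ∀ x : K, ψ (x ^ p) = x := fun x => frobeniusEquiv_symm_pow K p x
  have hs1 : ∀ r < D.nroots, ∀ v : K, ∃ t : K, (RingHom.id K) t ^ lam r = v := by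
    intro r hr v
    rcases hG.lam_cases r hr with h | h
    · exact ⟨v, by rw [h, pow_one]; rfl⟩
    · obtain ⟨y, hy⟩ := hperf v
      exact ⟨y, by rw [h]; exact hy⟩
  have hs2 : ∀ r < D.nroots, ∀ v : K, ∃ t : K, ψ t ^ lam r = v := by
    intro r hr v
    rcases hG.lam_cases r hr with h | h
    · exact ⟨v ^ p, by rw [h, pow_one, hψ2]⟩
    · exact ⟨v, by rw [h, hψ1]⟩
  set α := graphHom hD p hG (RingHom.id K) hs1 with hα
  set β := graphHom hD p hG ψ hs2 with hβ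
  have hαx : ∀ (g : D.group K) (r : ℕ) (t : K), r < D.nroots →
      ((g : GL D.Idx K) : Matrix D.Idx D.Idx K) = D.x K r t →
        ((α g : GL D.Idx K) : Matrix D.Idx D.Idx K) = D.x K (ρ r) ((RingHom.id K) t ^ lam r) :=
    fun g r t hr hg => graphHom_apply hD p hG (RingHom.id K) hs1 g r hr t hg
  have hβx : ∀ (g : D.group K) (r : ℕ) (t : K), r < D.nroots →
      ((g : GL D.Idx K) : Matrix D.Idx D.Idx K) = D.x K r t →
        ((β g : GL D.Idx K) : Matrix D.Idx D.Idx K) = D.x K (ρ r) (ψ t ^ lam r) :=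
    fun g r t hr hg => graphHom_apply hD p hG ψ hs2 g r hr t hg
  set θ := thetaG hD (D.steinbergRels K) (hlift0 hD) with hθ
  have hθs : Function.Surjective θ := thetaG_surjective hD _ (hlift0 hD)
  have hθx : ∀ (r : Fin D.nroots) (t : K),
      (((θ (PresentedGroup.of (r, t)) : D.group K) : GL D.Idx K) : Matrix D.Idx D.Idx K) = D.x K r.val t := by
    intro r t
    have h1 := thetaGL_mk hD (D.steinbergRels K) (hlift0 hD) r.val t
    have e : PresentedGroup.mk (D.steinbergRels K) (D.stX r.val t) = PresentedGroup.of (r, t) := by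
      unfold ChevalleyDatum.stX
      rw [dif_pos r.2]
      rfl
    rw [e] at h1
    rw [hθ, thetaG_val, h1]
    rfl
  have key : ∀ (a b : D.group K →* D.group K) (φ₁ φ₂ : K → K),
      (∀ (g : D.group K) (r : ℕ) (t : K), r < D.nroots →
        ((g : GL D.Idx K) : Matrix D.Idx D.Idx K) = D.x K r t →
          ((a g : GL D.Idx K) : Matrix D.Idx D.Idx K) = D.x K (ρ r) (φ₁ t ^ lam r)) →
      (∀ (g : D.group K) (r : ℕ) (t : K), r < D.nroots →
        ((g : GL D.Idx K) : Matrix D.Idx D.Idx K) = D.x K r t →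
          ((b g : GL D.Idx K) : Matrix D.Idx D.Idx K) = D.x K (ρ r) (φ₂ t ^ lam r)) →
      (∀ r < D.nroots, ∀ t : K, φ₂ (φ₁ t ^ lam r) ^ lam (ρ r) = t) →
      b.comp a = MonoidHom.id _ := by
    intro a b φ₁ φ₂ ha hb hφ
    have h1 : (b.comp a).comp θ = (MonoidHom.id _).comp θ := by
      apply PresentedGroup.ext
      rintro ⟨r, t⟩
      apply Subtype.ext
      apply Units.ext
      have h2 := ha _ r.val t r.2 (hθx r t)
      have h3 := hb _ _ _ (hG.rho_lt r.val r.2) h2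
      rw [MonoidHom.comp_apply, MonoidHom.comp_apply, h3, hG.rho_rho r.val r.2, hφ r.val r.2 t]
      exact (hθx r t).symm
    exact (MonoidHom.cancel_right hθs).1 h1
  have hβα : β.comp α = MonoidHom.id _ := by
    apply key α β (RingHom.id K) ψ hαx hβx
    intro r hr t
    show ψ (t ^ lam r) ^ lam (ρ r) = t
    rw [map_pow, ← pow_mul, hG.lam_mul r hr, hψ1]
  have hαβ : α.comp β = MonoidHom.id _ := by
    apply key β α ψ (RingHom.id K) hβx hαx
    intro r hr t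
    show (ψ t ^ lam r) ^ lam (ρ r) = t
    rw [← pow_mul, hG.lam_mul r hr, hψ1]
  refine ⟨MonoidHom.toMulEquiv α β hβα hαβ, ?_⟩
  intro g r t hr hg
  exact hαx g r t hr hg

end Cfsg.Agent.Helper6.GA
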