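import Mathlib
import Cfsg.Agent.Lib.Helper4.PLenExpD
import Cfsg.Agent.Lib.Helper2.HHXL2

/-!
# S3786 piece EB (helper6 for helper3): `pow_mem_pCore_of_comm`
(copy of helper4's `PLenExpD.pow_mem_pCore` with the abelian hypothesis replaced)
-/

set_option autoImplicit false
set_option linter.unusedSectionVars false
set_option linter.unusedVariables false
set_option linter.style.haveILetI false

namespace Cfsg.Agent.Helper3.HHX

open Cfsg Subgroup Cfsg.Agent.Helper4.PLenExp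

universe u

variable {G : Type u} [Group G] [Finite G] {p : ℕ} [hp : Fact p.Prime]

/-- PIECE EB: the exponent drops modulo `O_p(G)` if `p^n`-th powers commute in `p`-subgroups. -/
theorem pow_mem_pCore_of_comm (hp2 : p ≠ 2) (hsol : IsPSolvable p G) (hO : pPrimeCore p G = ⊥)
    (n : ℕ) (hexp : ∀ z : G, (∃ k : ℕ, z ^ p ^ k = 1) → z ^ p ^ (n + 1) = 1)
    (hcomm : ∀ S : Subgroup G, IsPGroup p ↥S → ∀ s₁ ∈ S, ∀ s₂ ∈ S,
      s₁ ^ p ^ n * s₂ ^ p ^ n = s₂ ^ p ^ n * s₁ ^ p ^ n)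
    (x : G) (hx : ∃ k : ℕ, x ^ p ^ k = 1) : x ^ p ^ n ∈ pCore p G := by
  classical
  by_contra hx0
  haveI hUn : (pCore p G).Normal := Helper10.pCore_normal p
  have hHp : IsPGroup p ↥(pCore p G) := Helper10.pCore_isPGroup p
  set π := QuotientGroup.mk' (pCore p G) with hπ
  have hO' : pCore p (G ⧸ pCore p G) = ⊥ :=
    Cfsg.Agent.Helper18.PSolvLin.pCore_quotient_pCore_bot p
  have hsol' : IsPSolvable p (G ⧸ pCore p G) :=
    Cfsg.Agent.Helper23.PSolv.isPSolvable_quotient (pCore p G) hsol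
  have hHH := Cfsg.Agent.Helper4.HHD.centralizer_pPrimeCore_le hsol' hO'
  have hKbc : (Nat.card (pPrimeCore p (G ⧸ pCore p G))).Coprime p :=
    Helper22.card_pPrimeCore_coprime p
  obtain ⟨Q, hQcop, hQmap, hfrat⟩ := exists_complement_pCore (G := G) p
  obtain ⟨n₀, hn₀, hyN⟩ := hfrat x
  set y : G := n₀ * x with hy
  have hπy : π y = π x := by
    rw [hy, map_mul]
    have : π n₀ = 1 := (QuotientGroup.eq_one_iff n₀).mpr hn₀
    rw [this, one_mul]
  -- the `p`-group generated by `x` and `O_p(G)`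
  have hZp : IsPGroup p ↥(zpowers x) := isPGroup_zpowers_of_pow x hx
  have hBp : IsPGroup p ↥(zpowers x ⊔ pCore p G) := hZp.to_sup_of_normal_right hHp
  have hxB : x ∈ zpowers x ⊔ pCore p G := (le_sup_left : zpowers x ≤ _) (mem_zpowers x)
  have hHB : pCore p G ≤ zpowers x ⊔ pCore p G := le_sup_right
  have hyB : y ∈ zpowers x ⊔ pCore p G := mul_mem (hHB hn₀) hxB
  have hy1 : y ^ p ^ (n + 1) = 1 := hexp y (exists_pow_of_mem_isPGroup hBp hyB)
  set y₀ : G := y ^ p ^ n with hy₀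
  have hπy₀ : π y₀ ≠ 1 := by
    rw [hy₀, map_pow, hπy, ← map_pow]
    intro h1
    exact hx0 ((QuotientGroup.eq_one_iff _).mp h1)
  have hπy₀p : π y₀ ^ p = 1 := by
    rw [← map_pow, hy₀, ← pow_mul, ← pow_succ, hy1, map_one]
  -- `π y₀` does not centralise `O_{p'}(G / O_p(G))`
  have hnotK : π y₀ ∉ pPrimeCore p (G ⧸ pCore p G) := by
    intro hmem
    have h3 : orderOf (π y₀) ∣ Nat.card ↥(pPrimeCore p (G ⧸ pCore p G)) :=
      Subgroup.orderOf_dvd_natCard _ hmem
    have h4 : orderOf (π y₀) ∣ p := orderOf_dvd_of_pow_eq_one hπy₀p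
    have h7 : orderOf (π y₀) = 1 := Nat.eq_one_of_dvd_coprimes hKbc h3 h4
    rw [orderOf_eq_one_iff] at h7
    exact hπy₀ h7
  have hnotC : π y₀ ∉ centralizer (pPrimeCore p (G ⧸ pCore p G) : Set (G ⧸ pCore p G)) :=
    fun h => hnotK (hHH h)
  rw [mem_centralizer_iff] at hnotC
  push Not at hnotC
  obtain ⟨b', hb', hbne⟩ := hnotC
  rw [← hQmap] at hb'
  obtain ⟨a₀, ha₀, rfl⟩ := hb'
  have ha₀ne : a₀ * y₀ ≠ y₀ * a₀ := by
    intro h
    apply hbne
    rw [← map_mul, ← map_mul, h]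
  -- the centraliser of `y₀` in `Q` and a prime dividing its index
  set C : Subgroup G := Q ⊓ centralizer ({y₀} : Set G) with hC
  have hCQ : C ≤ Q := inf_le_left
  have hCne : C.relIndex Q ≠ 1 := by
    intro h1
    have h2 : Q ≤ C := relIndex_eq_one.mp h1
    have h3 : a₀ ∈ centralizer ({y₀} : Set G) := (h2 ha₀).2
    rw [mem_centralizer_iff] at h3
    exact ha₀ne (h3 y₀ (Set.mem_singleton _)).symm
  obtain ⟨q, hq, hqd⟩ := Nat.exists_prime_and_dvd hCne
  haveI : Fact q.Prime := ⟨hq⟩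
  have hcardQC : Nat.card ↥C * C.relIndex Q = Nat.card ↥Q := by
    have h1 := Subgroup.card_mul_index (C.subgroupOf Q)
    have h2 : Nat.card ↥(C.subgroupOf Q) = Nat.card ↥C :=
      Nat.card_congr (subgroupOfEquivOfLe hCQ).toEquiv
    rw [h2] at h1
    exact h1
  have hqQ : q ∣ Nat.card ↥Q := by
    rw [← hcardQC]
    exact dvd_mul_of_dvd_right hqd _
  have hqp : q ≠ p := by
    rintro rfl
    have := Nat.Coprime.eq_one_of_dvd hQcop.symm hqQ
    exact hq.one_lt.ne' this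
  -- a `y`-invariant Sylow `q`-subgroup of `Q`
  have hYp : IsPGroup p ↥(zpowers y) :=
    isPGroup_zpowers_of_pow y (exists_pow_of_mem_isPGroup hBp hyB)
  have hYQ : zpowers y ≤ normalizer (Q : Set G) := zpowers_le.mpr hyN
  obtain ⟨Q₁, hQ₁Q, hQ₁q, hQ₁card, hyQ₁⟩ :=
    Cfsg.Agent.Helper15.exists_invariant_sylow_of_coprime q hYp hQcop hYQ
  -- `y₀` does not centralise `Q₁`
  have hex : ∃ a ∈ Q₁, y₀ * a * y₀⁻¹ * a⁻¹ ≠ 1 := by
    by_contra hcon
    push Not at hcon
    have hQ₁C : Q₁ ≤ C := by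
      intro a ha
      refine ⟨hQ₁Q ha, ?_⟩
      show a ∈ centralizer ({y₀} : Set G)
      rw [mem_centralizer_iff]
      intro z hz
      rw [Set.mem_singleton_iff] at hz
      subst hz
      have h1 := hcon a ha
      have h2 : y₀ * a = (y₀ * a * y₀⁻¹ * a⁻¹) * (a * y₀) := by group
      rw [h2, h1, one_mul]
    have hd1 : q ^ (Nat.card ↥Q).factorization q ∣ Nat.card ↥C := by
      rw [← hQ₁card]
      exact Subgroup.card_dvd_of_le hQ₁C
    have hd2 : q ^ ((Nat.card ↥Q).factorization q + 1) ∣ Nat.card ↥Q := by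
      rw [pow_succ]
      conv_rhs => rw [← hcardQC]
      exact mul_dvd_mul hd1 hqd
    exact Nat.pow_succ_factorization_not_dvd Nat.card_pos.ne' hq hd2
  obtain ⟨a, ha, hne⟩ := hex
  have hQ₁cop : (Nat.card ↥Q₁).Coprime p := by
    rw [hQ₁card]
    exact Nat.Coprime.pow_left _ ((Nat.coprime_primes hq hp.out).mpr hqp)
  -- faithful action on `O_p(G)`
  have hc : centralizer (pCore p G : Set G) ≤ pCore p G :=
    Cfsg.Agent.Helper23.PSolv.centralizer_pCore_le hsol hO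
  have hfaith : ∀ a ∈ Q₁, (∀ v ∈ pCore p G, a * v * a⁻¹ = v) → a = 1 := by
    intro a ha hav
    have haH : a ∈ pCore p G := by
      apply hc
      rw [mem_centralizer_iff]
      intro v hv
      have h1 := hav v hv
      calc v * a = (a * v * a⁻¹) * a := by rw [h1]
        _ = a * v := by group
    have h3 : orderOf a ∣ Nat.card ↥Q₁ := Subgroup.orderOf_dvd_natCard _ ha
    have h4 : orderOf a ∣ Nat.card ↥(pCore p G) := Subgroup.orderOf_dvd_natCard _ haH
    obtain ⟨u, hu⟩ := IsPGroup.iff_card.mp hHp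
    rw [hu] at h4
    have h7 : orderOf a = 1 := Nat.eq_one_of_dvd_coprimes (Nat.Coprime.pow_right u hQ₁cop) h3 h4
    exact orderOf_eq_one_iff.mp h7
  obtain ⟨v, hv, hvne⟩ := exists_pow_not_comm hp2 (Ne.symm hqp) (pCore p G) hHp Q₁ hQ₁q hfaith y
    (hyQ₁ (mem_zpowers y)) n hy1 a ha hne
  apply hvne
  exact hcomm _ hBp y hyB (y * v) (mul_mem hyB (hHB hv))

end Cfsg.Agent.Helper3.HHX
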