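import Mathlib
import Cfsg.Agent.Lib.Helper8.HJDefs

/-!
# S3313, piece NV (helper6): `n_v`.
-/

set_option autoImplicit false

namespace Cfsg.Agent.Helper8.HJ

open Cfsg

/-- powers of an element with `x * x = 1` -/
theorem nv_mem_zpowers_two {G : Type*} [Group G] {x y : G} (hx : x * x = 1)
    (hy : y ∈ Subgroup.zpowers x) : y = 1 ∨ y = x := by
  obtain ⟨k, rfl⟩ := Subgroup.mem_zpowers_iff.1 hy
  have h2 : x ^ (2 : ℤ) = 1 := by
    have : x ^ 2 = 1 := by rw [pow_two]; exact hx
    exact_mod_cast this
  rcases Int.emod_two_eq_zero_or_one k with h | h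
  · left
    rw [← Int.emod_add_mul_ediv k 2, h, zero_add, zpow_mul, h2, one_zpow]
  · right
    rw [← Int.emod_add_mul_ediv k 2, h, zpow_add, zpow_mul, h2, one_zpow, mul_one, zpow_one]

theorem nv_sq_of_two {G : Type*} [Group G] {x : G} (hx : orderOf x = 2) : x * x = 1 := by
  have := pow_orderOf_eq_one x
  rw [hx, pow_two] at this
  exact this

theorem nv_two_of_sq {G : Type*} [Group G] {x : G} (hx : x * x = 1) (h1 : x ≠ 1) : orderOf x = 2 := by
  apply orderOf_eq_prime
  · rw [pow_two]; exact hx
  · exact h1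

/-- PIECE NV -/
theorem n_v {G : Type*} [Group G] [Finite G] {z : G} {Q K : Subgroup G} (c : ZCfg z Q K)
    (h11 : Nat.card {a : G // a ∈ Q ∧ orderOf a = 2} = 11)
    (hnoe8 : ∀ a a' : G, a ∈ Q → a' ∈ Q → orderOf a = 2 → orderOf a' = 2 → a ≠ z → a' ≠ z →
      a * a' = a' * a → a' = a ∨ a' = a * z)
    (v : G) (hvC : v ∈ Subgroup.centralizer ({z} : Set G)) (hvQ : v ∉ Q) (hv : orderOf v = 2)
    (hv4 : Nat.card ↥(Q ⊓ Subgroup.centralizer ({v} : Set G)) = 4)
    (hv2 : ∀ x ∈ Q ⊓ Subgroup.centralizer ({v} : Set G), x * x = 1) :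
    Nat.card {a : G // a ∈ Q ∧ orderOf a = 2 ∧ z ∈ Subgroup.zpowers (a * v)} = 8 := by
  classical
  have hzz : z * z = 1 := nv_sq_of_two c.hz
  have hz1 : z ≠ 1 := by
    intro h
    have := c.hz
    rw [h, orderOf_one] at this
    omega
  have hvv : v * v = 1 := nv_sq_of_two hv
  have hvinv : v⁻¹ = v := inv_eq_of_mul_eq_one_right hvv
  have hvz : z * v = v * z := Subgroup.mem_centralizer_iff.mp hvC z rfl
  -- the key equivalence
  have key : ∀ a, a ∈ Q → orderOf a = 2 →
      (z ∈ Subgroup.zpowers (a * v) ↔ ¬ (a * v = v * a)) := by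
    intro a haQ hoa
    have haa : a * a = 1 := nv_sq_of_two hoa
    have hainv : a⁻¹ = a := inv_eq_of_mul_eq_one_right haa
    constructor
    · intro hz hcomm
      have h2 : (a * v) * (a * v) = 1 := by
        calc (a * v) * (a * v) = a * (v * a) * v := by group
          _ = a * (a * v) * v := by rw [hcomm]
          _ = (a * a) * (v * v) := by group
          _ = 1 := by rw [haa, hvv, one_mul]
      rcases nv_mem_zpowers_two h2 hz with h | h
      · exact hz1 h
      · apply hvQ
        have : v = a⁻¹ * z := by rw [h]; group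
        rw [this]
        exact Q.mul_mem (Q.inv_mem haQ) c.hzQ
    · intro hcomm
      set a' := v * a * v⁻¹ with ha'
      have ha'Q : a' ∈ Q := c.hnorm v hvC a haQ
      have ha'a' : a' * a' = 1 := by
        rw [ha']
        calc v * a * v⁻¹ * (v * a * v⁻¹) = v * (a * a) * v⁻¹ := by group
          _ = 1 := by rw [haa]; group
      have ha'1 : a' ≠ 1 := by
        intro h
        rw [ha'] at h
        have : a = 1 := by
          calc a = v⁻¹ * (v * a * v⁻¹) * v := by group
            _ = 1 := by rw [h]; group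
        rw [this, orderOf_one] at hoa
        omega
      have hoa' : orderOf a' = 2 := nv_two_of_sq ha'a' ha'1
      have ha'inv : a'⁻¹ = a' := inv_eq_of_mul_eq_one_right ha'a'
      have haz : a ≠ z := by
        intro h
        apply hcomm
        rw [h, hvz]
      have ha'z : a' ≠ z := by
        intro h
        apply haz
        calc a = v⁻¹ * a' * v := by rw [ha']; group
          _ = v⁻¹ * z * v := by rw [h]
          _ = v⁻¹ * (z * v) := by group
          _ = v⁻¹ * (v * z) := by rw [hvz]
          _ = z := by group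
      have hsq : (a * v) * (a * v) = a * a' := by
        rw [ha', hvinv]; group
      have hsqmem : a * a' ∈ Subgroup.zpowers (a * v) := by
        rw [← hsq, ← pow_two]
        exact Subgroup.pow_mem _ (Subgroup.mem_zpowers _) 2
      by_cases hc : a * a' = a' * a
      · rcases hnoe8 a a' haQ ha'Q hoa hoa' haz ha'z hc with h | h
        · exfalso
          apply hcomm
          calc a * v = a' * v := by rw [h]
            _ = v * a := by rw [ha']; group
        · have : a * a' = z := by
            rw [h, ← mul_assoc, haa, one_mul]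
          rw [← this]
          exact hsqmem
      · have hcz : a * a' * a⁻¹ * a'⁻¹ = z := by
          rcases c.hcomm a haQ a' ha'Q with h | h
          · exfalso
            apply hc
            calc a * a' = (a * a' * a⁻¹ * a'⁻¹) * (a' * a) := by group
              _ = a' * a := by rw [h, one_mul]
          · exact h
        rw [hainv, ha'inv] at hcz
        have : (a * a') * (a * a') = z := by
          rw [← hcz]; group
        rw [← this, ← pow_two]
        exact Subgroup.pow_mem _ hsqmem 2
  -- the counting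
  have hS : ({a : G | a ∈ Q ∧ orderOf a = 2} : Set G).ncard = 11 := by
    rw [← Nat.card_coe_set_eq]; exact h11
  have hW : (((Q ⊓ Subgroup.centralizer ({v} : Set G) : Subgroup G)) : Set G).ncard = 4 := by
    rw [← Nat.card_coe_set_eq]; exact hv4
  have hU : ({a : G | a ∈ Q ∧ orderOf a = 2 ∧ a * v = v * a} : Set G)
      = ((Q ⊓ Subgroup.centralizer ({v} : Set G) : Subgroup G) : Set G) \ {1} := by
    ext a
    simp only [Set.mem_ofPred_eq, Set.mem_sdiff, SetLike.mem_coe, Subgroup.mem_inf,
      Set.mem_singleton_iff, Subgroup.mem_centralizer_iff]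
    constructor
    · rintro ⟨h1, h2, h3⟩
      refine ⟨⟨h1, ?_⟩, ?_⟩
      · intro h hh
        rw [Set.mem_singleton_iff.mp hh]
        exact h3.symm
      · intro h
        rw [h, orderOf_one] at h2
        omega
    · rintro ⟨⟨h1, h2⟩, h3⟩
      have hcv : a * v = v * a := (h2 v rfl).symm
      refine ⟨h1, nv_two_of_sq (hv2 a ?_) h3, hcv⟩
      rw [Subgroup.mem_inf, Subgroup.mem_centralizer_iff]
      exact ⟨h1, h2⟩
  have hU3 : ({a : G | a ∈ Q ∧ orderOf a = 2 ∧ a * v = v * a} : Set G).ncard = 3 := by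
    rw [hU, Set.ncard_sdiff_singleton_of_mem (Subgroup.one_mem _), hW]
  have hT : ({a : G | a ∈ Q ∧ orderOf a = 2} : Set G)
      = {a : G | a ∈ Q ∧ orderOf a = 2 ∧ z ∈ Subgroup.zpowers (a * v)}
        ∪ {a : G | a ∈ Q ∧ orderOf a = 2 ∧ a * v = v * a} := by
    ext a
    simp only [Set.mem_ofPred_eq, Set.mem_union]
    constructor
    · rintro ⟨h1, h2⟩
      by_cases h : a * v = v * a
      · exact Or.inr ⟨h1, h2, h⟩
      · exact Or.inl ⟨h1, h2, (key a h1 h2).mpr h⟩
    · rintro (h | h)
      · exact ⟨h.1, h.2.1⟩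
      · exact ⟨h.1, h.2.1⟩
  have hdisj : Disjoint {a : G | a ∈ Q ∧ orderOf a = 2 ∧ z ∈ Subgroup.zpowers (a * v)}
      {a : G | a ∈ Q ∧ orderOf a = 2 ∧ a * v = v * a} := by
    rw [Set.disjoint_left]
    intro a h h'
    simp only [Set.mem_ofPred_eq] at h h'
    exact (key a h.1 h.2.1).mp h.2.2 h'.2.2
  have hcount := Set.ncard_union_eq hdisj (Set.toFinite _) (Set.toFinite _)
  rw [← hT, hS, hU3] at hcount
  have hfin : Nat.card {a : G // a ∈ Q ∧ orderOf a = 2 ∧ z ∈ Subgroup.zpowers (a * v)}
      = ({a : G | a ∈ Q ∧ orderOf a = 2 ∧ z ∈ Subgroup.zpowers (a * v)} : Set G).ncard :=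
    Nat.card_coe_set_eq _
  rw [hfin]
  omega

end Cfsg.Agent.Helper8.HJ
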