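import Mathlib
import Cfsg.Agent.Lib.Helper8.HJDefs
import Cfsg.Agent.Lib.Helper1.HJCARDT

/-!
# S3313, piece V1 (helper6): `v_one`.
-/

set_option autoImplicit false

namespace Cfsg.Agent.Helper8.HJ

open Cfsg

theorem v1_sq_of_two {G : Type*} [Group G] {x : G} (hx : orderOf x = 2) : x * x = 1 := by
  have := pow_orderOf_eq_one x
  rw [hx, pow_two] at this
  exact this

theorem v1_two_of_sq {G : Type*} [Group G] {x : G} (hx : x * x = 1) (h1 : x ≠ 1) : orderOf x = 2 := by
  apply orderOf_eq_prime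
  · rw [pow_two]; exact hx
  · exact h1

theorem v1_orderOf_conj {G : Type*} [Group G] (g x : G) : orderOf (g * x * g⁻¹) = orderOf x := by
  rw [← MulAut.conj_apply, MulEquiv.orderOf_eq]

/-- conjugation and centralizers -/
theorem v1_conj_mem_cent {G : Type*} [Group G] (g x y : G) :
    g * x * g⁻¹ ∈ Subgroup.centralizer ({g * y * g⁻¹} : Set G) ↔
      x ∈ Subgroup.centralizer ({y} : Set G) := by
  rw [Subgroup.mem_centralizer_singleton_iff, Subgroup.mem_centralizer_singleton_iff]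
  constructor
  · intro h
    have : g * (x * y) * g⁻¹ = g * (y * x) * g⁻¹ := by
      calc g * (x * y) * g⁻¹ = g * x * g⁻¹ * (g * y * g⁻¹) := by group
        _ = g * y * g⁻¹ * (g * x * g⁻¹) := h
        _ = g * (y * x) * g⁻¹ := by group
    exact mul_left_cancel (mul_right_cancel this)
  · intro h
    calc g * x * g⁻¹ * (g * y * g⁻¹) = g * (x * y) * g⁻¹ := by group
      _ = g * (y * x) * g⁻¹ := by rw [h]
      _ = g * y * g⁻¹ * (g * x * g⁻¹) := by group

/-- elements of the join of two elementwise commuting subgroups -/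
theorem v1_mem_sup_comm {G : Type*} [Group G] {A B : Subgroup G}
    (hc : ∀ a ∈ A, ∀ b ∈ B, a * b = b * a) {x : G} (hx : x ∈ A ⊔ B) :
    ∃ a ∈ A, ∃ b ∈ B, x = a * b := by
  have comm : ∀ (m : A) (n : B), Commute (A.subtype m) (B.subtype n) :=
    fun m n => hc m.1 m.2 n.1 n.2
  have hr : (MonoidHom.noncommCoprod A.subtype B.subtype comm).range = A ⊔ B := by
    rw [MonoidHom.noncommCoprod_range, Subgroup.range_subtype, Subgroup.range_subtype]
  rw [← hr] at hx
  obtain ⟨⟨a, b⟩, rfl⟩ := hx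
  exact ⟨a.1, a.2, b.1, b.2, by rw [MonoidHom.noncommCoprod_apply]; rfl⟩

/-- PIECE V1 -/
theorem v_one {G : Type*} [Group G] [Finite G] {z t : G} {Q K V B : Subgroup G} (c : ZCfg z Q K)
    (d : TCfg z t Q V B)
    (hcentB : ∀ x : B, orderOf x = 2 →
      Nat.card {y : B // y * x = x * y} = 4 ∧ ∀ y : B, y * x = x * y → y * y = 1)
    (v : G) (hvC : v ∈ Subgroup.centralizer ({z} : Set G)) (hvQ : v ∉ Q) (hv : orderOf v = 2) :
    Nat.card ↥(Subgroup.centralizer ({v} : Set G) ⊓ Subgroup.centralizer ({z} : Set G)) = 16 ∧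
      Nat.card ↥(Q ⊓ Subgroup.centralizer ({v} : Set G)) = 4 ∧
      ∀ x ∈ Q ⊓ Subgroup.centralizer ({v} : Set G), x * x = 1 := by
  classical
  obtain ⟨hVD, hBD, hcommVB, hinfVB, hsupVB⟩ := d.hVB
  obtain ⟨g, hg⟩ := isConj_iff.mp (d.hCz v hvC hv hvQ)
  set z₀ := g * z * g⁻¹ with hz₀
  have hz₀2 : orderOf z₀ = 2 := by rw [hz₀, v1_orderOf_conj]; exact c.hz
  have hzv : z ∈ Subgroup.centralizer ({v} : Set G) := by
    rw [Subgroup.mem_centralizer_singleton_iff]
    exact (Subgroup.mem_centralizer_singleton_iff.mp hvC).symm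
  have hz₀D : z₀ ∈ Subgroup.centralizer ({t} : Set G) := by
    rw [← hg, hz₀]
    exact (v1_conj_mem_cent g z v).mpr hzv
  have hz₀conj : IsConj z z₀ := isConj_iff.mpr ⟨g, rfl⟩
  have hz₀B : z₀ ∈ B := by
    by_contra h
    exact d.hzt (hz₀conj.trans (d.hCt z₀ hz₀D hz₀2 h))
  -- the subgroup `W = C_B(z₀)`
  set W : Subgroup G := B ⊓ Subgroup.centralizer ({z₀} : Set G) with hW
  have hmemW : ∀ y, y ∈ W ↔ y ∈ B ∧ y * z₀ = z₀ * y := by
    intro y
    rw [hW, Subgroup.mem_inf, Subgroup.mem_centralizer_singleton_iff]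
  have hx0 : orderOf (⟨z₀, hz₀B⟩ : B) = 2 := by
    rw [← hz₀2]; exact Subgroup.orderOf_mk z₀ hz₀B
  obtain ⟨hW4', hW2'⟩ := hcentB ⟨z₀, hz₀B⟩ hx0
  have hW4 : Nat.card W = 4 := by
    rw [← hW4']
    apply Nat.card_congr
    refine
      { toFun := fun y => ⟨⟨y.1, ((hmemW y.1).mp y.2).1⟩, ?_⟩
        invFun := fun y => ⟨y.1.1, (hmemW y.1.1).mpr ⟨y.1.2, ?_⟩⟩
        left_inv := fun y => rfl
        right_inv := fun y => rfl }
    · apply Subtype.ext
      exact ((hmemW y.1).mp y.2).2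
    · have := congrArg Subtype.val y.2
      exact this
  have hW2 : ∀ y ∈ W, y * y = 1 := by
    intro y hy
    obtain ⟨hyB, hyz⟩ := (hmemW y).mp hy
    have := hW2' ⟨y, hyB⟩ (Subtype.ext hyz)
    exact congrArg Subtype.val this
  have hVz₀ : ∀ a ∈ V, a * z₀ = z₀ * a := fun a ha => hcommVB a ha z₀ hz₀B
  have hV2 : ∀ a ∈ V, a * a = 1 := by
    intro a ha
    have := d.hV2 a ha
    rwa [pow_two] at this
  -- the internal direct product `C_D(z₀) = V × W`
  have hcommVW : ∀ a ∈ V, ∀ b ∈ W, a * b = b * a :=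
    fun a ha b hb => hcommVB a ha b ((hmemW b).mp hb).1
  have hdecD : ∀ x ∈ Subgroup.centralizer ({t} : Set G) ⊓ Subgroup.centralizer ({z₀} : Set G),
      ∃ a ∈ V, ∃ b ∈ W, x = a * b := by
    intro x hx
    rw [Subgroup.mem_inf] at hx
    have hx1 : x ∈ V ⊔ B := by rw [hsupVB]; exact hx.1
    obtain ⟨a, ha, b, hb, rfl⟩ := v1_mem_sup_comm hcommVB hx1
    refine ⟨a, ha, b, (hmemW b).mpr ⟨hb, ?_⟩, rfl⟩
    have h1 := Subgroup.mem_centralizer_singleton_iff.mp hx.2
    have h2 := hVz₀ a ha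
    -- a * b * z₀ = z₀ * (a * b), a * z₀ = z₀ * a
    have : a * (b * z₀) = a * (z₀ * b) := by
      calc a * (b * z₀) = a * b * z₀ := by group
        _ = z₀ * (a * b) := h1
        _ = (z₀ * a) * b := by group
        _ = (a * z₀) * b := by rw [h2]
        _ = a * (z₀ * b) := by group
    exact mul_left_cancel this
  have hidp : Cfsg.IsInternalDirectProduct V W
      (Subgroup.centralizer ({t} : Set G) ⊓ Subgroup.centralizer ({z₀} : Set G)) := by
    refine ⟨?_, ?_, hcommVW, ?_, ?_⟩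
    · intro a ha
      rw [Subgroup.mem_inf, Subgroup.mem_centralizer_singleton_iff (g := z₀)]
      exact ⟨hVD ha, hVz₀ a ha⟩
    · intro b hb
      obtain ⟨hbB, hbz⟩ := (hmemW b).mp hb
      rw [Subgroup.mem_inf, Subgroup.mem_centralizer_singleton_iff (g := z₀)]
      exact ⟨hBD hbB, hbz⟩
    · rw [eq_bot_iff, ← hinfVB]
      intro x hx
      rw [Subgroup.mem_inf] at hx ⊢
      exact ⟨hx.1, ((hmemW x).mp hx.2).1⟩
    · apply le_antisymm
      · rw [sup_le_iff]
        constructor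
        · intro a ha
          rw [Subgroup.mem_inf, Subgroup.mem_centralizer_singleton_iff (g := z₀)]
          exact ⟨hVD ha, hVz₀ a ha⟩
        · intro b hb
          obtain ⟨hbB, hbz⟩ := (hmemW b).mp hb
          rw [Subgroup.mem_inf, Subgroup.mem_centralizer_singleton_iff (g := z₀)]
          exact ⟨hBD hbB, hbz⟩
      · intro x hx
        obtain ⟨a, ha, b, hb, rfl⟩ := hdecD x hx
        exact Subgroup.mul_mem _ (Subgroup.mem_sup_left ha) (Subgroup.mem_sup_right hb)
  have h16 : Nat.card ↥(Subgroup.centralizer ({t} : Set G) ⊓ Subgroup.centralizer ({z₀} : Set G))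
      = 16 := by
    rw [cardt_card_idp hidp, d.hV, hW4]
  have hexpD : ∀ x ∈ Subgroup.centralizer ({t} : Set G) ⊓ Subgroup.centralizer ({z₀} : Set G),
      x * x = 1 := by
    intro x hx
    obtain ⟨a, ha, b, hb, rfl⟩ := hdecD x hx
    calc a * b * (a * b) = a * (b * a) * b := by group
      _ = a * (a * b) * b := by rw [hcommVW a ha b hb]
      _ = (a * a) * (b * b) := by group
      _ = 1 := by rw [hV2 a ha, hW2 b hb, one_mul]
  -- conjugation by `g`
  have hiff : ∀ x, x ∈ Subgroup.centralizer ({v} : Set G) ⊓ Subgroup.centralizer ({z} : Set G) ↔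
      g * x * g⁻¹ ∈ Subgroup.centralizer ({t} : Set G) ⊓ Subgroup.centralizer ({z₀} : Set G) := by
    intro x
    rw [Subgroup.mem_inf, Subgroup.mem_inf, ← hg, hz₀, v1_conj_mem_cent, v1_conj_mem_cent]
  have hcard1 : Nat.card ↥(Subgroup.centralizer ({v} : Set G) ⊓ Subgroup.centralizer ({z} : Set G))
      = 16 := by
    rw [← h16]
    exact Nat.card_congr (Equiv.subtypeEquiv (MulAut.conj g).toEquiv (fun x => hiff x))
  have hexp : ∀ x ∈ Subgroup.centralizer ({v} : Set G) ⊓ Subgroup.centralizer ({z} : Set G),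
      x * x = 1 := by
    intro x hx
    have h1 := hexpD _ ((hiff x).mp hx)
    have : g * (x * x) * g⁻¹ = g * 1 * g⁻¹ := by
      calc g * (x * x) * g⁻¹ = g * x * g⁻¹ * (g * x * g⁻¹) := by group
        _ = 1 := h1
        _ = g * 1 * g⁻¹ := by group
    exact mul_left_cancel (mul_right_cancel this)
  have hiff2 : ∀ x, x ∈ Q ⊓ Subgroup.centralizer ({v} : Set G) ↔ g * x * g⁻¹ ∈ W := by
    intro x
    constructor
    · intro hx
      rw [Subgroup.mem_inf] at hx
      have hxCC : x ∈ Subgroup.centralizer ({v} : Set G) ⊓ Subgroup.centralizer ({z} : Set G) :=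
        Subgroup.mem_inf.mpr ⟨hx.2, c.hQC hx.1⟩
      have hy := (hiff x).mp hxCC
      rw [Subgroup.mem_inf] at hy
      rw [hW, Subgroup.mem_inf]
      refine ⟨?_, hy.2⟩
      by_cases hx1 : x = 1
      · rw [hx1]
        have : g * 1 * g⁻¹ = 1 := by group
        rw [this]
        exact B.one_mem
      · have hox : orderOf x = 2 := v1_two_of_sq (hexp x hxCC) hx1
        have hxz : IsConj x z := d.hQz x hx.1 hox
        by_contra hyB
        have hoy : orderOf (g * x * g⁻¹) = 2 := by rw [v1_orderOf_conj]; exact hox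
        have hyt : IsConj (g * x * g⁻¹) t := d.hCt _ hy.1 hoy hyB
        have hxy : IsConj x (g * x * g⁻¹) := isConj_iff.mpr ⟨g, rfl⟩
        exact d.hzt (hxz.symm.trans (hxy.trans hyt))
    · intro hy
      have hyW := hy
      rw [hW, Subgroup.mem_inf] at hy
      have hyD : g * x * g⁻¹ ∈ Subgroup.centralizer ({t} : Set G) ⊓
          Subgroup.centralizer ({z₀} : Set G) := Subgroup.mem_inf.mpr ⟨hBD hy.1, hy.2⟩
      have hxCC := (hiff x).mpr hyD
      rw [Subgroup.mem_inf]
      refine ⟨?_, (Subgroup.mem_inf.mp hxCC).1⟩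
      by_contra hxQ
      have hx1 : x ≠ 1 := by
        intro h
        apply hxQ
        rw [h]
        exact Q.one_mem
      have hox : orderOf x = 2 := v1_two_of_sq (hexp x hxCC) hx1
      have hxt : IsConj x t := d.hCz x (Subgroup.mem_inf.mp hxCC).2 hox hxQ
      have hoy : orderOf (g * x * g⁻¹) = 2 := by rw [v1_orderOf_conj]; exact hox
      have hyz : IsConj (g * x * g⁻¹) z := d.hBz _ hy.1 hoy
      have hxy : IsConj x (g * x * g⁻¹) := isConj_iff.mpr ⟨g, rfl⟩
      exact d.hzt (hyz.symm.trans (hxy.symm.trans hxt))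
  have hcard2 : Nat.card ↥(Q ⊓ Subgroup.centralizer ({v} : Set G)) = 4 := by
    rw [← hW4]
    exact Nat.card_congr (Equiv.subtypeEquiv (MulAut.conj g).toEquiv (fun x => hiff2 x))
  refine ⟨hcard1, hcard2, ?_⟩
  intro x hx
  rw [Subgroup.mem_inf] at hx
  exact hexp x (Subgroup.mem_inf.mpr ⟨hx.2, c.hQC hx.1⟩)

end Cfsg.Agent.Helper8.HJ
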