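import Mathlib
import Cfsg.Prelude.Def_JComponents
import Cfsg.Agent.Lib.Helper27.KVDefs
import Cfsg.Agent.Lib.Helper27.KVDefs2
import Cfsg.Agent.Lib.Helper27.KUASM
import Cfsg.Agent.Lib.Helper4.KSBootA
import Cfsg.Agent.Lib.Helper13.JCASM1
import Cfsg.Agent.Lib.Helper19.KVSYL

/-!
# KS12c / S2954' piece MAXEQA (helper6 for helper27): `pCoreOf_eq_of_pkg`, `le_normalizer_of_pkg`
-/

set_option autoImplicit false
set_option linter.unusedVariables false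
set_option linter.unusedSectionVars false
set_option linter.style.haveILetI false

namespace Cfsg.Agent.Helper27.KV

open scoped commutatorElement

open Cfsg Cfsg.Agent.Helper13.JCFF Cfsg.Agent.Helper27.KU Cfsg.Agent.Helper4.KSBoot

universe u

variable {G : Type u} [Group G] [Finite G]

/-- a group of exponent two is abelian -/
theorem maxeqa_comm {E : Subgroup G} (hexp : ∀ x ∈ E, x * x = 1) {x y : G} (hx : x ∈ E) (hy : y ∈ E) :
    x * y = y * x := by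
  have h1 := hexp x hx
  have h2 := hexp y hy
  have h3 := hexp (x * y) (E.mul_mem hx hy)
  have hx' : x⁻¹ = x := inv_eq_of_mul_eq_one_left h1
  have hy' : y⁻¹ = y := inv_eq_of_mul_eq_one_left h2
  have hxy' : (x * y)⁻¹ = x * y := inv_eq_of_mul_eq_one_left h3
  calc x * y = (x * y)⁻¹ := hxy'.symm
    _ = y⁻¹ * x⁻¹ := mul_inv_rev x y
    _ = y * x := by rw [hx', hy']

/-- `O₂(L) ≤ T` for a Sylow 2-subgroup `T` of `L` -/
theorem maxeqa_pCoreOf_le {T L : Subgroup G} (h : IsSylowTwoIn T L) : pCoreOf 2 L ≤ T :=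
  Cfsg.Agent.Helper7.Glaub.pCoreOf_le_of_isSylowIn (Cfsg.Agent.Helper7.JC48.isSylowIn_of_two h)

/-- MAXEQA (1).  `E` is a normal 2-subgroup of `P`, so `E ≤ Q := O₂(P) ≤ T`; `|T : E| = 2` and `Q ≠ T` (`h6` against `|P : T| = 3`), so
`Q = E`.  `F := O₂(L) ≤ T ≤ P` is normal in `P ≤ L`, so `F ≤ Q = E`; `E` is abelian, so `E ≤ C_G(F) ≤ F` (`hLT.2.2`). -/
theorem pCoreOf_eq_of_pkg {T K L E : Subgroup G} (h : CompData T K L) (hE : Pkg T (K ⊔ T) E) :
    pCoreOf 2 (K ⊔ T) = E ∧ pCoreOf 2 L = E := by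
  have hTP : T ≤ K ⊔ T := le_sup_right
  have hET : E ≤ T := hE.le
  have hT2 : IsPGroup 2 ↥T := h.hsyl.2.1
  have hE2 : IsPGroup 2 ↥E := hT2.to_le hET
  have hEQ : E ≤ pCoreOf 2 (K ⊔ T) := Cfsg.Agent.Helper14.le_pCoreOf (hET.trans hTP) hE.norm hE2
  have hQT : pCoreOf 2 (K ⊔ T) ≤ T := maxeqa_pCoreOf_le h.hsyl
  have h1 := Subgroup.relIndex_mul_relIndex E (pCoreOf 2 (K ⊔ T)) T hEQ hQT
  have h2 := Subgroup.relIndex_mul_relIndex (pCoreOf 2 (K ⊔ T)) T (K ⊔ T) hQT hTP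
  rw [hE.idx2] at h1
  rw [hE.idx3, h.h6] at h2
  have h3 : (pCoreOf 2 (K ⊔ T)).relIndex T = 2 := by omega
  have h4 : E.relIndex (pCoreOf 2 (K ⊔ T)) = 1 := by rw [h3] at h1; omega
  have hQE : pCoreOf 2 (K ⊔ T) = E := le_antisymm (Subgroup.relIndex_eq_one.mp h4) hEQ
  refine ⟨hQE, ?_⟩
  have hFT : pCoreOf 2 L ≤ T := maxeqa_pCoreOf_le h.hLT.1
  have hFE : pCoreOf 2 L ≤ E := by
    rw [← hQE]
    exact Cfsg.Agent.Helper14.le_pCoreOf (hFT.trans hTP)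
      (h.hPL.trans (Cfsg.Agent.Helper14.le_normalizer_pCoreOf 2 L))
      (Cfsg.Agent.Helper14.pCoreOf_isPGroup 2 L)
  refine le_antisymm hFE ?_
  intro e he
  apply h.hLT.2.2
  rw [Subgroup.mem_centralizer_iff]
  intro f hf
  exact maxeqa_comm hE.exp (hFE hf) he

/-- `W_K ≤ O₂(K)` -/
theorem maxeqa_wOf_le (K : Subgroup G) : wOf K ≤ pCoreOf 2 K := by
  unfold wOf
  rw [Subgroup.commutator_le]
  intro a ha k hk
  have haQ : a ∈ pCoreOf 2 K := Cfsg.Agent.Helper19.JC.omegaCenterOf_le _ ha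
  have hk' : k ∈ Subgroup.normalizer (pCoreOf 2 K : Set G) :=
    Cfsg.Agent.Helper14.le_normalizer_pCoreOf 2 K hk
  have h1 : k * a⁻¹ * k⁻¹ ∈ pCoreOf 2 K :=
    (Subgroup.mem_normalizer_iff.mp hk' _).mp ((pCoreOf 2 K).inv_mem haQ)
  have h2 : ⁅a, k⁆ = a * (k * a⁻¹ * k⁻¹) := by
    rw [commutatorElement_def]; group
  rw [h2]
  exact (pCoreOf 2 K).mul_mem haQ h1

/-- two subgroups of order 4 in a group of order at most 8 meet nontrivially -/
theorem maxeqa_inf_ne_bot {E A B : Subgroup G} (hA : A ≤ E) (hB : B ≤ E) (hA4 : Nat.card ↥A = 4)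
    (hB4 : Nat.card ↥B = 4) (hE8 : Nat.card ↥E ≤ 8) : A ⊓ B ≠ ⊥ := by
  intro h0
  have hdis : Disjoint A B := disjoint_iff.mpr h0
  have hinj := Subgroup.mul_injective_of_disjoint hdis
  let f : ↥A × ↥B → ↥E := fun g => ⟨(g.1 : G) * (g.2 : G), E.mul_mem (hA g.1.2) (hB g.2.2)⟩
  have hf : Function.Injective f := by
    intro x y hxy
    apply hinj
    exact congrArg Subtype.val hxy
  have hle := Nat.card_le_card_of_injective f hf
  rw [Nat.card_prod, hA4, hB4] at hle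
  omega

/-- MAXEQA (2).  `W_K ≤ O₂(K) ≤ O₂(K ⊔ T) = E` (as `T ≤ N_G(K)`).  For `g ∈ L`: `K^g ≤ L` is a `J(T^g)`-component,
`W_{K^g} = (W_K)^g ≤ E^g = E`, two subgroups of order 4 in `E` of order `≤ 8` meet
nontrivially, so `K^g = K` by `comp_eq_of_wOf_meet`. -/
theorem le_normalizer_of_pkg
    (hN : ∀ N : Subgroup G, IsTwoLocal N → Group.IsSolvable ↥N)
    (hZ : ∀ S : Sylow 2 G, Subgroup.centralizer (omegaCenterOf (S : Subgroup G) : Set G) ≤
      Subgroup.normalizer ((S : Subgroup G) : Set G))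
    {T K L E : Subgroup G} (hT1 : T ≠ ⊥) (h : CompData T K L) (hE : Pkg T (K ⊔ T) E)
    (hE8 : Nat.card ↥E ≤ 8) : wOf K ≤ E ∧ L ≤ Subgroup.normalizer (K : Set G) := by
  obtain ⟨hQE, hFE⟩ := pCoreOf_eq_of_pkg h hE
  have hKP : K ≤ K ⊔ T := le_sup_left
  have hPK : K ⊔ T ≤ Subgroup.normalizer (K : Set G) := sup_le Subgroup.le_normalizer h.hTN
  have hWE : wOf K ≤ E := by
    rw [← hQE]
    refine (maxeqa_wOf_le K).trans ?_
    exact Cfsg.Agent.Helper14.le_pCoreOf ((Cfsg.Agent.Helper14.pCoreOf_le 2 K).trans hKP)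
      (hPK.trans (Cfsg.Agent.Helper14.normalizer_le_normalizer_pCoreOf 2 K))
      (Cfsg.Agent.Helper14.pCoreOf_isPGroup 2 K)
  refine ⟨hWE, ?_⟩
  have hKL : K ≤ L := hKP.trans h.hPL
  have hLE : L ≤ Subgroup.normalizer (E : Set G) := by
    have := Cfsg.Agent.Helper14.le_normalizer_pCoreOf 2 L
    rwa [hFE] at this
  have key : ∀ g ∈ L, K.map (MulAut.conj g).toMonoidHom = K := by
    intro g hg
    have h₂ : IsJComponent (T.map (MulAut.conj g).toMonoidHom) (K.map (MulAut.conj g).toMonoidHom) :=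
      (isJComponent_map_conj g).mpr h.comp
    have hK₂L : K.map (MulAut.conj g).toMonoidHom ≤ L := by
      rintro _ ⟨k, hk, rfl⟩
      show g * k * g⁻¹ ∈ L
      exact L.mul_mem (L.mul_mem hg (hKL hk)) (L.inv_mem hg)
    have hW₂ : wOf (K.map (MulAut.conj g).toMonoidHom) = (wOf K).map (MulAut.conj g).toMonoidHom :=
      wOf_map_inj _ (MulAut.conj g).injective K
    have hW₂E : wOf (K.map (MulAut.conj g).toMonoidHom) ≤ E := by
      rw [hW₂]
      rintro _ ⟨w, hw, rfl⟩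
      show g * w * g⁻¹ ∈ E
      exact (Subgroup.mem_normalizer_iff.mp (hLE hg) w).mp (hWE hw)
    have hcard₂ : Nat.card ↥(wOf (K.map (MulAut.conj g).toMonoidHom)) = 4 := h₂.2.2.2.2.1
    have hmeet := maxeqa_inf_ne_bot hWE hW₂E h.comp.2.2.2.2.1 hcard₂ hE8
    exact (comp_eq_of_wOf_meet hN hZ T hT1 L h.hLT g hg K _ h.comp h₂ hKL hK₂L hmeet).symm
  intro g hg
  rw [Subgroup.mem_normalizer_iff]
  intro x
  constructor
  · intro hx
    rw [← key g hg]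
    exact ⟨x, hx, rfl⟩
  · intro hx
    have := key g⁻¹ (L.inv_mem hg)
    have hx' : g⁻¹ * (g * x * g⁻¹) * g⁻¹⁻¹ ∈ K.map (MulAut.conj g⁻¹).toMonoidHom :=
      ⟨g * x * g⁻¹, hx, rfl⟩
    rw [this] at hx'
    have e : g⁻¹ * (g * x * g⁻¹) * g⁻¹⁻¹ = x := by group
    rwa [e] at hx'

end Cfsg.Agent.Helper27.KV
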