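import Mathlib
import Cfsg.Agent.S0420
import Cfsg.Agent.Lib.Helper29.SchurM11
import Cfsg.Agent.Lib.Helper19.M11RecMSIMPLE

/-!
# M11Rec (S3413 + S3592): every simple group of order 7920 is isomorphic to `Cfsg.Spor.M11`
-/

set_option autoImplicit false

namespace Cfsg.Agent.Helper6.M11Rec

/-- A simple group of order `7920` is isomorphic to the concrete `M₁₁` (S0420 used twice). -/
theorem iso_M11 {G : Type*} [Group G] [Finite G] (hs : IsSimpleGroup G)
    (hG : Nat.card G = 7920) : Nonempty (G ≃* ↥Cfsg.Spor.M11) := by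
  obtain ⟨e1⟩ := Cfsg.Agent.S0420.result (G := G) ⟨hs, hG⟩ Cfsg.Spor.squareDodecad
    Cfsg.Agent.Helper29.SchurM11.squareDodecad_mem (some 0)
    Cfsg.Agent.Helper29.SchurM11.zero_mem_sq
  obtain ⟨e2⟩ := Cfsg.Agent.S0420.result (G := ↥Cfsg.Spor.M11) isM11_M11 Cfsg.Spor.squareDodecad
    Cfsg.Agent.Helper29.SchurM11.squareDodecad_mem (some 0)
    Cfsg.Agent.Helper29.SchurM11.zero_mem_sq
  exact ⟨e1.trans e2.symm⟩

end Cfsg.Agent.Helper6.M11Rec
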