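import Mathlib
import Cfsg.Agent.Lib.Helper19.M11RecORB
import Cfsg.Agent.Lib.Helper24.M11RecCNT11

set_option autoImplicit false

namespace Cfsg.Agent.Helper6.M11Rec

namespace NSE

theorem divisors_720 : ∀ d ∈ Nat.divisors 720, d % 11 = 1 → d = 1 ∨ d = 12 ∨ d = 45 ∨ d = 144 := by
  decide +kernel

theorem prime_dvd_7920 (p : ℕ) (hp : p.Prime) (h : p ∣ 7920) : p = 2 ∨ p = 3 ∨ p = 5 ∨ p = 11 := by
  rw [show (7920 : ℕ) = 2 ^ 4 * 3 ^ 2 * 5 * 11 by norm_num] at h
  rcases (Nat.Prime.dvd_mul hp).1 h with h | h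
  · rcases (Nat.Prime.dvd_mul hp).1 h with h | h
    · rcases (Nat.Prime.dvd_mul hp).1 h with h | h
      · left
        exact (Nat.prime_dvd_prime_iff_eq hp Nat.prime_two).1 (hp.dvd_of_dvd_pow h)
      · right; left
        exact (Nat.prime_dvd_prime_iff_eq hp Nat.prime_three).1 (hp.dvd_of_dvd_pow h)
    · right; right; left
      exact (Nat.prime_dvd_prime_iff_eq hp Nat.prime_five).1 h
  · right; right; right
    exact (Nat.prime_dvd_prime_iff_eq hp (by norm_num)).1 h

theorem card_orderOf_one {M : Type*} [Group M] : Nat.card {g : M // orderOf g = 1} = 1 := by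
  haveI : Unique {g : M // orderOf g = 1} :=
    { default := ⟨1, orderOf_one⟩
      uniq := fun x => Subtype.ext (orderOf_eq_one_iff.1 x.2) }
  exact Nat.card_unique

end NSE

/-- the number of Sylow 11-subgroups from the order counts -/
theorem card_sylow_of_nse {G M : Type*} [Group G] [Finite G] [Group M] [Finite M]
    (hG : Nat.card G = 7920) (hM : Nat.card M = 7920)
    (hidx : (∀ w : M, orderOf w = 2 → (Subgroup.centralizer ({w} : Set M)).index = 165) ∧
      (∀ w : M, orderOf w = 3 → (Subgroup.centralizer ({w} : Set M)).index = 440) ∧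
      (∀ w : M, orderOf w = 5 → (Subgroup.centralizer ({w} : Set M)).index = 1584) ∧
      (∀ w : M, orderOf w = 11 → (Subgroup.centralizer ({w} : Set M)).index = 720))
    (hnse : {c : ℕ | 0 < c ∧ ∃ n : ℕ, c = Nat.card {g : G // orderOf g = n}} ⊆
      {c : ℕ | 0 < c ∧ ∃ n : ℕ, c = Nat.card {g : M // orderOf g = n}}) :
    Nat.card (Sylow 11 G) = 144 := by
  haveI : Fact (Nat.Prime 11) := ⟨by norm_num⟩
  have hcnt := card_orderOf_eleven hG
  have hmod : Nat.card (Sylow 11 G) % 11 = 1 := card_sylow_modEq_one 11 G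
  obtain ⟨P⟩ : Nonempty (Sylow 11 G) := inferInstance
  have hdvd : Nat.card (Sylow 11 G) ∣ 720 := by
    have h1 := Sylow.card_dvd_index P
    have h2 := Subgroup.card_mul_index (P : Subgroup G)
    have h3 : Nat.card (P : Subgroup G) = 11 := by
      rw [Sylow.card_eq_multiplicity, hG]
      have : (7920 : ℕ).factorization 11 = 1 := by
        have h : (7920 : ℕ) = 11 ^ 1 * 720 := by norm_num
        rw [h, Nat.factorization_mul (by norm_num) (by norm_num),
          Nat.Prime.factorization_pow (by norm_num)]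
        simp
        exact Nat.factorization_eq_zero_of_not_dvd (by norm_num)
      rw [this, pow_one]
    rw [h3, hG] at h2
    have : (P : Subgroup G).index = 720 := by omega
    rwa [this] at h1
  have hcases := NSE.divisors_720 _ (Nat.mem_divisors.2 ⟨hdvd, by norm_num⟩) hmod
  have hmem : 10 * Nat.card (Sylow 11 G) ∈
      {c : ℕ | 0 < c ∧ ∃ n : ℕ, c = Nat.card {g : G // orderOf g = n}} := by
    refine ⟨?_, 11, hcnt.symm⟩
    rcases hcases with h | h | h | h <;> omega
  obtain ⟨hpos, n, hn⟩ := hnse hmem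
  -- an element of order n
  have hne : Nonempty {g : M // orderOf g = n} := by
    by_contra hempty
    rw [not_nonempty_iff] at hempty
    have h0 := Nat.card_of_isEmpty (α := {g : M // orderOf g = n})
    rw [h0] at hn
    omega
  obtain ⟨⟨w, hw⟩⟩ := hne
  have hn7920 : n ∣ 7920 := by
    rw [← hM, ← hw]; exact orderOf_dvd_natCard w
  by_cases hn1 : n = 1
  · rw [hn1, NSE.card_orderOf_one] at hn
    omega
  · obtain ⟨p, hp, hpn⟩ := Nat.exists_prime_and_dvd hn1
    obtain ⟨h2, h3, h5, h11⟩ := hidx
    rcases NSE.prime_dvd_7920 p hp (hpn.trans hn7920) with rfl | rfl | rfl | rfl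
    · have := dvd_card_orderOf_eq 2 165 n hp hpn h2
      rw [← hn] at this
      rcases hcases with h | h | h | h <;> rw [h] at this <;> omega
    · have := dvd_card_orderOf_eq 3 440 n hp hpn h3
      rw [← hn] at this
      rcases hcases with h | h | h | h <;> rw [h] at this <;> omega
    · have := dvd_card_orderOf_eq 5 1584 n hp hpn h5
      rw [← hn] at this
      rcases hcases with h | h | h | h <;> rw [h] at this <;> omega
    · have := dvd_card_orderOf_eq 11 720 n hp hpn h11
      rw [← hn] at this
      rcases hcases with h | h | h | h <;> rw [h] at this <;> omega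

end Cfsg.Agent.Helper6.M11Rec
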