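import Mathlib
import Cfsg.Agent.Lib.Helper24.M11RecFP

set_option autoImplicit false

namespace Cfsg.Agent.Helper6.M11Rec

namespace NC

theorem fact11 : Fact (Nat.Prime 11) := ⟨by norm_num⟩

theorem factorization_11 : (7920 : ℕ).factorization 11 = 1 := by
  have h : (7920 : ℕ) = 11 ^ 1 * 720 := by norm_num
  rw [h, Nat.factorization_mul (by norm_num) (by norm_num),
    Nat.Prime.factorization_pow (by norm_num)]
  simp
  exact Nat.factorization_eq_zero_of_not_dvd (by norm_num)

theorem card_sylow11 {G : Type*} [Group G] [Finite G] (hG : Nat.card G = 7920) (P : Sylow 11 G) :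
    Nat.card (P : Subgroup G) = 11 := by
  haveI := fact11
  rw [Sylow.card_eq_multiplicity, hG, factorization_11, pow_one]

/-- the Sylow 11-subgroup generated by an element of order 11 -/
theorem exists_sylow_eq_zpowers {G : Type*} [Group G] [Finite G] (hG : Nat.card G = 7920)
    (g : G) (hg : orderOf g = 11) : ∃ P : Sylow 11 G, (P : Subgroup G) = Subgroup.zpowers g := by
  haveI := fact11
  have hpg : IsPGroup 11 (Subgroup.zpowers g) := by
    apply IsPGroup.of_card (n := 1)
    rw [Nat.card_zpowers, hg]; norm_num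
  obtain ⟨P, hP⟩ := hpg.exists_le_sylow
  refine ⟨P, ?_⟩
  symm
  apply Subgroup.eq_of_le_of_card_ge hP
  rw [card_sylow11 hG P, Nat.card_zpowers, hg]

theorem centralizer_zpowers_eq {G : Type*} [Group G] (g : G) :
    Subgroup.centralizer ((Subgroup.zpowers g : Subgroup G) : Set G) =
      Subgroup.centralizer ({g} : Set G) := by
  rw [Subgroup.zpowers_eq_closure, Subgroup.centralizer_closure]

/-- N/C: the order of the normalizer divides `|C(g)| * 10`. -/
theorem card_normalizer_dvd {G : Type*} [Group G] [Finite G] (g : G) (hg : orderOf g = 11) :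
    Nat.card (Subgroup.normalizer ((Subgroup.zpowers g : Subgroup G) : Set G)) ∣
      Nat.card (Subgroup.centralizer ({g} : Set G)) * 10 := by
  set P : Subgroup G := Subgroup.zpowers g with hP
  have key := Subgroup.card_dvd_of_injective _
    (QuotientGroup.kerLift_injective P.normalizerMonoidHom)
  have hcyc : IsCyclic P := by rw [hP]; infer_instance
  have hcardP : Nat.card P = 11 := by rw [hP, Nat.card_zpowers, hg]
  rw [hcyc.card_mulAut, hcardP] at key
  have h10 : Nat.totient 11 = 10 := by
    rw [Nat.totient_prime (by norm_num)]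
  rw [h10, Subgroup.normalizerMonoidHom_ker] at key
  -- card N = card ker * card quotient
  have h1 := Subgroup.card_eq_card_quotient_mul_card_subgroup
    ((Subgroup.centralizer (P : Set G)).subgroupOf (Subgroup.normalizer (P : Set G)))
  rw [h1]
  have h2 : Nat.card ((Subgroup.centralizer (P : Set G)).subgroupOf
      (Subgroup.normalizer (P : Set G))) ∣ Nat.card (Subgroup.centralizer ({g} : Set G)) := by
    rw [← centralizer_zpowers_eq g,
      Nat.card_congr (Subgroup.subgroupOfEquivOfLe (Subgroup.centralizer_le_normalizer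
        (s := (P : Set G)))).toEquiv]
  rw [mul_comm]
  exact Nat.mul_dvd_mul h2 key

theorem card_normalizer_of_card_sylow {G : Type*} [Group G] [Finite G] (hG : Nat.card G = 7920)
    (P : Sylow 11 G) (h144 : Nat.card (Sylow 11 G) = 144) :
    Nat.card (Subgroup.normalizer ((P : Subgroup G) : Set G)) = 55 := by
  haveI := fact11
  have h1 : Nat.card (Sylow 11 G) = (Subgroup.normalizer ((P : Subgroup G) : Set G)).index :=
    Sylow.card_eq_index_normalizer P
  have h2 := Subgroup.card_mul_index (Subgroup.normalizer ((P : Subgroup G) : Set G))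
  rw [← h1, h144, hG] at h2
  omega

end NC

/-- PIECE NC. -/
theorem card_normalizer_zpowers {G : Type*} [Group G] [Finite G] (hG : Nat.card G = 7920)
    (g : G) (hg : orderOf g = 11)
    (hC : Nat.card (Subgroup.centralizer ({g} : Set G)) = 11) :
    Nat.card (Subgroup.normalizer ((Subgroup.zpowers g : Subgroup G) : Set G)) = 55 := by
  haveI := NC.fact11
  obtain ⟨P, hP⟩ := NC.exists_sylow_eq_zpowers hG g hg
  have h1 : Nat.card (Sylow 11 G) = (Subgroup.normalizer ((P : Subgroup G) : Set G)).index :=
    Sylow.card_eq_index_normalizer P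
  have h2 := Subgroup.card_mul_index (Subgroup.normalizer ((P : Subgroup G) : Set G))
  have h3 : Nat.card (Sylow 11 G) ≡ 1 [MOD 11] := card_sylow_modEq_one 11 G
  have h4 := NC.card_normalizer_dvd g hg
  rw [hC] at h4
  rw [← hP]
  have h5 : 11 ∣ Nat.card (Subgroup.normalizer ((P : Subgroup G) : Set G)) := by
    have := Subgroup.card_dvd_of_le (Subgroup.le_normalizer (H := (P : Subgroup G)))
    rwa [NC.card_sylow11 hG P] at this
  rw [hP] at h1 h2 h5
  rw [hP]
  rw [← h1] at h2
  rw [hG] at h2
  obtain ⟨k, hk⟩ := h5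
  rw [hk] at h4 h2 ⊢
  have hk10 : k ∣ 10 := by
    have : 11 * k ∣ 11 * 10 := h4
    exact Nat.dvd_of_mul_dvd_mul_left (by norm_num) this
  have hkle : k ≤ 10 := Nat.le_of_dvd (by norm_num) hk10
  have h3' : Nat.card (Sylow 11 G) % 11 = 1 := h3
  interval_cases k <;> omega

end Cfsg.Agent.Helper6.M11Rec

namespace Cfsg.Agent.Helper6.M11Rec

namespace LS

theorem nontrivial_of_card {G : Type*} (hG : Nat.card G = 7920) : Nontrivial G := by
  by_contra h
  rw [not_nontrivial_iff_subsingleton] at h
  by_cases hne : Nonempty G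
  · obtain ⟨a⟩ := hne
    have := Nat.card_of_subsingleton a
    omega
  · rw [not_nonempty_iff] at hne
    have := Nat.card_of_isEmpty (α := G)
    omega

/-- an element of order 11 lies in every normal subgroup of order divisible by 11 -/
theorem mem_of_dvd {G : Type*} [Group G] [Finite G] (hG : Nat.card G = 7920) (g : G)
    (hg : orderOf g = 11) (N : Subgroup G) [hN : N.Normal] (h11 : 11 ∣ Nat.card N) : g ∈ N := by
  rw [← QuotientGroup.eq_one_iff (N := N)]
  rw [← orderOf_eq_one_iff]
  have h1 : orderOf ((g : G) : G ⧸ N) ∣ 11 := by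
    rw [← hg]
    exact orderOf_map_dvd (QuotientGroup.mk' N) g
  have h2 : orderOf ((g : G) : G ⧸ N) ∣ N.index := by
    rw [Subgroup.index_eq_card]
    exact orderOf_dvd_natCard _
  have h3 := Subgroup.card_mul_index N
  rw [hG] at h3
  rcases (Nat.dvd_prime (by norm_num : Nat.Prime 11)).1 h1 with h | h
  · exact h
  · exfalso
    rw [h] at h2
    obtain ⟨a, ha⟩ := h11
    obtain ⟨b, hb⟩ := h2
    rw [ha, hb] at h3
    have : (11 * 11) ∣ 7920 := ⟨a * b, by rw [← h3]; ring⟩
    omega

theorem commute_of_mem_zpowers {G : Type*} [Group G] (g x y : G) (hx : x ∈ Subgroup.zpowers g)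
    (hy : y ∈ Subgroup.zpowers g) : x * y = y * x := by
  obtain ⟨i, rfl⟩ := Subgroup.mem_zpowers_iff.1 hx
  obtain ⟨j, rfl⟩ := Subgroup.mem_zpowers_iff.1 hy
  rw [← zpow_add, ← zpow_add, add_comm]

/-- the centralizer of `g` inside a subgroup -/
theorem card_centralizer_sub_dvd {G : Type*} [Group G] [Finite G] (N : Subgroup G) (g : G)
    (hgN : g ∈ N) :
    Nat.card (Subgroup.centralizer ({(⟨g, hgN⟩ : N)} : Set N)) ∣
      Nat.card (Subgroup.centralizer ({g} : Set G)) := by
  let φ : ↥(Subgroup.centralizer ({(⟨g, hgN⟩ : N)} : Set N)) →* ↥(Subgroup.centralizer ({g} : Set G)) :=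
    (N.subtype.comp (Subgroup.centralizer ({(⟨g, hgN⟩ : N)} : Set N)).subtype).codRestrict
      (Subgroup.centralizer ({g} : Set G)) (by
        intro x
        have hx := x.2
        rw [Subgroup.mem_centralizer_singleton_iff] at hx ⊢
        have := congrArg (Subtype.val) hx
        simpa using this)
  apply Subgroup.card_dvd_of_injective φ
  intro x y hxy
  have := congrArg Subtype.val hxy
  simp only [φ, MonoidHom.codRestrict_apply, MonoidHom.coe_comp, Subgroup.coe_subtype,
    Function.comp_apply] at this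
  exact Subtype.ext (Subtype.ext this)

end LS

end Cfsg.Agent.Helper6.M11Rec

namespace Cfsg.Agent.Helper6.M11Rec

namespace LS

/-- case A of Lemma S: a proper normal subgroup of order divisible by 11 -/
theorem caseA {G : Type*} [Group G] [Finite G] (hG : Nat.card G = 7920)
    (g : G) (hg : orderOf g = 11)
    (hC : Nat.card (Subgroup.centralizer ({g} : Set G)) = 11)
    (N : Subgroup G) [hN : N.Normal] (htop : N ≠ ⊤) (h11 : 11 ∣ Nat.card N) : False := by
  haveI := NC.fact11
  have hgN : g ∈ N := mem_of_dvd hG g hg N h11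
  obtain ⟨P, hP⟩ := NC.exists_sylow_eq_zpowers hG g hg
  have hPN : (P : Subgroup G) ≤ N := by
    rw [hP]; exact (Subgroup.zpowers_le).2 hgN
  have hfr : Subgroup.normalizer ((P : Subgroup G) : Set G) ⊔ N = ⊤ :=
    Sylow.normalizer_sup_eq_top' P hPN
  have h55 := card_normalizer_zpowers hG g hg hC
  rw [← hP] at h55
  set H : Subgroup G := Subgroup.normalizer ((P : Subgroup G) : Set G) with hH
  have hPH : (P : Subgroup G) ≤ H := Subgroup.le_normalizer
  have hcardP : Nat.card (P : Subgroup G) = 11 := NC.card_sylow11 hG P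
  -- the intersection
  have hHN : Nat.card (H ⊓ N : Subgroup G) = 11 := by
    have h1 : 11 ∣ Nat.card (H ⊓ N : Subgroup G) := by
      have := Subgroup.card_dvd_of_le (le_inf hPH hPN)
      rwa [hcardP] at this
    have h2 : Nat.card (H ⊓ N : Subgroup G) ∣ 55 := by
      have := Subgroup.card_dvd_of_le (inf_le_left : H ⊓ N ≤ H)
      rwa [h55] at this
    have h3 : Nat.card (H ⊓ N : Subgroup G) ≠ 55 := by
      intro h
      have heq : H ⊓ N = H := Subgroup.eq_of_le_of_card_ge inf_le_left (by rw [h, h55])
      have hle : H ≤ N := by rw [← heq]; exact inf_le_right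
      apply htop
      rw [← hfr]
      exact (sup_eq_right.2 hle).symm
    obtain ⟨k, hk⟩ := h1
    rw [hk] at h2 h3 ⊢
    have hk5 : k ∣ 5 := Nat.dvd_of_mul_dvd_mul_left (by norm_num : 0 < 11) h2
    have hkle : k ≤ 5 := Nat.le_of_dvd (by norm_num) hk5
    interval_cases k <;> omega
  have hHNeq : H ⊓ N = (P : Subgroup G) :=
    (Subgroup.eq_of_le_of_card_ge (le_inf hPH hPN) (by rw [hHN, hcardP])).symm
  -- inside N
  let P' : Sylow 11 N := P.subtype hPN
  have hP' : (P' : Subgroup N) = (P : Subgroup G).subgroupOf N := Sylow.coe_subtype P hPN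
  have hNC : Subgroup.normalizer ((P' : Subgroup N) : Set N) ≤
      Subgroup.centralizer ((P' : Subgroup N) : Set N) := by
    intro n hn
    rw [hP', ← Subgroup.subgroupOf_normalizer_eq hPN] at hn
    have hn1 : (n : G) ∈ H := Subgroup.mem_subgroupOf.1 hn
    have hn2 : (n : G) ∈ (P : Subgroup G) := by
      rw [← hHNeq]; exact ⟨hn1, n.2⟩
    rw [Subgroup.mem_centralizer_iff]
    intro y hy
    rw [SetLike.mem_coe, hP', Subgroup.mem_subgroupOf] at hy
    apply Subtype.ext
    rw [Subgroup.coe_mul, Subgroup.coe_mul]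
    rw [hP] at hy hn2
    exact commute_of_mem_zpowers g _ _ hy hn2
  have hcompl := MonoidHom.ker_transferSylow_isComplement' P' hNC
  have hcard := hcompl.card_mul_card
  have hcardP' : Nat.card (P' : Subgroup N) = 11 := by
    rw [hP', Nat.card_congr (Subgroup.subgroupOfEquivOfLe hPN).toEquiv, hcardP]
  rw [hcardP'] at hcard
  set K : Subgroup N := (MonoidHom.transferSylow P' hNC).ker with hK
  have hNdvd := Subgroup.card_subgroup_dvd_card N
  rw [hG, ← hcard] at hNdvd
  have hK720 : Nat.card K ∣ 720 := by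
    have : Nat.card K * 11 ∣ 720 * 11 := by
      rwa [show (7920 : ℕ) = 720 * 11 by norm_num] at hNdvd
    exact Nat.dvd_of_mul_dvd_mul_right (by norm_num : 0 < 11) this
  have hKne : Nat.card K ≠ 1 := by
    intro h1
    rw [h1, one_mul] at hcard
    -- N has order 11, so N = P is normal
    have hNP : N = (P : Subgroup G) :=
      (Subgroup.eq_of_le_of_card_ge hPN (by rw [← hcard, hcardP])).symm
    have hnorm : (P : Subgroup G).Normal := hNP ▸ hN
    have : H = ⊤ := Subgroup.normalizer_eq_top (P : Subgroup G)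
    rw [this, Subgroup.card_top, hG] at h55
    omega
  obtain ⟨r, hr, hrK⟩ := Nat.exists_prime_and_dvd hKne
  refine no_normal_of_fixed (⟨g, hgN⟩ : N) ?_ K hK720 r hr hrK ?_
  · rw [← Subgroup.orderOf_coe]; exact hg
  · intro hdvd
    have h2 := hdvd.trans (card_centralizer_sub_dvd N g hgN)
    rw [hC] at h2
    have hr11 : r = 11 := (Nat.prime_dvd_prime_iff_eq hr (by norm_num)).1 h2
    rw [hr11] at hrK
    have : 11 ∣ 720 := hrK.trans hK720
    omega

end LS

/-- LEMMA S. -/
theorem simple_of_self_centralizing {G : Type*} [Group G] [Finite G] (hG : Nat.card G = 7920)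
    (g : G) (hg : orderOf g = 11)
    (hC : Nat.card (Subgroup.centralizer ({g} : Set G)) = 11) : IsSimpleGroup G := by
  haveI : Nontrivial G := LS.nontrivial_of_card hG
  refine ⟨fun N hN => ?_⟩
  by_contra hcon
  push Not at hcon
  obtain ⟨hbot, htop⟩ := hcon
  by_cases h11 : 11 ∣ Nat.card N
  · exact LS.caseA hG g hg hC N htop h11
  · have hdvd : Nat.card N ∣ 720 := by
      have h := Subgroup.card_subgroup_dvd_card N
      rw [hG, show (7920 : ℕ) = 11 * 720 by norm_num] at h
      have hcop : Nat.Coprime (Nat.card N) 11 :=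
        ((Nat.Prime.coprime_iff_not_dvd (by norm_num)).2 h11).symm
      exact hcop.dvd_of_dvd_mul_left h
    have hne1 : Nat.card N ≠ 1 := fun h => hbot (Subgroup.card_eq_one.1 h)
    obtain ⟨r, hr, hrN⟩ := Nat.exists_prime_and_dvd hne1
    refine no_normal_of_fixed g hg N hdvd r hr hrN ?_
    rw [hC]
    intro h
    have hr11 : r = 11 := (Nat.prime_dvd_prime_iff_eq hr (by norm_num)).1 h
    rw [hr11] at hrN
    exact h11 hrN

end Cfsg.Agent.Helper6.M11Rec

namespace Cfsg.Agent.Helper6.M11Rec

/-- LEMMA S2. -/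
theorem self_centralizing_of_card_sylow {G : Type*} [Group G] [Finite G]
    (hG : Nat.card G = 7920) (h144 : Nat.card (Sylow 11 G) = 144) (g : G)
    (hg : orderOf g = 11) :
    Nat.card (Subgroup.centralizer ({g} : Set G)) = 11 := by
  haveI := NC.fact11
  obtain ⟨P, hP⟩ := NC.exists_sylow_eq_zpowers hG g hg
  have h55 := NC.card_normalizer_of_card_sylow hG P h144
  have hcent : Subgroup.centralizer ((P : Subgroup G) : Set G) =
      Subgroup.centralizer ({g} : Set G) := by
    rw [hP]; exact NC.centralizer_zpowers_eq g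
  have hle : Subgroup.centralizer ({g} : Set G) ≤
      Subgroup.normalizer ((P : Subgroup G) : Set G) := by
    rw [← hcent]; exact Subgroup.centralizer_le_normalizer (s := ((P : Subgroup G) : Set G))
  have h1 : Nat.card (Subgroup.centralizer ({g} : Set G)) ∣ 55 := by
    have := Subgroup.card_dvd_of_le hle
    rwa [h55] at this
  have h2 : 11 ∣ Nat.card (Subgroup.centralizer ({g} : Set G)) := by
    have hz : Subgroup.zpowers g ≤ Subgroup.centralizer ({g} : Set G) := by
      rw [Subgroup.zpowers_le, Subgroup.mem_centralizer_singleton_iff]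
    have := Subgroup.card_dvd_of_le hz
    rwa [Nat.card_zpowers, hg] at this
  by_contra hne
  have h3 : Nat.card (Subgroup.centralizer ({g} : Set G)) = 55 := by
    obtain ⟨k, hk⟩ := h2
    rw [hk] at h1 hne ⊢
    have hk5 : k ∣ 5 := Nat.dvd_of_mul_dvd_mul_left (by norm_num : 0 < 11) h1
    have hkle : k ≤ 5 := Nat.le_of_dvd (by norm_num) hk5
    interval_cases k <;> omega
  have hNC : Subgroup.normalizer ((P : Subgroup G) : Set G) ≤
      Subgroup.centralizer ((P : Subgroup G) : Set G) := by
    rw [hcent]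
    exact (Subgroup.eq_of_le_of_card_ge hle (by rw [h3, h55])).ge
  have hcompl := MonoidHom.ker_transferSylow_isComplement' P hNC
  have hcard := hcompl.card_mul_card
  rw [NC.card_sylow11 hG P, hG] at hcard
  have hK : Nat.card (MonoidHom.transferSylow P hNC).ker = 720 := by omega
  refine no_normal_of_fixed g hg (MonoidHom.transferSylow P hNC).ker (by rw [hK]) 2
    Nat.prime_two (by rw [hK]; norm_num) ?_
  rw [h3]; norm_num

end Cfsg.Agent.Helper6.M11Rec
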