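import Mathlib
import Cfsg.Agent.Lib.Helper8.MXDefs
import Cfsg.Agent.Lib.Helper1.Coprime

/-!
# S4756, PIECE GT3 (helper6 for helper8): `fpf_data`
-/

set_option autoImplicit false

namespace Cfsg.Agent.Helper8.MX

open Cfsg
open scoped commutatorElement

universe u

variable {G : Type u} [Group G] [Finite G]

omit [Finite G] in
/-- Cardinality of an internal product `L = H K` with `H ⊓ K = ⊥`. -/
theorem gt3_card_mul (H K L : Subgroup G) (hHK : H ⊓ K = ⊥) (hHL : H ≤ L) (hKL : K ≤ L)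
    (hL : ∀ g ∈ L, ∃ h ∈ H, ∃ k ∈ K, g = h * k) : Nat.card L = Nat.card H * Nat.card K := by
  rw [← Nat.card_prod]
  symm
  apply Nat.card_eq_of_bijective
    (fun x : H × K => (⟨(x.1 : G) * x.2, L.mul_mem (hHL x.1.2) (hKL x.2.2)⟩ : L))
  constructor
  · rintro ⟨⟨h1, hh1⟩, ⟨k1, hk1⟩⟩ ⟨⟨h2, hh2⟩, ⟨k2, hk2⟩⟩ he
    have he' : h1 * k1 = h2 * k2 := congrArg Subtype.val he
    have h3 : h2⁻¹ * h1 = k2 * k1⁻¹ := by
      calc h2⁻¹ * h1 = h2⁻¹ * (h1 * k1) * k1⁻¹ := by group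
        _ = h2⁻¹ * (h2 * k2) * k1⁻¹ := by rw [he']
        _ = k2 * k1⁻¹ := by group
    have h4 : h2⁻¹ * h1 ∈ H ⊓ K :=
      Subgroup.mem_inf.mpr ⟨H.mul_mem (H.inv_mem hh2) hh1, h3 ▸ K.mul_mem hk2 (K.inv_mem hk1)⟩
    rw [hHK, Subgroup.mem_bot] at h4
    have h5 : h1 = h2 := by
      calc h1 = h2 * (h2⁻¹ * h1) := by group
        _ = h2 := by rw [h4, mul_one]
    subst h5
    have h6 : k1 = k2 := mul_left_cancel he'
    subst h6
    rfl
  · rintro ⟨g, hg⟩
    obtain ⟨h, hh, k, hk, rfl⟩ := hL g hg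
    exact ⟨(⟨h, hh⟩, ⟨k, hk⟩), rfl⟩

/-- PIECE GT3. -/
theorem fpf_data (p : ℕ) [Fact p.Prime] (P : Sylow p G) (hP : (P : Subgroup G).Normal)
    (hc : commutator G ≤ (P : Subgroup G)) (A : Subgroup G)
    (hA : ∀ a ∈ A, ∀ b ∈ A, a * b = b * a) (hcop : (Nat.card A).Coprime p)
    (hAP : A ⊔ (P : Subgroup G) = ⊤) (y : G) (hyA : y ∈ A) (q b : ℕ) (hq : q.Prime) (hqp : q ≠ p)
    (hyo : orderOf y = q ^ b) (hy1 : y ≠ 1)
    (hcard : Nat.card (Subgroup.centralizer ({y} : Set G)) = (commutator G).index) :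
    (∀ d ∈ commutator G, y * d = d * y → d = 1) ∧
    (∀ d ∈ commutator G, ∃ u ∈ (P : Subgroup G), d = u * y * u⁻¹ * y⁻¹) ∧
    (∀ u ∈ (P : Subgroup G), ∃ c ∈ (P : Subgroup G), c * y = y * c ∧ c⁻¹ * u ∈ commutator G) := by
  have := hP
  set D : Subgroup G := commutator G with hD
  set Cy : Subgroup G := Subgroup.centralizer ({y} : Set G) with hCy
  set CP : Subgroup G := (P : Subgroup G) ⊓ Cy with hCP
  have hmemCy : ∀ g, g ∈ Cy ↔ g * y = y * g := fun g => Subgroup.mem_centralizer_singleton_iff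
  have hcomm : ∀ a b : G, a * b * a⁻¹ * b⁻¹ ∈ D := by
    intro a b
    have : a * b * a⁻¹ * b⁻¹ = ⁅a, b⁆ := by rw [commutatorElement_def]
    rw [this, hD, commutator_def]
    exact Subgroup.commutator_mem_commutator (Subgroup.mem_top _) (Subgroup.mem_top _)
  obtain ⟨n, hn⟩ := IsPGroup.iff_card.mp P.isPGroup'
  have hDp : IsPGroup p D := P.isPGroup'.to_le hc
  obtain ⟨m, hm⟩ := IsPGroup.iff_card.mp hDp
  -- `P ⊓ A = ⊥`
  have hPA : (P : Subgroup G) ⊓ A = ⊥ := by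
    have h1 : (Nat.card (P : Subgroup G)).Coprime (Nat.card A) := by
      rw [hn]; exact Nat.Coprime.pow_left n hcop.symm
    exact (Subgroup.disjoint_of_coprime_natCard h1).eq_bot
  have hAN : A ≤ Subgroup.normalizer ((P : Subgroup G) : Set G) := by
    rw [Subgroup.normalizer_eq_top]; exact le_top
  have hdec : ∀ g : G, ∃ u ∈ (P : Subgroup G), ∃ a ∈ A, g = u * a := by
    intro g
    have hg : g ∈ (P : Subgroup G) ⊔ A := by rw [sup_comm, hAP]; trivial
    exact Cfsg.Agent.Helper1.exists_mul_of_mem_sup hAN hg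
  have hcardG : Nat.card G = Nat.card (P : Subgroup G) * Nat.card A := by
    have := gt3_card_mul (P : Subgroup G) A ⊤ hPA le_top le_top (fun g _ => hdec g)
    rwa [Subgroup.card_top] at this
  have hCPA : CP ⊓ A = ⊥ := by
    rw [eq_bot_iff, ← hPA]; exact inf_le_inf_right A inf_le_left
  have hALCy : A ≤ Cy := fun a ha => (hmemCy a).mpr (hA a ha y hyA)
  have hcardCy : Nat.card Cy = Nat.card CP * Nat.card A := by
    apply gt3_card_mul CP A Cy hCPA inf_le_right hALCy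
    intro g hg
    obtain ⟨u, hu, a, ha, rfl⟩ := hdec g
    refine ⟨u, Subgroup.mem_inf.mpr ⟨hu, ?_⟩, a, ha, rfl⟩
    have : u = (u * a) * a⁻¹ := by group
    rw [this]; exact Cy.mul_mem hg (Cy.inv_mem (hALCy ha))
  have hcardD : Nat.card CP * Nat.card D = Nat.card (P : Subgroup G) := by
    have h1 := D.card_mul_index
    rw [← hcard, hcardCy, hcardG] at h1
    have hApos : 0 < Nat.card A := Nat.card_pos
    apply Nat.eq_of_mul_eq_mul_right hApos
    rw [← h1]; ring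
  -- (3): fixed points in cosets
  have hADn : A ≤ Subgroup.normalizer (D : Set G) := by
    rw [Subgroup.normalizer_eq_top]; exact le_top
  have hcopAD : (Nat.card A).Coprime (Nat.card D) := by
    rw [hm]; exact Nat.Coprime.pow_right m hcop
  have hAsolv : Group.IsSolvable A := by
    apply Group.isSolvable_of_comm
    rintro ⟨a, ha⟩ ⟨b, hb⟩
    exact Subtype.ext (hA a ha b hb)
  have h3 : ∀ u ∈ (P : Subgroup G), ∃ c ∈ (P : Subgroup G), c * y = y * c ∧ c⁻¹ * u ∈ D := by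
    intro u hu
    obtain ⟨c, hcc, hcD⟩ := Cfsg.Agent.Helper1.exists_centralizer_mem_coset D A hADn hcopAD
      (Or.inl hAsolv) u (by
        intro a _
        have := hcomm u⁻¹ a
        rwa [inv_inv] at this)
    refine ⟨c, ?_, ?_, ?_⟩
    · have : c = u * (u⁻¹ * c) := by group
      rw [this]; exact (P : Subgroup G).mul_mem hu (hc hcD)
    · exact ((Subgroup.mem_centralizer_iff.mp hcc) y hyA).symm
    · have : c⁻¹ * u = (u⁻¹ * c)⁻¹ := by group
      rw [this]; exact D.inv_mem hcD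
  -- (1): counting
  have h1 : ∀ d ∈ D, y * d = d * y → d = 1 := by
    intro d hd hyd
    let mm : CP × D → (P : Subgroup G) := fun x =>
      ⟨(x.1 : G) * x.2, (P : Subgroup G).mul_mem (x.1.2.1) (hc x.2.2)⟩
    have hsurj : Function.Surjective mm := by
      rintro ⟨u, hu⟩
      obtain ⟨c, hcP, hcy, hcu⟩ := h3 u hu
      refine ⟨(⟨c, Subgroup.mem_inf.mpr ⟨hcP, (hmemCy c).mpr hcy⟩⟩, ⟨c⁻¹ * u, hcu⟩), ?_⟩
      apply Subtype.ext
      show c * (c⁻¹ * u) = u
      group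
    have hbij : Function.Bijective mm := by
      apply hsurj.bijective_of_nat_card_le
      rw [Nat.card_prod, hcardD]
    have hdCP : d ∈ CP := Subgroup.mem_inf.mpr ⟨hc hd, (hmemCy d).mpr hyd.symm⟩
    have heq : mm (⟨d, hdCP⟩, 1) = mm (1, ⟨d, hd⟩) := by
      apply Subtype.ext
      show d * ((1 : D) : G) = ((1 : CP) : G) * d
      simp
    have := hbij.1 heq
    have h2 : (⟨d, hd⟩ : D) = 1 := (congrArg Prod.snd this).symm
    exact congrArg Subtype.val h2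
  refine ⟨h1, ?_, h3⟩
  -- (2): `d ↦ ⁅d, y⁆` is an injective self-map of `D`
  let ff : D → D := fun d => ⟨(d : G) * y * (d : G)⁻¹ * y⁻¹, hcomm _ _⟩
  have hinj : Function.Injective ff := by
    rintro ⟨d1, hd1⟩ ⟨d2, hd2⟩ he
    have he' : d1 * y * d1⁻¹ * y⁻¹ = d2 * y * d2⁻¹ * y⁻¹ := congrArg Subtype.val he
    have h4 : y * (d2⁻¹ * d1) = (d2⁻¹ * d1) * y := by
      have h5 : d1 * y * d1⁻¹ = d2 * y * d2⁻¹ := mul_right_cancel he'
      calc y * (d2⁻¹ * d1) = d2⁻¹ * (d2 * y * d2⁻¹) * d1 := by group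
        _ = d2⁻¹ * (d1 * y * d1⁻¹) * d1 := by rw [h5]
        _ = (d2⁻¹ * d1) * y := by group
    have h6 := h1 (d2⁻¹ * d1) (D.mul_mem (D.inv_mem hd2) hd1) h4
    apply Subtype.ext
    show d1 = d2
    calc d1 = d2 * (d2⁻¹ * d1) := by group
      _ = d2 := by rw [h6, mul_one]
  have hsurj : Function.Surjective ff := Finite.injective_iff_surjective.mp hinj
  intro d hd
  obtain ⟨⟨u, hu⟩, hfu⟩ := hsurj ⟨d, hd⟩
  exact ⟨u, hc hu, (congrArg Subtype.val hfu).symm⟩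

end Cfsg.Agent.Helper8.MX
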