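import Mathlib
import Cfsg.Agent.Lib.Helper3.Supersolvable6

/-!
# S3998 (helper6): a group with the order type of a supersolvable group is solvable

Invariant: for every set `π` of primes the numbers of `π`-elements agree.  A supersolvable group has a
normal Sylow subgroup for the largest prime, the count of `p`-elements then forces the same in the
other group, and the counts pass to the quotients by these Sylow subgroups.
-/

set_option autoImplicit false
set_option linter.style.haveILetI false

namespace Cfsg.Agent.Helper6.OTS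

universe u v

/-- `x` is a `π`-element -/
def IsPiElt {X : Type*} [Group X] (π : Set ℕ) (x : X) : Prop :=
  ∀ q : ℕ, q.Prime → q ∣ orderOf x → q ∈ π

/-- the number of `π`-elements -/
noncomputable def cnt (X : Type*) [Group X] (π : Set ℕ) : ℕ :=
  Nat.card {x : X // IsPiElt π x}

/-- equal order types give an order preserving bijection -/
theorem exists_equiv {G : Type u} {H : Type v} [Group G] [Finite G] [Group H] [Finite H]
    (hT : ∀ m : ℕ, Nat.card {g : G // orderOf g = m} = Nat.card {h : H // orderOf h = m}) :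
    ∃ e : G ≃ H, ∀ g, orderOf (e g) = orderOf g := by
  classical
  have hm : ∀ m : ℕ, Nonempty ({g : G // orderOf g = m} ≃ {h : H // orderOf h = m}) :=
    fun m => Finite.card_eq.1 (hT m)
  choose f _ using fun m => (⟨Classical.choice (hm m), trivial⟩ :
    ∃ _ : ({g : G // orderOf g = m} ≃ {h : H // orderOf h = m}), True)
  let e : G ≃ H := (Equiv.sigmaFiberEquiv (orderOf : G → ℕ)).symm.trans
    ((Equiv.sigmaCongrRight f).trans (Equiv.sigmaFiberEquiv (orderOf : H → ℕ)))
  refine ⟨e, fun g => ?_⟩
  have h1 : e g = ((f (orderOf g)) ⟨g, rfl⟩ : H) := rfl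
  rw [h1]
  exact ((f (orderOf g)) ⟨g, rfl⟩).2

theorem cnt_eq_of_equiv {G : Type u} {H : Type v} [Group G] [Group H]
    (e : G ≃ H) (he : ∀ g, orderOf (e g) = orderOf g) (π : Set ℕ) : cnt G π = cnt H π := by
  unfold cnt
  apply Nat.card_congr
  exact e.subtypeEquiv (fun g => by unfold IsPiElt; rw [he])

theorem cnt_univ (X : Type*) [Group X] : cnt X Set.univ = Nat.card X := by
  unfold cnt
  exact Nat.card_congr (Equiv.subtypeUnivEquiv (fun x q _ _ => Set.mem_univ q))

theorem cnt_empty (X : Type*) [Group X] [Finite X] : cnt X ∅ = 1 := by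
  unfold cnt
  rw [Nat.card_eq_one_iff_unique]
  refine ⟨⟨fun a b => ?_⟩, ⟨⟨1, fun q hq hqd => ?_⟩⟩⟩
  · have h1 : ∀ x : {x : X // IsPiElt ∅ x}, (x : X) = 1 := by
      intro x
      have hx := x.2
      have : orderOf (x : X) = 1 := by
        by_contra hne
        obtain ⟨q, hq, hqd⟩ := Nat.exists_prime_and_dvd hne
        exact hx q hq hqd
      exact orderOf_eq_one_iff.1 this
    exact Subtype.ext ((h1 a).trans (h1 b).symm)
  · rw [orderOf_one] at hqd
    exact absurd (Nat.dvd_one.1 hqd) hq.one_lt.ne'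

/-- modulo a normal Sylow `p`-subgroup: `(π ∪ {p})`-elements are the preimages of `π`-elements -/
theorem isPiElt_mk_iff {X : Type*} [Group X] [Finite X] (p : ℕ) [Fact p.Prime] (P : Subgroup X)
    [P.Normal] (hP : IsPGroup p P) (hidx : ¬ p ∣ Nat.card (X ⧸ P)) (π : Set ℕ) (x : X) :
    IsPiElt (π ∪ {p}) x ↔ IsPiElt π (QuotientGroup.mk' P x) := by
  constructor
  · intro h q hq hqd
    have h1 : q ∣ orderOf x := dvd_trans hqd (orderOf_map_dvd _ x)
    rcases h q hq h1 with h2 | h2
    · exact h2
    · exfalso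
      rw [Set.mem_singleton_iff] at h2
      subst h2
      exact hidx (dvd_trans hqd (orderOf_dvd_natCard _))
  · intro h q hq hqd
    by_cases hqp : q = p
    · right; exact hqp
    · left
      apply h q hq
      set k := orderOf (QuotientGroup.mk' P x) with hk
      have hxk : x ^ k ∈ P := by
        have h2 : (QuotientGroup.mk' P x) ^ k = 1 := pow_orderOf_eq_one _
        rw [← map_pow] at h2
        exact (QuotientGroup.eq_one_iff _).1 h2
      obtain ⟨j, hj⟩ := hP ⟨x ^ k, hxk⟩
      have hx : x ^ (k * p ^ j) = 1 := by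
        rw [pow_mul]
        have h3 := congrArg Subtype.val hj
        simpa using h3
      have hd : orderOf x ∣ k * p ^ j := orderOf_dvd_of_pow_eq_one hx
      have hq2 : q ∣ k * p ^ j := dvd_trans hqd hd
      rcases (Nat.Prime.dvd_mul hq).1 hq2 with h3 | h3
      · exact h3
      · exact absurd ((Nat.prime_dvd_prime_iff_eq hq Fact.out).1 (hq.dvd_of_dvd_pow h3)) hqp

theorem cnt_union {X : Type*} [Group X] [Finite X] (p : ℕ) [Fact p.Prime] (P : Subgroup X)
    [P.Normal] (hP : IsPGroup p P) (hidx : ¬ p ∣ Nat.card (X ⧸ P)) (π : Set ℕ) :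
    cnt X (π ∪ {p}) = Nat.card P * cnt (X ⧸ P) π := by
  unfold cnt
  let t : Set (X ⧸ P) := {y | IsPiElt π y}
  have e1 : {x : X // IsPiElt (π ∪ {p}) x} ≃ ↥((QuotientGroup.mk : X → X ⧸ P) ⁻¹' t) :=
    Equiv.subtypeEquivRight (fun x => isPiElt_mk_iff p P hP hidx π x)
  have e2 := QuotientGroup.preimageMkEquivSubgroupProdSet P t
  rw [Nat.card_congr (e1.trans e2), Nat.card_prod]
  rfl

/-- with a normal Sylow `p`-subgroup `P` there are `|P|` `p`-elements -/
theorem cnt_single {X : Type*} [Group X] [Finite X] (p : ℕ) [Fact p.Prime] (P : Subgroup X)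
    [P.Normal] (hP : IsPGroup p P) (hidx : ¬ p ∣ Nat.card (X ⧸ P)) :
    cnt X {p} = Nat.card P := by
  have h := cnt_union p P hP hidx ∅
  rw [Set.empty_union, cnt_empty, mul_one] at h
  exact h

/-- if the number of `p`-elements is the order of a Sylow `p`-subgroup, it is normal -/
theorem normal_of_cnt {X : Type*} [Group X] [Finite X] (p : ℕ) [Fact p.Prime] (Q : Sylow p X)
    (h : cnt X {p} = Nat.card (Q : Subgroup X)) : (Q : Subgroup X).Normal := by
  have hmem : ∀ x : X, x ∈ (Q : Subgroup X) → IsPiElt {p} x := by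
    intro x hx q hq hqd
    obtain ⟨k, hk⟩ := (IsPGroup.iff_orderOf.1 Q.2) ⟨x, hx⟩
    have h1 : orderOf x = p ^ k := by
      rw [← hk]; exact (Subgroup.orderOf_mk x hx).symm
    rw [h1] at hqd
    exact (Nat.prime_dvd_prime_iff_eq hq Fact.out).1 (hq.dvd_of_dvd_pow hqd)
  let f : ↥(Q : Subgroup X) → {x : X // IsPiElt {p} x} := fun x => ⟨x.1, hmem x.1 x.2⟩
  have hf : Function.Injective f := by
    intro a b hab
    have h2 : (f a : X) = (f b : X) := congrArg Subtype.val hab
    exact Subtype.ext h2
  have hbij : Function.Bijective f := hf.bijective_of_nat_card_le (by unfold cnt at h; rw [h])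
  have hall : ∀ x : X, IsPiElt {p} x → x ∈ (Q : Subgroup X) := by
    intro x hx
    obtain ⟨y, hy⟩ := hbij.2 ⟨x, hx⟩
    have : (y : X) = x := congrArg Subtype.val hy
    rw [← this]; exact y.2
  refine ⟨fun n hn g => hall _ ?_⟩
  intro q hq hqd
  have : orderOf (g * n * g⁻¹) = orderOf n := by
    have := orderOf_injective (MulAut.conj g).toMonoidHom (MulAut.conj g).injective n
    simpa using this
  rw [this] at hqd
  exact hmem n hn q hq hqd

theorem exists_max_prime (n : ℕ) (hn0 : n ≠ 0) (h1 : n ≠ 1) :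
    ∃ p : ℕ, p.Prime ∧ p ∣ n ∧ ∀ q : ℕ, q.Prime → q ∣ n → q ≤ p := by
  have hne : n.primeFactors.Nonempty := Nat.nonempty_primeFactors.2 (by omega)
  have hpmem : n.primeFactors.max' hne ∈ n.primeFactors := Finset.max'_mem _ hne
  exact ⟨n.primeFactors.max' hne, Nat.prime_of_mem_primeFactors hpmem,
    Nat.dvd_of_mem_primeFactors hpmem, fun q hq hqn =>
      Finset.le_max' _ q (Nat.mem_primeFactors.2 ⟨hq, hqn, hn0⟩)⟩

theorem main_aux (n : ℕ) : ∀ (G : Type u) [Group G] [Finite G] (H : Type v) [Group H] [Finite H],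
    Nat.card G = n → Cfsg.IsSupersolvable G → (∀ π : Set ℕ, cnt G π = cnt H π) → Group.IsSolvable H := by
  induction n using Nat.strong_induction_on with
  | _ n ih =>
  intro G _ _ H _ _ hcard hG hI
  have hGH : Nat.card G = Nat.card H := by
    have := hI Set.univ
    rwa [cnt_univ, cnt_univ] at this
  by_cases h1 : n = 1
  · have h2 : Nat.card H = 1 := by rw [← hGH, hcard, h1]
    haveI : Subsingleton H := (Nat.card_eq_one_iff_unique.1 h2).1
    exact Group.isSolvable_of_comm (fun a b => Subsingleton.elim _ _)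
  · have hn0 : n ≠ 0 := by rw [← hcard]; exact Nat.card_pos.ne'
    obtain ⟨p, hpp, hpn, hmax⟩ := exists_max_prime n hn0 h1
    haveI : Fact p.Prime := ⟨hpp⟩
    obtain ⟨PG⟩ : Nonempty (Sylow p G) := inferInstance
    haveI hPGn : (PG : Subgroup G).Normal :=
      Cfsg.Agent.Helper3.sylow_normal_of_max_prime hG p
        (fun q hq hqd => hmax q hq (hcard ▸ hqd)) PG
    have hidxG : ¬ p ∣ Nat.card (G ⧸ (PG : Subgroup G)) := by
      have := PG.not_dvd_index
      rwa [Subgroup.index_eq_card] at this
    have hcG : cnt G {p} = Nat.card (PG : Subgroup G) := by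
      have hPp : IsPGroup p (PG : Subgroup G) := PG.isPGroup'
      exact cnt_single (X := G) p (PG : Subgroup G) hPp hidxG
    obtain ⟨QH⟩ : Nonempty (Sylow p H) := inferInstance
    have hcard_eq : Nat.card (QH : Subgroup H) = Nat.card (PG : Subgroup G) := by
      rw [Sylow.card_eq_multiplicity, Sylow.card_eq_multiplicity, hGH]
    have hcH : cnt H {p} = Nat.card (QH : Subgroup H) := by rw [← hI, hcG, hcard_eq]
    haveI hQn : (QH : Subgroup H).Normal := normal_of_cnt p QH hcH
    have hidxH : ¬ p ∣ Nat.card (H ⧸ (QH : Subgroup H)) := by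
      have := QH.not_dvd_index
      rwa [Subgroup.index_eq_card] at this
    have hI' : ∀ π : Set ℕ, cnt (G ⧸ (PG : Subgroup G)) π = cnt (H ⧸ (QH : Subgroup H)) π := by
      intro π
      have e1 := cnt_union (X := G) p (PG : Subgroup G) PG.isPGroup' hidxG π
      have e2 := cnt_union (X := H) p (QH : Subgroup H) QH.isPGroup' hidxH π
      rw [hI, e2, hcard_eq] at e1
      exact (Nat.eq_of_mul_eq_mul_left Nat.card_pos e1).symm
    have hPG1 : 1 < Nat.card (PG : Subgroup G) := by
      rw [Subgroup.one_lt_card_iff_ne_bot]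
      exact PG.ne_bot_of_dvd_card (by rw [hcard]; exact hpn)
    have hlt : Nat.card (G ⧸ (PG : Subgroup G)) < n := by
      rw [← hcard]; exact Cfsg.Agent.Helper3.card_quotient_lt _ hPG1
    haveI hsolQ : Group.IsSolvable (H ⧸ (QH : Subgroup H)) :=
      ih _ hlt (G ⧸ (PG : Subgroup G)) (H ⧸ (QH : Subgroup H)) rfl
        (Cfsg.Agent.Helper3.isSupersolvable_quotient hG _) hI'
    haveI : Group.IsSolvable (QH : Subgroup H) := by
      haveI hnil : Group.IsNilpotent (QH : Subgroup H) := QH.isPGroup'.isNilpotent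
      exact IsNilpotent.to_isSolvable
    exact Group.isSolvable_of_ker_le_range (QH : Subgroup H).subtype (QuotientGroup.mk' (QH : Subgroup H))
      (by simp)

theorem main {G : Type u} {H : Type v} [Group G] [Finite G] [Group H] [Finite H]
    (hT : ∀ m : ℕ, Nat.card {g : G // orderOf g = m} = Nat.card {h : H // orderOf h = m})
    (hG : Cfsg.IsSupersolvable G) : Group.IsSolvable H := by
  obtain ⟨e, he⟩ := exists_equiv hT
  exact main_aux (Nat.card G) G H rfl hG (fun π => cnt_eq_of_equiv e he π)

end Cfsg.Agent.Helper6.OTS
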