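import Mathlib
import Cfsg.Agent.Lib.Helper6.OrthB2

/-!
The orthogonal group of `x₀² + x₁y₁ + x₂y₂` is generated by the root elements and the diagonal isometries
(Gaussian elimination), and its commutator subgroup lies in the subgroup generated by the root elements.
-/

set_option autoImplicit false
set_option linter.unusedSectionVars false
set_option linter.unusedVariables false

namespace Cfsg.Agent.Helper6.OrthB2

open Matrix Cfsg Cfsg.Lie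

variable {F : Type*} [Field F]

/-- the diagonal matrices -/
def tMat (c a b a' b' : F) : Matrix I5 I5 F := Matrix.diagonal (mk5 c a b a' b')

theorem tMat_mulVec (c a b a' b' z p1 p2 q1 q2 : F) :
    tMat c a b a' b' *ᵥ mk5 z p1 p2 q1 q2 = mk5 (c * z) (a * p1) (b * p2) (a' * q1) (b' * q2) := by
  unfold tMat
  apply funext5 <;> rw [mulVec_diagonal] <;> rfl

/-- the diagonal isometries -/
def tGL (c a b a' b' : F) (hc : c * c = 1) (ha : a * a' = 1) (hb : b * b' = 1) : GL I5 F :=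
  ⟨tMat c a b a' b', tMat c a' b' a b, by
    apply mat_ext
    intro v
    obtain ⟨z, p1, p2, q1, q2, rfl⟩ := exists_mk5 v
    rw [← mulVec_mulVec, tMat_mulVec, tMat_mulVec, one_mulVec]
    apply mk5_congr
    · linear_combination z * hc
    · linear_combination p1 * ha
    · linear_combination p2 * hb
    · linear_combination q1 * ha
    · linear_combination q2 * hb, by
    apply mat_ext
    intro v
    obtain ⟨z, p1, p2, q1, q2, rfl⟩ := exists_mk5 v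
    rw [← mulVec_mulVec, tMat_mulVec, tMat_mulVec, one_mulVec]
    apply mk5_congr
    · linear_combination z * hc
    · linear_combination p1 * ha
    · linear_combination p2 * hb
    · linear_combination q1 * ha
    · linear_combination q2 * hb⟩

theorem tGL_mulVec (c a b a' b' : F) (hc : c * c = 1) (ha : a * a' = 1) (hb : b * b' = 1)
    (z p1 p2 q1 q2 : F) :
    (tGL c a b a' b' hc ha hb : GL I5 F).1 *ᵥ mk5 z p1 p2 q1 q2 =
      mk5 (c * z) (a * p1) (b * p2) (a' * q1) (b' * q2) := tMat_mulVec _ _ _ _ _ _ _ _ _ _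

theorem tGL_inv (c a b a' b' : F) (hc : c * c = 1) (ha : a * a' = 1) (hb : b * b' = 1) :
    (tGL c a b a' b' hc ha hb)⁻¹ = tGL c a' b' a b hc (by rw [mul_comm]; exact ha) (by rw [mul_comm]; exact hb) :=
  rfl

theorem tGL_mem (c a b a' b' : F) (hc : c * c = 1) (ha : a * a' = 1) (hb : b * b' = 1) :
    tGL c a b a' b' hc ha hb ∈ Cfsg.isometryGroup F (Cfsg.quadFormOdd 2 F) := by
  intro u _
  show Cfsg.quadFormOdd 2 F ((tGL c a b a' b' hc ha hb : GL I5 F).1 *ᵥ u) = Cfsg.quadFormOdd 2 F u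
  obtain ⟨z, p1, p2, q1, q2, rfl⟩ := exists_mk5 u
  rw [tGL_mulVec, Q_mk5, Q_mk5]
  linear_combination z ^ 2 * hc + p1 * q1 * ha + p2 * q2 * hb

/-- the root elements -/
def genE5 (F : Type*) [Field F] : Set (GL I5 F) := {g | ∃ r < 8, ∃ t : F, g = xGL r t}

/-- the diagonal isometries -/
def genT5 (F : Type*) [Field F] : Set (GL I5 F) :=
  {g | ∃ (c a b a' b' : F) (hc : c * c = 1) (ha : a * a' = 1) (hb : b * b' = 1), g = tGL c a b a' b' hc ha hb}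

/-- the subgroup generated by the root elements -/
def subE5 (F : Type*) [Field F] : Subgroup (GL I5 F) := Subgroup.closure (genE5 F)

/-- the subgroup generated by the diagonal isometries -/
def subT5 (F : Type*) [Field F] : Subgroup (GL I5 F) := Subgroup.closure (genT5 F)

/-- the subgroup generated by the root elements and the diagonal isometries -/
def subM5 (F : Type*) [Field F] : Subgroup (GL I5 F) := Subgroup.closure (genE5 F ∪ genT5 F)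

theorem xGL_mem_subE5 (r : ℕ) (t : F) : xGL r t ∈ subE5 F := by
  by_cases hr : r < 8
  · exact Subgroup.subset_closure ⟨r, hr, t, rfl⟩
  · rw [xGL_of_ge r hr]
    exact one_mem _

theorem subE5_le_subM5 : subE5 F ≤ subM5 F := Subgroup.closure_mono Set.subset_union_left

theorem subT5_le_subM5 : subT5 F ≤ subM5 F := Subgroup.closure_mono Set.subset_union_right

theorem xGL_mem_subM5 (r : ℕ) (t : F) : xGL r t ∈ subM5 F := subE5_le_subM5 (xGL_mem_subE5 r t)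

theorem tGL_mem_subM5 (c a b a' b' : F) (hc : c * c = 1) (ha : a * a' = 1) (hb : b * b' = 1) :
    tGL c a b a' b' hc ha hb ∈ subM5 F :=
  Subgroup.subset_closure (Or.inr ⟨c, a, b, a', b', hc, ha, hb, rfl⟩)

theorem subM5_le : subM5 F ≤ Cfsg.isometryGroup F (Cfsg.quadFormOdd 2 F) := by
  unfold subM5
  rw [Subgroup.closure_le]
  rintro g (⟨r, _, t, rfl⟩ | ⟨c, a, b, a', b', hc, ha, hb, rfl⟩)
  · exact xGL_mem r t
  · exact tGL_mem c a b a' b' hc ha hb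

theorem Q_of_mem {g : GL I5 F} (hg : g ∈ Cfsg.isometryGroup F (Cfsg.quadFormOdd 2 F)) (v : I5 → F) :
    Cfsg.quadFormOdd 2 F (g.1 *ᵥ v) = Cfsg.quadFormOdd 2 F v := hg v v

/-- the polar form -/
def pol5 (v w : I5 → F) : F :=
  Cfsg.quadFormOdd 2 F (v + w) - Cfsg.quadFormOdd 2 F v - Cfsg.quadFormOdd 2 F w

theorem pol5_mk5 (z p1 p2 q1 q2 z' p1' p2' q1' q2' : F) :
    pol5 (mk5 z p1 p2 q1 q2) (mk5 z' p1' p2' q1' q2') =
      2 * z * z' + p1 * q1' + q1 * p1' + p2 * q2' + q2 * p2' := by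
  unfold pol5
  rw [mk5_add, Q_mk5, Q_mk5, Q_mk5]
  ring

theorem pol5_isom {g : GL I5 F} (hg : g ∈ Cfsg.isometryGroup F (Cfsg.quadFormOdd 2 F)) (v w : I5 → F) :
    pol5 (g.1 *ᵥ v) (g.1 *ᵥ w) = pol5 v w := by
  unfold pol5
  rw [← mulVec_add, Q_of_mem hg, Q_of_mem hg, Q_of_mem hg]

theorem mulVec_ne_zero (g : GL I5 F) (v : I5 → F) (hv : v ≠ 0) : g.1 *ᵥ v ≠ 0 := by
  intro h
  apply hv
  have : g⁻¹.1 *ᵥ (g.1 *ᵥ v) = v := by
    rw [mulVec_mulVec, ← Units.val_mul, inv_mul_cancel, Units.val_one, one_mulVec]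
  rw [← this, h, mulVec_zero]

theorem mk5_ne_zero_1 : mk5 (0 : F) 1 0 0 0 ≠ 0 := by
  intro h
  have := congrFun h (Sum.inr (Sum.inl 0))
  simp at this

theorem mk5_ne_zero_2 : mk5 (0 : F) 0 1 0 0 ≠ 0 := by
  intro h
  have := congrFun h (Sum.inr (Sum.inl 1))
  simp at this

theorem mulVec_mul (g h : GL I5 F) (v : I5 → F) : (g * h).1 *ᵥ v = g.1 *ᵥ (h.1 *ᵥ v) := by
  rw [Units.val_mul, mulVec_mulVec]

/-- make the coordinate `p₁` of a non-zero singular vector non-zero -/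
theorem moveA1 (z p1 p2 q1 q2 : F) (hv : mk5 z p1 p2 q1 q2 ≠ 0) (hQ : z ^ 2 + p1 * q1 + p2 * q2 = 0) :
    ∃ m ∈ subM5 F, ∃ z' p1' p2' q1' q2' : F,
      m.1 *ᵥ mk5 z p1 p2 q1 q2 = mk5 z' p1' p2' q1' q2' ∧ p1' ≠ 0 := by
  by_cases hp1 : p1 = 0
  swap
  · exact ⟨1, one_mem _, z, p1, p2, q1, q2, by rw [Units.val_one, one_mulVec], hp1⟩
  subst hp1
  by_cases hq1 : q1 = 0
  swap
  · by_cases h : 2 * z - q1 = 0
    · refine ⟨xGL 6 (-1), xGL_mem_subM5 _ _, _, _, _, _, _, by rw [xGL_mulVec, xf_6], ?_⟩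
      intro h'
      apply hq1
      have h2 : (2 : F) * q1 = 0 := by linear_combination -h - h'
      rcases mul_eq_zero.1 h2 with h3 | h3
      · linear_combination z * h3 - h
      · exact h3
    · refine ⟨xGL 6 1, xGL_mem_subM5 _ _, _, _, _, _, _, by rw [xGL_mulVec, xf_6], ?_⟩
      intro h'
      apply h
      linear_combination h'
  subst hq1
  by_cases hq2 : q2 = 0
  swap
  · refine ⟨xGL 7 1, xGL_mem_subM5 _ _, _, _, _, _, _, by rw [xGL_mulVec, xf_7], ?_⟩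
    intro h'
    apply hq2
    linear_combination h'
  subst hq2
  by_cases hp2 : p2 = 0
  swap
  · refine ⟨xGL 4 1, xGL_mem_subM5 _ _, _, _, _, _, _, by rw [xGL_mulVec, xf_4], ?_⟩
    intro h'
    apply hp2
    linear_combination h'
  subst hp2
  exfalso
  apply hv
  have hz : z = 0 := by
    have : z ^ 2 = 0 := by linear_combination hQ
    exact pow_eq_zero_iff (two_ne_zero) |>.1 this
  subst hz
  exact mk5_zero

/-- move a singular vector with `p₁ ≠ 0` to the first basis vector -/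
theorem moveA2 (z p1 p2 q1 q2 : F) (hp : p1 ≠ 0) (hQ : z ^ 2 + p1 * q1 + p2 * q2 = 0) :
    ∃ m ∈ subM5 F, m.1 *ᵥ mk5 z p1 p2 q1 q2 = mk5 0 1 0 0 0 := by
  refine ⟨xGL 0 (-q2) * (xGL 3 (-p2) * (xGL 1 (-z) *
    tGL 1 p1⁻¹ 1 p1 1 (one_mul 1) (inv_mul_cancel₀ hp) (one_mul 1))), ?_, ?_⟩
  · exact mul_mem (xGL_mem_subM5 _ _) (mul_mem (xGL_mem_subM5 _ _) (mul_mem (xGL_mem_subM5 _ _)
      (tGL_mem_subM5 _ _ _ _ _ _ _ _)))
  · simp only [mulVec_mul, xGL_mulVec, tGL_mulVec, xf_0, xf_1, xf_3]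
    have h1 : p1⁻¹ * p1 = 1 := inv_mul_cancel₀ hp
    apply mk5_congr
    · linear_combination (-z) * h1
    · linear_combination h1
    · linear_combination (-p2) * h1
    · linear_combination hQ - (z ^ 2 + p2 * q2) * h1
    · linear_combination (-q2) * h1

theorem moveA (v : I5 → F) (hv : v ≠ 0) (hQ : Cfsg.quadFormOdd 2 F v = 0) :
    ∃ m ∈ subM5 F, m.1 *ᵥ v = mk5 0 1 0 0 0 := by
  obtain ⟨z, p1, p2, q1, q2, rfl⟩ := exists_mk5 v
  rw [Q_mk5] at hQ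
  obtain ⟨m1, hm1, z', p1', p2', q1', q2', h1, hp⟩ := moveA1 z p1 p2 q1 q2 hv hQ
  have hQ' : z' ^ 2 + p1' * q1' + p2' * q2' = 0 := by
    rw [← Q_mk5, ← h1, Q_of_mem (subM5_le hm1), Q_mk5, hQ]
  obtain ⟨m2, hm2, h2⟩ := moveA2 z' p1' p2' q1' q2' hp hQ'
  exact ⟨m2 * m1, mul_mem hm2 hm1, by rw [mulVec_mul, h1, h2]⟩

/-- move a singular vector with `q₁ = 1` to the basis vector `f₁`, fixing `e₁` -/
theorem moveB (z p1 p2 q2 : F) (hQ : z ^ 2 + p1 * 1 + p2 * q2 = 0) :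
    ∃ m ∈ subM5 F, m.1 *ᵥ mk5 0 1 0 0 0 = mk5 0 1 0 0 0 ∧ m.1 *ᵥ mk5 z p1 p2 1 q2 = mk5 0 0 0 1 0 := by
  refine ⟨xGL 4 q2 * (xGL 7 p2 * xGL 6 z), ?_, ?_, ?_⟩
  · exact mul_mem (xGL_mem_subM5 _ _) (mul_mem (xGL_mem_subM5 _ _) (xGL_mem_subM5 _ _))
  · simp only [mulVec_mul, xGL_mulVec, xf_4, xf_6, xf_7]
    apply mk5_congr <;> ring
  · simp only [mulVec_mul, xGL_mulVec, xf_4, xf_6, xf_7]
    apply mk5_congr
    · ring
    · linear_combination hQ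
    · ring
    · ring
    · ring

/-- make the coordinate `p₂` of a non-zero singular vector of the three-dimensional subspace non-zero -/
theorem moveD1 (z p2 q2 : F) (hv : mk5 z 0 p2 0 q2 ≠ 0) (hQ : z ^ 2 + 0 * 0 + p2 * q2 = 0) :
    ∃ m ∈ subM5 F, m.1 *ᵥ mk5 0 1 0 0 0 = mk5 0 1 0 0 0 ∧ m.1 *ᵥ mk5 0 0 0 1 0 = mk5 0 0 0 1 0 ∧
      ∃ z' p2' q2' : F, m.1 *ᵥ mk5 z 0 p2 0 q2 = mk5 z' 0 p2' 0 q2' ∧ p2' ≠ 0 := by
  by_cases hp2 : p2 = 0
  swap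
  · exact ⟨1, one_mem _, by rw [Units.val_one, one_mulVec], by rw [Units.val_one, one_mulVec], z, p2, q2,
      by rw [Units.val_one, one_mulVec], hp2⟩
  subst hp2
  have hz : z = 0 := by
    have : z ^ 2 = 0 := by linear_combination hQ
    exact pow_eq_zero_iff (two_ne_zero) |>.1 this
  subst hz
  have hq2 : q2 ≠ 0 := by
    intro h
    apply hv
    rw [h]
    exact mk5_zero
  refine ⟨xGL 5 1, xGL_mem_subM5 _ _, ?_, ?_, _, _, _, by rw [xGL_mulVec, xf_5], ?_⟩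
  · rw [xGL_mulVec, xf_5]
    apply mk5_congr <;> ring
  · rw [xGL_mulVec, xf_5]
    apply mk5_congr <;> ring
  · intro h'
    apply hq2
    linear_combination -h'

theorem moveD2 (z p2 q2 : F) (hp : p2 ≠ 0) (hQ : z ^ 2 + 0 * 0 + p2 * q2 = 0) :
    ∃ m ∈ subM5 F, m.1 *ᵥ mk5 0 1 0 0 0 = mk5 0 1 0 0 0 ∧ m.1 *ᵥ mk5 0 0 0 1 0 = mk5 0 0 0 1 0 ∧
      m.1 *ᵥ mk5 z 0 p2 0 q2 = mk5 0 0 1 0 0 := by
  have h1 : p2⁻¹ * p2 = 1 := inv_mul_cancel₀ hp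
  refine ⟨xGL 2 (-z) * tGL 1 1 p2⁻¹ 1 p2 (one_mul 1) (one_mul 1) h1, ?_, ?_, ?_, ?_⟩
  · exact mul_mem (xGL_mem_subM5 _ _) (tGL_mem_subM5 _ _ _ _ _ _ _ _)
  · simp only [mulVec_mul, xGL_mulVec, tGL_mulVec, xf_2]
    apply mk5_congr <;> ring
  · simp only [mulVec_mul, xGL_mulVec, tGL_mulVec, xf_2]
    apply mk5_congr <;> ring
  · simp only [mulVec_mul, xGL_mulVec, tGL_mulVec, xf_2]
    apply mk5_congr
    · linear_combination (-z) * h1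
    · ring
    · linear_combination h1
    · ring
    · linear_combination hQ - z ^ 2 * h1

theorem moveD (v : I5 → F) (hv : v ≠ 0) (hQ : Cfsg.quadFormOdd 2 F v = 0) (h1 : v (Sum.inr (Sum.inl 0)) = 0)
    (h2 : v (Sum.inr (Sum.inr 0)) = 0) :
    ∃ m ∈ subM5 F, m.1 *ᵥ mk5 0 1 0 0 0 = mk5 0 1 0 0 0 ∧ m.1 *ᵥ mk5 0 0 0 1 0 = mk5 0 0 0 1 0 ∧
      m.1 *ᵥ v = mk5 0 0 1 0 0 := by
  obtain ⟨z, p1, p2, q1, q2, rfl⟩ := exists_mk5 v
  rw [mk5_p1] at h1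
  rw [mk5_q1] at h2
  subst h1
  subst h2
  rw [Q_mk5] at hQ
  obtain ⟨m1, hm1, ha, hb, z', p2', q2', hc, hp⟩ := moveD1 z p2 q2 hv hQ
  have hQ' : z' ^ 2 + 0 * 0 + p2' * q2' = 0 := by
    rw [← Q_mk5, ← hc, Q_of_mem (subM5_le hm1), Q_mk5, hQ]
  obtain ⟨m2, hm2, ha', hb', hc'⟩ := moveD2 z' p2' q2' hp hQ'
  exact ⟨m2 * m1, mul_mem hm2 hm1, by rw [mulVec_mul, ha, ha'], by rw [mulVec_mul, hb, hb'],
    by rw [mulVec_mul, hc, hc']⟩

theorem moveE (z p2 : F) (hQ : z ^ 2 + 0 * 0 + p2 * 1 = 0) :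
    ∃ m ∈ subM5 F, m.1 *ᵥ mk5 0 1 0 0 0 = mk5 0 1 0 0 0 ∧ m.1 *ᵥ mk5 0 0 0 1 0 = mk5 0 0 0 1 0 ∧
      m.1 *ᵥ mk5 0 0 1 0 0 = mk5 0 0 1 0 0 ∧ m.1 *ᵥ mk5 z 0 p2 0 1 = mk5 0 0 0 0 1 := by
  refine ⟨xGL 5 z, xGL_mem_subM5 _ _, ?_, ?_, ?_, ?_⟩
  · rw [xGL_mulVec, xf_5]
    apply mk5_congr <;> ring
  · rw [xGL_mulVec, xf_5]
    apply mk5_congr <;> ring
  · rw [xGL_mulVec, xf_5]
    apply mk5_congr <;> ring
  · rw [xGL_mulVec, xf_5]
    apply mk5_congr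
    · ring
    · ring
    · linear_combination hQ
    · ring
    · ring

theorem mk5_decomp (z p1 p2 q1 q2 : F) :
    mk5 z p1 p2 q1 q2 = z • mk5 1 0 0 0 0 + (p1 • mk5 0 1 0 0 0 + (p2 • mk5 0 0 1 0 0 +
      (q1 • mk5 0 0 0 1 0 + q2 • mk5 0 0 0 0 1))) := by
  simp only [mk5_smul, mk5_add]
  apply mk5_congr <;> ring

/-- first step of the elimination: fix the first hyperbolic pair -/
theorem stepAB (g : GL I5 F) (hg : g ∈ Cfsg.isometryGroup F (Cfsg.quadFormOdd 2 F)) :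
    ∃ m ∈ subM5 F, (m * g).1 *ᵥ mk5 0 1 0 0 0 = mk5 0 1 0 0 0 ∧
      (m * g).1 *ᵥ mk5 0 0 0 1 0 = mk5 0 0 0 1 0 := by
  have hQ1 : Cfsg.quadFormOdd 2 F (g.1 *ᵥ mk5 0 1 0 0 0) = 0 := by
    rw [Q_of_mem hg, Q_mk5]
    ring
  obtain ⟨m1, hm1, h1⟩ := moveA _ (mulVec_ne_zero g _ mk5_ne_zero_1) hQ1
  have hg1 : m1 * g ∈ Cfsg.isometryGroup F (Cfsg.quadFormOdd 2 F) := mul_mem (subM5_le hm1) hg
  have h1' : (m1 * g).1 *ᵥ mk5 0 1 0 0 0 = mk5 0 1 0 0 0 := by rw [mulVec_mul, h1]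
  obtain ⟨z, p1, p2, q1, q2, hw⟩ := exists_mk5 ((m1 * g).1 *ᵥ mk5 0 0 0 1 0)
  have hq1 : q1 = 1 := by
    have := pol5_isom hg1 (mk5 0 1 0 0 0) (mk5 0 0 0 1 0)
    rw [h1', hw, pol5_mk5, pol5_mk5] at this
    linear_combination this
  subst hq1
  have hQ2 : z ^ 2 + p1 * 1 + p2 * q2 = 0 := by
    rw [← Q_mk5, ← hw, Q_of_mem hg1, Q_mk5]
    ring
  obtain ⟨m2, hm2, h2, h3⟩ := moveB z p1 p2 q2 hQ2
  refine ⟨m2 * m1, mul_mem hm2 hm1, ?_, ?_⟩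
  · rw [mul_assoc, mulVec_mul m2, h1', h2]
  · rw [mul_assoc, mulVec_mul m2, hw, h3]

/-- second step of the elimination: fix the second hyperbolic pair -/
theorem stepDE (g : GL I5 F) (hg : g ∈ Cfsg.isometryGroup F (Cfsg.quadFormOdd 2 F))
    (he1 : g.1 *ᵥ mk5 0 1 0 0 0 = mk5 0 1 0 0 0) (hf1 : g.1 *ᵥ mk5 0 0 0 1 0 = mk5 0 0 0 1 0) :
    ∃ m ∈ subM5 F, (m * g).1 *ᵥ mk5 0 1 0 0 0 = mk5 0 1 0 0 0 ∧
      (m * g).1 *ᵥ mk5 0 0 0 1 0 = mk5 0 0 0 1 0 ∧ (m * g).1 *ᵥ mk5 0 0 1 0 0 = mk5 0 0 1 0 0 ∧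
      (m * g).1 *ᵥ mk5 0 0 0 0 1 = mk5 0 0 0 0 1 := by
  obtain ⟨z, p1, p2, q1, q2, hv⟩ := exists_mk5 (g.1 *ᵥ mk5 0 0 1 0 0)
  have hq1 : q1 = 0 := by
    have := pol5_isom hg (mk5 0 1 0 0 0) (mk5 0 0 1 0 0)
    rw [he1, hv, pol5_mk5, pol5_mk5] at this
    linear_combination this
  have hp1 : p1 = 0 := by
    have := pol5_isom hg (mk5 0 0 0 1 0) (mk5 0 0 1 0 0)
    rw [hf1, hv, pol5_mk5, pol5_mk5] at this
    linear_combination this
  have hQ : Cfsg.quadFormOdd 2 F (g.1 *ᵥ mk5 0 0 1 0 0) = 0 := by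
    rw [Q_of_mem hg, Q_mk5]
    ring
  obtain ⟨m1, hm1, a1, b1, c1⟩ := moveD (g.1 *ᵥ mk5 0 0 1 0 0) (mulVec_ne_zero g _ mk5_ne_zero_2) hQ
    (by rw [hv, mk5_p1, hp1]) (by rw [hv, mk5_q1, hq1])
  have hg1 : m1 * g ∈ Cfsg.isometryGroup F (Cfsg.quadFormOdd 2 F) := mul_mem (subM5_le hm1) hg
  have e1' : (m1 * g).1 *ᵥ mk5 0 1 0 0 0 = mk5 0 1 0 0 0 := by rw [mulVec_mul, he1, a1]
  have f1' : (m1 * g).1 *ᵥ mk5 0 0 0 1 0 = mk5 0 0 0 1 0 := by rw [mulVec_mul, hf1, b1]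
  have e2' : (m1 * g).1 *ᵥ mk5 0 0 1 0 0 = mk5 0 0 1 0 0 := by rw [mulVec_mul, c1]
  obtain ⟨z', p1', p2', q1', q2', hw⟩ := exists_mk5 ((m1 * g).1 *ᵥ mk5 0 0 0 0 1)
  have hq1' : q1' = 0 := by
    have := pol5_isom hg1 (mk5 0 1 0 0 0) (mk5 0 0 0 0 1)
    rw [e1', hw, pol5_mk5, pol5_mk5] at this
    linear_combination this
  have hp1' : p1' = 0 := by
    have := pol5_isom hg1 (mk5 0 0 0 1 0) (mk5 0 0 0 0 1)
    rw [f1', hw, pol5_mk5, pol5_mk5] at this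
    linear_combination this
  have hq2' : q2' = 1 := by
    have := pol5_isom hg1 (mk5 0 0 1 0 0) (mk5 0 0 0 0 1)
    rw [e2', hw, pol5_mk5, pol5_mk5] at this
    linear_combination this
  subst hq1' hp1' hq2'
  have hQ2 : z' ^ 2 + 0 * 0 + p2' * 1 = 0 := by
    rw [← Q_mk5, ← hw, Q_of_mem hg1, Q_mk5]
    ring
  obtain ⟨m2, hm2, a2, b2, c2, d2⟩ := moveE z' p2' hQ2
  refine ⟨m2 * m1, mul_mem hm2 hm1, ?_, ?_, ?_, ?_⟩
  · rw [mul_assoc, mulVec_mul m2, e1', a2]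
  · rw [mul_assoc, mulVec_mul m2, f1', b2]
  · rw [mul_assoc, mulVec_mul m2, e2', c2]
  · rw [mul_assoc, mulVec_mul m2, hw, d2]

/-- last step of the elimination: an isometry fixing both hyperbolic pairs is diagonal -/
theorem stepF (g : GL I5 F) (hg : g ∈ Cfsg.isometryGroup F (Cfsg.quadFormOdd 2 F))
    (he1 : g.1 *ᵥ mk5 0 1 0 0 0 = mk5 0 1 0 0 0) (hf1 : g.1 *ᵥ mk5 0 0 0 1 0 = mk5 0 0 0 1 0)
    (he2 : g.1 *ᵥ mk5 0 0 1 0 0 = mk5 0 0 1 0 0) (hf2 : g.1 *ᵥ mk5 0 0 0 0 1 = mk5 0 0 0 0 1) :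
    g ∈ subM5 F := by
  obtain ⟨c, p1, p2, q1, q2, hu⟩ := exists_mk5 (g.1 *ᵥ mk5 1 0 0 0 0)
  have hq1 : q1 = 0 := by
    have := pol5_isom hg (mk5 0 1 0 0 0) (mk5 1 0 0 0 0)
    rw [he1, hu, pol5_mk5, pol5_mk5] at this
    linear_combination this
  have hp1 : p1 = 0 := by
    have := pol5_isom hg (mk5 0 0 0 1 0) (mk5 1 0 0 0 0)
    rw [hf1, hu, pol5_mk5, pol5_mk5] at this
    linear_combination this
  have hq2 : q2 = 0 := by
    have := pol5_isom hg (mk5 0 0 1 0 0) (mk5 1 0 0 0 0)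
    rw [he2, hu, pol5_mk5, pol5_mk5] at this
    linear_combination this
  have hp2 : p2 = 0 := by
    have := pol5_isom hg (mk5 0 0 0 0 1) (mk5 1 0 0 0 0)
    rw [hf2, hu, pol5_mk5, pol5_mk5] at this
    linear_combination this
  subst hq1 hp1 hq2 hp2
  have hc : c * c = 1 := by
    have := Q_of_mem hg (mk5 1 0 0 0 0)
    rw [hu, Q_mk5, Q_mk5] at this
    linear_combination this
  have e : g = tGL c 1 1 1 1 hc (one_mul 1) (one_mul 1) := by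
    apply gl_ext
    intro v
    obtain ⟨z, p1, p2, q1, q2, rfl⟩ := exists_mk5 v
    rw [tGL_mulVec, mk5_decomp z p1 p2 q1 q2, mulVec_add, mulVec_add, mulVec_add, mulVec_add, mulVec_smul,
      mulVec_smul, mulVec_smul, mulVec_smul, mulVec_smul, hu, he1, he2, hf1, hf2]
    simp only [mk5_smul, mk5_add]
    apply mk5_congr <;> ring
  rw [e]
  exact tGL_mem_subM5 _ _ _ _ _ _ _ _

/-- **the orthogonal group is generated by the root elements and the diagonal isometries** -/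
theorem isometryGroup_le_subM5 : Cfsg.isometryGroup F (Cfsg.quadFormOdd 2 F) ≤ subM5 F := by
  intro g hg
  obtain ⟨m1, hm1, a1, b1⟩ := stepAB g hg
  have hg1 := mul_mem (subM5_le hm1) hg
  obtain ⟨m2, hm2, a2, b2, c2, d2⟩ := stepDE (m1 * g) hg1 a1 b1
  have h := stepF (m2 * (m1 * g)) (mul_mem (subM5_le hm2) hg1) a2 b2 c2 d2
  have e : g = m1⁻¹ * (m2⁻¹ * (m2 * (m1 * g))) := by group
  rw [e]
  exact mul_mem (inv_mem hm1) (mul_mem (inv_mem hm2) h)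

end Cfsg.Agent.Helper6.OrthB2
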