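import Mathlib
import Cfsg.Agent.Lib.Helper6.OrthB2Elim

/-!
The commutator subgroup of the orthogonal group of `x₀² + x₁y₁ + x₂y₂` lies in the subgroup generated by the root
elements.
-/

set_option autoImplicit false
set_option linter.unusedSectionVars false
set_option linter.unusedVariables false

namespace Cfsg.Agent.Helper6.OrthB2

open Matrix Cfsg Cfsg.Lie

variable {F : Type*} [Field F]

/-- the scalar by which a diagonal isometry scales the parameter of the root elements of the root `r` -/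
def chi (r : ℕ) (c a b a' b' : F) : F :=
  match r with
  | 0 => a' * b'
  | 1 => c * a'
  | 2 => c * b'
  | 3 => a' * b
  | 4 => a * b'
  | 5 => c * b
  | 6 => c * a
  | 7 => a * b
  | _ => 1

/-- conjugation of a root element by a diagonal isometry -/
theorem tGL_mul_xGL (r : ℕ) (c a b a' b' : F) (hc : c * c = 1) (ha : a * a' = 1) (hb : b * b' = 1) (t : F) :
    tGL c a b a' b' hc ha hb * xGL r t = xGL r (chi r c a b a' b' * t) * tGL c a b a' b' hc ha hb := by
  by_cases hr : r < 8
  · apply gl_ext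
    intro v
    obtain ⟨z, p1, p2, q1, q2, rfl⟩ := exists_mk5 v
    interval_cases r <;>
      simp only [mulVec_mul, xGL_mulVec, tGL_mulVec, chi, xf_0, xf_1, xf_2, xf_3, xf_4, xf_5, xf_6, xf_7] <;>
      apply mk5_congr <;> grind
  · rw [xGL_of_ge r hr, xGL_of_ge r hr, mul_one, one_mul]

theorem tGL_conj_xGL (r : ℕ) (c a b a' b' : F) (hc : c * c = 1) (ha : a * a' = 1) (hb : b * b' = 1) (t : F) :
    tGL c a b a' b' hc ha hb * xGL r t * (tGL c a b a' b' hc ha hb)⁻¹ = xGL r (chi r c a b a' b' * t) := by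
  rw [tGL_mul_xGL, mul_inv_cancel_right]

theorem tGL_mul_tGL (c a b a' b' : F) (hc : c * c = 1) (ha : a * a' = 1) (hb : b * b' = 1)
    (c₂ a₂ b₂ a₂' b₂' : F) (hc₂ : c₂ * c₂ = 1) (ha₂ : a₂ * a₂' = 1) (hb₂ : b₂ * b₂' = 1) :
    tGL c a b a' b' hc ha hb * tGL c₂ a₂ b₂ a₂' b₂' hc₂ ha₂ hb₂ =
      tGL c₂ a₂ b₂ a₂' b₂' hc₂ ha₂ hb₂ * tGL c a b a' b' hc ha hb := by
  apply gl_ext
  intro v
  obtain ⟨z, p1, p2, q1, q2, rfl⟩ := exists_mk5 v
  simp only [mulVec_mul, tGL_mulVec]
  apply mk5_congr <;> ring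

instance subT5_comm : IsMulCommutative (subT5 F) := by
  unfold subT5
  apply Subgroup.isMulCommutative_closure
  rintro x ⟨c, a, b, a', b', hc, ha, hb, rfl⟩ y ⟨c₂, a₂, b₂, a₂', b₂', hc₂, ha₂, hb₂, rfl⟩
  exact tGL_mul_tGL _ _ _ _ _ _ _ _ _ _ _ _ _ _ _ _

/-- the generators normalise the group generated by the root elements -/
theorem conj_mem_subE5 (g : GL I5 F) (hg : g ∈ subM5 F) (x : GL I5 F) (hx : x ∈ subE5 F) :
    g * x * g⁻¹ ∈ subE5 F := by
  have key : ∀ g : GL I5 F, (∀ r < 8, ∀ t : F, g * xGL r t * g⁻¹ ∈ subE5 F) →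
      ∀ x ∈ subE5 F, g * x * g⁻¹ ∈ subE5 F := by
    intro g hgen x hx
    have hle : subE5 F ≤ (subE5 F).comap (MulAut.conj g).toMonoidHom := by
      unfold subE5
      rw [Subgroup.closure_le]
      rintro y ⟨r, hr, t, rfl⟩
      exact hgen r hr t
    exact hle hx
  let P : Subgroup (GL I5 F) :=
    { carrier := {g | (∀ x ∈ subE5 F, g * x * g⁻¹ ∈ subE5 F) ∧ (∀ x ∈ subE5 F, g⁻¹ * x * g ∈ subE5 F)}
      mul_mem' := by
        rintro g h ⟨hg1, hg2⟩ ⟨hh1, hh2⟩
        refine ⟨fun x hx => ?_, fun x hx => ?_⟩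
        · have := hg1 _ (hh1 x hx)
          rw [_root_.mul_inv_rev]
          simpa [mul_assoc] using this
        · have := hh2 _ (hg2 x hx)
          rw [_root_.mul_inv_rev]
          simpa [mul_assoc] using this
      one_mem' := by
        refine ⟨fun x hx => ?_, fun x hx => ?_⟩ <;> simpa using hx
      inv_mem' := by
        rintro g ⟨hg1, hg2⟩
        refine ⟨fun x hx => ?_, fun x hx => ?_⟩
        · rw [inv_inv]
          exact hg2 x hx
        · rw [inv_inv]
          exact hg1 x hx }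
  have hP : subM5 F ≤ P := by
    unfold subM5
    rw [Subgroup.closure_le]
    rintro g (⟨r, hr, t, rfl⟩ | ⟨c, a, b, a', b', hc, ha, hb, rfl⟩)
    · have h1 : xGL r t ∈ subE5 F := xGL_mem_subE5 r t
      exact ⟨fun x hx => mul_mem (mul_mem h1 hx) (inv_mem h1), fun x hx => mul_mem (mul_mem (inv_mem h1) hx) h1⟩
    · have h1 : ∀ (c a b a' b' : F) (hc : c * c = 1) (ha : a * a' = 1) (hb : b * b' = 1), ∀ x ∈ subE5 F,
          tGL c a b a' b' hc ha hb * x * (tGL c a b a' b' hc ha hb)⁻¹ ∈ subE5 F := by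
        intro c a b a' b' hc ha hb x hx
        apply key _ _ x hx
        intro r _ t
        rw [tGL_conj_xGL]
        exact xGL_mem_subE5 _ _
      refine ⟨h1 c a b a' b' hc ha hb, fun x hx => ?_⟩
      have := h1 c a' b' a b hc (by rw [mul_comm]; exact ha) (by rw [mul_comm]; exact hb) x hx
      rwa [← tGL_inv, inv_inv] at this
  exact (hP hg).1 x hx

/-- **the commutator subgroup of the orthogonal group lies in the group generated by the root elements** -/
theorem commutator_le_subE5 :
    commutator ↥(Cfsg.isometryGroup F (Cfsg.quadFormOdd 2 F)) ≤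
      (subE5 F).subgroupOf (Cfsg.isometryGroup F (Cfsg.quadFormOdd 2 F)) := by
  set GO := Cfsg.isometryGroup F (Cfsg.quadFormOdd 2 F) with hGO
  have hle : GO ≤ subM5 F := isometryGroup_le_subM5
  haveI hN : ((subE5 F).subgroupOf GO).Normal := by
    constructor
    intro x hx g
    rw [Subgroup.mem_subgroupOf] at hx ⊢
    rw [Subgroup.coe_mul, Subgroup.coe_mul, Subgroup.coe_inv]
    exact conj_mem_subE5 g.1 (hle g.2) x.1 hx
  have hsup : (subE5 F).subgroupOf GO ⊔ (subT5 F).subgroupOf GO = ⊤ := by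
    rw [eq_top_iff]
    have key : ∀ x (hx : x ∈ subM5 F), (⟨x, subM5_le hx⟩ : GO) ∈
        (subE5 F).subgroupOf GO ⊔ (subT5 F).subgroupOf GO := by
      intro x hx
      induction hx using Subgroup.closure_induction with
      | mem x hx =>
        rcases hx with hx | hx
        · apply Subgroup.mem_sup_left
          rw [Subgroup.mem_subgroupOf]
          exact Subgroup.subset_closure hx
        · apply Subgroup.mem_sup_right
          rw [Subgroup.mem_subgroupOf]
          exact Subgroup.subset_closure hx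
      | one => exact one_mem _
      | mul x y hx hy ihx ihy => exact mul_mem ihx ihy
      | inv x hx ih => exact inv_mem ih
    intro g _
    exact key g.1 (hle g.2)
  exact Subgroup.Normal.commutator_le_of_self_sup_commutative_eq_top hsup inferInstance

end Cfsg.Agent.Helper6.OrthB2
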