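import Mathlib
import Cfsg.Agent.Lib.Helper6.OrthB2Omega
import Cfsg.Agent.Lib.Helper6.StPres
import Cfsg.Agent.Lib.Helper6.CentralQuot
import Cfsg.Agent.S2395
import Cfsg.Agent.S1056

/-!
`B₂(F) ≅ PΩ₅(F)` for `|F| > 2`: the Steinberg cover of type `B₂` maps onto the subgroup of `O₅(F)` generated by the
root elements, which is the commutator subgroup; both this map and the map onto the Chevalley group have central
kernel.
-/

set_option autoImplicit false
set_option linter.unusedSectionVars false
set_option linter.unusedVariables false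

namespace Cfsg.Agent.Helper6.OrthB2

open Matrix Cfsg Cfsg.Lie Cfsg.Agent.Helper6.StC Cfsg.Agent.Lead.Chev

variable {F : Type*} [Field F]

/-- the root elements inside the isometry group -/
noncomputable def xG (r : ℕ) (t : F) : ↥(Cfsg.isometryGroup F (Cfsg.quadFormOdd 2 F)) :=
  ⟨xGL r t, xGL_mem r t⟩

theorem coe_wordG (w : List (ℕ × F)) :
    ((wordG (xG (F := F)) w : ↥(Cfsg.isometryGroup F (Cfsg.quadFormOdd 2 F))) : GL I5 F) = wordG xGL w := by
  induction w with
  | nil => rfl
  | cons q w ih =>
    rw [wordG_cons, wordG_cons, Subgroup.coe_mul, ih]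
    rfl

theorem stRel_xG : StRel chevB2 (xG (F := F)) where
  add := fun r hr t u => Subtype.ext (xGL_add r t u)
  comm := fun r hr s hs hsr hsn t u => by
    apply Subtype.ext
    rw [coe_wordG, ← xGL_comm r s hr hs hsr hsn t u]
    rfl

/-- the map on the generators -/
noncomputable def genMap (q : Fin chevB2.nroots × F) : ↥(Cfsg.isometryGroup F (Cfsg.quadFormOdd 2 F)) :=
  xG q.1.val q.2

theorem lift_stX (r : ℕ) (t : F) : FreeGroup.lift (genMap (F := F)) (chevB2.stX r t) = xG r t := by
  unfold ChevalleyDatum.stX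
  split_ifs with h
  · rw [FreeGroup.lift_apply_of]
    rfl
  · rw [map_one]
    apply Subtype.ext
    exact (xGL_of_ge r h t).symm

theorem lift_stWord (w : List (ℕ × F)) :
    FreeGroup.lift (genMap (F := F)) (chevB2.stWord w) = wordG xG w := by
  unfold ChevalleyDatum.stWord wordG
  rw [map_list_prod, List.map_map]
  congr 1
  apply List.map_congr_left
  intro q _
  exact lift_stX q.1 q.2

theorem lift_rel : ∀ g ∈ chevB2.steinbergRelsAB F, FreeGroup.lift (genMap (F := F)) g = 1 := by
  rintro g (⟨r, t₁, t₂, hr, rfl⟩ | ⟨r, s, t, u, hr, hs, hne, hne', rfl⟩)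
  · rw [map_mul, map_mul, map_inv, lift_stX, lift_stX, lift_stX, stRel_xG.add r hr, mul_inv_cancel]
  · rw [map_mul, map_mul, map_mul, map_mul, map_inv, map_inv, map_inv, lift_stX, lift_stX, lift_stWord,
      mul_inv_eq_one]
    exact stRel_xG.comm r hr s hs hne hne' t u

/-- the homomorphism from the Steinberg cover to the orthogonal group -/
noncomputable def phi : chevB2.SteinbergCover F →* ↥(Cfsg.isometryGroup F (Cfsg.quadFormOdd 2 F)) :=
  PresentedGroup.toGroup lift_rel

theorem phi_scGen (r : ℕ) (t : F) : phi (chevB2.scGen F r t) = xG r t := by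
  unfold phi ChevalleyDatum.scGen
  exact lift_stX r t

theorem hB2 : chevB2 ∈ [chevG2, chevB2, chevD4, chevF4, chevE6, chevE7, chevE8] := by simp

/-- the root elements for the two fundamental roots do not commute -/
theorem not_commute : (xG 5 (1 : F)) * xG 4 1 ≠ xG 4 1 * xG 5 1 := by
  intro h
  have h1 := congrArg (fun g : ↥(Cfsg.isometryGroup F (Cfsg.quadFormOdd 2 F)) =>
    ((g : GL I5 F).1 *ᵥ mk5 0 0 0 1 0) (Sum.inl ())) h
  simp only [xG, Subgroup.coe_mul, mulVec_mul, xGL_mulVec, xf_4, xf_5, mk5_z] at h1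
  have : (1 : F) = 0 := by linear_combination h1
  exact one_ne_zero this

/-- the image of `φ` lies in the commutator subgroup -/
theorem range_phi_le (hF : ∃ a : F, a ≠ 0 ∧ a ≠ 1) :
    (phi (F := F)).range ≤ commutator ↥(Cfsg.isometryGroup F (Cfsg.quadFormOdd 2 F)) := by
  have h1 : commutator (chevB2.SteinbergCover F) = ⊤ :=
    Cfsg.Agent.S2395.result chevB2 hB2 (fun _ => hF)
  rw [MonoidHom.range_eq_map, ← h1, commutator_def, Subgroup.map_commutator, commutator_def]
  exact Subgroup.commutator_mono le_top le_top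

/-- the commutator subgroup is the image of `φ` -/
theorem commutator_eq_range (hF : ∃ a : F, a ≠ 0 ∧ a ≠ 1) :
    commutator ↥(Cfsg.isometryGroup F (Cfsg.quadFormOdd 2 F)) = (phi (F := F)).range := by
  apply le_antisymm _ (range_phi_le hF)
  refine le_trans (commutator_le_subE5 (F := F)) ?_
  have key : ∀ y (hy : y ∈ subE5 F) (h : y ∈ Cfsg.isometryGroup F (Cfsg.quadFormOdd 2 F)),
      (⟨y, h⟩ : ↥(Cfsg.isometryGroup F (Cfsg.quadFormOdd 2 F))) ∈ (phi (F := F)).range := by
    intro y hy
    induction hy using Subgroup.closure_induction with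
    | mem y hy =>
      obtain ⟨r, hr, t, rfl⟩ := hy
      intro h
      exact ⟨chevB2.scGen F r t, phi_scGen r t⟩
    | one => exact fun _ => one_mem _
    | mul x y hx hy ihx ihy =>
      intro h
      have hx' := subM5_le (subE5_le_subM5 hx)
      have hy' := subM5_le (subE5_le_subM5 hy)
      exact mul_mem (ihx hx') (ihy hy')
    | inv x hx ih =>
      intro h
      have hx' := subM5_le (subE5_le_subM5 hx)
      exact inv_mem (ih hx')
  intro g hg
  rw [Subgroup.mem_subgroupOf] at hg
  exact key g.1 hg g.2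

/-- **`B₂(F) ≅ PΩ₅(F)`** -/
theorem nonempty_equiv (hF' : ∃ a : F, a ≠ 0 ∧ a ≠ 1) :
    Nonempty (↥(chevB2.group F) ≃* Cfsg.POmega F (Cfsg.quadFormOdd 2 F)) := by
  have hF := chevFacts_of_mem (F := F) chevB2 hB2
  have hlift := lift_relAB hF
  set θ := thetaG hB2 (chevB2.steinbergRelsAB F) hlift with hθ
  have hsurj : Function.Surjective θ := thetaG_surjective hB2 _ hlift
  have hker : θ.ker = Subgroup.center (chevB2.SteinbergCover F) :=
    le_antisymm (thetaG_ker_le hB2 _ (fun _ h => h) hlift) (center_le_ker hB2 _ hlift)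
  obtain ⟨hsimple, hnc⟩ := Cfsg.Agent.S1056.result (F := F) hF'
  have hcen : Subgroup.center ↥(chevB2.group F) = ⊥ := by
    rcases (inferInstance : (Subgroup.center ↥(chevB2.group F)).Normal).eq_bot_or_eq_top with h | h
    · exact h
    · exfalso
      apply hnc
      constructor
      constructor
      intro a b
      have ha : a ∈ Subgroup.center ↥(chevB2.group F) := by
        rw [h]
        trivial
      exact (Subgroup.mem_center_iff.1 ha b).symm
  have hle : (phi (F := F)).ker ≤ θ.ker :=
    Cfsg.Agent.Helper6.CQ.ker_le_ker θ hsurj (le_of_eq hker) phi (chevB2.scGen F 5 1) (chevB2.scGen F 4 1)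
      (by rw [phi_scGen, phi_scGen]; exact not_commute)
  have h1 := Cfsg.Agent.Helper6.CQ.nonempty_equiv θ hsurj hker hcen phi hle
  unfold Cfsg.POmega Cfsg.Omega
  rw [commutator_eq_range hF']
  exact h1

end Cfsg.Agent.Helper6.OrthB2
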