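import Mathlib
import Cfsg.Agent.Lib.Lead.ChevOrbitData
import Cfsg.Agent.Lib.Lead.ChevWeylTab
import Cfsg.Prelude.Def_ChevAutomorphisms

/-!
The symmetries of the Dynkin diagrams by exhaustive search, and the check that the permutation of the roots induced by
a symmetry preserves the signs of the roots.
-/

set_option autoImplicit false
set_option linter.unusedSectionVars false
set_option linter.unusedVariables false

namespace Cfsg.Agent.Helper6.OutSym

open Cfsg Cfsg.Lie Cfsg.Agent.Lead.Chev

/-- may the partial assignment `acc` (images of `0, …, acc.length - 1`) be extended by `a`? -/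
def okExt (B : ℕ → ℕ → ℤ) (acc : List ℕ) (a : ℕ) : Bool :=
  !acc.contains a && (List.range acc.length).all fun j => B a (acc.getD j 0) == B acc.length j

/-- all the extensions of a partial assignment to a full one compatible with `B` -/
def symSearch (B : ℕ → ℕ → ℤ) (n : ℕ) : ℕ → List ℕ → List (List ℕ)
  | 0, acc => [acc]
  | fuel + 1, acc =>
    (List.range n).flatMap fun a => if okExt B acc a then symSearch B n fuel (acc ++ [a]) else []

/-- the list of values of a permutation -/
def permList {n : ℕ} (π : Equiv.Perm (Fin n)) : List ℕ := List.ofFn fun i => ((π i : Fin n) : ℕ)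

theorem permList_length {n : ℕ} (π : Equiv.Perm (Fin n)) : (permList π).length = n := by
  unfold permList
  rw [List.length_ofFn]

theorem permList_getD {n : ℕ} (π : Equiv.Perm (Fin n)) (i : Fin n) :
    (permList π).getD i.val 0 = ((π i : Fin n) : ℕ) := by
  unfold permList
  rw [List.getD_eq_getElem?_getD, List.getElem?_ofFn]
  simp [i.2]

theorem mem_symSearch {n : ℕ} (B : ℕ → ℕ → ℤ) (π : Equiv.Perm (Fin n))
    (hπ : ∀ i j : Fin n, i ≠ j → B (π i) (π j) = B i j) (fuel k : ℕ) (hk : fuel + k = n) :
    permList π ∈ symSearch B n fuel ((permList π).take k) := by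
  induction fuel generalizing k with
  | zero =>
    have hkn : k = n := by omega
    subst hkn
    unfold symSearch
    rw [List.take_of_length_le (by rw [permList_length])]
    exact List.mem_singleton_self _
  | succ fuel ih =>
    have hkn : k < n := by omega
    unfold symSearch
    rw [List.mem_flatMap]
    refine ⟨((π ⟨k, hkn⟩ : Fin n) : ℕ), List.mem_range.2 (π ⟨k, hkn⟩).2, ?_⟩
    have hlen : ((permList π).take k).length = k := by
      rw [List.length_take, permList_length]
      omega
    have hget : ∀ j, (hj : j < k) → ((permList π).take k).getD j 0 = ((π ⟨j, by omega⟩ : Fin n) : ℕ) := by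
      intro j hj
      rw [List.getD_eq_getElem?_getD, List.getElem?_take, if_pos hj, ← List.getD_eq_getElem?_getD]
      exact permList_getD π ⟨j, by omega⟩
    have hok : okExt B ((permList π).take k) ((π ⟨k, hkn⟩ : Fin n) : ℕ) = true := by
      unfold okExt
      rw [Bool.and_eq_true]
      constructor
      · rw [Bool.not_eq_true', ← Bool.not_eq_true, List.contains_iff_mem]
        intro hmem
        rw [List.mem_iff_getElem] at hmem
        obtain ⟨j, hj, hje⟩ := hmem
        rw [hlen] at hj
        have h1 := hget j hj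
        rw [List.getD_eq_getElem?_getD, List.getElem?_eq_getElem (by rw [hlen]; exact hj)] at h1
        simp only [Option.getD_some] at h1
        rw [hje] at h1
        have h2 : (⟨k, hkn⟩ : Fin n) = ⟨j, by omega⟩ := π.injective (Fin.ext h1)
        have h3 : k = j := congrArg Fin.val h2
        omega
      · rw [List.all_eq_true]
        intro j hj
        rw [List.mem_range, hlen] at hj
        rw [hlen, hget j hj, beq_iff_eq]
        apply hπ
        intro h
        have := congrArg Fin.val h
        simp at this
        omega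
    rw [if_pos hok]
    have htake : (permList π).take k ++ [((π ⟨k, hkn⟩ : Fin n) : ℕ)] = (permList π).take (k + 1) := by
      rw [List.take_add_one, List.getElem?_eq_getElem (by rw [permList_length]; exact hkn)]
      simp only [Option.toList_some]
      congr 2
      have h1 := permList_getD π ⟨k, hkn⟩
      rw [List.getD_eq_getElem?_getD, List.getElem?_eq_getElem (by rw [permList_length]; exact hkn)] at h1
      simpa using h1.symm
    rw [htake]
    exact ih (k + 1) (by omega)

/-- the table of the numbers of bonds -/
def bondsT (D : ChevalleyDatum) : ℕ → ℕ → ℤ := fun i j => D.bonds i j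

theorem permList_mem_symSearch (D : ChevalleyDatum) (π : Equiv.Perm (Fin D.rank)) (hπ : D.IsDiagramSymmetry π) :
    permList π ∈ symSearch (bondsT D) D.rank D.rank [] := by
  have := mem_symSearch (bondsT D) π (fun i j hij => hπ i j hij) D.rank 0 (by omega)
  rwa [List.take_zero] at this

/-- the sign check of the permutation of the roots induced by a symmetry -/
def permChk (D : ChevalleyDatum) (Ws : List ℕ) (cert : List (ℕ × List ℕ)) (L : List ℕ) : Bool :=
  (List.range D.nroots).all fun r =>
    (!decide (D.IsPosRoot r) || decide (D.IsPosRoot (reflWordP Ws ((cert.getD r (0, [])).2.map fun j => L.getD j 0)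
      (D.simple (L.getD (cert.getD r (0, [])).1 0))))) &&
    (!decide (D.IsNegRoot r) || decide (D.IsNegRoot (reflWordP Ws ((cert.getD r (0, [])).2.map fun j => L.getD j 0)
      (D.simple (L.getD (cert.getD r (0, [])).1 0)))))

/-- the symmetries of the seven diagrams -/
theorem sym_G2 : symSearch (bondsT chevG2) chevG2.rank chevG2.rank [] = [[0, 1], [1, 0]] := by decide +kernel
theorem sym_B2 : symSearch (bondsT chevB2) chevB2.rank chevB2.rank [] = [[0, 1], [1, 0]] := by decide +kernel
theorem sym_D4 : symSearch (bondsT chevD4) chevD4.rank chevD4.rank [] =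
    [[0, 1, 2, 3], [0, 1, 3, 2], [2, 1, 0, 3], [2, 1, 3, 0], [3, 1, 0, 2], [3, 1, 2, 0]] := by decide +kernel
theorem sym_F4 : symSearch (bondsT chevF4) chevF4.rank chevF4.rank [] = [[0, 1, 2, 3], [3, 2, 1, 0]] := by
  decide +kernel
theorem sym_E6 : symSearch (bondsT chevE6) chevE6.rank chevE6.rank [] =
    [[0, 1, 2, 3, 4, 5], [5, 1, 4, 3, 2, 0]] := by decide +kernel
theorem sym_E7 : symSearch (bondsT chevE7) chevE7.rank chevE7.rank [] = [[0, 1, 2, 3, 4, 5, 6]] := by
  decide +kernel
theorem sym_E8 : symSearch (bondsT chevE8) chevE8.rank chevE8.rank [] = [[0, 1, 2, 3, 4, 5, 6, 7]] := by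
  decide +kernel

/-- the sign checks -/
theorem permOK_G2 : ([[0, 1], [1, 0]] : List (List ℕ)).all (permChk chevG2 commWs_G2 orbCert_G2) = true := by
  decide +kernel
theorem permOK_B2 : ([[0, 1], [1, 0]] : List (List ℕ)).all (permChk chevB2 commWs_B2 orbCert_B2) = true := by
  decide +kernel
theorem permOK_D4 : ([[0, 1, 2, 3], [0, 1, 3, 2], [2, 1, 0, 3], [2, 1, 3, 0], [3, 1, 0, 2], [3, 1, 2, 0]] :
    List (List ℕ)).all (permChk chevD4 commWs_D4 orbCert_D4) = true := by decide +kernel
theorem permOK_F4 : ([[0, 1, 2, 3], [3, 2, 1, 0]] : List (List ℕ)).all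
    (permChk chevF4 commWs_F4 orbCert_F4) = true := by decide +kernel
theorem permOK_E6 : ([[0, 1, 2, 3, 4, 5], [5, 1, 4, 3, 2, 0]] : List (List ℕ)).all
    (permChk chevE6 commWs_E6 orbCert_E6) = true := by decide +kernel
theorem permOK_E7 : ([[0, 1, 2, 3, 4, 5, 6]] : List (List ℕ)).all
    (permChk chevE7 commWs_E7 orbCert_E7) = true := by decide +kernel
theorem permOK_E8 : ([[0, 1, 2, 3, 4, 5, 6, 7]] : List (List ℕ)).all
    (permChk chevE8 commWs_E8 orbCert_E8) = true := by decide +kernel

/-- the orbit certificates of the seven data -/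
def certOf (D : ChevalleyDatum) : List (ℕ × List ℕ) :=
  if D.nroots = 12 then orbCert_G2 else if D.nroots = 8 then orbCert_B2 else if D.nroots = 24 then orbCert_D4
  else if D.nroots = 48 then orbCert_F4 else if D.nroots = 72 then orbCert_E6
  else if D.nroots = 126 then orbCert_E7 else orbCert_E8

theorem orbOK_of_mem (D : ChevalleyDatum)
    (hD : D ∈ [chevG2, chevB2, chevD4, chevF4, chevE6, chevE7, chevE8]) :
    ∀ r < D.nroots, orbChk D (wsOf D) (certOf D) r = true := by
  simp only [List.mem_cons, List.mem_nil_iff, or_false] at hD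
  rcases hD with rfl | rfl | rfl | rfl | rfl | rfl | rfl
  · exact orbOK_G2
  · exact orbOK_B2
  · exact orbOK_D4
  · exact orbOK_F4
  · exact orbOK_E6
  · exact orbOK_E7
  · exact orbOK_E8

theorem permChk_of_mem (D : ChevalleyDatum)
    (hD : D ∈ [chevG2, chevB2, chevD4, chevF4, chevE6, chevE7, chevE8])
    (π : Equiv.Perm (Fin D.rank)) (hπ : D.IsDiagramSymmetry π) :
    permChk D (wsOf D) (certOf D) (permList π) = true := by
  have h1 := permList_mem_symSearch D π hπ
  simp only [List.mem_cons, List.mem_nil_iff, or_false] at hD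
  rcases hD with rfl | rfl | rfl | rfl | rfl | rfl | rfl
  · rw [sym_G2] at h1
    exact List.all_eq_true.1 permOK_G2 _ h1
  · rw [sym_B2] at h1
    exact List.all_eq_true.1 permOK_B2 _ h1
  · rw [sym_D4] at h1
    exact List.all_eq_true.1 permOK_D4 _ h1
  · rw [sym_F4] at h1
    exact List.all_eq_true.1 permOK_F4 _ h1
  · rw [sym_E6] at h1
    exact List.all_eq_true.1 permOK_E6 _ h1
  · rw [sym_E7] at h1
    exact List.all_eq_true.1 permOK_E7 _ h1
  · rw [sym_E8] at h1
    exact List.all_eq_true.1 permOK_E8 _ h1

end Cfsg.Agent.Helper6.OutSym
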