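import Mathlib
import Cfsg.Agent.Lib.Helper6.OutSym
import Cfsg.Agent.Lib.Helper6.AutPerm
import Cfsg.Agent.Lib.Lead.ChevFactsAll

/-!
A graph automorphism maps `U` onto `U` and `V` onto `V`.
-/

set_option autoImplicit false
set_option linter.unusedSectionVars false
set_option linter.unusedVariables false

namespace Cfsg.Agent.Helper6.OutGraph

open Cfsg Cfsg.Lie Cfsg.Agent.Lead.Chev Cfsg.Agent.Helper6.AutPerm Cfsg.Agent.Helper6.OutSym

variable {F : Type*} [Field F] {D : ChevalleyDatum}

/-- `g` is the graph automorphism of the symmetry `π` -/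
def GraphWith (D : ChevalleyDatum) (g : ↥(D.group F) ≃* ↥(D.group F)) (π : Equiv.Perm (Fin D.rank)) : Prop :=
  ∀ (y : ↥(D.group F)) (i : Fin D.rank) (t : F),
    (((y : GL D.Idx F) : Matrix D.Idx D.Idx F) = D.x F (D.simple i) t →
      ((g y : GL D.Idx F) : Matrix D.Idx D.Idx F) =
        D.x F (D.simple (π i)) (t ^ D.graphExp (ringChar F) i (π i))) ∧
    (((y : GL D.Idx F) : Matrix D.Idx D.Idx F) = D.x F (D.neg (D.simple i)) t →
      ((g y : GL D.Idx F) : Matrix D.Idx D.Idx F) =
        D.x F (D.neg (D.simple (π i))) (t ^ D.graphExp (ringChar F) i (π i)))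

theorem isGraphAut_iff (g : ↥(D.group F) ≃* ↥(D.group F)) :
    D.IsGraphAut g ↔ ∃ π : Equiv.Perm (Fin D.rank), D.IsDiagramSymmetry π ∧ GraphWith D g π := Iff.rfl

theorem graphExp_cases (c i j : ℕ) : D.graphExp c i j = 1 ∨ D.graphExp c i j = c := by
  unfold ChevalleyDatum.graphExp
  split_ifs
  · exact Or.inr rfl
  · exact Or.inl rfl

theorem neg_one_pow_graphExp [Finite F] (i j : ℕ) :
    (-1 : F) ^ D.graphExp (ringChar F) i j = -1 := by
  have : CharP F (ringChar F) := ringChar.charP F
  have : Fact (ringChar F).Prime := ⟨CharP.char_is_prime F _⟩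
  rcases graphExp_cases (D := D) (ringChar F) i j with h | h
  · rw [h, pow_one]
  · rw [h]
    exact neg_one_pow_char F (ringChar F)

/-- the symmetry on indices -/
def permN (π : Equiv.Perm (Fin D.rank)) (j : ℕ) : ℕ := (permList π).getD j 0

theorem permN_fin (π : Equiv.Perm (Fin D.rank)) (j : Fin D.rank) : permN π j = ((π j : Fin D.rank) : ℕ) :=
  permList_getD π j

theorem permN_lt (π : Equiv.Perm (Fin D.rank)) (j : ℕ) (hj : j < D.rank) : permN π j < D.rank := by
  rw [permN_fin π ⟨j, hj⟩]
  exact (π ⟨j, hj⟩).2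

section

variable (hF : ChevFacts D F)
include hF

/-- the subgroup of the group generated by the root elements of the roots with a property -/
theorem subgroupOf_closure_eq (P : ℕ → Prop) :
    (Subgroup.closure {g : GL D.Idx F | ∃ (r : ℕ) (t : F), P r ∧
      (g : Matrix D.Idx D.Idx F) = D.x F r t}).subgroupOf (D.group F) =
      Subgroup.closure {y : ↥(D.group F) | ∃ (r : ℕ) (t : F), P r ∧ y = xG hF r t} := by
  have hle : Subgroup.closure {g : GL D.Idx F | ∃ (r : ℕ) (t : F), P r ∧
      (g : Matrix D.Idx D.Idx F) = D.x F r t} ≤ D.group F := by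
    rw [Subgroup.closure_le]
    rintro g ⟨r, t, -, hg⟩
    have : g = xGL D hF.xadd r t := Units.ext hg
    rw [this]
    exact xGL_mem_group D hF.xadd r t
  apply Subgroup.map_injective (D.group F).subtype_injective
  rw [Subgroup.map_subgroupOf_eq_of_le hle, MonoidHom.map_closure]
  congr 1
  ext g
  constructor
  · rintro ⟨r, t, hr, hg⟩
    refine ⟨xG hF r t, ⟨r, t, hr, rfl⟩, ?_⟩
    apply Units.ext
    rw [hg]
    rfl
  · rintro ⟨y, ⟨r, t, hr, rfl⟩, rfl⟩
    exact ⟨r, t, hr, rfl⟩

theorem posUnipotentOf_eq :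
    (D.posUnipotent F).subgroupOf (D.group F) =
      Subgroup.closure {y : ↥(D.group F) | ∃ (r : ℕ) (t : F), D.IsPosRoot r ∧ y = xG hF r t} :=
  subgroupOf_closure_eq hF D.IsPosRoot

theorem negUnipotentOf_eq :
    (D.negUnipotent F).subgroupOf (D.group F) =
      Subgroup.closure {y : ↥(D.group F) | ∃ (r : ℕ) (t : F), D.IsNegRoot r ∧ y = xG hF r t} :=
  subgroupOf_closure_eq hF D.IsNegRoot

/-- a word in the fundamental reflections as an element of the group -/
def nWordG (w : List ℕ) : ↥(D.group F) := ⟨nWordGL D hF.xadd w, nWordGL_mem_group D hF.xadd w⟩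

theorem nWordG_nil : nWordG hF [] = 1 := Subtype.ext (nWordGL_nil D hF.xadd)

theorem nWordG_cons (i : ℕ) (w : List ℕ) : nWordG hF (i :: w) = nG hF i * nWordG hF w :=
  Subtype.ext (nWordGL_cons D hF.xadd i w)

theorem nG_eq (i : ℕ) :
    nG hF i = xG hF (D.simple i) 1 * (xG hF (D.neg (D.simple i)) (-1⁻¹) * xG hF (D.simple i) 1) := by
  apply Subtype.ext
  show nGL D hF.xadd (D.simple i) = _
  unfold nGL ChevalleyDatum.nWord
  rw [wordGL_cons, wordGL_cons, wordGL_cons, wordGL_nil, mul_one]
  rfl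

theorem graphWith_xG {g : ↥(D.group F) ≃* ↥(D.group F)} {π : Equiv.Perm (Fin D.rank)}
    (hg : GraphWith D g π) (i : Fin D.rank) (t : F) :
    g (xG hF (D.simple i) t) = xG hF (D.simple (π i)) (t ^ D.graphExp (ringChar F) i (π i)) ∧
    g (xG hF (D.neg (D.simple i)) t) =
      xG hF (D.neg (D.simple (π i))) (t ^ D.graphExp (ringChar F) i (π i)) := by
  constructor
  · apply Subtype.ext
    apply Units.ext
    exact (hg (xG hF (D.simple i) t) i t).1 rfl
  · apply Subtype.ext
    apply Units.ext
    exact (hg (xG hF (D.neg (D.simple i)) t) i t).2 rfl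

theorem graphWith_nG [Finite F] {g : ↥(D.group F) ≃* ↥(D.group F)} {π : Equiv.Perm (Fin D.rank)}
    (hg : GraphWith D g π) (i : Fin D.rank) : g (nG hF i) = nG hF (π i) := by
  rw [nG_eq, nG_eq, map_mul, map_mul, (graphWith_xG hF hg i _).1, (graphWith_xG hF hg i _).2,
    one_pow, inv_one, neg_one_pow_graphExp]

theorem graphWith_nWordG [Finite F] {g : ↥(D.group F) ≃* ↥(D.group F)} {π : Equiv.Perm (Fin D.rank)}
    (hg : GraphWith D g π) (w : List ℕ) (hw : ∀ j ∈ w, j < D.rank) :
    g (nWordG hF w) = nWordG hF (w.map (permN π)) := by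
  induction w with
  | nil => rw [List.map_nil, nWordG_nil, map_one]
  | cons i w ih =>
    have hi := hw i List.mem_cons_self
    rw [List.map_cons, nWordG_cons, nWordG_cons, map_mul, ih fun j hj => hw j (List.mem_cons_of_mem _ hj)]
    congr 1
    have := graphWith_nG hF hg ⟨i, hi⟩
    rw [this, permN_fin π ⟨i, hi⟩]

/-- conjugation of a root element by a word, inside the group -/
theorem nWordG_conj (w : List ℕ) (hw : ∀ j ∈ w, j < D.rank) (s : ℕ) (hs : s < D.nroots) (t : F) :
    nWordG hF w * xG hF s t * (nWordG hF w)⁻¹ =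
      xG hF (reflWord D w s) (((signWord D (etaOf D) w s : ℤ) : F) * t) :=
  Subtype.ext (nWordGL_conj D hF.xadd (etaOf D) hF.nsimple w hw s hs t)

theorem signWord_mul_self (w : List ℕ) (hw : ∀ j ∈ w, j < D.rank) (s : ℕ) :
    ((signWord D (etaOf D) w s : ℤ) : F) * ((signWord D (etaOf D) w s : ℤ) : F) = 1 := by
  rcases signWord_sq D (etaOf D) w (fun j hj s => (hF.nsimple j (hw j hj)).sign s) s with h | h
  · rw [h]; simp
  · rw [h]; simp

/-- the image of a root element under a graph automorphism -/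
theorem graphWith_root [Finite F] {g : ↥(D.group F) ≃* ↥(D.group F)} {π : Equiv.Perm (Fin D.rank)}
    (hg : GraphWith D g π) (i : Fin D.rank) (w : List ℕ) (hw : ∀ j ∈ w, j < D.rank) (t : F) :
    ∃ s : F, g (xG hF (reflWord D w (D.simple i)) t) =
      xG hF (reflWord D (w.map (permN π)) (D.simple (π i))) s := by
  have hw' : ∀ j ∈ w.map (permN π), j < D.rank := by
    intro a ha
    rw [List.mem_map] at ha
    obtain ⟨b, hb, rfl⟩ := ha
    exact permN_lt π b (hw b hb)
  set ε := ((signWord D (etaOf D) w (D.simple i) : ℤ) : F) with hε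
  have h1 : xG hF (reflWord D w (D.simple i)) t =
      nWordG hF w * xG hF (D.simple i) (ε * t) * (nWordG hF w)⁻¹ := by
    rw [nWordG_conj hF w hw _ (hF.simple_lt i i.2), ← mul_assoc, ← hε,
      signWord_mul_self hF w hw (D.simple i), one_mul]
  rw [h1, map_mul, map_mul, map_inv, graphWith_nWordG hF hg w hw, (graphWith_xG hF hg i _).1,
    nWordG_conj hF _ hw' _ (hF.simple_lt _ (π i).2)]
  exact ⟨_, rfl⟩

end

variable [Finite F]

/-- a graph automorphism maps `U` onto `U` and `V` onto `V` -/
theorem graphWith_map (hD : D ∈ [chevG2, chevB2, chevD4, chevF4, chevE6, chevE7, chevE8])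
    {g : ↥(D.group F) ≃* ↥(D.group F)} {π : Equiv.Perm (Fin D.rank)}
    (hπ : D.IsDiagramSymmetry π) (hg : GraphWith D g π) :
    ((D.posUnipotent F).subgroupOf (D.group F)).map g.toMonoidHom =
        (D.posUnipotent F).subgroupOf (D.group F) ∧
      ((D.negUnipotent F).subgroupOf (D.group F)).map g.toMonoidHom =
        (D.negUnipotent F).subgroupOf (D.group F) := by
  have hF : ChevFacts D F := chevFacts_of_mem D hD
  have hchk := permChk_of_mem D hD π hπ
  have horb := orbOK_of_mem D hD
  have hWs := wsTab_of_mem D hD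
  -- the image of a root element
  have key : ∀ r < D.nroots, ∃ r', (D.IsPosRoot r → D.IsPosRoot r') ∧ (D.IsNegRoot r → D.IsNegRoot r') ∧
      ∀ t : F, ∃ s : F, g (xG hF r t) = xG hF r' s := by
    intro r hr
    have h1 := horb r hr
    simp only [orbChk, Bool.and_eq_true, decide_eq_true_eq, List.all_eq_true] at h1
    obtain ⟨⟨hi, hw⟩, he⟩ := h1
    set i := ((certOf D).getD r (0, [])).1 with hi'
    set w := ((certOf D).getD r (0, [])).2 with hw'
    rw [reflWordP_eq D (etaOf D) hF.facts (wsOf D) hWs w hw _ (hF.simple_lt i hi)] at he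
    have hwπ : ∀ j ∈ w.map (permN π), j < D.rank := by
      intro a ha
      rw [List.mem_map] at ha
      obtain ⟨b, hb, rfl⟩ := ha
      exact permN_lt π b (hw b hb)
    have h2 := List.all_eq_true.1 hchk r (List.mem_range.2 hr)
    simp only [Bool.and_eq_true, Bool.or_eq_true, Bool.not_eq_true', decide_eq_false_iff_not,
      decide_eq_true_eq] at h2
    have e1 : (permList π).getD i 0 = ((π ⟨i, hi⟩ : Fin D.rank) : ℕ) := permList_getD π ⟨i, hi⟩
    have e2 : reflWordP (wsOf D) (List.map (fun j => (permList π).getD j 0) w)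
        (D.simple ((permList π).getD i 0)) =
        reflWord D (w.map (permN π)) (D.simple (π ⟨i, hi⟩)) := by
      rw [e1]
      exact reflWordP_eq D (etaOf D) hF.facts (wsOf D) hWs _ hwπ _ (hF.simple_lt _ (π ⟨i, hi⟩).2)
    rw [← hi', ← hw', e2] at h2
    refine ⟨reflWord D (w.map (permN π)) (D.simple (π ⟨i, hi⟩)), ?_, ?_, ?_⟩
    · intro hp
      rcases h2.1 with h3 | h3
      · exact absurd hp h3
      · exact h3
    · intro hp
      rcases h2.2 with h3 | h3
      · exact absurd hp h3
      · exact h3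
    · intro t
      have := graphWith_root hF hg ⟨i, hi⟩ w hw t
      rw [he] at this
      exact this
  have : Finite ↥(D.group F) := inferInstance
  constructor
  · apply Subgroup.eq_of_le_of_card_ge
    · rw [posUnipotentOf_eq hF, MonoidHom.map_closure, Subgroup.closure_le]
      rintro y ⟨y', ⟨r, t, hr, rfl⟩, rfl⟩
      obtain ⟨r', hp, -, hx⟩ := key r hr.1
      obtain ⟨s, hs⟩ := hx t
      show g (xG hF r t) ∈ _
      rw [hs]
      apply Subgroup.subset_closure
      exact ⟨r', s, hp hr, rfl⟩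
    · rw [Subgroup.card_map_of_injective g.injective]
  · apply Subgroup.eq_of_le_of_card_ge
    · rw [negUnipotentOf_eq hF, MonoidHom.map_closure, Subgroup.closure_le]
      rintro y ⟨y', ⟨r, t, hr, rfl⟩, rfl⟩
      obtain ⟨r', -, hp, hx⟩ := key r hr.1
      obtain ⟨s, hs⟩ := hx t
      show g (xG hF r t) ∈ _
      rw [hs]
      apply Subgroup.subset_closure
      exact ⟨r', s, hp hr, rfl⟩
    · rw [Subgroup.card_map_of_injective g.injective]

end Cfsg.Agent.Helper6.OutGraph
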