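import Mathlib
import Cfsg.Agent.Lib.Helper6.OutGraph
import Cfsg.Agent.Lib.Helper6.AutData
import Cfsg.Agent.Lib.Helper6.AutDiag
import Cfsg.Agent.Lib.Helper6.AutSigma
import Cfsg.Agent.Lib.Helper6.AutTorus
import Cfsg.Agent.Lib.Lead.ChevHCard
import Cfsg.Agent.Lib.Helper11.ChevSimpleGen

/-!
The decomposition of an automorphism into a diagonal, a graph and a field automorphism is unique up to the diagonal
subgroup.
-/

set_option autoImplicit false
set_option linter.unusedSectionVars false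
set_option linter.unusedVariables false

namespace Cfsg.Agent.Helper6.OutUniq

open Cfsg Cfsg.Lie Cfsg.Agent.Lead.Chev Cfsg.Agent.Helper6.AutPerm Cfsg.Agent.Helper6.OutSym
  Cfsg.Agent.Helper6.OutGraph Cfsg.Agent.Helper6.AutRoot Cfsg.Agent.Helper6.AutData

variable {F : Type*} [Field F] {D : ChevalleyDatum}

/-- `θ` maps `U` onto `U` and `V` onto `V` -/
def FixUV (D : ChevalleyDatum) (θ : ↥(D.group F) ≃* ↥(D.group F)) : Prop :=
  ((D.posUnipotent F).subgroupOf (D.group F)).map θ.toMonoidHom = (D.posUnipotent F).subgroupOf (D.group F) ∧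
    ((D.negUnipotent F).subgroupOf (D.group F)).map θ.toMonoidHom = (D.negUnipotent F).subgroupOf (D.group F)

theorem fixUV_trans {θ₁ θ₂ : ↥(D.group F) ≃* ↥(D.group F)} (h₁ : FixUV D θ₁) (h₂ : FixUV D θ₂) :
    FixUV D (θ₁.trans θ₂) := by
  constructor
  · have : ((D.posUnipotent F).subgroupOf (D.group F)).map (θ₁.trans θ₂).toMonoidHom =
        (((D.posUnipotent F).subgroupOf (D.group F)).map θ₁.toMonoidHom).map θ₂.toMonoidHom := by
      rw [Subgroup.map_map]; rfl
    rw [this, h₁.1, h₂.1]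
  · have : ((D.negUnipotent F).subgroupOf (D.group F)).map (θ₁.trans θ₂).toMonoidHom =
        (((D.negUnipotent F).subgroupOf (D.group F)).map θ₁.toMonoidHom).map θ₂.toMonoidHom := by
      rw [Subgroup.map_map]; rfl
    rw [this, h₁.2, h₂.2]

theorem fixUV_symm {θ : ↥(D.group F) ≃* ↥(D.group F)} (h : FixUV D θ) : FixUV D θ.symm :=
  ⟨map_symm_of_map θ _ _ h.1, map_symm_of_map θ _ _ h.2⟩

section

variable (hF : ChevFacts D F)
include hF

/-- an automorphism mapping every root subgroup into itself fixes `U` and `V` -/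
theorem fixUV_of_root [Finite F] (θ : ↥(D.group F) ≃* ↥(D.group F))
    (h : ∀ r < D.nroots, ∀ t : F, ∃ s : F, θ (xG hF r t) = xG hF r s) : FixUV D θ := by
  have : Finite ↥(D.group F) := inferInstance
  constructor
  · apply Subgroup.eq_of_le_of_card_ge
    · rw [posUnipotentOf_eq hF, MonoidHom.map_closure, Subgroup.closure_le]
      rintro y ⟨y', ⟨r, t, hr, rfl⟩, rfl⟩
      obtain ⟨s, hs⟩ := h r hr.1 t
      show θ (xG hF r t) ∈ _
      rw [hs]
      exact Subgroup.subset_closure ⟨r, s, hr, rfl⟩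
    · rw [Subgroup.card_map_of_injective θ.injective]
  · apply Subgroup.eq_of_le_of_card_ge
    · rw [negUnipotentOf_eq hF, MonoidHom.map_closure, Subgroup.closure_le]
      rintro y ⟨y', ⟨r, t, hr, rfl⟩, rfl⟩
      obtain ⟨s, hs⟩ := h r hr.1 t
      show θ (xG hF r t) ∈ _
      rw [hs]
      exact Subgroup.subset_closure ⟨r, s, hr, rfl⟩
    · rw [Subgroup.card_map_of_injective θ.injective]

/-- two automorphisms agreeing on the fundamental root elements and their negatives are equal -/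
theorem ext_simple (θ₁ θ₂ : ↥(D.group F) ≃* ↥(D.group F))
    (h₁ : ∀ (i : Fin D.rank) (t : F), θ₁ (xG hF (D.simple i) t) = θ₂ (xG hF (D.simple i) t))
    (h₂ : ∀ (i : Fin D.rank) (t : F), θ₁ (xG hF (D.neg (D.simple i)) t) = θ₂ (xG hF (D.neg (D.simple i)) t)) :
    θ₁ = θ₂ := by
  have h : θ₁.toMonoidHom = θ₂.toMonoidHom := by
    apply MonoidHom.eq_of_eqOn_dense
    · exact Cfsg.Agent.Helper11.ChevGen.closure_simpleGenSet D hF
    · rintro y ⟨i, t, hy | hy⟩
      · have : y = xG hF (D.simple i) t := Subtype.ext (Units.ext hy)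
        rw [this]
        exact h₁ i t
      · have : y = xG hF (D.neg (D.simple i)) t := Subtype.ext (Units.ext hy)
        rw [this]
        exact h₂ i t
  apply MulEquiv.ext
  intro y
  exact DFunLike.congr_fun h y

/-- the action of a diagonal automorphism on the root elements -/
theorem diag_xG (hD : D ∈ [chevG2, chevB2, chevD4, chevF4, chevE6, chevE7, chevE8])
    (d : ↥(D.group F) ≃* ↥(D.group F)) (χ : ℕ → Fˣ) (hχ : D.IsRootCharacter χ)
    (hd : ∀ g : ↥(D.group F), ((d g : GL D.Idx F) : Matrix D.Idx D.Idx F) =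
      D.charDiag F χ * ((g : GL D.Idx F) : Matrix D.Idx D.Idx F) * D.charDiag F (fun r => (χ r)⁻¹))
    (r : ℕ) (hr : r < D.nroots) (t : F) : d (xG hF r t) = xG hF r ((χ r : F) * t) := by
  apply Subtype.ext
  apply Units.ext
  rw [hd]
  exact Cfsg.Agent.S2157.result D hD χ hχ r hr t

/-- the action of a field automorphism on the root elements -/
theorem field_xG (f : ↥(D.group F) ≃* ↥(D.group F)) (σ : F ≃+* F)
    (hf : ∀ (g : ↥(D.group F)) (r : ℕ) (t : F), r < D.nroots →
      ((g : GL D.Idx F) : Matrix D.Idx D.Idx F) = D.x F r t →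
        ((f g : GL D.Idx F) : Matrix D.Idx D.Idx F) = D.x F r (σ t))
    (r : ℕ) (hr : r < D.nroots) (t : F) : f (xG hF r t) = xG hF r (σ t) := by
  apply Subtype.ext
  apply Units.ext
  exact hf (xG hF r t) r t hr rfl

omit hF in
theorem mem_normalizer_of_map_conj {Γ : Type*} [Group Γ] (K : Subgroup Γ) (x : Γ)
    (h : K.map (MulAut.conj x).toMonoidHom = K) : x ∈ Subgroup.normalizer (K : Set Γ) := by
  rw [Subgroup.mem_normalizer_iff]
  intro y
  constructor
  · intro hy
    rw [← h]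
    exact ⟨y, hy, rfl⟩
  · intro hy
    rw [← h] at hy
    obtain ⟨z, hz, e⟩ := hy
    have : z = y := by
      have e' : x * z * x⁻¹ = x * y * x⁻¹ := e
      have := congrArg (fun a => x⁻¹ * a * x) e'
      simpa [mul_assoc] using this
    rwa [← this]

/-- an element of the group whose inner automorphism fixes `U` and `V` lies in `H` -/
theorem mem_diagonal_of_fixUV {w : List ℕ} (hw : W0 D w) (x : ↥(D.group F))
    (hx : FixUV D (MulAut.conj x)) : (x : GL D.Idx F) ∈ D.diagonalSubgroup F := by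
  set n₀ := nWordGL D hF.xadd w with hn₀
  have hn₀G : n₀ ∈ D.group F := n0_mem_group hF hw
  set nG₀ : ↥(D.group F) := ⟨n₀, hn₀G⟩ with hnG₀
  -- `x ∈ B`
  have hxB : (x : GL D.Idx F) ∈ D.borelSubgroup F := by
    have h1 := mem_normalizer_of_map_conj _ x hx.1
    rw [← borel_subgroupOf_eq hF] at h1
    exact h1
  -- `n₀⁻¹ x n₀ ∈ B`
  have hV : ((D.posUnipotent F).subgroupOf (D.group F)).map (MulAut.conj nG₀).toMonoidHom =
      (D.negUnipotent F).subgroupOf (D.group F) := by
    rw [subgroupOf_map_conj, n0_conj_pos hF hw]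
  have hV' : ((D.negUnipotent F).subgroupOf (D.group F)).map (MulAut.conj nG₀⁻¹).toMonoidHom =
      (D.posUnipotent F).subgroupOf (D.group F) := by
    rw [← hV, Cfsg.Agent.Helper6.AutAbs.map_conj_mul, inv_mul_cancel]
    ext y
    simp
  have hyB : ((nG₀⁻¹ * x * nG₀ : ↥(D.group F)) : GL D.Idx F) ∈ D.borelSubgroup F := by
    have h1 : ((D.posUnipotent F).subgroupOf (D.group F)).map
        (MulAut.conj (nG₀⁻¹ * x * nG₀)).toMonoidHom = (D.posUnipotent F).subgroupOf (D.group F) := by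
      rw [← Cfsg.Agent.Helper6.AutAbs.map_conj_mul, ← Cfsg.Agent.Helper6.AutAbs.map_conj_mul, hV, hx.2, hV']
    have h2 := mem_normalizer_of_map_conj _ _ h1
    rw [← borel_subgroupOf_eq hF] at h2
    exact h2
  obtain ⟨u, hu, h, hh, e⟩ := (hF.mem_borel_iff _).1 hxB
  have hv : n₀⁻¹ * u * n₀ ∈ D.negUnipotent F := n0_inv_conj_pos hF hw u hu
  have hh' : n₀⁻¹ * h * n₀ ∈ D.diagonalSubgroup F := by
    have := hF.monomial_conj_mem_diagonal n₀⁻¹ (inv_mem (n0_mem_monomial hF hw)) h hh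
    rwa [inv_inv] at this
  have e2 : ((nG₀⁻¹ * x * nG₀ : ↥(D.group F)) : GL D.Idx F) = (n₀⁻¹ * u * n₀) * (n₀⁻¹ * h * n₀) := by
    show n₀⁻¹ * (x : GL D.Idx F) * n₀ = _
    rw [e]
    group
  have hvB : n₀⁻¹ * u * n₀ ∈ D.borelSubgroup F := by
    have h1 : n₀⁻¹ * u * n₀ = ((nG₀⁻¹ * x * nG₀ : ↥(D.group F)) : GL D.Idx F) * (n₀⁻¹ * h * n₀)⁻¹ := by
      rw [e2]; group
    rw [h1]
    exact mul_mem hyB (inv_mem (diagonal_le_borel D hh'))
  have h3 : n₀⁻¹ * u * n₀ ∈ D.borelSubgroup F ⊓ D.negUnipotent F := ⟨hvB, hv⟩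
  rw [hF.borel_inf_negUnipotent, Subgroup.mem_bot] at h3
  have hu1 : u = 1 := by
    have : u = n₀ * (n₀⁻¹ * u * n₀) * n₀⁻¹ := by group
    rw [this, h3]
    group
  rw [e, hu1, one_mul]
  exact hh

/-- `θ` acts on the fundamental root elements through `(π, σ, c)`, with `c` indexed by the image node -/
def IsStd (θ : ↥(D.group F) ≃* ↥(D.group F)) (π : Equiv.Perm (Fin D.rank)) (σ : F ≃+* F)
    (c : Fin D.rank → Fˣ) : Prop :=
  ∀ (i : Fin D.rank) (t : F),
    θ (xG hF (D.simple i) t) =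
      xG hF (D.simple (π i)) ((c (π i) : F) * σ t ^ D.graphExp (ringChar F) i (π i)) ∧
    θ (xG hF (D.neg (D.simple i)) t) =
      xG hF (D.neg (D.simple (π i))) ((((c (π i))⁻¹ : Fˣ) : F) * σ t ^ D.graphExp (ringChar F) i (π i))

/-- a product of a diagonal, a graph and a field automorphism is standard -/
theorem isStd_dgf (hD : D ∈ [chevG2, chevB2, chevD4, chevF4, chevE6, chevE7, chevE8])
    (d g f : ↥(D.group F) ≃* ↥(D.group F)) (χ : ℕ → Fˣ) (hχ : D.IsRootCharacter χ)
    (hd : ∀ g : ↥(D.group F), ((d g : GL D.Idx F) : Matrix D.Idx D.Idx F) =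
      D.charDiag F χ * ((g : GL D.Idx F) : Matrix D.Idx D.Idx F) * D.charDiag F (fun r => (χ r)⁻¹))
    (π : Equiv.Perm (Fin D.rank)) (hg : GraphWith D g π) (σ : F ≃+* F)
    (hf : ∀ (g : ↥(D.group F)) (r : ℕ) (t : F), r < D.nroots →
      ((g : GL D.Idx F) : Matrix D.Idx D.Idx F) = D.x F r t →
        ((f g : GL D.Idx F) : Matrix D.Idx D.Idx F) = D.x F r (σ t)) :
    IsStd hF (f.trans (g.trans d)) π σ (fun j => χ (D.simple j)) := by
  intro i t
  constructor
  · show d (g (f (xG hF (D.simple i) t))) = _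
    rw [field_xG hF f σ hf _ (hF.simple_lt i i.2), (graphWith_xG hF hg i _).1,
      diag_xG hF hD d χ hχ hd _ (hF.simple_lt _ (π i).2)]
  · show d (g (f (xG hF (D.neg (D.simple i)) t))) = _
    rw [field_xG hF f σ hf _ (hF.neg_simple_lt i i.2), (graphWith_xG hF hg i _).2,
      diag_xG hF hD d χ hχ hd _ (hF.neg_simple_lt _ (π i).2), hχ.1 _ (hF.simple_lt _ (π i).2)]

/-- a product of a diagonal, a graph and a field automorphism fixes `U` and `V` -/
theorem fixUV_dgf [Finite F] (hD : D ∈ [chevG2, chevB2, chevD4, chevF4, chevE6, chevE7, chevE8])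
    (d g f : ↥(D.group F) ≃* ↥(D.group F)) (χ : ℕ → Fˣ) (hχ : D.IsRootCharacter χ)
    (hd : ∀ g : ↥(D.group F), ((d g : GL D.Idx F) : Matrix D.Idx D.Idx F) =
      D.charDiag F χ * ((g : GL D.Idx F) : Matrix D.Idx D.Idx F) * D.charDiag F (fun r => (χ r)⁻¹))
    (π : Equiv.Perm (Fin D.rank)) (hπ : D.IsDiagramSymmetry π) (hg : GraphWith D g π) (σ : F ≃+* F)
    (hf : ∀ (g : ↥(D.group F)) (r : ℕ) (t : F), r < D.nroots →
      ((g : GL D.Idx F) : Matrix D.Idx D.Idx F) = D.x F r t →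
        ((f g : GL D.Idx F) : Matrix D.Idx D.Idx F) = D.x F r (σ t)) :
    FixUV D (f.trans (g.trans d)) := by
  apply fixUV_trans
  · exact fixUV_of_root hF f fun r hr t => ⟨_, field_xG hF f σ hf r hr t⟩
  apply fixUV_trans
  · exact graphWith_map hD hπ hg
  · exact fixUV_of_root hF d fun r hr t => ⟨_, diag_xG hF hD d χ hχ hd r hr t⟩

/-- conjugation of a root element by an element of the torus -/
theorem torusHom_conj (a : Fin D.rank → Fˣ) (s : ℕ) (hs : s < D.nroots) (t : F) :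
    torusHom D F a * xGL D hF.xadd s t * (torusHom D F a)⁻¹ =
      xGL D hF.xadd s ((chiU D a s : F) * t) := by
  rw [chiU_val]
  exact hF.Tmat_conj_xGL _ (extC D a) (fun i _ => extC_ne_zero D a i) (torusHom_val D a) s hs t

/-- the parameters of a standard automorphism fixing `U` and `V` are unique up to the torus -/
theorem std_unique [Finite F] (AF : AutFacts D) {w : List ℕ} (hw : W0 D w) (hrk : 0 < D.rank)
    {θ θ' : ↥(D.group F) ≃* ↥(D.group F)} {π π' : Equiv.Perm (Fin D.rank)} {σ σ' : F ≃+* F}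
    {c c' : Fin D.rank → Fˣ} (h : IsStd hF θ π σ c) (h' : IsStd hF θ' π' σ' c')
    (hfix : FixUV D θ) (hfix' : FixUV D θ') (x : ↥(D.group F))
    (hx : ∀ y, θ' y = x * θ y * x⁻¹) :
    π = π' ∧ σ = σ' ∧ ∃ a : Fin D.rank → Fˣ, (x : GL D.Idx F) = torusHom D F a ∧
      ∀ j, c' j = chiU D a (D.simple j) * c j := by
  have hconj : MulAut.conj x = θ.symm.trans θ' := by
    apply MulEquiv.ext
    intro y
    show x * y * x⁻¹ = θ' (θ.symm y)
    rw [hx, MulEquiv.apply_symm_apply]
  have hfx : FixUV D (MulAut.conj x) := by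
    rw [hconj]
    exact fixUV_trans (fixUV_symm hfix) hfix'
  have hxH := mem_diagonal_of_fixUV hF hw x hfx
  rw [← torusHom_range D hF.xadd hF.hsimple hF.hall hF.simple_lt] at hxH
  obtain ⟨a, ha⟩ := hxH
  -- the basic comparison
  have hcmp : ∀ (i : Fin D.rank) (t : F),
      xGL D hF.xadd (D.simple (π' i)) ((c' (π' i) : F) * σ' t ^ D.graphExp (ringChar F) i (π' i)) =
      xGL D hF.xadd (D.simple (π i))
        ((chiU D a (D.simple (π i)) : F) * ((c (π i) : F) * σ t ^ D.graphExp (ringChar F) i (π i))) := by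
    intro i t
    have h1 := congrArg (fun y : ↥(D.group F) => (y : GL D.Idx F)) (hx (xG hF (D.simple i) t))
    rw [(h' i t).1, (h i t).1] at h1
    rw [← torusHom_conj hF a _ (hF.simple_lt _ (π i).2), ha]
    exact h1
  have hπ : ∀ i, π' i = π i := by
    intro i
    have h1 := hcmp i 1
    rw [map_one, one_pow, mul_one] at h1
    have h2 := Cfsg.Agent.Helper6.RootCent.root_eq_of_xGL_eq hF _ _ (hF.simple_lt _ (π' i).2)
      (hF.simple_pos _ (π i).2) _ _ (Units.ne_zero _) h1
    exact Fin.ext (AF.simple_inj _ (π' i).2 _ (π i).2 h2)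
  have hππ : π = π' := Equiv.ext fun i => (hπ i).symm
  subst hππ
  have hpar : ∀ (i : Fin D.rank) (t : F),
      (c' (π i) : F) * σ' t ^ D.graphExp (ringChar F) i (π i) =
        (chiU D a (D.simple (π i)) : F) * ((c (π i) : F) * σ t ^ D.graphExp (ringChar F) i (π i)) :=
    fun i t => Cfsg.Agent.Helper6.RootCent.xGL_pos_inj hF _ (hF.simple_pos _ (π i).2) _ _ (hcmp i t)
  have hc : ∀ i : Fin D.rank, (c' (π i) : F) = (chiU D a (D.simple (π i)) : F) * (c (π i) : F) := by
    intro i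
    have := hpar i 1
    rwa [map_one, map_one, one_pow, mul_one, mul_one] at this
  refine ⟨rfl, ?_, a, ha.symm, ?_⟩
  · apply RingEquiv.ext
    intro t
    have h1 := hpar ⟨0, hrk⟩ t
    rw [← mul_assoc, ← hc] at h1
    have h2 := mul_left_cancel₀ (Units.ne_zero _) h1
    rcases graphExp_cases (D := D) (ringChar F) (0 : ℕ) (π ⟨0, hrk⟩) with he | he
    · rw [he, pow_one, pow_one] at h2
      exact h2.symm
    · rw [he] at h2
      exact (Cfsg.Agent.Helper6.AutSigma.pow_ringChar_injective _ _ h2).symm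
  · intro j
    obtain ⟨i, rfl⟩ := π.surjective j
    apply Units.ext
    rw [Units.val_mul]
    exact hc i

end

end Cfsg.Agent.Helper6.OutUniq
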