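import Mathlib
import Cfsg.Agent.Lib.Helper6.OutUniq
import Cfsg.Agent.Lib.Helper6.AutMain
import Cfsg.Prelude.Def_KGroupFacts

/-!
The order of the outer automorphism group of a Chevalley group: the number of graph automorphisms times the number of
field automorphisms times the index of the torus characters in all characters.
-/

set_option autoImplicit false
set_option linter.unusedSectionVars false
set_option linter.unusedVariables false

namespace Cfsg.Agent.Helper6.OutCount

open Cfsg Cfsg.Lie Cfsg.Agent.Lead.Chev Cfsg.Agent.Helper6.AutPerm Cfsg.Agent.Helper6.OutSym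
  Cfsg.Agent.Helper6.OutGraph Cfsg.Agent.Helper6.AutRoot Cfsg.Agent.Helper6.AutData
  Cfsg.Agent.Helper6.OutUniq Cfsg.Agent.Helper6.AutDiag

/-- two surjections with the same fibres have targets of the same cardinality -/
theorem card_eq_of_fibers {T X Y : Type*} (Ψ : T → X) (Φ : T → Y) (hΨ : Function.Surjective Ψ)
    (hΦ : Function.Surjective Φ) (h : ∀ a b, Ψ a = Ψ b ↔ Φ a = Φ b) : Nat.card X = Nat.card Y := by
  apply Nat.card_eq_of_bijective (fun x => Φ (Classical.choose (hΨ x)))
  constructor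
  · intro x x' e
    have h1 := (h _ _).2 e
    rw [Classical.choose_spec (hΨ x), Classical.choose_spec (hΨ x')] at h1
    exact h1
  · intro y
    obtain ⟨b, rfl⟩ := hΦ y
    refine ⟨Ψ b, ?_⟩
    exact (h _ _).1 (Classical.choose_spec (hΨ (Ψ b)))

variable {F : Type*} [Field F] {D : ChevalleyDatum}

/-- the characters of the torus on the fundamental roots -/
def cartanHom (D : ChevalleyDatum) (F : Type*) [Field F] : (Fin D.rank → Fˣ) →* (Fin D.rank → Fˣ) where
  toFun a := fun j => chiU D a (D.simple j)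
  map_one' := by
    funext j
    unfold chiU
    simp
  map_mul' a b := by
    funext j
    unfold chiU
    simp only [Pi.mul_apply, mul_zpow]
    rw [Finset.prod_mul_distrib]

theorem cartanHom_apply (a : Fin D.rank → Fˣ) (j : Fin D.rank) :
    cartanHom D F a j = chiU D a (D.simple j) := rfl

/-- the realized symmetries of the diagram -/
def Sym (D : ChevalleyDatum) (F : Type*) [Field F] : Type :=
  {π : Equiv.Perm (Fin D.rank) // D.IsDiagramSymmetry π ∧ ∃ g : ↥(D.group F) ≃* ↥(D.group F), GraphWith D g π}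

section

variable [Finite F] (hD : D ∈ [chevG2, chevB2, chevD4, chevF4, chevE6, chevE7, chevE8])
include hD

/-- the chosen graph automorphism -/
noncomputable def gOf (π : Sym D F) : ↥(D.group F) ≃* ↥(D.group F) := Classical.choose π.2.2

omit [Finite F] hD in
theorem gOf_spec (π : Sym D F) : GraphWith D (gOf π) π.1 := Classical.choose_spec π.2.2

/-- the chosen field automorphism -/
noncomputable def fOf (σ : F ≃+* F) : ↥(D.group F) ≃* ↥(D.group F) :=
  Classical.choose (Cfsg.Agent.S1080.result D hD σ)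

omit [Finite F] in
theorem fOf_spec (σ : F ≃+* F) : ∀ (g : ↥(D.group F)) (r : ℕ) (t : F), r < D.nroots →
      ((g : GL D.Idx F) : Matrix D.Idx D.Idx F) = D.x F r t →
        ((fOf hD σ g : GL D.Idx F) : Matrix D.Idx D.Idx F) = D.x F r (σ t) :=
  Classical.choose_spec (Cfsg.Agent.S1080.result D hD σ)

/-- the character with given values on the fundamental roots -/
noncomputable def chiC (c : Fin D.rank → Fˣ) : ℕ → Fˣ := chiOf (coefOfL D.rank (coefL D)) c

omit [Finite F] in
theorem chiC_char (c : Fin D.rank → Fˣ) : D.IsRootCharacter (chiC c) :=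
  isRootCharacter_chiOf _ (coefFacts_of_mem D hD) c

omit [Finite F] in
theorem chiC_simple (c : Fin D.rank → Fˣ) (j : Fin D.rank) : chiC c (D.simple j) = c j :=
  chiOf_simple _ (coefFacts_of_mem D hD) c j

/-- the chosen diagonal automorphism -/
noncomputable def dOf (c : Fin D.rank → Fˣ) : ↥(D.group F) ≃* ↥(D.group F) :=
  diagAut hD (chevFacts_of_mem D hD) (chiC c) (chiC_char hD c)

omit [Finite F] in
theorem dOf_spec (c : Fin D.rank → Fˣ) (g : ↥(D.group F)) :
    ((dOf hD c g : GL D.Idx F) : Matrix D.Idx D.Idx F) =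
      D.charDiag F (chiC c) * ((g : GL D.Idx F) : Matrix D.Idx D.Idx F) *
        D.charDiag F (fun r => (chiC c r)⁻¹) := by
  unfold dOf
  rw [diagAut_coe, Units.val_mul, Units.val_mul, dGL_val, dGL_inv_val]

/-- the representative of a triple of parameters -/
noncomputable def rep (τ : Sym D F × (F ≃+* F) × (Fin D.rank → Fˣ)) : ↥(D.group F) ≃* ↥(D.group F) :=
  (fOf hD τ.2.1).trans ((gOf τ.1).trans (dOf hD τ.2.2))

omit [Finite F] in
theorem rep_std (τ : Sym D F × (F ≃+* F) × (Fin D.rank → Fˣ)) :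
    IsStd (chevFacts_of_mem D hD) (rep hD τ) τ.1.1 τ.2.1 τ.2.2 := by
  have h := isStd_dgf (chevFacts_of_mem D hD) hD (dOf hD τ.2.2) (gOf τ.1) (fOf hD τ.2.1) (chiC τ.2.2)
    (chiC_char hD _) (dOf_spec hD _) τ.1.1 (gOf_spec τ.1) τ.2.1 (fOf_spec hD _)
  have e : (fun j : Fin D.rank => chiC τ.2.2 (D.simple j)) = τ.2.2 := by
    funext j
    exact chiC_simple hD _ j
  rw [e] at h
  exact h

theorem rep_fix (τ : Sym D F × (F ≃+* F) × (Fin D.rank → Fˣ)) : FixUV D (rep hD τ) :=
  fixUV_dgf (chevFacts_of_mem D hD) hD (dOf hD τ.2.2) (gOf τ.1) (fOf hD τ.2.1) (chiC τ.2.2)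
    (chiC_char hD _) (dOf_spec hD _) τ.1.1 τ.1.2.1 (gOf_spec τ.1) τ.2.1 (fOf_spec hD _)

omit [Finite F] hD in
/-- standard automorphisms with the same parameters are equal -/
theorem std_ext (hF : ChevFacts D F) {θ θ' : ↥(D.group F) ≃* ↥(D.group F)} {π : Equiv.Perm (Fin D.rank)}
    {σ : F ≃+* F} {c : Fin D.rank → Fˣ} (h : IsStd hF θ π σ c) (h' : IsStd hF θ' π σ c) : θ = θ' := by
  apply ext_simple hF
  · intro i t
    rw [(h i t).1, (h' i t).1]
  · intro i t
    rw [(h i t).2, (h' i t).2]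

/-- the class of an automorphism in the outer automorphism group -/
noncomputable def cls (τ : Sym D F × (F ≃+* F) × (Fin D.rank → Fˣ)) : Cfsg.Out ↥(D.group F) :=
  QuotientGroup.mk (rep hD τ)

omit [Finite F] hD in
theorem mk_conj_mul (x : ↥(D.group F)) (θ : MulAut ↥(D.group F)) :
    (QuotientGroup.mk (MulAut.conj x * θ) : Cfsg.Out ↥(D.group F)) = QuotientGroup.mk θ := by
  rw [QuotientGroup.mk_mul]
  have : (QuotientGroup.mk (MulAut.conj x) : Cfsg.Out ↥(D.group F)) = 1 := by
    rw [QuotientGroup.eq_one_iff]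
    exact ⟨x, rfl⟩
  rw [this, one_mul]

theorem cls_surjective : Function.Surjective (cls (F := F) hD) := by
  intro o
  obtain ⟨θ, rfl⟩ := QuotientGroup.mk_surjective o
  have hF : ChevFacts D F := chevFacts_of_mem D hD
  obtain ⟨x, d, g, f, ⟨χ, hχ, hd⟩, ⟨π, hπ, hg⟩, ⟨σ, hf⟩, hθ⟩ := Cfsg.Agent.Helper6.AutMain.main hD θ
  refine ⟨(⟨π, hπ, g, hg⟩, σ, fun j => χ (D.simple j)), ?_⟩
  have h1 := isStd_dgf hF hD d g f χ hχ hd π hg σ hf
  have h2 := rep_std (F := F) hD (⟨π, hπ, g, hg⟩, σ, fun j => χ (D.simple j))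
  have h3 : rep hD (⟨π, hπ, g, hg⟩, σ, fun j => χ (D.simple j)) = f.trans (g.trans d) :=
    std_ext hF h2 h1
  have h4 : θ = MulAut.conj x * f.trans (g.trans d) := by
    apply MulEquiv.ext
    intro y
    rw [hθ]
    rfl
  unfold cls
  rw [h3, h4, mk_conj_mul]

omit [Finite F] hD in
theorem chiU_neg (hF : ChevFacts D F) (a : Fin D.rank → Fˣ) (s : ℕ) (hs : s < D.nroots) :
    chiU D a (D.neg s) = (chiU D a s)⁻¹ := by
  unfold chiU
  rw [← Finset.prod_inv_distrib]
  apply Finset.prod_congr rfl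
  intro i _
  rw [hF.cartan_neg i i.2 s hs, zpow_neg]

theorem cls_eq_iff (τ τ' : Sym D F × (F ≃+* F) × (Fin D.rank → Fˣ)) :
    cls hD τ = cls hD τ' ↔ τ.1 = τ'.1 ∧ τ.2.1 = τ'.2.1 ∧ ∃ a, τ'.2.2 = cartanHom D F a * τ.2.2 := by
  have hF : ChevFacts D F := chevFacts_of_mem D hD
  have AF := autFacts_of_mem D hD
  have hw := w0_of_mem D hD
  have hrk : 0 < D.rank := by
    simp only [List.mem_cons, List.mem_nil_iff, or_false] at hD
    rcases hD with rfl | rfl | rfl | rfl | rfl | rfl | rfl <;> decide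
  constructor
  · intro h
    unfold cls at h
    rw [QuotientGroup.eq] at h
    obtain ⟨y, hy⟩ := h
    have hy' : ∀ z, rep hD τ' z = rep hD τ y * rep hD τ z * (rep hD τ y)⁻¹ := by
      intro z
      have e1 : rep hD τ' = rep hD τ * MulAut.conj y := by
        have hy2 : MulAut.conj y = (rep hD τ)⁻¹ * rep hD τ' := hy
        rw [hy2]
        group
      rw [e1]
      show rep hD τ (y * z * y⁻¹) = _
      rw [map_mul, map_mul, map_inv]
    obtain ⟨h1, h2, a, -, h3⟩ := std_unique hF AF hw hrk (rep_std hD τ) (rep_std hD τ') (rep_fix hD τ)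
      (rep_fix hD τ') (rep hD τ y) hy'
    refine ⟨Subtype.ext h1, h2, a, ?_⟩
    funext j
    exact h3 j
  · rintro ⟨h1, h2, a, h3⟩
    obtain ⟨π, σ, c⟩ := τ
    obtain ⟨π', σ', c'⟩ := τ'
    simp only at h1 h2 h3
    subst h1 h2 h3
    -- the torus element
    have hmem : torusHom D F a ∈ D.group F := by
      apply hF.diagonal_le_group
      rw [← torusHom_range D hF.xadd hF.hsimple hF.hall hF.simple_lt]
      exact ⟨a, rfl⟩
    set x : ↥(D.group F) := ⟨torusHom D F a, hmem⟩ with hx
    have hstd : IsStd hF (MulAut.conj x * rep hD (π, σ, c)) π.1 σ (cartanHom D F a * c) := by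
      intro i t
      have h0 := rep_std hD (π, σ, c) i t
      constructor
      · show x * rep hD (π, σ, c) (xG hF (D.simple i) t) * x⁻¹ = _
        rw [h0.1]
        apply Subtype.ext
        show torusHom D F a * xGL D hF.xadd _ _ * (torusHom D F a)⁻¹ = _
        rw [torusHom_conj hF a _ (hF.simple_lt _ (π.1 i).2), Pi.mul_apply, cartanHom_apply, Units.val_mul,
          mul_assoc]
        rfl
      · show x * rep hD (π, σ, c) (xG hF (D.neg (D.simple i)) t) * x⁻¹ = _
        rw [h0.2]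
        apply Subtype.ext
        show torusHom D F a * xGL D hF.xadd _ _ * (torusHom D F a)⁻¹ = _
        rw [torusHom_conj hF a _ (hF.neg_simple_lt _ (π.1 i).2), Pi.mul_apply, cartanHom_apply,
          chiU_neg hF a _ (hF.simple_lt _ (π.1 i).2), mul_inv, Units.val_mul, mul_assoc]
        rfl
    have e : rep hD (π, σ, cartanHom D F a * c) = MulAut.conj x * rep hD (π, σ, c) :=
      std_ext hF (rep_std hD (π, σ, cartanHom D F a * c)) hstd
    unfold cls
    rw [e, mk_conj_mul]

/-- the projection of the parameters -/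
def proj (D : ChevalleyDatum) (F : Type*) [Field F] (τ : Sym D F × (F ≃+* F) × (Fin D.rank → Fˣ)) :
    Sym D F × (F ≃+* F) × ((Fin D.rank → Fˣ) ⧸ (cartanHom D F).range) :=
  (τ.1, τ.2.1, QuotientGroup.mk τ.2.2)

omit [Finite F] hD in
theorem proj_surjective : Function.Surjective (proj D F) := by
  rintro ⟨π, σ, q⟩
  obtain ⟨c, rfl⟩ := QuotientGroup.mk_surjective q
  exact ⟨(π, σ, c), rfl⟩

omit [Finite F] hD in
theorem proj_eq_iff (τ τ' : Sym D F × (F ≃+* F) × (Fin D.rank → Fˣ)) :
    proj D F τ = proj D F τ' ↔ τ.1 = τ'.1 ∧ τ.2.1 = τ'.2.1 ∧ ∃ a, τ'.2.2 = cartanHom D F a * τ.2.2 := by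
  unfold proj
  rw [Prod.mk.injEq, Prod.mk.injEq, QuotientGroup.eq]
  constructor
  · rintro ⟨h1, h2, a, ha⟩
    refine ⟨h1, h2, a, ?_⟩
    rw [ha, mul_comm, mul_inv_cancel_left]
  · rintro ⟨h1, h2, a, ha⟩
    refine ⟨h1, h2, a, ?_⟩
    rw [ha, mul_comm ((cartanHom D F) a), inv_mul_cancel_left]

/-- the order of the outer automorphism group -/
theorem card_out :
    Nat.card (Cfsg.Out ↥(D.group F)) =
      Nat.card (Sym D F) * (Nat.card (F ≃+* F) * Nat.card ((Fin D.rank → Fˣ) ⧸ (cartanHom D F).range)) := by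
  rw [card_eq_of_fibers (cls (F := F) hD) (proj D F) (cls_surjective hD) proj_surjective
    (fun a b => (cls_eq_iff hD a b).trans (proj_eq_iff a b).symm), Nat.card_prod, Nat.card_prod]

end

end Cfsg.Agent.Helper6.OutCount
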