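import Mathlib
import Cfsg.Agent.Lib.Helper6.OutCount

/-!
Counting the symmetries of the diagram realized by graph automorphisms.
-/

set_option autoImplicit false
set_option linter.unusedSectionVars false
set_option linter.unusedVariables false

namespace Cfsg.Agent.Helper6.OutReal

open Cfsg Cfsg.Lie Cfsg.Agent.Lead.Chev Cfsg.Agent.Helper6.AutPerm Cfsg.Agent.Helper6.OutSym
  Cfsg.Agent.Helper6.OutGraph Cfsg.Agent.Helper6.AutRoot Cfsg.Agent.Helper6.AutData
  Cfsg.Agent.Helper6.OutUniq Cfsg.Agent.Helper6.OutCount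

theorem permList_injective {n : ℕ} : Function.Injective (permList (n := n)) := by
  intro π π' h
  apply Equiv.ext
  intro i
  apply Fin.ext
  rw [← permList_getD π i, ← permList_getD π' i, h]

variable {F : Type*} [Field F] {D : ChevalleyDatum}

theorem graphExp_self (c i : ℕ) : D.graphExp c i i = 1 := by
  unfold ChevalleyDatum.graphExp
  cases D.isLong (D.simple i) <;> rfl

/-- the identity is a graph automorphism -/
theorem graphWith_refl : GraphWith D (MulEquiv.refl ↥(D.group F)) 1 := by
  intro y i t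
  constructor
  · intro h
    show ((y : GL D.Idx F) : Matrix D.Idx D.Idx F) = _
    rw [h, Equiv.Perm.one_apply, graphExp_self, pow_one]
  · intro h
    show ((y : GL D.Idx F) : Matrix D.Idx D.Idx F) = _
    rw [h, Equiv.Perm.one_apply, graphExp_self, pow_one]

theorem isDiagramSymmetry_one : D.IsDiagramSymmetry 1 := fun _ _ _ => rfl

/-- the trivial realized symmetry -/
def symOne (D : ChevalleyDatum) (F : Type*) [Field F] : Sym D F :=
  ⟨1, isDiagramSymmetry_one, MulEquiv.refl _, graphWith_refl⟩

theorem card_sym_one (h : ∀ π : Sym D F, π.1 = 1) : Nat.card (Sym D F) = 1 := by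
  rw [Nat.card_eq_one_iff_unique]
  refine ⟨⟨fun a b => ?_⟩, ⟨symOne D F⟩⟩
  apply Subtype.ext
  rw [h a, h b]

theorem card_sym_two (ρ : Sym D F) (hρ : ρ.1 ≠ 1) (h : ∀ π : Sym D F, π.1 = 1 ∨ π.1 = ρ.1) :
    Nat.card (Sym D F) = 2 := by
  rw [Nat.card_eq_two_iff]
  refine ⟨symOne D F, ρ, ?_, ?_⟩
  · intro e
    apply hρ
    rw [← e]
    rfl
  · ext π
    simp only [Set.mem_insert_iff, Set.mem_singleton_iff, Set.mem_univ, iff_true]
    rcases h π with h1 | h1
    · left
      exact Subtype.ext h1
    · right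
      exact Subtype.ext h1

/-- the relation satisfied by the exponents of a graph automorphism -/
theorem graphWith_rel [Finite F] (hD : D ∈ [chevG2, chevB2, chevD4, chevF4, chevE6, chevE7, chevE8])
    {g : ↥(D.group F) ≃* ↥(D.group F)} {π : Equiv.Perm (Fin D.rank)}
    (hπ : D.IsDiagramSymmetry π) (hg : GraphWith D g π) (i j : Fin D.rank) (t : F) (ht : t ≠ 0) :
    (t ^ D.graphExp (ringChar F) i (π i)) ^ D.cartan (π i) (D.simple (π j)) =
      (t ^ D.graphExp (ringChar F) j (π j)) ^ D.cartan i (D.simple j) := by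
  have hF : ChevFacts D F := chevFacts_of_mem D hD
  have AF := autFacts_of_mem D hD
  have hw := w0_of_mem D hD
  have hd := Cfsg.Agent.Helper6.ChevL.diag2_of_mem D hD
  obtain ⟨hU, hV⟩ := graphWith_map hD hπ hg
  obtain ⟨ρ, c, σ, -, hc, hX, -, hrel⟩ := Cfsg.Agent.Helper6.AutTorus.exists_data hF hd hw AF g hU hV
  have key : ∀ (k : Fin D.rank) (s : F), σ k s = s ^ D.graphExp (ringChar F) k (π k) := by
    intro k s
    have h1 : ∀ s : F, xGL D hF.xadd (D.simple (ρ k)) (c k * σ k s) =
        xGL D hF.xadd (D.simple (π k)) (s ^ D.graphExp (ringChar F) k (π k)) := by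
      intro s
      have := (hX k s).symm.trans (graphWith_xG hF hg k s).1
      exact congrArg Subtype.val this
    have h2 : ρ k = π k := by
      have h3 := h1 1
      rw [map_one, mul_one] at h3
      have h4 := Cfsg.Agent.Helper6.RootCent.root_eq_of_xGL_eq hF _ _ (hF.simple_lt _ (ρ k).2)
        (hF.simple_pos _ (π k).2) _ _ (hc k) h3
      exact Fin.ext (AF.simple_inj _ (ρ k).2 _ (π k).2 h4)
    rw [h2] at h1
    have h5 : ∀ s : F, c k * σ k s = s ^ D.graphExp (ringChar F) k (π k) := fun s =>
      Cfsg.Agent.Helper6.RootCent.xGL_pos_inj hF _ (hF.simple_pos _ (π k).2) _ _ (h1 s)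
    have h6 : c k = 1 := by
      have := h5 1
      rwa [map_one, mul_one, one_pow] at this
    rw [← h5 s, h6, one_mul]
  have hρ : ρ = π := by
    apply Equiv.ext
    intro k
    have h1 := (hX k 1).symm.trans (graphWith_xG hF hg k 1).1
    have h3 := congrArg Subtype.val h1
    have h4 := Cfsg.Agent.Helper6.RootCent.root_eq_of_xGL_eq hF _ _ (hF.simple_lt _ (ρ k).2)
      (hF.simple_pos _ (π k).2) _ _ (by rw [map_one, mul_one]; exact hc k) h3
    exact Fin.ext (AF.simple_inj _ (ρ k).2 _ (π k).2 h4)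
  have := hrel i j t ht
  rw [key i t, key j t, hρ] at this
  exact this

end Cfsg.Agent.Helper6.OutReal
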