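import Mathlib
import Cfsg.Agent.Lib.Helper6.OutReal
import Cfsg.Agent.S1081

/-!
The realized symmetries of the diagram of type E₆.
-/

set_option autoImplicit false
set_option linter.unusedSectionVars false
set_option linter.unusedVariables false

namespace Cfsg.Agent.Helper6.OutE6

open Cfsg Cfsg.Lie Cfsg.Agent.Lead.Chev Cfsg.Agent.Helper6.OutSym
  Cfsg.Agent.Helper6.OutGraph Cfsg.Agent.Helper6.OutCount Cfsg.Agent.Helper6.OutReal

/-- the permutation of `Fin n` given by a list and the list of its inverse -/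
def permOfLists (n : ℕ) (L L' : List ℕ) (h1 : ∀ i < n, L.getD i 0 < n) (h1' : ∀ i < n, L'.getD i 0 < n)
    (h2 : ∀ i < n, L'.getD (L.getD i 0) 0 = i) (h2' : ∀ i < n, L.getD (L'.getD i 0) 0 = i) :
    Equiv.Perm (Fin n) where
  toFun i := ⟨L.getD i.val 0, h1 i.val i.2⟩
  invFun i := ⟨L'.getD i.val 0, h1' i.val i.2⟩
  left_inv i := Fin.ext (h2 i.val i.2)
  right_inv i := Fin.ext (h2' i.val i.2)

/-- the symmetry of the diagram of type E₆ -/
def flip : Equiv.Perm (Fin chevE6.rank) :=
  permOfLists 6 [5, 1, 4, 3, 2, 0] [5, 1, 4, 3, 2, 0] (by decide) (by decide) (by decide) (by decide)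

theorem flip_val (i : Fin chevE6.rank) : ((flip i : Fin chevE6.rank) : ℕ) = [5, 1, 4, 3, 2, 0].getD i.val 0 := rfl

theorem permList_flip : permList flip = [5, 1, 4, 3, 2, 0] := by decide

theorem flip_ne_one : flip ≠ 1 := by
  intro h
  have := congrArg (fun π : Equiv.Perm (Fin chevE6.rank) => ((π ⟨0, by decide⟩ : Fin chevE6.rank) : ℕ)) h
  revert this
  decide

theorem flip_sym : chevE6.IsDiagramSymmetry flip := by
  unfold ChevalleyDatum.IsDiagramSymmetry
  decide +kernel

theorem isLong_E6 : ∀ j < 6, chevE6.isLong (chevE6.simple j) = false := by decide +kernel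

theorem graphExp_E6 (c : ℕ) (i j : Fin chevE6.rank) : chevE6.graphExp c i j = 1 := by
  unfold ChevalleyDatum.graphExp
  rw [isLong_E6 j j.2]
  rfl

variable {F : Type*} [Field F]

theorem flip_real : ∃ g : ↥(chevE6.group F) ≃* ↥(chevE6.group F), GraphWith chevE6 g flip := by
  obtain ⟨α, hα⟩ := Cfsg.Agent.S1081.result (F := F) (chevE6, [5, 1, 4, 3, 2, 0]) (by simp)
  refine ⟨α, ?_⟩
  intro y i t
  have h := hα y i.val t i.2
  rw [graphExp_E6, pow_one, flip_val]
  exact h

/-- the nontrivial realized symmetry -/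
def symFlip (F : Type*) [Field F] : Sym chevE6 F := ⟨flip, flip_sym, flip_real⟩

theorem card_sym : Nat.card (Sym chevE6 F) = 2 := by
  apply card_sym_two (symFlip F) flip_ne_one
  intro π
  have h := permList_mem_symSearch chevE6 π.1 π.2.1
  rw [sym_E6] at h
  simp only [List.mem_cons, List.mem_nil_iff, or_false] at h
  rcases h with h | h
  · left
    apply permList_injective
    rw [h]
    rfl
  · right
    apply permList_injective
    rw [h]
    exact permList_flip.symm

end Cfsg.Agent.Helper6.OutE6
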