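import Mathlib
import Cfsg.Agent.Lib.Helper6.OutReal

/-!
The structure of the outer automorphism group of a Chevalley group: the diagonal classes form an abelian normal
subgroup, the field classes a cyclic subgroup, and their product is normal with quotient the realized symmetries of
the diagram.
-/

set_option autoImplicit false
set_option linter.unusedSectionVars false
set_option linter.unusedVariables false

namespace Cfsg.Agent.Helper6.OutStruct

open Cfsg Cfsg.Lie Cfsg.Agent.Lead.Chev Cfsg.Agent.Helper6.AutPerm Cfsg.Agent.Helper6.OutSym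
  Cfsg.Agent.Helper6.OutGraph Cfsg.Agent.Helper6.AutRoot Cfsg.Agent.Helper6.AutData
  Cfsg.Agent.Helper6.OutUniq Cfsg.Agent.Helper6.OutCount Cfsg.Agent.Helper6.AutDiag
  Cfsg.Agent.Helper6.OutReal

variable {F : Type*} [Field F] {D : ChevalleyDatum}

section

variable (hD : D ∈ [chevG2, chevB2, chevD4, chevF4, chevE6, chevE7, chevE8])
include hD

theorem dOf_xG (c : Fin D.rank → Fˣ) (r : ℕ) (hr : r < D.nroots) (t : F) :
    dOf hD c (xG (chevFacts_of_mem D hD) r t) = xG (chevFacts_of_mem D hD) r ((chiC c r : F) * t) :=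
  diagAut_xG hD (chevFacts_of_mem D hD) (chiC c) (chiC_char hD c) r hr t

theorem dOf_simple (c : Fin D.rank → Fˣ) (i : Fin D.rank) (t : F) :
    dOf hD c (xG (chevFacts_of_mem D hD) (D.simple i) t) =
      xG (chevFacts_of_mem D hD) (D.simple i) ((c i : F) * t) := by
  rw [dOf_xG hD c _ ((chevFacts_of_mem (F := F) D hD).simple_lt i i.2), chiC_simple hD c i]

theorem dOf_neg_simple (c : Fin D.rank → Fˣ) (i : Fin D.rank) (t : F) :
    dOf hD c (xG (chevFacts_of_mem D hD) (D.neg (D.simple i)) t) =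
      xG (chevFacts_of_mem D hD) (D.neg (D.simple i)) ((((c i)⁻¹ : Fˣ) : F) * t) := by
  rw [dOf_xG hD c _ ((chevFacts_of_mem (F := F) D hD).neg_simple_lt i i.2),
    (chiC_char hD c).1 _ ((chevFacts_of_mem (F := F) D hD).simple_lt i i.2), chiC_simple hD c i]

theorem fOf_xG (σ : F ≃+* F) (r : ℕ) (hr : r < D.nroots) (t : F) :
    fOf hD σ (xG (chevFacts_of_mem D hD) r t) = xG (chevFacts_of_mem D hD) r (σ t) :=
  field_xG (chevFacts_of_mem D hD) (fOf hD σ) σ (fOf_spec hD σ) r hr t

/-- the diagonal automorphisms as a homomorphism from the characters -/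
noncomputable def dHom : (Fin D.rank → Fˣ) →* MulAut ↥(D.group F) where
  toFun := dOf hD
  map_one' := by
    have hF : ChevFacts D F := chevFacts_of_mem D hD
    apply ext_simple hF
    · intro i t
      rw [dOf_simple hD]
      simp
    · intro i t
      rw [dOf_neg_simple hD]
      simp
  map_mul' c c' := by
    have hF : ChevFacts D F := chevFacts_of_mem D hD
    apply ext_simple hF
    · intro i t
      rw [MulAut.mul_apply]
      rw [dOf_simple hD, dOf_simple hD, dOf_simple hD, Pi.mul_apply, Units.val_mul, mul_assoc]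
    · intro i t
      rw [MulAut.mul_apply]
      rw [dOf_neg_simple hD, dOf_neg_simple hD, dOf_neg_simple hD, Pi.mul_apply, mul_inv, Units.val_mul,
        mul_assoc]

/-- the field automorphisms as a homomorphism from the automorphisms of the field -/
noncomputable def fHom : (F ≃+* F) →* MulAut ↥(D.group F) where
  toFun := fOf hD
  map_one' := by
    have hF : ChevFacts D F := chevFacts_of_mem D hD
    apply ext_simple hF
    · intro i t
      rw [fOf_xG hD _ _ (hF.simple_lt i i.2)]
      rfl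
    · intro i t
      rw [fOf_xG hD _ _ (hF.neg_simple_lt i i.2)]
      rfl
  map_mul' σ τ := by
    have hF : ChevFacts D F := chevFacts_of_mem D hD
    apply ext_simple hF
    · intro i t
      rw [MulAut.mul_apply]
      rw [fOf_xG hD _ _ (hF.simple_lt i i.2), fOf_xG hD _ _ (hF.simple_lt i i.2),
        fOf_xG hD _ _ (hF.simple_lt i i.2)]
      rfl
    · intro i t
      rw [MulAut.mul_apply]
      rw [fOf_xG hD _ _ (hF.neg_simple_lt i i.2), fOf_xG hD _ _ (hF.neg_simple_lt i i.2),
        fOf_xG hD _ _ (hF.neg_simple_lt i i.2)]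
      rfl

theorem isDiagonalAut_iff (φ : MulAut ↥(D.group F)) : D.IsDiagonalAut φ ↔ φ ∈ (dHom (F := F) hD).range := by
  have hF : ChevFacts D F := chevFacts_of_mem D hD
  constructor
  · rintro ⟨χ, hχ, hd⟩
    refine ⟨fun j => χ (D.simple j), ?_⟩
    apply ext_simple hF
    · intro i t
      show dOf hD _ _ = _
      rw [dOf_simple hD, diag_xG hF hD φ χ hχ hd _ (hF.simple_lt i i.2)]
    · intro i t
      show dOf hD _ _ = _
      rw [dOf_neg_simple hD, diag_xG hF hD φ χ hχ hd _ (hF.neg_simple_lt i i.2), hχ.1 _ (hF.simple_lt i i.2)]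
  · rintro ⟨c, rfl⟩
    exact isDiagonalAut_diagAut hD hF (chiC c) (chiC_char hD c)

theorem isFieldAut_iff (φ : MulAut ↥(D.group F)) : D.IsFieldAut φ ↔ φ ∈ (fHom (F := F) hD).range := by
  have hF : ChevFacts D F := chevFacts_of_mem D hD
  constructor
  · rintro ⟨σ, hσ⟩
    refine ⟨σ, ?_⟩
    apply ext_simple hF
    · intro i t
      show fOf hD σ _ = _
      rw [fOf_xG hD _ _ (hF.simple_lt i i.2), field_xG hF φ σ hσ _ (hF.simple_lt i i.2)]
    · intro i t
      show fOf hD σ _ = _
      rw [fOf_xG hD _ _ (hF.neg_simple_lt i i.2), field_xG hF φ σ hσ _ (hF.neg_simple_lt i i.2)]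
  · rintro ⟨σ, rfl⟩
    exact ⟨σ, fOf_spec hD σ⟩

/-- a field automorphism normalizes the diagonal automorphisms -/
theorem fOf_mul_dOf (σ : F ≃+* F) (c : Fin D.rank → Fˣ) :
    fOf hD σ * dOf hD c = dOf hD (fun j => Units.map (σ : F →* F) (c j)) * fOf hD σ := by
  have hF : ChevFacts D F := chevFacts_of_mem D hD
  apply ext_simple hF
  · intro i t
    rw [MulAut.mul_apply, MulAut.mul_apply]
    rw [dOf_simple hD, fOf_xG hD _ _ (hF.simple_lt i i.2), fOf_xG hD _ _ (hF.simple_lt i i.2),
      dOf_simple hD, map_mul]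
    rfl
  · intro i t
    rw [MulAut.mul_apply, MulAut.mul_apply]
    rw [dOf_neg_simple hD, fOf_xG hD _ _ (hF.neg_simple_lt i i.2), fOf_xG hD _ _ (hF.neg_simple_lt i i.2),
      dOf_neg_simple hD, map_mul, ← map_inv]
    rfl

/-- a graph automorphism normalizes the diagonal automorphisms -/
theorem graph_mul_dOf (g : MulAut ↥(D.group F)) (π : Equiv.Perm (Fin D.rank)) (hg : GraphWith D g π)
    (c : Fin D.rank → Fˣ) :
    g * dOf hD c = dOf hD (fun j => c (π.symm j) ^ D.graphExp (ringChar F) (π.symm j) j) * g := by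
  have hF : ChevFacts D F := chevFacts_of_mem D hD
  apply ext_simple hF
  · intro i t
    rw [MulAut.mul_apply, MulAut.mul_apply]
    rw [dOf_simple hD, (graphWith_xG hF hg i _).1, (graphWith_xG hF hg i _).1, dOf_simple hD,
      Equiv.symm_apply_apply, Units.val_pow_eq_pow_val, mul_pow]
  · intro i t
    rw [MulAut.mul_apply, MulAut.mul_apply]
    rw [dOf_neg_simple hD, (graphWith_xG hF hg i _).2, (graphWith_xG hF hg i _).2, dOf_neg_simple hD,
      Equiv.symm_apply_apply, ← inv_pow, Units.val_pow_eq_pow_val, mul_pow]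

/-- graph and field automorphisms commute -/
theorem graph_mul_fOf (g : MulAut ↥(D.group F)) (π : Equiv.Perm (Fin D.rank)) (hg : GraphWith D g π)
    (σ : F ≃+* F) : g * fOf hD σ = fOf hD σ * g := by
  have hF : ChevFacts D F := chevFacts_of_mem D hD
  apply ext_simple hF
  · intro i t
    rw [MulAut.mul_apply, MulAut.mul_apply]
    rw [fOf_xG hD _ _ (hF.simple_lt i i.2), (graphWith_xG hF hg i _).1, (graphWith_xG hF hg i _).1,
      fOf_xG hD _ _ (hF.simple_lt _ (π i).2), map_pow]
  · intro i t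
    rw [MulAut.mul_apply, MulAut.mul_apply]
    rw [fOf_xG hD _ _ (hF.neg_simple_lt i i.2), (graphWith_xG hF hg i _).2, (graphWith_xG hF hg i _).2,
      fOf_xG hD _ _ (hF.neg_simple_lt _ (π i).2), map_pow]

/-- the decomposition of an automorphism -/
theorem exists_decomp [Finite F] (θ : MulAut ↥(D.group F)) :
    ∃ (x : ↥(D.group F)) (c : Fin D.rank → Fˣ) (π : Equiv.Perm (Fin D.rank)) (g : MulAut ↥(D.group F))
      (σ : F ≃+* F), D.IsDiagramSymmetry π ∧ GraphWith D g π ∧
        θ = MulAut.conj x * dOf hD c * g * fOf hD σ := by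
  obtain ⟨x, d, g, f, hd, ⟨π, hπ, hg⟩, hf, hθ⟩ := Cfsg.Agent.Helper6.AutMain.main hD θ
  obtain ⟨c, hc⟩ := (isDiagonalAut_iff hD d).1 hd
  obtain ⟨σ, hσ⟩ := (isFieldAut_iff hD f).1 hf
  refine ⟨x, c, π, g, σ, hπ, hg, ?_⟩
  apply MulEquiv.ext
  intro y
  rw [hθ]
  show _ = x * dOf hD c (g (fOf hD σ y)) * x⁻¹
  have e1 : dOf hD c = d := hc
  have e2 : fOf hD σ = f := hσ
  rw [e1, e2]

end

end Cfsg.Agent.Helper6.OutStruct
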