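import Mathlib
import Cfsg.Agent.Lib.Helper6.OutStruct

/-!
The structure of the outer automorphism group of a Chevalley group, continued: the subgroups of the diagonal and of
the field classes.
-/

set_option autoImplicit false
set_option linter.unusedSectionVars false
set_option linter.unusedVariables false

namespace Cfsg.Agent.Helper6.OutStruct

open Cfsg Cfsg.Lie Cfsg.Agent.Lead.Chev Cfsg.Agent.Helper6.AutPerm Cfsg.Agent.Helper6.OutSym
  Cfsg.Agent.Helper6.OutGraph Cfsg.Agent.Helper6.AutRoot Cfsg.Agent.Helper6.AutData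
  Cfsg.Agent.Helper6.OutUniq Cfsg.Agent.Helper6.OutCount Cfsg.Agent.Helper6.AutDiag
  Cfsg.Agent.Helper6.OutReal

variable {F : Type*} [Field F] {D : ChevalleyDatum}

/-- the automorphism group of a finite field is cyclic -/
theorem isCyclic_ringAut [Finite F] : IsCyclic (F ≃+* F) := by
  have hp : Fact (ringChar F).Prime := ⟨CharP.char_is_prime F _⟩
  have : CharP F (ringChar F) := ringChar.charP F
  let _ : Algebra (ZMod (ringChar F)) F := ZMod.algebra F (ringChar F)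
  let φ : (F ≃ₐ[ZMod (ringChar F)] F) →* (F ≃+* F) :=
    { toFun := fun ψ => ψ.toRingEquiv
      map_one' := rfl
      map_mul' := fun _ _ => rfl }
  apply isCyclic_of_surjective φ
  intro σ
  refine ⟨AlgEquiv.ofRingEquiv (f := σ) ?_, rfl⟩
  intro x
  have h3 : ((σ : F →+* F).comp (algebraMap (ZMod (ringChar F)) F)) = algebraMap (ZMod (ringChar F)) F :=
    Subsingleton.elim _ _
  exact RingHom.congr_fun h3 x

section

variable (hD : D ∈ [chevG2, chevB2, chevD4, chevF4, chevE6, chevE7, chevE8])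
include hD

/-- the classes of the diagonal automorphisms -/
noncomputable def dBar : Subgroup (Cfsg.Out ↥(D.group F)) :=
  (dHom (F := F) hD).range.map (QuotientGroup.mk' (Cfsg.Inn ↥(D.group F)))

/-- the classes of the field automorphisms -/
noncomputable def fBar : Subgroup (Cfsg.Out ↥(D.group F)) :=
  (fHom (F := F) hD).range.map (QuotientGroup.mk' (Cfsg.Inn ↥(D.group F)))

theorem dBar_eq : dBar (F := F) hD =
    (Subgroup.closure {φ : MulAut ↥(D.group F) | D.IsDiagonalAut φ}).map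
      (QuotientGroup.mk' (Cfsg.Inn ↥(D.group F))) := by
  unfold dBar
  congr 1
  have : {φ : MulAut ↥(D.group F) | D.IsDiagonalAut φ} = ((dHom (F := F) hD).range : Set _) := by
    ext φ
    exact isDiagonalAut_iff hD φ
  rw [this, Subgroup.closure_eq]

theorem fBar_eq : fBar (F := F) hD =
    (Subgroup.closure {φ : MulAut ↥(D.group F) | D.IsFieldAut φ}).map
      (QuotientGroup.mk' (Cfsg.Inn ↥(D.group F))) := by
  unfold fBar
  congr 1
  have : {φ : MulAut ↥(D.group F) | D.IsFieldAut φ} = ((fHom (F := F) hD).range : Set _) := by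
    ext φ
    exact isFieldAut_iff hD φ
  rw [this, Subgroup.closure_eq]

theorem mem_dBar_iff (o : Cfsg.Out ↥(D.group F)) :
    o ∈ dBar hD ↔ ∃ c : Fin D.rank → Fˣ, o = QuotientGroup.mk (dOf hD c) := by
  unfold dBar
  constructor
  · rintro ⟨_, ⟨c, rfl⟩, rfl⟩
    exact ⟨c, rfl⟩
  · rintro ⟨c, rfl⟩
    exact ⟨_, ⟨c, rfl⟩, rfl⟩

theorem mem_fBar_iff (o : Cfsg.Out ↥(D.group F)) :
    o ∈ fBar hD ↔ ∃ σ : F ≃+* F, o = QuotientGroup.mk (fOf hD σ) := by
  unfold fBar
  constructor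
  · rintro ⟨_, ⟨σ, rfl⟩, rfl⟩
    exact ⟨σ, rfl⟩
  · rintro ⟨σ, rfl⟩
    exact ⟨_, ⟨σ, rfl⟩, rfl⟩

theorem dOf_mul (c c' : Fin D.rank → Fˣ) : dOf (F := F) hD c * dOf hD c' = dOf hD (c * c') :=
  ((dHom (F := F) hD).map_mul c c').symm

theorem dOf_inv (c : Fin D.rank → Fˣ) : (dOf (F := F) hD c)⁻¹ = dOf hD c⁻¹ :=
  ((dHom (F := F) hD).map_inv c).symm

theorem fOf_mul (σ τ : F ≃+* F) : fOf (F := F) hD σ * fOf hD τ = fOf hD (σ * τ) :=
  ((fHom (F := F) hD).map_mul σ τ).symm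

theorem fOf_inv (σ : F ≃+* F) : (fOf (F := F) hD σ)⁻¹ = fOf hD σ⁻¹ :=
  ((fHom (F := F) hD).map_inv σ).symm

/-- the class of an automorphism through its decomposition -/
theorem exists_mk_eq [Finite F] (o : Cfsg.Out ↥(D.group F)) :
    ∃ (c : Fin D.rank → Fˣ) (π : Equiv.Perm (Fin D.rank)) (g : MulAut ↥(D.group F)) (σ : F ≃+* F),
      D.IsDiagramSymmetry π ∧ GraphWith D g π ∧
        o = QuotientGroup.mk (dOf hD c) * QuotientGroup.mk g * QuotientGroup.mk (fOf hD σ) := by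
  obtain ⟨θ, rfl⟩ := QuotientGroup.mk_surjective o
  obtain ⟨x, c, π, g, σ, hπ, hg, hθ⟩ := exists_decomp hD θ
  refine ⟨c, π, g, σ, hπ, hg, ?_⟩
  rw [hθ, mul_assoc, mul_assoc, mk_conj_mul, QuotientGroup.mk_mul, QuotientGroup.mk_mul, mul_assoc]

/-- conjugation by the class of a graph automorphism maps diagonal classes to diagonal classes -/
theorem graph_conj_dBar (g : MulAut ↥(D.group F)) (π : Equiv.Perm (Fin D.rank)) (hg : GraphWith D g π)
    (n : Cfsg.Out ↥(D.group F)) (hn : n ∈ dBar hD) :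
    (QuotientGroup.mk g : Cfsg.Out ↥(D.group F)) * n * (QuotientGroup.mk g)⁻¹ ∈ dBar hD := by
  obtain ⟨c, rfl⟩ := (mem_dBar_iff hD n).1 hn
  rw [mem_dBar_iff]
  refine ⟨fun j => c (π.symm j) ^ D.graphExp (ringChar F) (π.symm j) j, ?_⟩
  rw [← QuotientGroup.mk_mul, graph_mul_dOf hD g π hg c, QuotientGroup.mk_mul, mul_assoc, mul_inv_cancel,
    mul_one]

/-- conjugation by a field class maps diagonal classes to diagonal classes -/
theorem field_conj_dBar (σ : F ≃+* F) (n : Cfsg.Out ↥(D.group F)) (hn : n ∈ dBar hD) :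
    (QuotientGroup.mk (fOf hD σ) : Cfsg.Out ↥(D.group F)) * n * (QuotientGroup.mk (fOf hD σ))⁻¹ ∈
      dBar hD := by
  obtain ⟨c, rfl⟩ := (mem_dBar_iff hD n).1 hn
  rw [mem_dBar_iff]
  refine ⟨fun j => Units.map (σ : F →* F) (c j), ?_⟩
  rw [← QuotientGroup.mk_mul, fOf_mul_dOf hD σ c, QuotientGroup.mk_mul, mul_assoc, mul_inv_cancel, mul_one]

theorem dBar_normal [Finite F] : (dBar (F := F) hD).Normal := by
  constructor
  intro n hn o
  obtain ⟨c, π, g, σ, hπ, hg, rfl⟩ := exists_mk_eq hD o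
  have h1 := field_conj_dBar hD σ n hn
  have h2 := graph_conj_dBar hD g π hg _ h1
  have h3 : (QuotientGroup.mk (dOf hD c) : Cfsg.Out ↥(D.group F)) ∈ dBar hD :=
    (mem_dBar_iff hD _).2 ⟨c, rfl⟩
  have h4 := mul_mem (mul_mem h3 h2) (inv_mem h3)
  convert h4 using 1
  group

theorem dBar_comm : IsMulCommutative ↥(dBar (F := F) hD) := by
  refine ⟨⟨fun a b => ?_⟩⟩
  obtain ⟨c, hc⟩ := (mem_dBar_iff hD a.1).1 a.2
  obtain ⟨c', hc'⟩ := (mem_dBar_iff hD b.1).1 b.2
  apply Subtype.ext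
  show a.1 * b.1 = b.1 * a.1
  rw [hc, hc', ← QuotientGroup.mk_mul, ← QuotientGroup.mk_mul, dOf_mul, dOf_mul, mul_comm]

theorem fBar_cyclic [Finite F] : IsCyclic ↥(fBar (F := F) hD) := by
  have := isCyclic_ringAut (F := F)
  let φ : (F ≃+* F) →* ↥(fBar (F := F) hD) :=
    ((QuotientGroup.mk' (Cfsg.Inn ↥(D.group F))).comp (fHom (F := F) hD)).codRestrict _
      (fun σ => (mem_fBar_iff hD _).2 ⟨σ, rfl⟩)
  apply isCyclic_of_surjective φ
  intro a
  obtain ⟨σ, hσ⟩ := (mem_fBar_iff hD a.1).1 a.2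
  exact ⟨σ, Subtype.ext hσ.symm⟩

theorem sup_normal [Finite F] : (dBar (F := F) hD ⊔ fBar hD).Normal := by
  have := dBar_normal (F := F) hD
  constructor
  intro n hn o
  obtain ⟨c, π, g, σ, hπ, hg, rfl⟩ := exists_mk_eq hD o
  have h3 : (QuotientGroup.mk (dOf hD c) : Cfsg.Out ↥(D.group F)) ∈ dBar hD ⊔ fBar hD :=
    Subgroup.mem_sup_left ((mem_dBar_iff hD _).2 ⟨c, rfl⟩)
  have h5 : (QuotientGroup.mk (fOf hD σ) : Cfsg.Out ↥(D.group F)) ∈ dBar hD ⊔ fBar hD :=
    Subgroup.mem_sup_right ((mem_fBar_iff hD _).2 ⟨σ, rfl⟩)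
  have h1 := mul_mem (mul_mem h5 hn) (inv_mem h5)
  -- the graph class normalizes
  have hg' : dBar hD ⊔ fBar hD ≤ (dBar (F := F) hD ⊔ fBar hD).comap
      (MulAut.conj (QuotientGroup.mk g : Cfsg.Out ↥(D.group F))).toMonoidHom := by
    apply sup_le
    · intro m hm
      rw [Subgroup.mem_comap]
      exact Subgroup.mem_sup_left (graph_conj_dBar hD g π hg m hm)
    · intro m hm
      rw [Subgroup.mem_comap]
      obtain ⟨τ, rfl⟩ := (mem_fBar_iff hD m).1 hm
      apply Subgroup.mem_sup_right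
      rw [mem_fBar_iff]
      refine ⟨τ, ?_⟩
      show (QuotientGroup.mk g : Cfsg.Out ↥(D.group F)) * _ * (QuotientGroup.mk g)⁻¹ = _
      rw [← QuotientGroup.mk_mul, graph_mul_fOf hD g π hg τ, QuotientGroup.mk_mul, mul_assoc, mul_inv_cancel,
        mul_one]
  have h2 := hg' h1
  rw [Subgroup.mem_comap] at h2
  have h4 := mul_mem (mul_mem h3 h2) (inv_mem h3)
  convert h4 using 1
  simp only [MulEquiv.coe_toMonoidHom, MulAut.conj_apply]
  group

end

end Cfsg.Agent.Helper6.OutStruct
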