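import Mathlib
import Cfsg.Agent.Lib.Helper6.OutStruct2

/-!
The structure of the outer automorphism group of a Chevalley group, continued: the index of the subgroup of the
diagonal and field classes is the number of realized symmetries of the diagram.
-/

set_option autoImplicit false
set_option linter.unusedSectionVars false
set_option linter.unusedVariables false

namespace Cfsg.Agent.Helper6.OutStruct

open Cfsg Cfsg.Lie Cfsg.Agent.Lead.Chev Cfsg.Agent.Helper6.AutPerm Cfsg.Agent.Helper6.OutSym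
  Cfsg.Agent.Helper6.OutGraph Cfsg.Agent.Helper6.AutRoot Cfsg.Agent.Helper6.AutData
  Cfsg.Agent.Helper6.OutUniq Cfsg.Agent.Helper6.OutCount Cfsg.Agent.Helper6.AutDiag
  Cfsg.Agent.Helper6.OutReal

variable {F : Type*} [Field F] {D : ChevalleyDatum}

section

variable (hD : D ∈ [chevG2, chevB2, chevD4, chevF4, chevE6, chevE7, chevE8])
include hD

/-- a graph automorphism is determined by its symmetry -/
theorem graphWith_unique {g g' : MulAut ↥(D.group F)} {π : Equiv.Perm (Fin D.rank)}
    (hg : GraphWith D g π) (hg' : GraphWith D g' π) : g = g' := by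
  have hF : ChevFacts D F := chevFacts_of_mem D hD
  apply ext_simple hF
  · intro i t
    rw [(graphWith_xG hF hg i t).1, (graphWith_xG hF hg' i t).1]
  · intro i t
    rw [(graphWith_xG hF hg i t).2, (graphWith_xG hF hg' i t).2]

theorem rep_eq (τ : Sym D F × (F ≃+* F) × (Fin D.rank → Fˣ)) :
    rep hD τ = dOf hD τ.2.2 * gOf τ.1 * fOf hD τ.2.1 := rfl

theorem rep_one (π : Sym D F) : rep hD (π, 1, 1) = gOf π := by
  rw [rep_eq]
  have h1 : dOf (F := F) hD 1 = 1 := (dHom (F := F) hD).map_one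
  have h2 : fOf (F := F) hD 1 = 1 := (fHom (F := F) hD).map_one
  show dOf hD 1 * gOf π * fOf hD 1 = gOf π
  rw [h1, h2, one_mul, mul_one]

/-- the class of a graph automorphism lies in the subgroup of the diagonal and field classes only if its symmetry
is trivial; more generally the symmetry is determined modulo that subgroup -/
theorem sym_eq_of_mem [Finite F] (π π' : Sym D F)
    (h : (QuotientGroup.mk (gOf π) : Cfsg.Out ↥(D.group F))⁻¹ * QuotientGroup.mk (gOf π') ∈
      dBar hD ⊔ fBar hD) : π = π' := by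
  have := dBar_normal (F := F) hD
  have h1 : ((QuotientGroup.mk (gOf π) : Cfsg.Out ↥(D.group F))⁻¹ * QuotientGroup.mk (gOf π')) ∈
      ((dBar hD ⊔ fBar hD : Subgroup (Cfsg.Out ↥(D.group F))) : Set (Cfsg.Out ↥(D.group F))) := h
  rw [Subgroup.normal_mul, Set.mem_mul] at h1
  obtain ⟨a, ha, b, hb, hab⟩ := h1
  obtain ⟨c, rfl⟩ := (mem_dBar_iff hD a).1 ha
  obtain ⟨σ, rfl⟩ := (mem_fBar_iff hD b).1 hb
  have h2 : (QuotientGroup.mk (gOf π') : Cfsg.Out ↥(D.group F)) =
      QuotientGroup.mk (gOf π * dOf hD c * fOf hD σ) := by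
    rw [QuotientGroup.mk_mul, QuotientGroup.mk_mul, mul_assoc, hab]
    group
  rw [graph_mul_dOf hD (gOf π) π.1 (gOf_spec π) c] at h2
  have h3 : cls hD (π', (1 : F ≃+* F), (1 : Fin D.rank → Fˣ)) =
      cls hD (π, σ, fun j => c (π.1.symm j) ^ D.graphExp (ringChar F) (π.1.symm j) j) := by
    unfold cls
    rw [rep_one, h2]
    rfl
  exact ((cls_eq_iff hD _ _).1 h3).1.symm

/-- the index of the subgroup of the diagonal and field classes -/
theorem index_sup [Finite F] : (dBar (F := F) hD ⊔ fBar hD).index = Nat.card (Sym D F) := by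
  have := sup_normal (F := F) hD
  rw [Subgroup.index_eq_card]
  symm
  apply Nat.card_eq_of_bijective
    (fun π : Sym D F => ((QuotientGroup.mk (gOf π) : Cfsg.Out ↥(D.group F)) :
      Cfsg.Out ↥(D.group F) ⧸ (dBar hD ⊔ fBar hD)))
  constructor
  · intro π π' h
    simp only at h
    rw [QuotientGroup.eq] at h
    exact sym_eq_of_mem hD π π' h
  · intro q
    obtain ⟨o, rfl⟩ := QuotientGroup.mk_surjective q
    obtain ⟨c, π, g, σ, hπ, hg, rfl⟩ := exists_mk_eq hD o
    refine ⟨⟨π, hπ, g, hg⟩, ?_⟩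
    have e : gOf (⟨π, hπ, g, hg⟩ : Sym D F) = g := graphWith_unique hD (gOf_spec _) hg
    simp only
    rw [e, QuotientGroup.eq]
    have h3 : (QuotientGroup.mk (dOf hD c) : Cfsg.Out ↥(D.group F)) ∈ dBar hD ⊔ fBar hD :=
      Subgroup.mem_sup_left ((mem_dBar_iff hD _).2 ⟨c, rfl⟩)
    have h5 : (QuotientGroup.mk (fOf hD σ) : Cfsg.Out ↥(D.group F)) ∈ dBar hD ⊔ fBar hD :=
      Subgroup.mem_sup_right ((mem_fBar_iff hD _).2 ⟨σ, rfl⟩)
    have h6 := Subgroup.Normal.conj_mem inferInstance _ h3 (QuotientGroup.mk g : Cfsg.Out ↥(D.group F))⁻¹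
    have h7 := mul_mem h6 h5
    convert h7 using 1
    group

end

end Cfsg.Agent.Helper6.OutStruct
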