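import Mathlib
import Cfsg.Agent.Lib.Helper6.OutStruct3
import Cfsg.Agent.Lib.Helper6.OutE6
import Cfsg.Agent.Lib.Helper6.ChevGraph_D4c
import Cfsg.Agent.S1081

/-!
The realized symmetries of the diagram of type D₄: all six of them, and they do not commute modulo the diagonal and
field classes.
-/

set_option autoImplicit false
set_option linter.unusedSectionVars false
set_option linter.unusedVariables false

namespace Cfsg.Agent.Helper6.OutD4

open Cfsg Cfsg.Lie Cfsg.Agent.Lead.Chev Cfsg.Agent.Helper6.AutPerm Cfsg.Agent.Helper6.OutSym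
  Cfsg.Agent.Helper6.OutGraph Cfsg.Agent.Helper6.OutCount Cfsg.Agent.Helper6.OutReal
  Cfsg.Agent.Helper6.OutE6 Cfsg.Agent.Helper6.OutStruct Cfsg.Agent.Helper6.ChevC

open scoped commutatorElement

theorem hD4 : chevD4 ∈ [chevG2, chevB2, chevD4, chevF4, chevE6, chevE7, chevE8] := by simp

/-- the symmetries of the diagram of type D₄ -/
def pR : Equiv.Perm (Fin chevD4.rank) :=
  permOfLists 4 [2, 1, 3, 0] [3, 1, 0, 2] (by decide) (by decide) (by decide) (by decide)
def pR' : Equiv.Perm (Fin chevD4.rank) :=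
  permOfLists 4 [3, 1, 0, 2] [2, 1, 3, 0] (by decide) (by decide) (by decide) (by decide)
def pB : Equiv.Perm (Fin chevD4.rank) :=
  permOfLists 4 [2, 1, 0, 3] [2, 1, 0, 3] (by decide) (by decide) (by decide) (by decide)

theorem pR_val (i : Fin chevD4.rank) : ((pR i : Fin chevD4.rank) : ℕ) = [2, 1, 3, 0].getD i.val 0 := rfl
theorem pR'_val (i : Fin chevD4.rank) : ((pR' i : Fin chevD4.rank) : ℕ) = [3, 1, 0, 2].getD i.val 0 := rfl
theorem pB_val (i : Fin chevD4.rank) : ((pB i : Fin chevD4.rank) : ℕ) = [2, 1, 0, 3].getD i.val 0 := rfl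

theorem permList_pR : permList pR = [2, 1, 3, 0] := by decide
theorem permList_pR' : permList pR' = [3, 1, 0, 2] := by decide
theorem permList_pB : permList pB = [2, 1, 0, 3] := by decide
theorem permList_pRB : permList (pR * pB) = [3, 1, 2, 0] := by decide
theorem permList_pR'B : permList (pR' * pB) = [0, 1, 3, 2] := by decide
theorem permList_pBR : permList (pB * pR) = [0, 1, 3, 2] := by decide

theorem pR_sym : chevD4.IsDiagramSymmetry pR := by
  unfold ChevalleyDatum.IsDiagramSymmetry
  decide +kernel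
theorem pR'_sym : chevD4.IsDiagramSymmetry pR' := by
  unfold ChevalleyDatum.IsDiagramSymmetry
  decide +kernel
theorem pB_sym : chevD4.IsDiagramSymmetry pB := by
  unfold ChevalleyDatum.IsDiagramSymmetry
  decide +kernel

theorem sym_mul {D : ChevalleyDatum} {π π' : Equiv.Perm (Fin D.rank)} (h : D.IsDiagramSymmetry π)
    (h' : D.IsDiagramSymmetry π') : D.IsDiagramSymmetry (π * π') := by
  intro i j hij
  rw [Equiv.Perm.mul_apply, Equiv.Perm.mul_apply, h _ _ (fun e => hij (π'.injective e)), h' i j hij]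

theorem isLong_D4 : ∀ j < 4, chevD4.isLong (chevD4.simple j) = false := by decide +kernel

theorem graphExp_D4 (c : ℕ) (i j : Fin chevD4.rank) : chevD4.graphExp c i j = 1 := by
  unfold ChevalleyDatum.graphExp
  rw [isLong_D4 j j.2]
  rfl

variable {F : Type*} [Field F]

/-- graph automorphisms compose -/
theorem graphWith_mul {g g' : MulAut ↥(chevD4.group F)} {π π' : Equiv.Perm (Fin chevD4.rank)}
    (hg : GraphWith chevD4 g π) (hg' : GraphWith chevD4 g' π') : GraphWith chevD4 (g * g') (π * π') := by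
  intro y i t
  constructor
  · intro h
    have h1 := (hg' y i t).1 h
    rw [graphExp_D4, pow_one] at h1
    have h2 := (hg (g' y) (π' i) t).1 h1
    rw [graphExp_D4, pow_one] at h2
    rw [graphExp_D4, pow_one]
    exact h2
  · intro h
    have h1 := (hg' y i t).2 h
    rw [graphExp_D4, pow_one] at h1
    have h2 := (hg (g' y) (π' i) t).2 h1
    rw [graphExp_D4, pow_one] at h2
    rw [graphExp_D4, pow_one]
    exact h2

theorem pR_real : ∃ g : MulAut ↥(chevD4.group F), GraphWith chevD4 g pR := by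
  obtain ⟨α, hα⟩ := Cfsg.Agent.S1081.result (F := F) (chevD4, [2, 1, 3, 0]) (by simp)
  refine ⟨α, ?_⟩
  intro y i t
  have h := hα y i.val t i.2
  rw [graphExp_D4, pow_one, pR_val]
  exact h

theorem pR'_real : ∃ g : MulAut ↥(chevD4.group F), GraphWith chevD4 g pR' := by
  obtain ⟨α, hα⟩ := Cfsg.Agent.S1081.result (F := F) (chevD4, [3, 1, 0, 2]) (by simp)
  refine ⟨α, ?_⟩
  intro y i t
  have h := hα y i.val t i.2
  rw [graphExp_D4, pow_one, pR'_val]
  exact h

theorem pB_real : ∃ g : MulAut ↥(chevD4.group F), GraphWith chevD4 g pB := by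
  obtain ⟨α, hα⟩ := Cfsg.Agent.S1081.aux (F := F) chevD4 GD4c.gp GD4c.gpInv [2, 1, 0, 3] GD4c.data
    GD4c.simple_lt GD4c.neg_simple_lt GD4c.pi_simple GD4c.eps_simple GD4c.pi_neg_simple GD4c.eps_neg_simple
  refine ⟨α, ?_⟩
  intro y i t
  have h := hα y i.val t i.2
  rw [graphExp_D4, pow_one, pB_val]
  exact h

/-- the realized symmetries -/
def sR (F : Type*) [Field F] : Sym chevD4 F := ⟨pR, pR_sym, pR_real⟩
def sR' (F : Type*) [Field F] : Sym chevD4 F := ⟨pR', pR'_sym, pR'_real⟩
def sB (F : Type*) [Field F] : Sym chevD4 F := ⟨pB, pB_sym, pB_real⟩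

/-- the product of two realized symmetries -/
def symMul (π π' : Sym chevD4 F) : Sym chevD4 F :=
  ⟨π.1 * π'.1, sym_mul π.2.1 π'.2.1, by
    obtain ⟨g, hg⟩ := π.2.2
    obtain ⟨g', hg'⟩ := π'.2.2
    exact ⟨g * g', graphWith_mul hg hg'⟩⟩

theorem gOf_symMul (π π' : Sym chevD4 F) : gOf (symMul π π') = gOf π * gOf π' :=
  graphWith_unique hD4 (gOf_spec _) (graphWith_mul (gOf_spec π) (gOf_spec π'))

/-- the six realized symmetries -/
def six (F : Type*) [Field F] : Fin 6 → Sym chevD4 F :=
  ![symOne chevD4 F, sR F, sR' F, sB F, symMul (sR F) (sB F), symMul (sR' F) (sB F)]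

theorem permList_six (k : Fin 6) : permList (six F k).1 =
    ([[0, 1, 2, 3], [2, 1, 3, 0], [3, 1, 0, 2], [2, 1, 0, 3], [3, 1, 2, 0], [0, 1, 3, 2]] :
      List (List ℕ)).getD k.val [] := by
  fin_cases k
  · rfl
  · exact permList_pR
  · exact permList_pR'
  · exact permList_pB
  · exact permList_pRB
  · exact permList_pR'B

theorem card_sym : Nat.card (Sym chevD4 F) = 6 := by
  rw [← Nat.card_eq_of_bijective (six F), Nat.card_eq_fintype_card, Fintype.card_fin]
  constructor
  · intro k k' h
    have h1 : permList (six F k).1 = permList (six F k').1 := by rw [h]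
    rw [permList_six, permList_six] at h1
    revert h1
    fin_cases k <;> fin_cases k' <;> simp
  · intro π
    have h := permList_mem_symSearch chevD4 π.1 π.2.1
    rw [sym_D4] at h
    simp only [List.mem_cons, List.mem_nil_iff, or_false] at h
    have key : ∀ k : Fin 6, permList π.1 = permList (six F k).1 → six F k = π := by
      intro k hk
      exact (Subtype.ext (permList_injective hk)).symm
    rcases h with h | h | h | h | h | h
    · exact ⟨0, key 0 (by rw [h, permList_six]; rfl)⟩
    · exact ⟨5, key 5 (by rw [h, permList_six]; rfl)⟩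
    · exact ⟨3, key 3 (by rw [h, permList_six]; rfl)⟩
    · exact ⟨1, key 1 (by rw [h, permList_six]; rfl)⟩
    · exact ⟨2, key 2 (by rw [h, permList_six]; rfl)⟩
    · exact ⟨4, key 4 (by rw [h, permList_six]; rfl)⟩

/-- the quotient by the diagonal and field classes is not abelian -/
theorem not_comm [Finite F] :
    ¬ commutator (Cfsg.Out ↥(chevD4.group F)) ≤ dBar (F := F) hD4 ⊔ fBar hD4 := by
  intro hle
  have hN := sup_normal (F := F) hD4
  set a : Cfsg.Out ↥(chevD4.group F) := QuotientGroup.mk (gOf (sR F)) with ha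
  set b : Cfsg.Out ↥(chevD4.group F) := QuotientGroup.mk (gOf (sB F)) with hb
  have h1 : ⁅a, b⁆ ∈ commutator (Cfsg.Out ↥(chevD4.group F)) :=
    Subgroup.commutator_mem_commutator (Subgroup.mem_top a) (Subgroup.mem_top b)
  have h2 := hle h1
  have h3 := hN.conj_mem _ h2 (b * a)⁻¹
  have h4 : (b * a)⁻¹ * ⁅a, b⁆ * (b * a)⁻¹⁻¹ = (b * a)⁻¹ * (a * b) := by
    rw [commutatorElement_def]
    group
  rw [h4, ha, hb, ← QuotientGroup.mk_mul, ← QuotientGroup.mk_mul, ← gOf_symMul, ← gOf_symMul] at h3
  have h5 := sym_eq_of_mem hD4 _ _ h3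
  have h6 := congrArg (fun π : Sym chevD4 F => permList π.1) h5
  simp only [symMul] at h6
  have e1 : permList ((sB F).1 * (sR F).1) = [0, 1, 3, 2] := permList_pBR
  have e2 : permList ((sR F).1 * (sB F).1) = [3, 1, 2, 0] := permList_pRB
  rw [e1, e2] at h6
  revert h6
  decide

end Cfsg.Agent.Helper6.OutD4
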