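import Mathlib
import Cfsg.Agent.Lib.Helper6.OutE6
import Cfsg.Agent.S1098

/-!
The realized symmetries of the diagram of type F₄.
-/

set_option autoImplicit false
set_option linter.unusedSectionVars false
set_option linter.unusedVariables false

namespace Cfsg.Agent.Helper6.OutF4

open Cfsg Cfsg.Lie Cfsg.Agent.Lead.Chev Cfsg.Agent.Helper6.OutSym
  Cfsg.Agent.Helper6.OutGraph Cfsg.Agent.Helper6.OutCount Cfsg.Agent.Helper6.OutReal
  Cfsg.Agent.Helper6.OutE6

/-- the symmetry of the diagram of type F₄ -/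
def flip : Equiv.Perm (Fin chevF4.rank) :=
  permOfLists 4 [3, 2, 1, 0] [3, 2, 1, 0] (by decide) (by decide) (by decide) (by decide)

theorem flip_val (i : Fin chevF4.rank) : ((flip i : Fin chevF4.rank) : ℕ) = [3, 2, 1, 0].getD i.val 0 := rfl

theorem permList_flip : permList flip = [3, 2, 1, 0] := by decide

theorem flip_ne_one : flip ≠ 1 := by
  intro h
  have := congrArg (fun π : Equiv.Perm (Fin chevF4.rank) => ((π ⟨0, by decide⟩ : Fin chevF4.rank) : ℕ)) h
  revert this
  decide

theorem flip_sym : chevF4.IsDiagramSymmetry flip := by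
  unfold ChevalleyDatum.IsDiagramSymmetry
  decide +kernel

theorem isLong_F4 : (List.range 4).map (fun j => chevF4.isLong (chevF4.simple j)) = [false, false, true, true] := by
  decide +kernel

theorem graphExp_F4 (c : ℕ) : ∀ i < 4, chevF4.graphExp c i ([3, 2, 1, 0].getD i 0) =
    (([(3, c), (2, c), (1, 1), (0, 1)] : List (ℕ × ℕ)).getD i (0, 1)).2 := by
  have h := isLong_F4
  simp only [List.range, List.range.loop, List.map_cons, List.map_nil, List.cons.injEq, and_true] at h
  obtain ⟨h0, h1, h2, h3⟩ := h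
  intro i hi
  interval_cases i <;> simp [ChevalleyDatum.graphExp, h0, h1, h2, h3]

variable {F : Type*} [Field F]

theorem flip_real [Finite F] (h2 : ringChar F = 2) :
    ∃ g : ↥(chevF4.group F) ≃* ↥(chevF4.group F), GraphWith chevF4 g flip := by
  have : CharP F 2 := by
    rw [← h2]
    exact ringChar.charP F
  have hperf : ∀ x : F, ∃ y : F, y ^ 2 = x := by
    intro x
    obtain ⟨y, hy⟩ := Finite.surjective_of_injective (frobenius_inj F 2) x
    exact ⟨y, hy⟩
  obtain ⟨α, hα⟩ := Cfsg.Agent.S1098.result (K := F) hperf (chevF4, [(3, 2), (2, 2), (1, 1), (0, 1)]) (by simp)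
  refine ⟨α, ?_⟩
  intro y i t
  have h := hα y i.val t i.2
  have he := graphExp_F4 2 i.val i.2
  rw [h2, flip_val, he]
  have hi : i.val < 4 := i.2
  rcases i with ⟨i, hi'⟩
  interval_cases i <;> exact h

theorem char_of_flip [Finite F] (g : ↥(chevF4.group F) ≃* ↥(chevF4.group F))
    (hg : GraphWith chevF4 g flip) : ringChar F = 2 := by
  have hD : chevF4 ∈ [chevG2, chevB2, chevD4, chevF4, chevE6, chevE7, chevE8] := by simp
  have : CharP F (ringChar F) := ringChar.charP F
  have : Fact (ringChar F).Prime := ⟨CharP.char_is_prime F _⟩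
  have h := graphWith_rel hD flip_sym hg ⟨1, by decide⟩ ⟨2, by decide⟩ (-1 : F) (by simp)
  have e1 : chevF4.graphExp (ringChar F) ((⟨1, by decide⟩ : Fin chevF4.rank) : ℕ)
      ((flip ⟨1, by decide⟩ : Fin chevF4.rank) : ℕ) = ringChar F := graphExp_F4 (ringChar F) 1 (by decide)
  have e2 : chevF4.graphExp (ringChar F) ((⟨2, by decide⟩ : Fin chevF4.rank) : ℕ)
      ((flip ⟨2, by decide⟩ : Fin chevF4.rank) : ℕ) = 1 := graphExp_F4 (ringChar F) 2 (by decide)
  have e3 : chevF4.cartan ((flip ⟨1, by decide⟩ : Fin chevF4.rank) : ℕ)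
      (chevF4.simple ((flip ⟨2, by decide⟩ : Fin chevF4.rank) : ℕ)) = -1 := by decide +kernel
  have e4 : chevF4.cartan ((⟨1, by decide⟩ : Fin chevF4.rank) : ℕ)
      (chevF4.simple ((⟨2, by decide⟩ : Fin chevF4.rank) : ℕ)) = -2 := by decide +kernel
  rw [e1, e2, e3, e4, neg_one_pow_char, pow_one] at h
  have h3 : (-1 : F) = 1 := by
    have h4 : ((-1 : F)) ^ (-2 : ℤ) = 1 := by
      rw [zpow_neg, zpow_ofNat]
      simp
    rw [h4, zpow_neg_one, inv_neg_one] at h
    exact h
  have h5 : (2 : F) = 0 := by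
    have : (1 : F) + 1 = 0 := by
      nth_rewrite 1 [← h3]
      simp
    rw [← this]
    norm_num
  have h6 : ((2 : ℕ) : F) = 0 := by exact_mod_cast h5
  have h7 := (CharP.cast_eq_zero_iff F (ringChar F) 2).1 h6
  exact (Nat.prime_dvd_prime_iff_eq (Fact.out) Nat.prime_two).1 h7

/-- the nontrivial realized symmetry -/
noncomputable def symFlip [Finite F] (h2 : ringChar F = 2) : Sym chevF4 F := ⟨flip, flip_sym, flip_real h2⟩

theorem card_sym [Finite F] : Nat.card (Sym chevF4 F) = Nat.gcd 2 (ringChar F) := by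
  have hall : ∀ π : Sym chevF4 F, π.1 = 1 ∨ π.1 = flip := by
    intro π
    have h := permList_mem_symSearch chevF4 π.1 π.2.1
    rw [sym_F4] at h
    simp only [List.mem_cons, List.mem_nil_iff, or_false] at h
    rcases h with h | h
    · left
      apply permList_injective
      rw [h]
      rfl
    · right
      apply permList_injective
      rw [h]
      exact permList_flip.symm
  by_cases h2 : ringChar F = 2
  · rw [h2]
    exact card_sym_two (symFlip h2) flip_ne_one hall
  · have hp : (ringChar F).Prime := CharP.char_is_prime F _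
    have hg : Nat.gcd 2 (ringChar F) = 1 := by
      rw [← Nat.coprime_iff_gcd_eq_one]
      exact (Nat.coprime_primes Nat.prime_two hp).2 (Ne.symm h2)
    rw [hg]
    apply card_sym_one
    intro π
    rcases hall π with h | h
    · exact h
    · exfalso
      obtain ⟨g, hg'⟩ := π.2.2
      rw [h] at hg'
      exact h2 (char_of_flip g hg')

end Cfsg.Agent.Helper6.OutF4
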