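import Mathlib
import Cfsg.Agent.Lib.Helper6.OutD4

/-!
The number of realized symmetries of the diagram for the seven types.
-/

set_option autoImplicit false
set_option linter.unusedSectionVars false
set_option linter.unusedVariables false

namespace Cfsg.Agent.Helper6.OutFinal

open Cfsg Cfsg.Lie Cfsg.Agent.Lead.Chev Cfsg.Agent.Helper6.OutSym
  Cfsg.Agent.Helper6.OutGraph Cfsg.Agent.Helper6.OutCount Cfsg.Agent.Helper6.OutReal
  Cfsg.Agent.Helper6.OutStruct

variable {F : Type*} [Field F] {D : ChevalleyDatum}

theorem card_sym_le_two (L : List ℕ) (h : ∀ π : Sym D F, π.1 = 1 ∨ permList π.1 = L) :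
    Nat.card (Sym D F) = 1 ∨ Nat.card (Sym D F) = 2 := by
  by_cases hex : ∃ ρ : Sym D F, ρ.1 ≠ 1
  · obtain ⟨ρ, hρ⟩ := hex
    right
    apply card_sym_two ρ hρ
    intro π
    rcases h π with h1 | h1
    · exact Or.inl h1
    · right
      have h2 := (h ρ).resolve_left hρ
      exact permList_injective (h1.trans h2.symm)
  · left
    apply card_sym_one
    intro π
    by_contra hπ
    exact hex ⟨π, hπ⟩

theorem eq_one_of_permList {n : ℕ} (π : Equiv.Perm (Fin n)) (h : permList π = permList (1 : Equiv.Perm (Fin n))) :
    π = 1 := permList_injective h

/-- the number of realized symmetries, and the quotient is not abelian when there are six -/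
theorem card_sym_cases [Finite F] (hD : D ∈ [chevG2, chevB2, chevD4, chevF4, chevE6, chevE7, chevE8]) :
    Nat.card (Sym D F) = 1 ∨ Nat.card (Sym D F) = 2 ∨
      (Nat.card (Sym D F) = 6 ∧ ¬ commutator (Cfsg.Out ↥(D.group F)) ≤ dBar (F := F) hD ⊔ fBar hD) := by
  have hD' := hD
  simp only [List.mem_cons, List.mem_nil_iff, or_false] at hD'
  rcases hD' with rfl | rfl | rfl | rfl | rfl | rfl | rfl
  · have := card_sym_le_two (D := chevG2) (F := F) [1, 0] (by
      intro π
      have h := permList_mem_symSearch chevG2 π.1 π.2.1
      rw [sym_G2] at h
      simp only [List.mem_cons, List.mem_nil_iff, or_false] at h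
      rcases h with h | h
      · left
        apply permList_injective
        rw [h]
        rfl
      · exact Or.inr h)
    rcases this with h | h
    · exact Or.inl h
    · exact Or.inr (Or.inl h)
  · have := card_sym_le_two (D := chevB2) (F := F) [1, 0] (by
      intro π
      have h := permList_mem_symSearch chevB2 π.1 π.2.1
      rw [sym_B2] at h
      simp only [List.mem_cons, List.mem_nil_iff, or_false] at h
      rcases h with h | h
      · left
        apply permList_injective
        rw [h]
        rfl
      · exact Or.inr h)
    rcases this with h | h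
    · exact Or.inl h
    · exact Or.inr (Or.inl h)
  · exact Or.inr (Or.inr ⟨Cfsg.Agent.Helper6.OutD4.card_sym, Cfsg.Agent.Helper6.OutD4.not_comm⟩)
  · have := card_sym_le_two (D := chevF4) (F := F) [3, 2, 1, 0] (by
      intro π
      have h := permList_mem_symSearch chevF4 π.1 π.2.1
      rw [sym_F4] at h
      simp only [List.mem_cons, List.mem_nil_iff, or_false] at h
      rcases h with h | h
      · left
        apply permList_injective
        rw [h]
        rfl
      · exact Or.inr h)
    rcases this with h | h
    · exact Or.inl h
    · exact Or.inr (Or.inl h)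
  · have := card_sym_le_two (D := chevE6) (F := F) [5, 1, 4, 3, 2, 0] (by
      intro π
      have h := permList_mem_symSearch chevE6 π.1 π.2.1
      rw [sym_E6] at h
      simp only [List.mem_cons, List.mem_nil_iff, or_false] at h
      rcases h with h | h
      · left
        apply permList_injective
        rw [h]
        rfl
      · exact Or.inr h)
    rcases this with h | h
    · exact Or.inl h
    · exact Or.inr (Or.inl h)
  · left
    apply card_sym_one
    intro π
    have h := permList_mem_symSearch chevE7 π.1 π.2.1
    rw [sym_E7, List.mem_singleton] at h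
    apply permList_injective
    rw [h]
    rfl
  · left
    apply card_sym_one
    intro π
    have h := permList_mem_symSearch chevE8 π.1 π.2.1
    rw [sym_E8, List.mem_singleton] at h
    apply permList_injective
    rw [h]
    rfl

end Cfsg.Agent.Helper6.OutFinal
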