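import Mathlib
import Cfsg.Agent.Lib.Helper6.OutE6
import Cfsg.Agent.S1099

/-!
The realized symmetries of the diagram of type G₂.
-/

set_option autoImplicit false
set_option linter.unusedSectionVars false
set_option linter.unusedVariables false

namespace Cfsg.Agent.Helper6.OutG2

open Cfsg Cfsg.Lie Cfsg.Agent.Lead.Chev Cfsg.Agent.Helper6.OutSym
  Cfsg.Agent.Helper6.OutGraph Cfsg.Agent.Helper6.OutCount Cfsg.Agent.Helper6.OutReal
  Cfsg.Agent.Helper6.OutE6

/-- the symmetry of the diagram of type G₂ -/
def flip : Equiv.Perm (Fin chevG2.rank) :=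
  permOfLists 2 [1, 0] [1, 0] (by decide) (by decide) (by decide) (by decide)

theorem flip_val (i : Fin chevG2.rank) : ((flip i : Fin chevG2.rank) : ℕ) = [1, 0].getD i.val 0 := rfl

theorem permList_flip : permList flip = [1, 0] := by decide

theorem flip_ne_one : flip ≠ 1 := by
  intro h
  have := congrArg (fun π : Equiv.Perm (Fin chevG2.rank) => ((π ⟨0, by decide⟩ : Fin chevG2.rank) : ℕ)) h
  revert this
  decide

theorem flip_sym : chevG2.IsDiagramSymmetry flip := by
  unfold ChevalleyDatum.IsDiagramSymmetry
  decide +kernel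

theorem isLong_G2 : (List.range 2).map (fun j => chevG2.isLong (chevG2.simple j)) = [false, true] := by
  decide +kernel

theorem graphExp_G2 (c : ℕ) : ∀ i < 2, chevG2.graphExp c i ([1, 0].getD i 0) =
    (([(1, c), (0, 1)] : List (ℕ × ℕ)).getD i (0, 1)).2 := by
  have h := isLong_G2
  simp only [List.range, List.range.loop, List.map_cons, List.map_nil, List.cons.injEq, and_true] at h
  obtain ⟨h0, h1⟩ := h
  intro i hi
  interval_cases i <;> simp [ChevalleyDatum.graphExp, h0, h1]

variable {F : Type*} [Field F]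

theorem flip_real [Finite F] (h3 : ringChar F = 3) :
    ∃ g : ↥(chevG2.group F) ≃* ↥(chevG2.group F), GraphWith chevG2 g flip := by
  have : CharP F 3 := by
    rw [← h3]
    exact ringChar.charP F
  have hperf : ∀ x : F, ∃ y : F, y ^ 3 = x := by
    intro x
    have : Fact (Nat.Prime 3) := ⟨Nat.prime_three⟩
    obtain ⟨y, hy⟩ := Finite.surjective_of_injective (frobenius_inj F 3) x
    exact ⟨y, hy⟩
  obtain ⟨α, hα⟩ := Cfsg.Agent.S1099.result (K := F) hperf
  refine ⟨α, ?_⟩
  intro y i t
  obtain ⟨ha, hb, hma, hmb⟩ := hα y t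
  have he := graphExp_G2 3 i.val i.2
  rw [h3, flip_val, he]
  rcases i with ⟨i, hi'⟩
  have hi : i < 2 := hi'
  interval_cases i
  · exact ⟨ha, hma⟩
  · constructor
    · intro h
      convert hb h using 2
      · rfl
      · exact pow_one t
    · intro h
      convert hmb h using 2
      · rfl
      · exact pow_one t

theorem char_of_flip [Fintype F] (hq : 3 ≤ Fintype.card F) (g : ↥(chevG2.group F) ≃* ↥(chevG2.group F))
    (hg : GraphWith chevG2 g flip) : ringChar F = 3 := by
  classical
  have hD : chevG2 ∈ [chevG2, chevB2, chevD4, chevF4, chevE6, chevE7, chevE8] := by simp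
  have : CharP F (ringChar F) := ringChar.charP F
  have hp : Fact (ringChar F).Prime := ⟨CharP.char_is_prime F _⟩
  have e1 : chevG2.graphExp (ringChar F) ((⟨0, by decide⟩ : Fin chevG2.rank) : ℕ)
      ((flip ⟨0, by decide⟩ : Fin chevG2.rank) : ℕ) = ringChar F := graphExp_G2 (ringChar F) 0 (by decide)
  have e2 : chevG2.graphExp (ringChar F) ((⟨1, by decide⟩ : Fin chevG2.rank) : ℕ)
      ((flip ⟨1, by decide⟩ : Fin chevG2.rank) : ℕ) = 1 := graphExp_G2 (ringChar F) 1 (by decide)
  have e3 : chevG2.cartan ((flip ⟨0, by decide⟩ : Fin chevG2.rank) : ℕ)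
      (chevG2.simple ((flip ⟨1, by decide⟩ : Fin chevG2.rank) : ℕ)) = -1 := by decide +kernel
  have e4 : chevG2.cartan ((⟨0, by decide⟩ : Fin chevG2.rank) : ℕ)
      (chevG2.simple ((⟨1, by decide⟩ : Fin chevG2.rank) : ℕ)) = -3 := by decide +kernel
  -- `t ^ p = t ^ 3` for all `t`
  have key : ∀ t : F, t ^ ringChar F = t ^ 3 := by
    intro t
    by_cases ht : t = 0
    · rw [ht, zero_pow hp.out.ne_zero, zero_pow (by norm_num)]
    · have h := graphWith_rel hD flip_sym hg ⟨0, by decide⟩ ⟨1, by decide⟩ t ht
      rw [e1, e2, e3, e4, pow_one, zpow_neg_one, zpow_neg, inv_inj, zpow_ofNat] at h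
      exact h
  -- the cube map is additive
  have hadd : ∀ t : F, (1 + t) ^ 3 = 1 + t ^ 3 := by
    intro t
    rw [← key, ← key, add_pow_char, one_pow]
  -- some `t` is neither `0` nor `-1`
  obtain ⟨t, ht0, ht1⟩ : ∃ t : F, t ≠ 0 ∧ 1 + t ≠ 0 := by
    by_contra hcon
    push Not at hcon
    have hsub : (Finset.univ : Finset F) ⊆ {0, -1} := by
      intro t _
      by_cases ht : t = 0
      · simp [ht]
      · have := hcon t ht
        have : t = -1 := by linear_combination this
        simp [this]
    have := Finset.card_le_card hsub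
    rw [Finset.card_univ] at this
    have h2 : ({0, -1} : Finset F).card ≤ 2 := Finset.card_le_two
    omega
  have h3 : (3 : F) = 0 := by
    have h := hadd t
    have h4 : 3 * (t * (1 + t)) = 0 := by linear_combination h
    rcases mul_eq_zero.1 h4 with h5 | h5
    · exact h5
    · rcases mul_eq_zero.1 h5 with h6 | h6
      · exact absurd h6 ht0
      · exact absurd h6 ht1
  have h6 : ((3 : ℕ) : F) = 0 := by exact_mod_cast h3
  have h7 := (CharP.cast_eq_zero_iff F (ringChar F) 3).1 h6
  exact (Nat.prime_dvd_prime_iff_eq hp.out Nat.prime_three).1 h7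

/-- the nontrivial realized symmetry -/
noncomputable def symFlip [Finite F] (h3 : ringChar F = 3) : Sym chevG2 F := ⟨flip, flip_sym, flip_real h3⟩

theorem card_sym [Fintype F] (hq : 3 ≤ Fintype.card F) :
    Nat.card (Sym chevG2 F) = if ringChar F = 3 then 2 else 1 := by
  have hall : ∀ π : Sym chevG2 F, π.1 = 1 ∨ π.1 = flip := by
    intro π
    have h := permList_mem_symSearch chevG2 π.1 π.2.1
    rw [sym_G2] at h
    simp only [List.mem_cons, List.mem_nil_iff, or_false] at h
    rcases h with h | h
    · left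
      apply permList_injective
      rw [h]
      rfl
    · right
      apply permList_injective
      rw [h]
      exact permList_flip.symm
  by_cases h3 : ringChar F = 3
  · rw [if_pos h3]
    exact card_sym_two (symFlip h3) flip_ne_one hall
  · rw [if_neg h3]
    apply card_sym_one
    intro π
    rcases hall π with h | h
    · exact h
    · exfalso
      obtain ⟨g, hg'⟩ := π.2.2
      rw [h] at hg'
      exact h3 (char_of_flip hq g hg')

end Cfsg.Agent.Helper6.OutG2
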