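import Mathlib
import Cfsg.Agent.Lib.Helper6.OutCount
import Cfsg.Agent.S1035

/-!
The index of the characters of the torus in all the characters of the root lattice.
-/

set_option autoImplicit false
set_option linter.unusedSectionVars false
set_option linter.unusedVariables false

namespace Cfsg.Agent.Helper6.OutQuot

open Cfsg Cfsg.Lie Cfsg.Agent.Lead.Chev Cfsg.Agent.Helper6.OutCount

variable {F : Type*} [Field F] [Fintype F] {D : ChevalleyDatum}

theorem card_quot (hD : D ∈ [chevG2, chevB2, chevD4, chevF4, chevE6, chevE7, chevE8])
    (m : ℕ → Fin D.rank → ℤ) (hm : RootCoef D m) (d : ℕ)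
    (hd : d * Nat.card (D.diagonalSubgroup F) = (Fintype.card F - 1) ^ D.rank) :
    Nat.card ((Fin D.rank → Fˣ) ⧸ (cartanHom D F).range) = d := by
  classical
  have hF : ChevFacts D F := chevFacts_of_mem D hD
  have hcard : Nat.card (Fin D.rank → Fˣ) = (Fintype.card F - 1) ^ D.rank := by
    rw [Nat.card_fun, Nat.card_eq_fintype_card, Fintype.card_units]
    simp
  have hker : (cartanHom D F).ker = (torusHom D F).ker := by
    ext c
    rw [mem_ker_torusHom_iff D m hm hF.simple_lt, MonoidHom.mem_ker]
    constructor
    · intro h
      funext j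
      have := congrFun h j
      rw [cartanHom_apply] at this
      exact this
    · intro h
      funext j
      rw [cartanHom_apply]
      exact congrFun h j
  have h1 : Nat.card (cartanHom D F).range = Nat.card (D.diagonalSubgroup F) := by
    rw [← torusHom_range D hF.xadd hF.hsimple hF.hall hF.simple_lt, ← Subgroup.index_ker,
      ← Subgroup.index_ker, hker]
  have h2 := Subgroup.card_eq_card_quotient_mul_card_subgroup (cartanHom D F).range
  rw [hcard, h1, ← hd] at h2
  have hpos : 0 < Nat.card (D.diagonalSubgroup F) := Nat.card_pos
  exact (Nat.eq_of_mul_eq_mul_right hpos h2).symm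

end Cfsg.Agent.Helper6.OutQuot
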