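import Mathlib
import Cfsg.Agent.Lib.Helper6.RootCentData

/-!
# The subgroup generated by a long root subgroup and a conjugate

`X` the root subgroup of the highest root `r₀`: for `g = b n_w u` the conjugate `g X g⁻¹` is `b X_s b⁻¹` with
`s = w r₀`, and `⟨X, X_s⟩` is conjugate into `U` unless `s = -r₀`.
-/

set_option autoImplicit false
set_option linter.unusedSectionVars false
set_option linter.unusedSimpArgs false
set_option linter.unusedVariables false

namespace Cfsg.Agent.Helper6.RootCent

open Cfsg Cfsg.Lie Cfsg.Agent.Lead.Chev Cfsg.Agent.Helper6.ChevL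

variable {F : Type*} [Field F] {D : ChevalleyDatum}

theorem map_conj_eq_of_mem_normalizer {G : Type*} [Group G] (H : Subgroup G) (g : G)
    (hg : g ∈ Subgroup.normalizer (H : Set G)) : H.map (MulAut.conj g).toMonoidHom = H := by
  ext x
  constructor
  · rintro ⟨y, hy, rfl⟩
    exact ((Subgroup.mem_normalizer_iff.1 hg) y).1 hy
  · intro hx
    refine ⟨g⁻¹ * x * g, ?_, ?_⟩
    · apply ((Subgroup.mem_normalizer_iff.1 hg) (g⁻¹ * x * g)).2
      have : g * (g⁻¹ * x * g) * g⁻¹ = x := by group
      rw [this]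
      exact hx
    · show g * (g⁻¹ * x * g) * g⁻¹ = x
      group

theorem map_conj_mul {G : Type*} [Group G] (H : Subgroup G) (a b : G) :
    H.map (MulAut.conj (a * b)).toMonoidHom =
      (H.map (MulAut.conj b).toMonoidHom).map (MulAut.conj a).toMonoidHom := by
  rw [Subgroup.map_map]
  congr 1
  ext x
  simp [mul_assoc]

theorem map_conj_one {G : Type*} [Group G] (H : Subgroup G) :
    H.map (MulAut.conj (1 : G)).toMonoidHom = H := by
  ext x
  constructor
  · rintro ⟨y, hy, rfl⟩
    simpa using hy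
  · intro hx
    exact ⟨x, hx, by simp⟩

theorem rootSubgroup_eq_rootGen (D : ChevalleyDatum) (r : ℕ) :
    D.rootSubgroup F r = rootGen D F (fun s => s = r) := by
  unfold ChevalleyDatum.rootSubgroup rootGen
  congr 1
  ext g
  constructor
  · rintro ⟨t, h⟩
    exact ⟨r, t, rfl, h⟩
  · rintro ⟨_, t, rfl, h⟩
    exact ⟨t, h⟩

/-- the table test: for each root `s ≠ -r₀` a word moving both `r₀` and `s` to positive roots -/
def pairPosChk (D : ChevalleyDatum) (r₀ : ℕ) (tab : List (List ℕ)) : Bool :=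
  (List.range D.nroots).all fun s => decide (s = D.neg r₀) ||
    ((tab.getD s []).all (fun i => decide (i < D.rank)) &&
      decide (D.IsPosRoot (reflWord D (tab.getD s []) r₀)) &&
      decide (D.IsPosRoot (reflWord D (tab.getD s []) s)))

section

variable (hF : ChevFacts D F)
include hF

theorem signWord_facts (w : List ℕ) (hw : ∀ i ∈ w, i < D.rank) (s : ℕ) :
    ((signWord D (etaOf D) w s : ℤ) : F) * ((signWord D (etaOf D) w s : ℤ) : F) = 1 := by
  have := signWord_sq D (etaOf D) w (fun i hi s => (hF.nsimple i (hw i hi)).sign s) s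
  rcases this with h | h <;> rw [h] <;> simp

/-- conjugation by `n_w` maps `X_r` onto `X_{w r}` -/
theorem map_conj_nWordGL (w : List ℕ) (hw : ∀ i ∈ w, i < D.rank) (r : ℕ) (hr : r < D.nroots) :
    (rootGen D F (fun s => s = r)).map (MulAut.conj (nWordGL D hF.xadd w)).toMonoidHom =
      rootGen D F (fun s => s = reflWord D w r) := by
  have hconj := fun t => nWordGL_conj D hF.xadd (etaOf D) hF.nsimple w hw r hr t
  have hε := signWord_facts hF w hw r
  ext x
  constructor
  · rintro ⟨y, hy, rfl⟩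
    obtain ⟨c, rfl⟩ := (mem_rootGen_eq_iff hF.xadd r y).1 hy
    show nWordGL D hF.xadd w * xGL D hF.xadd r c * (nWordGL D hF.xadd w)⁻¹ ∈ _
    rw [hconj c]
    exact (mem_rootGen_eq_iff hF.xadd _ _).2 ⟨_, rfl⟩
  · intro hx
    obtain ⟨c, rfl⟩ := (mem_rootGen_eq_iff hF.xadd _ x).1 hx
    refine ⟨xGL D hF.xadd r (((signWord D (etaOf D) w r : ℤ) : F) * c),
      (mem_rootGen_eq_iff hF.xadd r _).2 ⟨_, rfl⟩, ?_⟩
    show nWordGL D hF.xadd w * xGL D hF.xadd r _ * (nWordGL D hF.xadd w)⁻¹ = _
    rw [hconj, ← mul_assoc, hε, one_mul]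

variable {r₀ k : ℕ} (hd : CentData (F := F) (D := D) r₀ k)
include hd

/-- **the subgroup generated by `X` and a conjugate** -/
theorem pair_thm (hS : CorSize D) (tab : List (List ℕ)) (htab : pairPosChk D r₀ tab = true)
    (hU2 : IsPGroup 2 ↥(D.posUnipotent F)) (g : GL D.Idx F) (hg : g ∈ D.group F) :
    IsPGroup 2 ↥(D.rootSubgroup F r₀ ⊔ (D.rootSubgroup F r₀).map (MulAut.conj g).toMonoidHom) ∨
    ∃ h ∈ D.group F, (D.rootSubgroup F r₀ ⊔
        (D.rootSubgroup F r₀).map (MulAut.conj g).toMonoidHom).map (MulAut.conj h).toMonoidHom =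
      D.rootSubgroup F r₀ ⊔ D.rootSubgroup F (D.neg r₀) := by
  rw [rootSubgroup_eq_rootGen, rootSubgroup_eq_rootGen]
  obtain ⟨b, hb, w, hw, u, hu, rfl⟩ := hF.exists_bruhat hS g hg
  have huU := hF.negPart_le_posUnipotent w hu
  have hbn := borel_le_normalizer hF hd hb
  have hun := borel_le_normalizer hF hd (posUnipotent_le_borel D huU)
  have hXg : (rootGen D F (fun s => s = r₀)).map (MulAut.conj (b * nWordGL D hF.xadd w * u)).toMonoidHom =
      (rootGen D F (fun s => s = reflWord D w r₀)).map (MulAut.conj b).toMonoidHom := by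
    rw [map_conj_mul, map_conj_eq_of_mem_normalizer _ u hun, map_conj_mul,
      map_conj_nWordGL hF w hw r₀ hd.pos.1]
  have hsup : rootGen D F (fun s => s = r₀) ⊔
      (rootGen D F (fun s => s = reflWord D w r₀)).map (MulAut.conj b).toMonoidHom =
      (rootGen D F (fun s => s = r₀) ⊔ rootGen D F (fun s => s = reflWord D w r₀)).map
        (MulAut.conj b).toMonoidHom := by
    rw [Subgroup.map_sup, map_conj_eq_of_mem_normalizer _ b hbn]
  rw [hXg, hsup]
  have hlt := reflWord_lt D (etaOf D) (fun i hi => (hF.nsimple i hi).facts) w hw r₀ hd.pos.1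
  by_cases hs : reflWord D w r₀ = D.neg r₀
  · right
    refine ⟨b⁻¹, inv_mem (hF.borel_le_group hb), ?_⟩
    rw [← map_conj_mul, inv_mul_cancel, map_conj_one, hs]
  · left
    unfold pairPosChk at htab
    rw [List.all_eq_true] at htab
    have h1 := htab _ (List.mem_range.2 hlt)
    simp only [Bool.or_eq_true, decide_eq_true_eq, Bool.and_eq_true, List.all_eq_true] at h1
    rcases h1 with h1 | ⟨⟨hw', hp1⟩, hp2⟩
    · exact absurd h1 hs
    set w' := tab.getD (reflWord D w r₀) [] with hw'def
    have hconj' := fun r hr t => nWordGL_conj D hF.xadd (etaOf D) hF.nsimple w' hw' r hr t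
    have hle : rootGen D F (fun s => s = r₀) ⊔ rootGen D F (fun s => s = reflWord D w r₀) ≤
        (D.posUnipotent F).map (MulAut.conj (nWordGL D hF.xadd w')⁻¹).toMonoidHom := by
      have key : ∀ r < D.nroots, D.IsPosRoot (reflWord D w' r) → rootGen D F (fun s => s = r) ≤
          (D.posUnipotent F).map (MulAut.conj (nWordGL D hF.xadd w')⁻¹).toMonoidHom := by
        intro r hr hpos x hx
        obtain ⟨c, rfl⟩ := (mem_rootGen_eq_iff hF.xadd r x).1 hx
        refine ⟨nWordGL D hF.xadd w' * xGL D hF.xadd r c * (nWordGL D hF.xadd w')⁻¹, ?_, ?_⟩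
        · rw [hconj' r hr c]
          exact xGL_mem_posUnipotent D hF.xadd _ hpos _
        · show (nWordGL D hF.xadd w')⁻¹ * _ * (nWordGL D hF.xadd w')⁻¹⁻¹ = _
          group
      exact sup_le (key r₀ hd.pos.1 hp1) (key _ hlt hp2)
    exact ((hU2.map _).to_le hle).map _

end

end Cfsg.Agent.Helper6.RootCent
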