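import Mathlib
import Cfsg.Agent.Lib.Helper11.S11Defs

/-!
# S3211 piece S11-FRAMEA: `L₁` commutes with `σ(L₁) ⊆ L₂`, and `L₁ ∩ σ(L₁) ⊆ {1, j}`
-/

set_option autoImplicit false
set_option linter.unusedVariables false

namespace Cfsg.Agent.Helper11.S11

theorem s11_framea_sg_mem {G : Type*} [Group G] (L₁ L₂ : Subgroup G) (n : G)
    (hswap : L₁.map (MulAut.conj n).toMonoidHom = L₂) (y : G) (hy : y ∈ L₁) : sg n y ∈ L₂ := by
  rw [← hswap]
  refine ⟨y, hy, ?_⟩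
  simp [sg, MulAut.conj_apply]

theorem frame_comm {G : Type*} [Group G] (L₁ L₂ : Subgroup G)
    (hc : ∀ x ∈ L₁, ∀ y ∈ L₂, x * y = y * x) (j : G) (hj : orderOf j = 2)
    (hm : L₁ ⊓ L₂ = Subgroup.zpowers j) (n : G)
    (hswap : L₁.map (MulAut.conj n).toMonoidHom = L₂) :
    (∀ x ∈ L₁, ∀ y ∈ L₁, x * sg n y = sg n y * x) ∧
      (∀ x ∈ L₁, ∀ y ∈ L₁, x = sg n y → x = 1 ∨ x = j) := by
  refine ⟨fun x hx y hy => hc x hx _ (s11_framea_sg_mem L₁ L₂ n hswap y hy), ?_⟩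
  intro x hx y hy hxy
  have hx2 : x ∈ L₂ := by
    rw [hxy]; exact s11_framea_sg_mem L₁ L₂ n hswap y hy
  have hxz : x ∈ Subgroup.zpowers j := by
    rw [← hm]; exact ⟨hx, hx2⟩
  obtain ⟨k, rfl⟩ := Subgroup.mem_zpowers_iff.1 hxz
  have hj2 : j ^ (2 : ℤ) = 1 := by
    have := pow_orderOf_eq_one j
    rw [hj] at this
    exact_mod_cast this
  rcases Int.emod_two_eq_zero_or_one k with h0 | h1
  · left
    have hk : k = 2 * (k / 2) := by omega
    rw [hk, zpow_mul, hj2, one_zpow]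
  · right
    have hk : k = 2 * (k / 2) + 1 := by omega
    rw [hk, zpow_add, zpow_mul, hj2, one_zpow, one_mul, zpow_one]

end Cfsg.Agent.Helper11.S11
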