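import Mathlib
import Cfsg.Agent.Lib.Helper15.S64Defs
import Cfsg.Agent.Lib.Helper2.SzSimple
import Cfsg.Agent.Lib.Helper2.SzSylow

/-!
# S3664, PIECE S64-FIX5 (helper6, for helper15): an element of order 5 of `Sz(8) ⋊ Aut(F)` fixing a
nonzero matrix.
-/

set_option autoImplicit false
set_option linter.unusedSectionVars false
set_option linter.unusedVariables false

namespace Cfsg.Agent.Helper15.S64

open Matrix Cfsg.Agent.Helper2 Cfsg.Agent.Helper2.Sz

variable {F : Type*} [Field F] [Fintype F] (S : SzData F 1)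
  (hF : Fintype.card F = 2 ^ (2 * 1 + 1))

/-- the matrix of the element of order 5 -/
def s64_fix5_M (F : Type*) [Field F] : Matrix (Fin 4) (Fin 4) F :=
  !![0, 0, 0, 1; 0, 0, 1, 0; 0, 1, 0, 1; 1, 0, 1, 1]

theorem s64_fix5_pow (h2 : (2 : F) = 0) : s64_fix5_M F ^ 5 = 1 := by
  have e2 : s64_fix5_M F * s64_fix5_M F = !![1, 0, 1, 1; 0, 1, 0, 1; 1, 0, 0, 1; 1, 1, 1, 1] := by
    ext i j
    fin_cases i <;> fin_cases j <;>
      simp [s64_fix5_M, Matrix.mul_apply, Fin.sum_univ_four] <;> grind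
  have e4 : (!![1, 0, 1, 1; 0, 1, 0, 1; 1, 0, 0, 1; 1, 1, 1, 1] : Matrix (Fin 4) (Fin 4) F) *
      !![1, 0, 1, 1; 0, 1, 0, 1; 1, 0, 0, 1; 1, 1, 1, 1] =
      !![1, 1, 0, 1; 1, 0, 1, 0; 0, 1, 0, 0; 1, 0, 0, 0] := by
    ext i j
    fin_cases i <;> fin_cases j <;>
      simp [Matrix.mul_apply, Fin.sum_univ_four] <;> grind
  have e5 : (!![1, 1, 0, 1; 1, 0, 1, 0; 0, 1, 0, 0; 1, 0, 0, 0] : Matrix (Fin 4) (Fin 4) F) *
      s64_fix5_M F = 1 := by
    ext i j
    fin_cases i <;> fin_cases j <;>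
      simp [s64_fix5_M, Matrix.mul_apply, Fin.sum_univ_four] <;> grind
  have h5 : (5 : ℕ) = 2 * 2 + 1 := by norm_num
  rw [h5, pow_succ, pow_mul, pow_two (s64_fix5_M F), e2, pow_two, e4, e5]

theorem s64_fix5_fix (h2 : (2 : F) = 0) :
    s64_fix5_M F * Wm * (s64_fix5_M F)ᵀ = Wm := by
  ext i j
  fin_cases i <;> fin_cases j <;>
    simp [s64_fix5_M, Wm, Matrix.mul_apply, Fin.sum_univ_four] <;> grind

theorem s64_fix5_mat_pow (g : Cfsg.Sz F 1) (k : ℕ) : mat (g ^ k) = mat g ^ k := by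
  induction k with
  | zero => rw [pow_zero, pow_zero, mat_one]
  | succ k ih => rw [pow_succ, pow_succ, mat_mul, ih]

theorem s64_fix5_mat_g5 : mat (S.WgSz * S.TgSz 0 1) = s64_fix5_M F := by
  rw [mat_mul]
  show Wm * Tm S.s 0 1 = s64_fix5_M F
  ext i j
  fin_cases i <;> fin_cases j <;>
    simp [s64_fix5_M, Wm, Tm, Cfsg.Agent.S0335.ff, Matrix.mul_apply, Fin.sum_univ_four]

/-- PIECE S64-FIX5 -/
theorem exists_fix5 : ∃ x : Lgrp S hF, orderOf x = 5 ∧
    ∃ X : Matrix (Fin 4) (Fin 4) F, X ≠ 0 ∧ x • X = X := by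
  have hmat := s64_fix5_mat_g5 S
  refine ⟨SemidirectProduct.inl (S.WgSz * S.TgSz 0 1), ?_, Wm, ?_, ?_⟩
  · rw [orderOf_injective (SemidirectProduct.inl : Cfsg.Sz F 1 →* Lgrp S hF)
      SemidirectProduct.inl_injective]
    have hp5 : Fact (Nat.Prime 5) := ⟨by norm_num⟩
    apply orderOf_eq_prime
    · apply Subtype.ext
      apply Subtype.ext
      have := s64_fix5_mat_pow (S.WgSz * S.TgSz 0 1) 5
      rw [hmat, s64_fix5_pow S.h2] at this
      exact this
    · intro h1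
      have h3 : mat (S.WgSz * S.TgSz 0 1) = 1 := by rw [h1, mat_one]
      rw [hmat] at h3
      have h4 := congrFun (congrFun h3 0) 0
      simp [s64_fix5_M] at h4
  · intro h0
    have h4 := congrFun (congrFun h0 0) 3
    simp [Wm] at h4
  · rw [smul_def, SemidirectProduct.left_inl, SemidirectProduct.right_inl, hmat]
    have h1 : (Wm : Matrix (Fin 4) (Fin 4) F).map (1 : F ≃+* F) = Wm := by
      ext i j
      rfl
    have h2 : (s64_fix5_M F).map (sq S) = s64_fix5_M F := by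
      ext i j
      fin_cases i <;> fin_cases j <;> simp [s64_fix5_M]
    rw [h1, h2]
    exact s64_fix5_fix S.h2

end Cfsg.Agent.Helper15.S64
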