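import Mathlib
import Cfsg.Agent.Lib.Helper6.SpF
import Cfsg.Agent.Lib.Helper6.SLnB
import Cfsg.Agent.Lib.Helper6.SLnR

/-!
Steinberg relations of type `C` over a finite field: the torus elements are multiplicative, every pair of opposite
root subgroups is the image of `SL₂`, and the relations between the torus elements and the Weyl elements.
-/

set_option autoImplicit false
set_option linter.unusedSectionVars false
set_option linter.unusedVariables false

namespace Cfsg.Agent.Helper6.SpN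

open Cfsg.Agent.Helper6 Cfsg.Agent.Helper6.SLn

variable {I : Type*} [DecidableEq I] {K : Type*} [Field K] {Γ : Type*} [Group Γ]

/-- the set of all root elements -/
def gens (T : I ⊕ I → I ⊕ I → K → Γ) (L : I ⊕ I → K → Γ) : Set Γ :=
  {g | (∃ a b t, a ≠ b ∧ a ≠ ng b ∧ g = T a b t) ∨ ∃ a t, g = L a t}

theorem mem_center_of_gens {T : I ⊕ I → I ⊕ I → K → Γ} {L : I ⊕ I → K → Γ}
    (hgen : Subgroup.closure (gens T L) = ⊤) (z : Γ)
    (hT : ∀ a b : I ⊕ I, a ≠ b → a ≠ ng b → ∀ v : K, cj z (T a b v) = T a b v)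
    (hL : ∀ (a : I ⊕ I) (v : K), cj z (L a v) = L a v) : z ∈ Subgroup.center Γ := by
  have hle : Subgroup.closure (gens T L) ≤ Subgroup.centralizer {z} := by
    rw [Subgroup.closure_le]
    rintro _ (⟨a, b, v, hab, hab', rfl⟩ | ⟨a, v, rfl⟩)
    · rw [SetLike.mem_coe, Subgroup.mem_centralizer_iff]
      intro y hy
      rw [Set.mem_singleton_iff] at hy
      subst hy
      have := hT a b hab hab' v
      unfold cj at this
      rw [mul_inv_eq_iff_eq_mul] at this
      exact this
    · rw [SetLike.mem_coe, Subgroup.mem_centralizer_iff]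
      intro y hy
      rw [Set.mem_singleton_iff] at hy
      subst hy
      have := hL a v
      unfold cj at this
      rw [mul_inv_eq_iff_eq_mul] at this
      exact this
  rw [hgen] at hle
  rw [Subgroup.mem_center_iff]
  intro g
  have := hle (Subgroup.mem_top g)
  rw [Subgroup.mem_centralizer_iff] at this
  exact (this z rfl).symm

namespace SpRel

variable {T : I ⊕ I → I ⊕ I → K → Γ} {L : I ⊕ I → K → Γ} (S : SpRel T L)
include S

/-- the symbols of the short torus elements are central -/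
theorem symbol_central_S (hgen : Subgroup.closure (gens T L) = ⊤) {a b : I ⊕ I} (hab : a ≠ b) (hab' : a ≠ ng b)
    (hm : ∃ m : I ⊕ I, m ≠ a ∧ m ≠ ng a ∧ m ≠ b ∧ m ≠ ng b) (t u : K) (ht : t ≠ 0) (hu : u ≠ 0) :
    hS T a b t * hS T a b u * (hS T a b (t * u))⁻¹ ∈ Subgroup.center Γ := by
  have htu : t * u ≠ 0 := mul_ne_zero ht hu
  apply mem_center_of_gens hgen
  · intro c d hcd hcd' v
    have hc1 := wtS_ne_zero a b c ht
    have hc2 := wtS_ne_zero a b c hu
    have hd1 := wtS_ne_zero a b d ht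
    have hd2 := wtS_ne_zero a b d hu
    have h1 : cj (hS T a b (t * u))⁻¹ (T c d v) =
        T c d ((wtS a b c (t * u) * (wtS a b d (t * u))⁻¹)⁻¹ * v) := by
      apply cj_inv_left
      rw [S.hS_cj_T hab hab' hcd hcd' hm (t * u) htu]
      congr 1
      rw [wtS_mul, wtS_mul]
      field_simp
    rw [cj_mul_left, cj_mul_left, h1, S.hS_cj_T hab hab' hcd hcd' hm u hu, S.hS_cj_T hab hab' hcd hcd' hm t ht]
    congr 1
    rw [wtS_mul, wtS_mul]
    field_simp
  · intro c v
    have hc1 := wtS_ne_zero a b c ht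
    have hc2 := wtS_ne_zero a b c hu
    have h1 : cj (hS T a b (t * u))⁻¹ (L c v) = L c ((wtS a b c (t * u) ^ 2)⁻¹ * v) := by
      apply cj_inv_left
      rw [S.hS_cj_L hab hab' c (t * u) htu]
      congr 1
      rw [wtS_mul]
      field_simp
    rw [cj_mul_left, cj_mul_left, h1, S.hS_cj_L hab hab' c u hu, S.hS_cj_L hab hab' c t ht]
    congr 1
    rw [wtS_mul]
    field_simp

/-- the symbols of the long torus elements are central -/
theorem symbol_central_L (hgen : Subgroup.closure (gens T L) = ⊤) {a b : I ⊕ I} (hab : a ≠ b) (hab' : a ≠ ng b)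
    (t u : K) (ht : t ≠ 0) (hu : u ≠ 0) :
    hL L a t * hL L a u * (hL L a (t * u))⁻¹ ∈ Subgroup.center Γ := by
  have htu : t * u ≠ 0 := mul_ne_zero ht hu
  apply mem_center_of_gens hgen
  · intro c d hcd hcd' v
    have hc1 := wtL_ne_zero a c ht
    have hc2 := wtL_ne_zero a c hu
    have hd1 := wtL_ne_zero a d ht
    have hd2 := wtL_ne_zero a d hu
    have h1 : cj (hL L a (t * u))⁻¹ (T c d v) =
        T c d ((wtL a c (t * u) * (wtL a d (t * u))⁻¹)⁻¹ * v) := by
      apply cj_inv_left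
      rw [S.hL_cj_T hcd hcd' (t * u) htu]
      congr 1
      rw [wtL_mul, wtL_mul]
      field_simp
    rw [cj_mul_left, cj_mul_left, h1, S.hL_cj_T hcd hcd' u hu, S.hL_cj_T hcd hcd' t ht]
    congr 1
    rw [wtL_mul, wtL_mul]
    field_simp
  · intro c v
    have hc1 := wtL_ne_zero a c ht
    have hc2 := wtL_ne_zero a c hu
    have h1 : cj (hL L a (t * u))⁻¹ (L c v) = L c ((wtL a c (t * u) ^ 2)⁻¹ * v) := by
      apply cj_inv_left
      rw [S.hL_cj_L hab hab' c (t * u) htu]
      congr 1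
      rw [wtL_mul]
      field_simp
    rw [cj_mul_left, cj_mul_left, h1, S.hL_cj_L hab hab' c u hu, S.hL_cj_L hab hab' c t ht]
    congr 1
    rw [wtL_mul]
    field_simp

/-- the short torus elements are multiplicative -/
theorem hS_mul [Finite K] (hgen : Subgroup.closure (gens T L) = ⊤) {a b : I ⊕ I} (hab : a ≠ b) (hab' : a ≠ ng b)
    (hm : ∃ m : I ⊕ I, m ≠ a ∧ m ≠ ng a ∧ m ≠ b ∧ m ≠ ng b) (t u : K) (ht : t ≠ 0) (hu : u ≠ 0) :
    hS T a b t * hS T a b u = hS T a b (t * u) := by
  obtain ⟨m, h1, h2, h3, h4⟩ := hm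
  exact (S.rankOneSymS hab hab' h1.symm (fun h => h2 (by rw [h, ng_ng])) h3.symm
    (fun h => h4 (by rw [h, ng_ng]))).hh_mul
    (fun x y hx hy => S.symbol_central_S hgen hab hab' ⟨m, h1, h2, h3, h4⟩ x y hx hy) t u ht hu

/-- the long torus elements are multiplicative -/
theorem hL_mul [Finite K] (hgen : Subgroup.closure (gens T L) = ⊤) {a b : I ⊕ I} (hab : a ≠ b) (hab' : a ≠ ng b)
    (t u : K) (ht : t ≠ 0) (hu : u ≠ 0) : hL L a t * hL L a u = hL L a (t * u) :=
  (S.rankOneSymL hab hab').hh_mul (fun x y hx hy => S.symbol_central_L hgen hab hab' x y hx hy) t u ht hu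

/-- the homomorphism relations for a pair of opposite short roots -/
theorem rankOneS [Finite K] (hgen : Subgroup.closure (gens T L) = ⊤) {a b : I ⊕ I} (hab : a ≠ b)
    (hab' : a ≠ ng b) (hm : ∃ m : I ⊕ I, m ≠ a ∧ m ≠ ng a ∧ m ≠ b ∧ m ≠ ng b) :
    SL2Hom.RankOne (T a b) (T b a) := by
  obtain ⟨m, h1, h2, h3, h4⟩ := hm
  exact rankOne_bridge (S.rankOneSymS hab hab' h1.symm (fun h => h2 (by rw [h, ng_ng])) h3.symm
    (fun h => h4 (by rw [h, ng_ng])))
    (fun t u ht hu => S.hS_mul hgen hab hab' ⟨m, h1, h2, h3, h4⟩ t u ht hu)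

/-- the homomorphism relations for a pair of opposite long roots -/
theorem rankOneL [Finite K] (hgen : Subgroup.closure (gens T L) = ⊤) {a b : I ⊕ I} (hab : a ≠ b)
    (hab' : a ≠ ng b) : SL2Hom.RankOne (L a) (L (ng a)) :=
  rankOne_bridge (S.rankOneSymL hab hab') (fun t u ht hu => S.hL_mul hgen hab hab' t u ht hu)

end SpRel

end Cfsg.Agent.Helper6.SpN
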