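import Mathlib
import Cfsg.Agent.Lib.Helper6.SpG

/-!
Steinberg relations of type `C` over a finite field: relations between Weyl elements and torus elements.
-/

set_option autoImplicit false
set_option linter.unusedSectionVars false
set_option linter.unusedVariables false

namespace Cfsg.Agent.Helper6.SpN

open Cfsg.Agent.Helper6 Cfsg.Agent.Helper6.SLn

variable {I : Type*} [DecidableEq I] {K : Type*} [Field K] {Γ : Type*} [Group Γ]

section rankone

open Cfsg.Agent.Helper6.SL2Hom Matrix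

variable {x y : K → Γ} (H : SL2Hom.RankOne x y)
include H

theorem hom_nn_one : H.hom (SLn.wS K) = R1S.nn x y 1 := by
  unfold SLn.wS R1S.nn
  rw [map_mul, map_mul, H.hom_xS, H.hom_yS, inv_one]

theorem hom_hh (t : K) : H.hom (SLn.dS t) = R1S.hh x y t := by
  unfold SLn.dS R1S.hh R1S.nn
  rw [map_mul, map_mul, map_mul, map_mul, map_mul, H.hom_xS, H.hom_yS, H.hom_xS, H.hom_yS]
  have e1 : -(-1 : K)⁻¹ = 1 := by
    rw [inv_neg, inv_one, neg_neg]
  rw [e1]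

/-- the Weyl element inverts the torus -/
theorem hh_mul_nn_one (t : K) (ht : t ≠ 0) :
    R1S.hh x y t * R1S.nn x y 1 = R1S.nn x y 1 * R1S.hh x y t⁻¹ := by
  rw [← hom_hh H, ← hom_hh H, ← hom_nn_one H, ← map_mul, ← map_mul]
  congr 1
  apply Matrix.SpecialLinearGroup.ext
  intro i j
  simp only [Matrix.SpecialLinearGroup.coe_mul, dS_coe _ ht, dS_coe _ (inv_ne_zero ht), wS_coe]
  fin_cases i <;> fin_cases j <;> simp [Matrix.mul_apply, Fin.sum_univ_two]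

end rankone

/-- the group of the long torus elements at `a` -/
def HL [Finite K] {T : I ⊕ I → I ⊕ I → K → Γ} {L : I ⊕ I → K → Γ} (S : SpRel T L)
    (hgen : Subgroup.closure (gens T L) = ⊤) {a b : I ⊕ I} (hab : a ≠ b) (hab' : a ≠ ng b) : Subgroup Γ where
  carrier := {h | ∃ s : K, s ≠ 0 ∧ h = hL L a s}
  mul_mem' := by
    rintro _ _ ⟨s, hs, rfl⟩ ⟨s', hs', rfl⟩
    exact ⟨s * s', mul_ne_zero hs hs', S.hL_mul hgen hab hab' s s' hs hs'⟩
  one_mem' := ⟨1, one_ne_zero, ((S.rankOneSymL hab hab').hh_one).symm⟩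
  inv_mem' := by
    rintro _ ⟨s, hs, rfl⟩
    refine ⟨s⁻¹, inv_ne_zero hs, ?_⟩
    rw [inv_eq_iff_mul_eq_one, S.hL_mul hgen hab hab' s s⁻¹ hs (inv_ne_zero hs), mul_inv_cancel₀ hs]
    exact (S.rankOneSymL hab hab').hh_one

namespace SpRel

variable {T : I ⊕ I → I ⊕ I → K → Γ} {L : I ⊕ I → K → Γ} (S : SpRel T L)
include S

theorem wS_eq_hS_mul {a b : I ⊕ I} (hab : a ≠ b) (hab' : a ≠ ng b) (t : K) :
    wS T a b t = hS T a b t * wS T a b 1 := by
  unfold hS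
  rw [S.wS_neg hab hab', inv_mul_cancel_right]

theorem wL_eq_hL_mul (a : I ⊕ I) (t : K) : wL L a t = hL L a t * wL L a 1 := by
  unfold hL
  rw [S.wL_neg, inv_mul_cancel_right]

theorem wS_one_mul_self {a b : I ⊕ I} (hab : a ≠ b) (hab' : a ≠ ng b) :
    wS T a b 1 * wS T a b 1 = (hS T a b (-1))⁻¹ := by
  unfold hS
  rw [S.wS_neg hab hab', mul_inv_rev, inv_inv]

theorem wL_one_mul_self (a : I ⊕ I) : wL L a 1 * wL L a 1 = (hL L a (-1))⁻¹ := by
  unfold hL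
  rw [S.wL_neg, mul_inv_rev, inv_inv]

theorem wS_cj_wL_a {a b : I ⊕ I} (hab : a ≠ b) (hab' : a ≠ ng b) (r : K) (hr : r ≠ 0) (t : K) (ht : t ≠ 0) :
    cj (wS T a b r) (wL L a t) = wL L b (sg K a * sg K b * (r ^ 2)⁻¹ * t) := by
  unfold wL
  rw [cj_mul_right, cj_mul_right, S.wS_cj_La hab hab' r hr, S.wS_cj_Lna hab hab' r hr]
  congr 3
  have h1 := sg_mul_sq (K := K) a b
  have ha := sg_ne_zero (K := K) a
  have hb := sg_ne_zero (K := K) b
  generalize sg K a * sg K b = e at *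
  rcases mul_self_eq_one_iff.1 h1 with rfl | rfl
  · field_simp
  · field_simp

theorem wS_cj_wL_b {a b : I ⊕ I} (hab : a ≠ b) (hab' : a ≠ ng b) (r : K) (hr : r ≠ 0) (t : K) (ht : t ≠ 0) :
    cj (wS T a b r) (wL L b t) = wL L a (sg K a * sg K b * r ^ 2 * t) := by
  unfold wL
  rw [cj_mul_right, cj_mul_right, S.wS_cj_Lb hab hab' r hr, S.wS_cj_Lnb hab hab' r hr]
  congr 3
  have h1 := sg_mul_sq (K := K) a b
  generalize sg K a * sg K b = e at *
  rcases mul_self_eq_one_iff.1 h1 with rfl | rfl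
  · field_simp
  · field_simp

/-- the quotient of two long Weyl elements at the same index -/
theorem wL_mul_wL_neg [Finite K] (hgen : Subgroup.closure (gens T L) = ⊤) {a b : I ⊕ I} (hab : a ≠ b)
    (hab' : a ≠ ng b) (c t : K) (hc : c ≠ 0) (ht : t ≠ 0) : wL L a (c * t) * wL L a (-c) = hL L a t := by
  rw [S.wL_neg, S.wL_eq_hL_mul a (c * t), S.wL_eq_hL_mul a c, mul_inv_rev, mul_assoc, mul_inv_cancel_left,
    mul_comm c t, ← S.hL_mul hgen hab hab' t c ht hc, mul_inv_cancel_right]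

theorem wS_cj_hL_a [Finite K] (hgen : Subgroup.closure (gens T L) = ⊤) {a b : I ⊕ I} (hab : a ≠ b)
    (hab' : a ≠ ng b) (r : K) (hr : r ≠ 0) (t : K) (ht : t ≠ 0) :
    cj (wS T a b r) (hL L a t) = hL L b t := by
  have hba' : b ≠ ng a := fun h => hab' (by rw [h, ng_ng])
  have hc : sg K a * sg K b * (r ^ 2)⁻¹ ≠ 0 :=
    mul_ne_zero (mul_ne_zero (sg_ne_zero a) (sg_ne_zero b)) (inv_ne_zero (pow_ne_zero _ hr))
  conv_lhs => unfold hL
  rw [cj_mul_right, S.wS_cj_wL_a hab hab' r hr t ht, S.wS_cj_wL_a hab hab' r hr (-1) (by simp), mul_neg, mul_one,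
    S.wL_mul_wL_neg hgen hab.symm hba' _ t hc ht]

theorem wS_cj_hL_b [Finite K] (hgen : Subgroup.closure (gens T L) = ⊤) {a b : I ⊕ I} (hab : a ≠ b)
    (hab' : a ≠ ng b) (r : K) (hr : r ≠ 0) (t : K) (ht : t ≠ 0) :
    cj (wS T a b r) (hL L b t) = hL L a t := by
  have hc : sg K a * sg K b * r ^ 2 ≠ 0 :=
    mul_ne_zero (mul_ne_zero (sg_ne_zero a) (sg_ne_zero b)) (pow_ne_zero _ hr)
  conv_lhs => unfold hL
  rw [cj_mul_right, S.wS_cj_wL_b hab hab' r hr t ht, S.wS_cj_wL_b hab hab' r hr (-1) (by simp), mul_neg, mul_one,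
    S.wL_mul_wL_neg hgen hab hab' _ t hc ht]

/-- the long torus elements act on the short Weyl elements through the weights -/
theorem hL_cj_wS {a b c : I ⊕ I} (hab : a ≠ b) (hab' : a ≠ ng b) (s : K) (hs : s ≠ 0) (r : K) (hr : r ≠ 0) :
    cj (hL L c s) (wS T a b r) = wS T a b (wtL c a s * (wtL c b s)⁻¹ * r) := by
  have hba' : b ≠ ng a := fun h => hab' (by rw [h, ng_ng])
  have h1 := wtL_ne_zero c a hs
  have h2 := wtL_ne_zero c b hs
  unfold wS
  rw [cj_mul_right, cj_mul_right, S.hL_cj_T hab hab' s hs, S.hL_cj_T hab.symm hba' s hs]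
  congr 3
  field_simp

theorem hL_inv [Finite K] (hgen : Subgroup.closure (gens T L) = ⊤) {a b : I ⊕ I} (hab : a ≠ b)
    (hab' : a ≠ ng b) (t : K) (ht : t ≠ 0) : (hL L a t)⁻¹ = hL L a t⁻¹ := by
  rw [inv_eq_iff_mul_eq_one, S.hL_mul hgen hab hab' t t⁻¹ ht (inv_ne_zero ht), mul_inv_cancel₀ ht]
  exact (S.rankOneSymL hab hab').hh_one

/-- the short torus elements in terms of the long ones -/
theorem hS_eq_hL [Finite K] (hgen : Subgroup.closure (gens T L) = ⊤) {a b : I ⊕ I} (hab : a ≠ b)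
    (hab' : a ≠ ng b) (t : K) (ht : t ≠ 0) : hS T a b t = hL L a t * (hL L b t)⁻¹ := by
  have hba' : b ≠ ng a := fun h => hab' (by rw [h, ng_ng])
  have hti : t⁻¹ ≠ 0 := inv_ne_zero ht
  -- `h_b(s) = h_a(s) h_ab(s⁻¹)` for `s = t⁻¹`
  have h1 := S.wS_cj_hL_a hgen hab hab' 1 one_ne_zero t⁻¹ hti
  have h2 : cj (hL L a t⁻¹)⁻¹ (wS T a b 1) = wS T a b t := by
    apply cj_inv_left
    rw [S.hL_cj_wS hab hab' t⁻¹ hti t ht, wtL_a, wtL_out hab.symm hba']
    congr 1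
    field_simp
  have h3 : hL L b t⁻¹ = hL L a t⁻¹ * hS T a b t := by
    rw [← h1]
    have e : cj (wS T a b 1) (hL L a t⁻¹) =
        hL L a t⁻¹ * cj (hL L a t⁻¹)⁻¹ (wS T a b 1) * (wS T a b 1)⁻¹ := by
      unfold cj
      group
    rw [e, h2]
    unfold hS
    rw [S.wS_neg hab hab', mul_assoc]
  rw [← S.hL_inv hgen hab hab' t ht, ← S.hL_inv hgen hab.symm hba' t ht] at h3
  rw [h3]
  group

theorem wL_cj_wS_b {a b : I ⊕ I} (hab : a ≠ b) (hab' : a ≠ ng b) (t : K) (ht : t ≠ 0) (r : K) (hr : r ≠ 0) :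
    cj (wL L b t) (wS T a b r) = wS T a (ng b) (-t * r) := by
  have hba' : b ≠ ng a := fun h => hab' (by rw [h, ng_ng])
  unfold wS
  rw [cj_mul_right, cj_mul_right, S.wL_cj_C hab hab' t ht, S.wL_cj_A hab.symm hba' t ht]
  congr 3
  field_simp

theorem wS_cj_wS_bc {a b c : I ⊕ I} (hab : a ≠ b) (hab' : a ≠ ng b) (hac : a ≠ c) (hac' : a ≠ ng c)
    (hbc : b ≠ c) (hbc' : b ≠ ng c) (t : K) (ht : t ≠ 0) (r : K) (hr : r ≠ 0) :
    cj (wS T a b t) (wS T b c r) = wS T a c (t * r) := by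
  have e : wS T b c r = T b c r * T c b (-r⁻¹) * T b c r := rfl
  have e' : wS T a c (t * r) = T a c (t * r) * T c a (-(t * r)⁻¹) * T a c (t * r) := rfl
  rw [e, e', cj_mul_right, cj_mul_right, S.wS_cj_B hab hab' hac hac' hbc hbc' t ht,
    S.wS_cj_D hab hab' hac hac' hbc hbc' t ht]
  congr 3
  field_simp

theorem wS_cj_wS_ca {a b c : I ⊕ I} (hab : a ≠ b) (hab' : a ≠ ng b) (hac : a ≠ c) (hac' : a ≠ ng c)
    (hbc : b ≠ c) (hbc' : b ≠ ng c) (t : K) (ht : t ≠ 0) (r : K) (hr : r ≠ 0) :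
    cj (wS T a b t) (wS T c a r) = wS T c b (-t * r) := by
  have e : wS T c a r = T c a r * T a c (-r⁻¹) * T c a r := rfl
  have e' : wS T c b (-t * r) = T c b (-t * r) * T b c (-(-t * r)⁻¹) * T c b (-t * r) := rfl
  rw [e, e', cj_mul_right, cj_mul_right, S.wS_cj_C hab hab' hac hac' hbc hbc' t ht,
    S.wS_cj_A hab hab' hac hac' hbc hbc' t ht]
  congr 3
  field_simp

end SpRel

end Cfsg.Agent.Helper6.SpN
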