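import Mathlib
import Cfsg.Agent.Lib.Helper6.SpH
import Cfsg.Agent.Lib.Helper6.SLnC

/-!
Steinberg relations of type `C`: root elements named by matrix positions, subgroups generated by the root elements
with position in a given set, and the conjugate of a root element by a root element.
-/

set_option autoImplicit false
set_option linter.unusedSectionVars false
set_option linter.unusedVariables false

namespace Cfsg.Agent.Helper6.SpN

open Cfsg.Agent.Helper6 Cfsg.Agent.Helper6.SLn

variable {I : Type*} [DecidableEq I] {K : Type*} [Field K] {Γ : Type*} [Group Γ]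

/-- the root element at the position `(a, b)`, `a ≠ b`: long if `b = -a`, short otherwise -/
def XX (T : I ⊕ I → I ⊕ I → K → Γ) (L : I ⊕ I → K → Γ) (a b : I ⊕ I) (t : K) : Γ :=
  if b = ng a then L a t else T a b t

theorem XX_long (T : I ⊕ I → I ⊕ I → K → Γ) (L : I ⊕ I → K → Γ) (a : I ⊕ I) (t : K) :
    XX T L a (ng a) t = L a t := if_pos rfl

theorem XX_short (T : I ⊕ I → I ⊕ I → K → Γ) (L : I ⊕ I → K → Γ) {a b : I ⊕ I} (h : b ≠ ng a) (t : K) :
    XX T L a b t = T a b t := if_neg h

/-- the root elements with position in `Z` -/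
def genZ (T : I ⊕ I → I ⊕ I → K → Γ) (L : I ⊕ I → K → Γ) (Z : I ⊕ I → I ⊕ I → Prop) : Set Γ :=
  {g | ∃ a b t, a ≠ b ∧ Z a b ∧ g = XX T L a b t}

/-- the subgroup generated by the root elements with position in `Z` -/
def GZ (T : I ⊕ I → I ⊕ I → K → Γ) (L : I ⊕ I → K → Γ) (Z : I ⊕ I → I ⊕ I → Prop) : Subgroup Γ :=
  Subgroup.closure (genZ T L Z)

section basic

variable {T : I ⊕ I → I ⊕ I → K → Γ} {L : I ⊕ I → K → Γ} {Z Z' : I ⊕ I → I ⊕ I → Prop}

theorem XX_mem_GZ {a b : I ⊕ I} (hab : a ≠ b) (hZ : Z a b) (t : K) : XX T L a b t ∈ GZ T L Z :=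
  Subgroup.subset_closure ⟨a, b, t, hab, hZ, rfl⟩

theorem L_mem_GZ {a : I ⊕ I} (hZ : Z a (ng a)) (t : K) : L a t ∈ GZ T L Z := by
  rw [← XX_long T L a t]
  exact XX_mem_GZ (ne_ng a) hZ t

theorem T_mem_GZ {a b : I ⊕ I} (hab : a ≠ b) (hab' : a ≠ ng b) (hZ : Z a b) (t : K) : T a b t ∈ GZ T L Z := by
  rw [← XX_short T L (fun h => hab' (by rw [h, ng_ng])) t]
  exact XX_mem_GZ hab hZ t

theorem GZ_mono (h : ∀ a b, a ≠ b → Z a b → Z' a b) : GZ T L Z ≤ GZ T L Z' := by
  apply Subgroup.closure_mono
  rintro _ ⟨a, b, t, hab, hZ, rfl⟩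
  exact ⟨a, b, t, hab, h a b hab hZ, rfl⟩

theorem GZ_le {H : Subgroup Γ} (h : ∀ a b, a ≠ b → Z a b → ∀ t, XX T L a b t ∈ H) : GZ T L Z ≤ H := by
  unfold GZ
  rw [Subgroup.closure_le]
  rintro _ ⟨a, b, t, hab, hZ, rfl⟩
  exact h a b hab hZ t

end basic

namespace SpRel

variable {T : I ⊕ I → I ⊕ I → K → Γ} {L : I ⊕ I → K → Γ} (S : SpRel T L)
include S

theorem XX_add {a b : I ⊕ I} (hab : a ≠ b) (t u : K) : XX T L a b t * XX T L a b u = XX T L a b (t + u) := by
  by_cases h : b = ng a
  · subst h
    rw [XX_long, XX_long, XX_long, S.addL]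
  · rw [XX_short T L h, XX_short T L h, XX_short T L h, S.addT a b hab (fun h' => h (by rw [h', ng_ng]))]

theorem XX_zero {a b : I ⊕ I} (hab : a ≠ b) : XX T L a b 0 = 1 := by
  have := S.XX_add hab 0 0
  rw [add_zero] at this
  exact mul_eq_left.1 this

theorem XX_neg {a b : I ⊕ I} (hab : a ≠ b) (t : K) : XX T L a b (-t) = (XX T L a b t)⁻¹ := by
  rw [eq_inv_iff_mul_eq_one, S.XX_add hab, neg_add_cancel, S.XX_zero hab]

/-- a short root element under its other name -/
theorem T_mem_GZ_sym {Z : I ⊕ I → I ⊕ I → Prop} {a b : I ⊕ I} (hab : a ≠ b) (hab' : a ≠ ng b)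
    (hZ : Z (ng b) (ng a)) (t : K) : T a b t ∈ GZ T L Z := by
  rw [S.symT a b hab hab']
  have h1 : ng b ≠ ng a := fun h => hab (ng_inj.1 h).symm
  have h2 : ng b ≠ ng (ng a) := by
    rw [ng_ng]
    exact fun h => hab' h.symm
  exact T_mem_GZ h1 h2 hZ _

/-- induction by left multiplication with root elements -/
theorem GZ_induction {Z : I ⊕ I → I ⊕ I → Prop} {p : Γ → Prop} (h1 : p 1)
    (hmul : ∀ a b, a ≠ b → Z a b → ∀ t g, g ∈ GZ T L Z → p g → p (XX T L a b t * g)) :
    ∀ g ∈ GZ T L Z, p g := by
  intro g hg
  unfold GZ at hg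
  induction hg using Subgroup.closure_induction_left with
  | one => exact h1
  | mul_left x hx y hy ih =>
    obtain ⟨a, b, t, hab, hZ, rfl⟩ := hx
    exact hmul a b hab hZ t y hy ih
  | inv_mul_cancel x hx y hy ih =>
    obtain ⟨a, b, t, hab, hZ, rfl⟩ := hx
    rw [← S.XX_neg hab]
    exact hmul a b hab hZ (-t) y hy ih

end SpRel

/-- the conditions on a set of positions under which the conjugate of the root element at `(c, d)` by the root
element at `(a, b)` stays in the subgroup belonging to the set -/
structure Link (R : I ⊕ I → I ⊕ I → Prop) (a b c d : I ⊕ I) : Prop where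
  opp : ¬ (c = b ∧ d = a)
  opp' : ¬ (c = ng a ∧ d = ng b)
  h1 : b = c → R a d
  h2 : d = a → R c b
  h3 : c = ng a → R (ng b) d
  h4 : d = ng b → R c (ng a)
  h5 : b = c → d = ng c → R a (ng a)
  h6 : c = ng a → d = a → R (ng b) b
  h7 : b = ng a → c = ng a → R (ng d) d
  h8 : b = ng a → d = a → R c (ng c)

namespace SpRel

variable {T : I ⊕ I → I ⊕ I → K → Γ} {L : I ⊕ I → K → Γ} (S : SpRel T L)
include S

/-- the conjugate of a root element by a root element -/
theorem cj_XX_mem {R : I ⊕ I → I ⊕ I → Prop} {a b c d : I ⊕ I} (hab : a ≠ b) (hcd : c ≠ d) (hR : R c d)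
    (H : Link R a b c d) (t u : K) : cj (XX T L a b t) (XX T L c d u) ∈ GZ T L R := by
  have hself : XX T L c d u ∈ GZ T L R := XX_mem_GZ hcd hR u
  obtain ⟨Hopp, Hopp', H1, H2, H3, H4, H5, H6, H7, H8⟩ := H
  by_cases hb : b = ng a
  · -- the first root is long
    subst hb
    rw [XX_long]
    by_cases hd : d = ng c
    · subst hd
      rw [XX_long] at hself ⊢
      have hca : c ≠ ng a := by
        intro h
        apply Hopp
        subst h
        exact ⟨rfl, ng_ng a⟩
      rw [S.cjLL hca]
      exact hself
    · rw [XX_short T L hd] at hself ⊢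
      have hcd' : c ≠ ng d := fun h => hd (by rw [h, ng_ng])
      by_cases hc : c = ng a
      · subst hc
        have hda : d ≠ a := fun h => hd (by rw [h, ng_ng])
        have h1 : ng d ≠ a := fun h => hcd (by rw [← h, ng_ng])
        have h2 : ng d ≠ ng a := fun h => hda (ng_inj.1 h)
        have e1 : T (ng a) d u = T (ng d) a (-(sg K (ng a) * sg K d * u)) := by
          have := S.symT (ng a) d hcd hcd' u
          rwa [ng_ng] at this
        rw [e1, S.cj4b h1 h2]
        refine mul_mem (mul_mem (L_mem_GZ ?_ _) ?_) ?_
        · have := H7 rfl rfl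
          rwa [ng_ng]
        · apply S.T_mem_GZ_sym h2 (by rw [ng_ng]; exact h1)
          rw [ng_ng, ng_ng]
          exact H1 rfl
        · rw [← e1]
          exact hself
      · by_cases hda : d = a
        · subst hda
          rw [S.cj4b hcd hc]
          refine mul_mem (mul_mem (L_mem_GZ (H8 rfl rfl) _) ?_) hself
          exact T_mem_GZ hc (by rw [ng_ng]; exact hcd) (H2 rfl) _
        · have h1 : a ≠ ng c := fun h => hc (by rw [h, ng_ng])
          rw [S.cjLT hcd hcd' (Ne.symm hda) h1]
          exact hself
  · -- the first root is short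
    have hab' : a ≠ ng b := fun h => hb (by rw [h, ng_ng])
    rw [XX_short T L hb]
    by_cases hd : d = ng c
    · subst hd
      rw [XX_long] at hself ⊢
      by_cases hc : c = b
      · subst hc
        rw [S.cj4a hab hab']
        refine mul_mem (mul_mem ?_ (L_mem_GZ (H5 rfl rfl) _)) hself
        exact T_mem_GZ hab' (by rw [ng_ng]; exact hab) (H1 rfl) _
      · by_cases hc' : c = ng a
        · subst hc'
          have h1 : ng b ≠ ng a := fun h => hab (ng_inj.1 h).symm
          have h2 : ng b ≠ ng (ng a) := by
            rw [ng_ng]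
            exact fun h => hab' h.symm
          have h3 : ng b ≠ a := fun h => hab' h.symm
          rw [S.symT a b hab hab', S.cj4a h1 h2]
          refine mul_mem (mul_mem ?_ (L_mem_GZ ?_ _)) hself
          · have := H3 rfl
            exact T_mem_GZ h2 (by rw [ng_ng]; exact h1) this _
          · have := H6 rfl (ng_ng a)
            rwa [ng_ng]
        · rw [S.cjTL hab hab' hc hc']
          exact hself
    · rw [XX_short T L hd] at hself ⊢
      have hcd' : c ≠ ng d := fun h => hd (by rw [h, ng_ng])
      by_cases hbc : b = c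
      · subst hbc
        have hda : d ≠ a := fun h => Hopp ⟨rfl, h⟩
        by_cases hda' : d = ng a
        · subst hda'
          rw [S.cj5a hab hab']
          refine mul_mem (L_mem_GZ (H1 rfl) _) hself
        · have h1 : a ≠ ng d := fun h => hda' (by rw [h, ng_ng])
          rw [S.cj3a hab hab' hcd hcd' (Ne.symm hda) h1]
          exact mul_mem (T_mem_GZ (Ne.symm hda) h1 (H1 rfl) _) hself
      · by_cases hda : d = a
        · subst hda
          by_cases hcb : c = ng b
          · subst hcb
            have h1 : ng b ≠ ng d := fun h => hab (ng_inj.1 h).symm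
            have e := S.cj5b (a := ng b) (b := d) hcd h1 u t
            rw [ng_ng] at e
            rw [e]
            refine mul_mem (L_mem_GZ ?_ _) hself
            have := H2 rfl
            rwa [ng_ng]
          · have h1 : c ≠ b := fun h => hbc h.symm
            rw [S.cj3b hcd hcd' hab hab' h1 hcb]
            exact mul_mem (T_mem_GZ h1 hcb (H2 rfl) _) hself
        · by_cases hca : c = ng a
          · subst hca
            have hdb' : d ≠ ng b := fun h => Hopp' ⟨rfl, h⟩
            have h1 : ng d ≠ a := fun h => hcd (by rw [← h, ng_ng])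
            have h2 : ng d ≠ ng a := fun h => hda (ng_inj.1 h)
            have e1 : T (ng a) d u = T (ng d) a (-(sg K (ng a) * sg K d * u)) := by
              have := S.symT (ng a) d hcd hcd' u
              rwa [ng_ng] at this
            have hself' : T (ng d) a (-(sg K (ng a) * sg K d * u)) ∈ GZ T L R := by
              rw [← e1]
              exact hself
            rw [e1]
            by_cases hdb : d = b
            · subst hdb
              have e := S.cj5b (a := ng d) (b := a) h1 h2 (-(sg K (ng a) * sg K d * u)) t
              rw [ng_ng] at e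
              rw [e]
              refine mul_mem (L_mem_GZ ?_ _) hself'
              have := H3 rfl
              rwa [ng_ng]
            · have h3 : ng d ≠ b := fun h => hdb' (by rw [← h, ng_ng])
              have h4 : ng d ≠ ng b := fun h => hdb (ng_inj.1 h)
              rw [S.cj3b h1 h2 hab hab' h3 h4]
              refine mul_mem ?_ hself'
              apply S.T_mem_GZ_sym h3 h4
              rw [ng_ng]
              exact H3 rfl
          · by_cases hdb : d = ng b
            · subst hdb
              have hcb : c ≠ b := fun h => hbc h.symm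
              have h1 : b ≠ ng c := fun h => hcd (by rw [h, ng_ng])
              have e1 : T c (ng b) u = T b (ng c) (-(sg K c * sg K (ng b) * u)) := by
                have := S.symT c (ng b) hcd hcd' u
                rwa [ng_ng] at this
              have hself' : T b (ng c) (-(sg K c * sg K (ng b) * u)) ∈ GZ T L R := by
                rw [← e1]
                exact hself
              rw [e1]
              by_cases hca' : c = a
              · subst hca'
                rw [S.cj5a hab hab']
                exact mul_mem (L_mem_GZ (H4 rfl) _) hself'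
              · have h2 : a ≠ ng c := fun h => hca (by rw [h, ng_ng])
                have h3 : a ≠ ng (ng c) := by
                  rw [ng_ng]
                  exact Ne.symm hca'
                have h4 : b ≠ ng (ng c) := by
                  rw [ng_ng]
                  exact Ne.symm hcb
                rw [S.cj3a hab hab' h1 h4 h2 h3]
                refine mul_mem ?_ hself'
                apply S.T_mem_GZ_sym h2 h3
                rw [ng_ng]
                exact H4 rfl
            · rw [S.cjTT hab hab' hcd hcd' (fun h => hbc h.symm) hca hda hdb]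
              exact hself

end SpRel

end Cfsg.Agent.Helper6.SpN
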