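import Mathlib
import Cfsg.Agent.Lib.Helper6.SpI

/-!
Steinberg relations of type `C`: normalisation between subgroups generated by root elements, gradings of the
signed indices, decompositions, and an injectivity criterion for groups of Heisenberg type.
-/

set_option autoImplicit false
set_option linter.unusedSectionVars false
set_option linter.unusedVariables false

namespace Cfsg.Agent.Helper6.SpN

open Cfsg.Agent.Helper6 Cfsg.Agent.Helper6.SLn

variable {I : Type*} [DecidableEq I] {K : Type*} [Field K] {Γ : Type*} [Group Γ]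

theorem cj_mem_of_normalizer {N : Subgroup Γ} {a : Γ} (ha : a ∈ Subgroup.normalizer (N : Set Γ))
    {v : Γ} (hv : v ∈ N) : cj a v ∈ N := by
  rw [Subgroup.mem_normalizer_iff] at ha
  exact (ha v).1 hv

namespace SpRel

variable {T : I ⊕ I → I ⊕ I → K → Γ} {L : I ⊕ I → K → Γ} (S : SpRel T L)
include S

theorem XX_mem_normalizer {R : I ⊕ I → I ⊕ I → Prop} {a b : I ⊕ I} (hab : a ≠ b)
    (h : ∀ c d, c ≠ d → R c d → Link R a b c d) (t : K) :
    XX T L a b t ∈ Subgroup.normalizer (GZ T L R : Set Γ) := by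
  apply mem_normalizer_of_gens
  · rintro _ ⟨c, d, u, hcd, hR, rfl⟩
    exact S.cj_XX_mem hab hcd hR (h c d hcd hR) t u
  · rintro _ ⟨c, d, u, hcd, hR, rfl⟩
    rw [← S.XX_neg hab]
    exact S.cj_XX_mem hab hcd hR (h c d hcd hR) (-t) u

theorem GZ_le_normalizer {P R : I ⊕ I → I ⊕ I → Prop}
    (h : ∀ a b c d, a ≠ b → c ≠ d → P a b → R c d → Link R a b c d) :
    GZ T L P ≤ Subgroup.normalizer (GZ T L R : Set Γ) := by
  apply GZ_le
  intro a b hab hP t
  exact S.XX_mem_normalizer hab (fun c d hcd hR => h a b c d hab hcd hP hR) t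

/-- the long torus elements normalise every subgroup generated by root elements -/
theorem hL_mem_normalizer {R : I ⊕ I → I ⊕ I → Prop} {c : I ⊕ I} (hc : ∃ b, c ≠ b ∧ c ≠ ng b) (s : K)
    (hs : s ≠ 0) : hL L c s ∈ Subgroup.normalizer (GZ T L R : Set Γ) := by
  obtain ⟨b', hb1, hb2⟩ := hc
  apply mem_normalizer_of_gens
  · rintro _ ⟨a, b, u, hab, hR, rfl⟩
    by_cases hb : b = ng a
    · subst hb
      rw [XX_long, S.hL_cj_L hb1 hb2 a s hs]
      exact L_mem_GZ hR _
    · have hab' : a ≠ ng b := fun h => hb (by rw [h, ng_ng])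
      rw [XX_short T L hb, S.hL_cj_T hab hab' s hs]
      exact T_mem_GZ hab hab' hR _
  · rintro _ ⟨a, b, u, hab, hR, rfl⟩
    by_cases hb : b = ng a
    · subst hb
      have h1 := wtL_ne_zero c a hs
      have : cj (hL L c s)⁻¹ (L a u) = L a ((wtL c a s ^ 2)⁻¹ * u) := by
        apply cj_inv_left
        rw [S.hL_cj_L hb1 hb2 a s hs]
        congr 1
        field_simp
      rw [XX_long, this]
      exact L_mem_GZ hR _
    · have hab' : a ≠ ng b := fun h => hb (by rw [h, ng_ng])
      have h1 := wtL_ne_zero c a hs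
      have h2 := wtL_ne_zero c b hs
      have : cj (hL L c s)⁻¹ (T a b u) = T a b ((wtL c a s * (wtL c b s)⁻¹)⁻¹ * u) := by
        apply cj_inv_left
        rw [S.hL_cj_T hab hab' s hs]
        congr 1
        field_simp
      rw [XX_short T L hb, this]
      exact T_mem_GZ hab hab' hR _

/-- splitting off one root subgroup normalising the others -/
theorem GZ_decomp {Z Z' : I ⊕ I → I ⊕ I → Prop} {a b : I ⊕ I} (hab : a ≠ b)
    (hZ : ∀ c d, c ≠ d → Z c d → Z' c d ∨ (c = a ∧ d = b) ∨ (c = ng b ∧ d = ng a))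
    (hn : ∀ t, XX T L a b t ∈ Subgroup.normalizer (GZ T L Z' : Set Γ)) :
    ∀ g ∈ GZ T L Z, ∃ t, ∃ g' ∈ GZ T L Z', g = XX T L a b t * g' := by
  -- the other name of the root element
  have hsym : ∀ u, ∃ u', XX T L (ng b) (ng a) u = XX T L a b u' := by
    intro u
    by_cases hb : b = ng a
    · subst hb
      rw [ng_ng]
      exact ⟨u, rfl⟩
    · have hab' : a ≠ ng b := fun h => hb (by rw [h, ng_ng])
      have h1 : ng a ≠ ng (ng b) := by
        rw [ng_ng]
        exact fun h => hab' (by rw [← h, ng_ng])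
      refine ⟨-(sg K a * sg K b * u), ?_⟩
      rw [XX_short T L hb, XX_short T L h1, S.symT' hab hab']
  refine S.GZ_induction (p := fun g => ∃ t, ∃ g' ∈ GZ T L Z', g = XX T L a b t * g') ?_ ?_
  · exact ⟨0, 1, one_mem _, by rw [S.XX_zero hab, one_mul]⟩
  · intro c d hcd hZcd u g _ ih
    obtain ⟨t, g', hg', rfl⟩ := ih
    rcases hZ c d hcd hZcd with h' | ⟨rfl, rfl⟩ | ⟨rfl, rfl⟩
    · refine ⟨t, cj (XX T L a b (-t)) (XX T L c d u) * g', mul_mem ?_ hg', ?_⟩
      · exact cj_mem_of_normalizer (hn (-t)) (XX_mem_GZ hcd h' u)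
      · unfold cj
        rw [S.XX_neg hab]
        group
    · exact ⟨u + t, g', hg', by rw [← mul_assoc, S.XX_add hab]⟩
    · obtain ⟨u', hu'⟩ := hsym u
      exact ⟨u' + t, g', hg', by rw [hu', ← mul_assoc, S.XX_add hab]⟩

end SpRel

/-- the grading of the signed indices attached to the signed index `p` -/
def gr (p x : I ⊕ I) : ℤ := if x = p then 1 else if x = ng p then -1 else 0

theorem gr_self (p : I ⊕ I) : gr p p = 1 := by
  unfold gr
  rw [if_pos rfl]

theorem gr_ng_self (p : I ⊕ I) : gr p (ng p) = -1 := by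
  unfold gr
  rw [if_neg (ng_ne p), if_pos rfl]

theorem gr_of_ne {p x : I ⊕ I} (h1 : x ≠ p) (h2 : x ≠ ng p) : gr p x = 0 := by
  unfold gr
  rw [if_neg h1, if_neg h2]

theorem gr_ng (p x : I ⊕ I) : gr p (ng x) = - gr p x := by
  by_cases h1 : x = p
  · subst h1
    rw [gr_self, gr_ng_self]
  by_cases h2 : x = ng p
  · subst h2
    rw [ng_ng, gr_self, gr_ng_self, neg_neg]
  rw [gr_of_ne h1 h2, gr_of_ne (fun h => h2 (by rw [← h, ng_ng])) (fun h => h1 (ng_inj.1 h)), neg_zero]

theorem gr_cases (p x : I ⊕ I) :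
    (x = p ∧ gr p x = 1) ∨ (x = ng p ∧ gr p x = -1) ∨ (x ≠ p ∧ x ≠ ng p ∧ gr p x = 0) := by
  by_cases h1 : x = p
  · subst h1
    exact Or.inl ⟨rfl, gr_self x⟩
  by_cases h2 : x = ng p
  · subst h2
    exact Or.inr (Or.inl ⟨rfl, gr_ng_self p⟩)
  exact Or.inr (Or.inr ⟨h1, h2, gr_of_ne h1 h2⟩)

/-- positions with indices in `J` and grades satisfying `A` -/
def Zg (J : Finset I) (p q : I ⊕ I) (A : ℤ → ℤ → Prop) (a b : I ⊕ I) : Prop :=
  av a ∈ J ∧ av b ∈ J ∧ A (gr p a - gr p b) (gr q a - gr q b)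

/-- the conditions for normalisation between subgroups given by grades -/
theorem link_Zg {J₁ J₂ : Finset I} (hJ : J₁ ⊆ J₂) {p q : I ⊕ I} {A B : ℤ → ℤ → Prop}
    (hAB : ∀ x y x' y', A x y → B x' y' → ¬ (x + x' = 0 ∧ y + y' = 0) ∧ B (x + x') (y + y') ∧
      B (2 * x + x') (2 * y + y') ∧ B (x + 2 * x') (y + 2 * y'))
    {a b c d : I ⊕ I} (h1 : Zg J₁ p q A a b) (h2 : Zg J₂ p q B c d) : Link (Zg J₂ p q B) a b c d := by
  obtain ⟨ha, hb, hA⟩ := h1
  obtain ⟨hc, hd, hB⟩ := h2
  obtain ⟨hopp, hs1, hs2, hs3⟩ := hAB _ _ _ _ hA hB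
  have ha' := hJ ha
  have hb' := hJ hb
  refine ⟨?_, ?_, ?_, ?_, ?_, ?_, ?_, ?_, ?_, ?_⟩
  · rintro ⟨rfl, rfl⟩
    apply hopp
    constructor <;> ring
  · rintro ⟨rfl, rfl⟩
    apply hopp
    rw [gr_ng, gr_ng, gr_ng, gr_ng]
    constructor <;> ring
  · rintro rfl
    refine ⟨ha', hd, ?_⟩
    convert hs1 using 1 <;> ring
  · rintro rfl
    refine ⟨hc, hb', ?_⟩
    convert hs1 using 1 <;> ring
  · rintro rfl
    refine ⟨by rw [av_ng]; exact hb', hd, ?_⟩
    rw [gr_ng, gr_ng] at hs1
    rw [gr_ng, gr_ng]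
    convert hs1 using 1 <;> ring
  · rintro rfl
    refine ⟨hc, by rw [av_ng]; exact ha', ?_⟩
    rw [gr_ng, gr_ng] at hs1
    rw [gr_ng, gr_ng]
    convert hs1 using 1 <;> ring
  · rintro rfl rfl
    refine ⟨ha', by rw [av_ng]; exact ha', ?_⟩
    rw [gr_ng, gr_ng] at hs2
    rw [gr_ng, gr_ng]
    convert hs2 using 1 <;> ring
  · rintro rfl rfl
    refine ⟨by rw [av_ng]; exact hb', hb', ?_⟩
    rw [gr_ng, gr_ng] at hs2
    rw [gr_ng, gr_ng]
    convert hs2 using 1 <;> ring
  · rintro rfl rfl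
    refine ⟨by rw [av_ng]; exact hd, hd, ?_⟩
    rw [gr_ng, gr_ng] at hs3
    rw [gr_ng, gr_ng]
    convert hs3 using 1 <;> ring
  · rintro rfl rfl
    refine ⟨hc, by rw [av_ng]; exact hc, ?_⟩
    rw [gr_ng, gr_ng] at hs3
    rw [gr_ng, gr_ng]
    convert hs3 using 1 <;> ring

section heis

variable {ι : Type*} [DecidableEq ι]

/-- the union of the one-parameter subgroups `x b`, `b ∈ A`, and `z` -/
def heisSet (x : ι → K → Γ) (z : K → Γ) (A : Finset ι) : Set Γ :=
  {y | (∃ b ∈ A, ∃ t, y = x b t) ∨ ∃ t, y = z t}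

theorem heis_induction {x : ι → K → Γ} {z : K → Γ} {A : Finset ι}
    (hadd : ∀ a ∈ A, ∀ t u, x a t * x a u = x a (t + u)) (hzadd : ∀ t u, z t * z u = z (t + u))
    {p : Γ → Prop} (h1 : p 1)
    (hmul : ∀ b ∈ A, ∀ t g, g ∈ Subgroup.closure (heisSet x z A) → p g → p (x b t * g))
    (hmulz : ∀ t g, g ∈ Subgroup.closure (heisSet x z A) → p g → p (z t * g)) :
    ∀ g ∈ Subgroup.closure (heisSet x z A), p g := by
  have hzero : ∀ a ∈ A, x a 0 = 1 := by
    intro a ha
    have := hadd a ha 0 0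
    rw [add_zero] at this
    exact mul_eq_left.1 this
  have hneg : ∀ a ∈ A, ∀ t, (x a t)⁻¹ = x a (-t) := by
    intro a ha t
    rw [inv_eq_iff_mul_eq_one, hadd a ha, add_neg_cancel, hzero a ha]
  have hz0 : z 0 = 1 := by
    have := hzadd 0 0
    rw [add_zero] at this
    exact mul_eq_left.1 this
  have hzneg : ∀ t, (z t)⁻¹ = z (-t) := by
    intro t
    rw [inv_eq_iff_mul_eq_one, hzadd, add_neg_cancel, hz0]
  intro g hg
  induction hg using Subgroup.closure_induction_left with
  | one => exact h1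
  | mul_left y hy w hw ih =>
    rcases hy with ⟨b, hb, t, rfl⟩ | ⟨t, rfl⟩
    · exact hmul b hb t w hw ih
    · exact hmulz t w hw ih
  | inv_mul_cancel y hy w hw ih =>
    rcases hy with ⟨b, hb, t, rfl⟩ | ⟨t, rfl⟩
    · rw [hneg b hb]
      exact hmul b hb (-t) w hw ih
    · rw [hzneg]
      exact hmulz (-t) w hw ih

/-- a family of one-parameter subgroups commuting modulo a central one-parameter subgroup `z`, with additive
coordinate functions: an element all of whose coordinates vanish lies in `z` -/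
theorem heis_inj {x : ι → K → Γ} {z : K → Γ} {A : Finset ι}
    (hadd : ∀ a ∈ A, ∀ t u, x a t * x a u = x a (t + u)) (hzadd : ∀ t u, z t * z u = z (t + u))
    (hzc : ∀ a ∈ A, ∀ t u, z t * x a u = x a u * z t)
    (hcomm : ∀ a ∈ A, ∀ b ∈ A, ∀ t u, ∃ s, x a t * x b u = x b u * x a t * z s)
    (c : ι → Γ → K) (hc1 : ∀ a ∈ A, c a 1 = 0)
    (hc : ∀ a ∈ A, ∀ b ∈ A, ∀ t g, g ∈ Subgroup.closure (heisSet x z A) →
      c a (x b t * g) = c a g + if a = b then t else 0)
    (hcz : ∀ a ∈ A, ∀ t g, g ∈ Subgroup.closure (heisSet x z A) → c a (z t * g) = c a g) :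
    ∀ g ∈ Subgroup.closure (heisSet x z A), (∀ a ∈ A, c a g = 0) → ∃ s, g = z s := by
  have hzero : ∀ a ∈ A, x a 0 = 1 := by
    intro a ha
    have := hadd a ha 0 0
    rw [add_zero] at this
    exact mul_eq_left.1 this
  have hz0 : z 0 = 1 := by
    have := hzadd 0 0
    rw [add_zero] at this
    exact mul_eq_left.1 this
  have key : ∀ A' : Finset ι, A' ⊆ A → ∀ g ∈ Subgroup.closure (heisSet x z A'),
      (∀ a ∈ A', c a g = 0) → ∃ s, g = z s := by
    intro A'
    induction A' using Finset.induction_on with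
    | empty =>
      intro _ g hg _
      refine heis_induction (A := ∅) (x := x) (z := z) (by simp) hzadd (p := fun g => ∃ s, g = z s) ?_ ?_ ?_ g hg
      · exact ⟨0, hz0.symm⟩
      · intro b hb
        simp at hb
      · rintro t g _ ⟨s, rfl⟩
        exact ⟨t + s, hzadd t s⟩
    | insert b A'' hb ih =>
      intro hsub g hg hcg
      have hbA : b ∈ A := hsub (Finset.mem_insert_self b A'')
      have hsub'' : A'' ⊆ A := fun a ha => hsub (Finset.mem_insert_of_mem ha)
      have hmono : Subgroup.closure (heisSet x z A'') ≤ Subgroup.closure (heisSet x z A) := by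
        apply Subgroup.closure_mono
        rintro _ (⟨a, ha, t, rfl⟩ | ⟨t, rfl⟩)
        · exact Or.inl ⟨a, hsub'' ha, t, rfl⟩
        · exact Or.inr ⟨t, rfl⟩
      -- decomposition
      have hdec : ∀ g ∈ Subgroup.closure (heisSet x z (insert b A'')),
          ∃ t, ∃ g'' ∈ Subgroup.closure (heisSet x z A''), g = x b t * g'' := by
        refine heis_induction (fun a ha => hadd a (hsub ha)) hzadd
          (p := fun g => ∃ t, ∃ g'' ∈ Subgroup.closure (heisSet x z A''), g = x b t * g'') ?_ ?_ ?_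
        · exact ⟨0, 1, one_mem _, by rw [hzero b hbA, one_mul]⟩
        · intro b' hb' u g _ ihg
          obtain ⟨t, g'', hg'', rfl⟩ := ihg
          rcases Finset.mem_insert.1 hb' with rfl | hb'
          · exact ⟨u + t, g'', hg'', by rw [← mul_assoc, hadd _ hbA]⟩
          · obtain ⟨s, hs⟩ := hcomm b' (hsub'' hb') b hbA u t
            refine ⟨t, x b' u * z s * g'', mul_mem (mul_mem
              (Subgroup.subset_closure (Or.inl ⟨b', hb', u, rfl⟩))
              (Subgroup.subset_closure (Or.inr ⟨s, rfl⟩))) hg'', ?_⟩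
            rw [← mul_assoc, hs]
            simp only [mul_assoc]
        · intro s g _ ihg
          obtain ⟨t, g'', hg'', rfl⟩ := ihg
          refine ⟨t, z s * g'', mul_mem (Subgroup.subset_closure (Or.inr ⟨s, rfl⟩)) hg'', ?_⟩
          rw [← mul_assoc, hzc b hbA, mul_assoc]
      obtain ⟨t, g'', hg'', rfl⟩ := hdec g hg
      -- the coordinate at `b` vanishes on the smaller group
      have hcb : ∀ g ∈ Subgroup.closure (heisSet x z A''), c b g = 0 := by
        refine heis_induction (fun a ha => hadd a (hsub'' ha)) hzadd (p := fun g => c b g = 0) ?_ ?_ ?_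
        · exact hc1 b hbA
        · intro b' hb' u g hg ihg
          rw [hc b hbA b' (hsub'' hb') u g (hmono hg), ihg, if_neg, add_zero]
          rintro rfl
          exact hb hb'
        · intro s g hg ihg
          rw [hcz b hbA s g (hmono hg), ihg]
      have ht : t = 0 := by
        have := hcg b (Finset.mem_insert_self b A'')
        rw [hc b hbA b hbA t g'' (hmono hg''), hcb g'' hg'', if_pos rfl, zero_add] at this
        exact this
      subst ht
      rw [hzero b hbA, one_mul]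
      apply ih hsub'' g'' hg''
      intro a ha
      have := hcg a (Finset.mem_insert_of_mem ha)
      rw [hc a (hsub'' ha) b hbA 0 g'' (hmono hg''), if_neg, add_zero] at this
      · exact this
      · rintro rfl
        exact hb ha
  exact key A (Finset.Subset.refl A)

end heis

end Cfsg.Agent.Helper6.SpN
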