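import Mathlib
import Cfsg.Agent.Lib.Helper6.SpJ

/-!
Steinberg relations of type `C`: the subgroups entering the double coset decomposition of the group belonging to
an index set `J` with respect to the stabiliser of a line, and their basic relations.
-/

set_option autoImplicit false
set_option linter.unusedSectionVars false
set_option linter.unusedVariables false

namespace Cfsg.Agent.Helper6.SpN

open Cfsg.Agent.Helper6 Cfsg.Agent.Helper6.SLn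

variable {I : Type*} [DecidableEq I] {K : Type*} [Field K] {Γ : Type*} [Group Γ]

section grfacts

theorem gr_le (p x : I ⊕ I) : gr p x ≤ 1 := by
  rcases gr_cases p x with ⟨_, h⟩ | ⟨_, h⟩ | ⟨_, _, h⟩ <;> omega

theorem le_gr (p x : I ⊕ I) : -1 ≤ gr p x := by
  rcases gr_cases p x with ⟨_, h⟩ | ⟨_, h⟩ | ⟨_, _, h⟩ <;> omega

theorem eq_of_gr_eq_one {p x : I ⊕ I} (h : gr p x = 1) : x = p := by
  rcases gr_cases p x with ⟨h', _⟩ | ⟨_, h'⟩ | ⟨_, _, h'⟩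
  · exact h'
  · omega
  · omega

theorem eq_of_gr_eq_neg_one {p x : I ⊕ I} (h : gr p x = -1) : x = ng p := by
  rcases gr_cases p x with ⟨_, h'⟩ | ⟨h', _⟩ | ⟨_, _, h'⟩
  · omega
  · exact h'
  · omega

theorem gr_excl {p q : I ⊕ I} (hpq : p ≠ q) (hpq' : p ≠ ng q) (x : I ⊕ I) : gr p x = 0 ∨ gr q x = 0 := by
  rcases gr_cases p x with ⟨h, _⟩ | ⟨h, _⟩ | ⟨_, _, h⟩
  · right
    subst h
    exact gr_of_ne hpq hpq'
  · right
    subst h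
    exact gr_of_ne (fun h => hpq' (by rw [← h, ng_ng])) (fun h => hpq (ng_inj.1 h))
  · exact Or.inl h

theorem gr_ne_of_ne {p a b : I ⊕ I} (hab : a ≠ b) : gr p a = 0 ∨ gr p a ≠ gr p b := by
  rcases gr_cases p a with ⟨h, h1⟩ | ⟨h, h1⟩ | ⟨_, _, h⟩
  · right
    intro he
    rw [h1] at he
    exact hab (h.trans (eq_of_gr_eq_one he.symm).symm)
  · right
    intro he
    rw [h1] at he
    exact hab (h.trans (eq_of_gr_eq_neg_one he.symm).symm)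
  · exact Or.inl h

theorem av_ne_of_gr_eq_zero {p a : I ⊕ I} (h : gr p a = 0) : av a ≠ av p := by
  intro he
  rcases eq_or_eq_ng_of_av he with rfl | rfl
  · rw [gr_self] at h
    omega
  · rw [gr_ng_self] at h
    omega

theorem gr_eq_zero_of_av_ne {p a : I ⊕ I} (h : av a ≠ av p) : gr p a = 0 :=
  gr_of_ne (ne_of_av_ne h) (ne_ng_of_av_ne h)

end grfacts

/-- the group belonging to the index set `J` -/
def GJ (T : I ⊕ I → I ⊕ I → K → Γ) (L : I ⊕ I → K → Γ) (J : Finset I) : Subgroup Γ :=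
  GZ T L (fun a b => av a ∈ J ∧ av b ∈ J)

/-- the unipotent radical of the stabiliser of the line of `p` in the group belonging to `J` -/
def Vp (T : I ⊕ I → I ⊕ I → K → Γ) (L : I ⊕ I → K → Γ) (p : I ⊕ I) (J : Finset I) : Subgroup Γ :=
  GZ T L (Zg J p p (fun x _ => 0 < x))

/-- the long torus elements at `p` -/
def HLc (L : I ⊕ I → K → Γ) (p : I ⊕ I) : Subgroup Γ :=
  Subgroup.closure {h | ∃ s : K, s ≠ 0 ∧ h = hL L p s}

/-- the Levi part of the stabiliser of the line of `p` -/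
def LL (T : I ⊕ I → I ⊕ I → K → Γ) (L : I ⊕ I → K → Γ) (p : I ⊕ I) (J : Finset I) : Subgroup Γ :=
  GJ T L (J.erase (av p)) ⊔ HLc L p

/-- the stabiliser of the line of `p` in the group belonging to `J` -/
def QQ (T : I ⊕ I → I ⊕ I → K → Γ) (L : I ⊕ I → K → Γ) (p : I ⊕ I) (J : Finset I) : Subgroup Γ :=
  Vp T L p J ⊔ LL T L p J

/-- the three double cosets -/
def Dc (T : I ⊕ I → I ⊕ I → K → Γ) (L : I ⊕ I → K → Γ) (p : I ⊕ I) (J : Finset I) (g : Γ) : Prop :=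
  g ∈ QQ T L p J ∨
    (∃ e ∈ J.erase (av p), ∃ q₁ ∈ QQ T L p J, ∃ q₂ ∈ QQ T L p J, g = q₁ * wS T p (Sum.inl e) 1 * q₂) ∨
    (∃ q₁ ∈ QQ T L p J, ∃ q₂ ∈ QQ T L p J, g = q₁ * wL L p 1 * q₂)

theorem GJ_mono {T : I ⊕ I → I ⊕ I → K → Γ} {L : I ⊕ I → K → Γ} {J₁ J₂ : Finset I} (h : J₁ ⊆ J₂) :
    GJ T L J₁ ≤ GJ T L J₂ :=
  GZ_mono (fun a b _ hab => ⟨h hab.1, h hab.2⟩)

theorem hL_mem_HLc (L : I ⊕ I → K → Γ) (p : I ⊕ I) (s : K) (hs : s ≠ 0) : hL L p s ∈ HLc L p :=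
  Subgroup.subset_closure ⟨s, hs, rfl⟩

/-- the hypotheses of the induction -/
structure Base (T : I ⊕ I → I ⊕ I → K → Γ) (L : I ⊕ I → K → Γ) : Prop where
  S : SpRel T L
  hgen : Subgroup.closure (gens T L) = ⊤
  h3 : ∀ a b : I ⊕ I, ∃ m : I ⊕ I, av m ≠ av a ∧ av m ≠ av b

namespace Base

variable {T : I ⊕ I → I ⊕ I → K → Γ} {L : I ⊕ I → K → Γ} (B : Base T L)
include B

theorem exists_other (a : I ⊕ I) : ∃ b : I ⊕ I, a ≠ b ∧ a ≠ ng b := by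
  obtain ⟨m, h1, _⟩ := B.h3 a a
  exact ⟨m, fun h => h1 (by rw [h]), fun h => h1 (by rw [h, av_ng])⟩

theorem exists_third {a b : I ⊕ I} : ∃ m : I ⊕ I, m ≠ a ∧ m ≠ ng a ∧ m ≠ b ∧ m ≠ ng b := by
  obtain ⟨m, h1, h2⟩ := B.h3 a b
  exact ⟨m, ne_of_av_ne h1, ne_ng_of_av_ne h1, ne_of_av_ne h2, ne_ng_of_av_ne h2⟩

variable [Finite K]

theorem mem_HLc {p : I ⊕ I} {h : Γ} (hh' : h ∈ HLc L p) : ∃ s : K, s ≠ 0 ∧ h = hL L p s := by
  obtain ⟨b, hb1, hb2⟩ := B.exists_other p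
  have hle : HLc L p ≤ HL B.S B.hgen hb1 hb2 := by
    unfold HLc
    rw [Subgroup.closure_le]
    rintro _ ⟨s, hs, rfl⟩
    exact ⟨s, hs, rfl⟩
  exact hle hh'

theorem HLc_le_normalizer (p : I ⊕ I) (R : I ⊕ I → I ⊕ I → Prop) :
    HLc L p ≤ Subgroup.normalizer (GZ T L R : Set Γ) := by
  unfold HLc
  rw [Subgroup.closure_le]
  rintro _ ⟨s, hs, rfl⟩
  exact B.S.hL_mem_normalizer (B.exists_other p) s hs

/-- the Levi part normalises the unipotent radical -/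
theorem P_le_normalizer_Vp (J : Finset I) (o : I) :
    GJ T L (J.erase o) ≤ Subgroup.normalizer (Vp T L (Sum.inl o) J : Set Γ) := by
  apply B.S.GZ_le_normalizer
  rintro a b c d hab hcd ⟨ha, hb⟩ hR
  obtain ⟨ha1, ha2⟩ := Finset.mem_erase.1 ha
  obtain ⟨hb1, hb2⟩ := Finset.mem_erase.1 hb
  have hA : Zg J (Sum.inl o) (Sum.inl o) (fun x _ => x = 0) a b := by
    refine ⟨ha2, hb2, ?_⟩
    have e1 : gr (Sum.inl o) a = 0 := gr_eq_zero_of_av_ne ha1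
    have e2 : gr (Sum.inl o) b = 0 := gr_eq_zero_of_av_ne hb1
    show gr (Sum.inl o) a - gr (Sum.inl o) b = 0
    omega
  apply link_Zg (Finset.Subset.refl J) _ hA hR
  intro x y x' y' h1 h2
  refine ⟨?_, ?_, ?_, ?_⟩ <;> omega

theorem LL_le_normalizer_Vp (J : Finset I) (o : I) :
    LL T L (Sum.inl o) J ≤ Subgroup.normalizer (Vp T L (Sum.inl o) J : Set Γ) :=
  sup_le (B.P_le_normalizer_Vp J o) (B.HLc_le_normalizer _ _)

/-- the elements of the stabiliser of the line -/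
theorem QQ_decomp (J : Finset I) (o : I) {g : Γ} (hg : g ∈ QQ T L (Sum.inl o) J) :
    ∃ v ∈ Vp T L (Sum.inl o) J, ∃ γ ∈ GJ T L (J.erase o), ∃ s : K, s ≠ 0 ∧
      g = v * γ * hL L (Sum.inl o) s := by
  obtain ⟨v, hv, l, hl, rfl⟩ := mem_sup_of_normalizer (B.LL_le_normalizer_Vp J o) hg
  have hn : HLc L (Sum.inl o) ≤ Subgroup.normalizer (GJ T L (J.erase o) : Set Γ) := B.HLc_le_normalizer _ _
  obtain ⟨γ, hγ, h, hh', rfl⟩ := mem_sup_of_normalizer hn hl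
  obtain ⟨s, hs, rfl⟩ := B.mem_HLc hh'
  exact ⟨v, hv, γ, hγ, s, hs, by rw [mul_assoc]⟩

end Base

theorem commute_of_cj {a b : Γ} (h : cj a b = b) : Commute a b := by
  unfold cj at h
  exact mul_inv_eq_iff_eq_mul.1 h

/-- an element fixing the generators of a subgroup under conjugation centralises it -/
theorem cj_eq_of_gens {B : Set Γ} (a : Γ) (h : ∀ b ∈ B, cj a b = b) : ∀ g ∈ Subgroup.closure B, cj a g = g := by
  intro g hg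
  induction hg using Subgroup.closure_induction with
  | mem x hx => exact h x hx
  | one => exact cj_one_right a
  | mul x y _ _ hx hy => rw [cj_mul_right, hx, hy]
  | inv x _ hx => rw [cj_inv_right, hx]

namespace SpRel

variable {T : I ⊕ I → I ⊕ I → K → Γ} {L : I ⊕ I → K → Γ} (S : SpRel T L)
include S

/-- root elements with disjoint supports commute -/
theorem cj_XX_of_av_ne {a b c d : I ⊕ I} (hab : a ≠ b) (hcd : c ≠ d) (h1 : av c ≠ av a) (h2 : av c ≠ av b)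
    (h3 : av d ≠ av a) (h4 : av d ≠ av b) (t u : K) : cj (XX T L a b t) (XX T L c d u) = XX T L c d u := by
  have hca := ne_of_av_ne h1
  have hca' := ne_ng_of_av_ne h1
  have hcb := ne_of_av_ne h2
  have hcb' := ne_ng_of_av_ne h2
  have hda := ne_of_av_ne h3
  have hda' := ne_ng_of_av_ne h3
  have hdb := ne_of_av_ne h4
  have hdb' := ne_ng_of_av_ne h4
  by_cases hb : b = ng a
  · subst hb
    rw [XX_long]
    by_cases hd : d = ng c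
    · subst hd
      rw [XX_long, S.cjLL hca']
    · have hcd' : c ≠ ng d := fun h => hd (by rw [h, ng_ng])
      rw [XX_short T L hd, S.cjLT hcd hcd' hda.symm (fun h => hca' (by rw [h, ng_ng]))]
  · have hab' : a ≠ ng b := fun h => hb (by rw [h, ng_ng])
    rw [XX_short T L hb]
    by_cases hd : d = ng c
    · subst hd
      rw [XX_long, S.cjTL hab hab' hcb hca']
    · have hcd' : c ≠ ng d := fun h => hd (by rw [h, ng_ng])
      rw [XX_short T L hd, S.cjTT hab hab' hcd hcd' hcb hca' hda hdb']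

/-- a root element commutes with the group belonging to an index set away from its support -/
theorem cj_XX_GJ {a b : I ⊕ I} (hab : a ≠ b) {J : Finset I} (ha : av a ∉ J) (hb : av b ∉ J) (t : K) :
    ∀ g ∈ GJ T L J, cj (XX T L a b t) g = g := by
  apply cj_eq_of_gens
  rintro _ ⟨c, d, u, hcd, ⟨hc, hd⟩, rfl⟩
  exact S.cj_XX_of_av_ne hab hcd (fun h => ha (h ▸ hc)) (fun h => hb (h ▸ hc)) (fun h => ha (h ▸ hd))
    (fun h => hb (h ▸ hd)) t u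

theorem cj_T_GJ {a b : I ⊕ I} (hab : a ≠ b) (hab' : a ≠ ng b) {J : Finset I} (ha : av a ∉ J) (hb : av b ∉ J)
    (t : K) : ∀ g ∈ GJ T L J, cj (T a b t) g = g := by
  have := S.cj_XX_GJ hab ha hb t
  rwa [XX_short T L (fun h => hab' (by rw [h, ng_ng]))] at this

theorem cj_L_GJ {a : I ⊕ I} {J : Finset I} (ha : av a ∉ J) (t : K) : ∀ g ∈ GJ T L J, cj (L a t) g = g := by
  have := S.cj_XX_GJ (ne_ng a) ha (by rw [av_ng]; exact ha) t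
  rwa [XX_long] at this

theorem cj_wS_GJ {a b : I ⊕ I} (hab : a ≠ b) (hab' : a ≠ ng b) {J : Finset I} (ha : av a ∉ J) (hb : av b ∉ J)
    (t : K) : ∀ g ∈ GJ T L J, cj (wS T a b t) g = g := by
  intro g hg
  have hba' : b ≠ ng a := fun h => hab' (by rw [h, ng_ng])
  unfold wS
  rw [cj_mul_left, cj_mul_left, S.cj_T_GJ hab hab' ha hb _ g hg, S.cj_T_GJ hab.symm hba' hb ha _ g hg,
    S.cj_T_GJ hab hab' ha hb _ g hg]

theorem cj_wL_GJ {a : I ⊕ I} {J : Finset I} (ha : av a ∉ J) (t : K) :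
    ∀ g ∈ GJ T L J, cj (wL L a t) g = g := by
  intro g hg
  unfold wL
  rw [cj_mul_left, cj_mul_left, S.cj_L_GJ ha _ g hg, S.cj_L_GJ (by rw [av_ng]; exact ha) _ g hg,
    S.cj_L_GJ ha _ g hg]

theorem L_mem_GJ {a : I ⊕ I} {J : Finset I} (ha : av a ∈ J) (t : K) : L a t ∈ GJ T L J :=
  L_mem_GZ ⟨ha, by rw [av_ng]; exact ha⟩ t

theorem T_mem_GJ {a b : I ⊕ I} (hab : a ≠ b) (hab' : a ≠ ng b) {J : Finset I} (ha : av a ∈ J) (hb : av b ∈ J)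
    (t : K) : T a b t ∈ GJ T L J :=
  T_mem_GZ hab hab' ⟨ha, hb⟩ t

theorem wL_mem_GJ {a : I ⊕ I} {J : Finset I} (ha : av a ∈ J) (t : K) : wL L a t ∈ GJ T L J := by
  unfold wL
  exact mul_mem (mul_mem (S.L_mem_GJ ha _) (S.L_mem_GJ (by rw [av_ng]; exact ha) _)) (S.L_mem_GJ ha _)

theorem hL_mem_GJ {a : I ⊕ I} {J : Finset I} (ha : av a ∈ J) (t : K) : hL L a t ∈ GJ T L J := by
  unfold hL
  exact mul_mem (S.wL_mem_GJ ha _) (S.wL_mem_GJ ha _)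

theorem wS_mem_GJ {a b : I ⊕ I} (hab : a ≠ b) (hab' : a ≠ ng b) {J : Finset I} (ha : av a ∈ J) (hb : av b ∈ J)
    (t : K) : wS T a b t ∈ GJ T L J := by
  have hba' : b ≠ ng a := fun h => hab' (by rw [h, ng_ng])
  unfold wS
  exact mul_mem (mul_mem (S.T_mem_GJ hab hab' ha hb _) (S.T_mem_GJ hab.symm hba' hb ha _))
    (S.T_mem_GJ hab hab' ha hb _)

end SpRel

/-- the hypotheses of one step of the induction -/
structure Step (T : I ⊕ I → I ⊕ I → K → Γ) (L : I ⊕ I → K → Γ) (J : Finset I) (o e : I) : Prop where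
  B : Base T L
  ho : o ∈ J
  he : e ∈ J.erase o

/-- the positions of positive total grade -/
def Mp (T : I ⊕ I → I ⊕ I → K → Γ) (L : I ⊕ I → K → Γ) (J : Finset I) (p q : I ⊕ I) : Subgroup Γ :=
  GZ T L (Zg J p q (fun x y => 0 < x + y))

/-- the positions of positive grade at `p` and positive total grade -/
def Vq (T : I ⊕ I → I ⊕ I → K → Γ) (L : I ⊕ I → K → Γ) (J : Finset I) (p q : I ⊕ I) : Subgroup Γ :=
  GZ T L (Zg J p q (fun x y => 0 < x ∧ 0 < x + y))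

namespace Step

variable {T : I ⊕ I → I ⊕ I → K → Γ} {L : I ⊕ I → K → Γ} {J : Finset I} {o e : I} (H : Step T L J o e)
include H

local notation "𝔭" => (Sum.inl o : I ⊕ I)
local notation "𝔮" => (Sum.inl e : I ⊕ I)

theorem heo : e ≠ o := (Finset.mem_erase.1 H.he).1

theorem heJ : e ∈ J := (Finset.mem_erase.1 H.he).2

theorem hpq : (𝔭 : I ⊕ I) ≠ 𝔮 := fun h => H.heo (Sum.inl.inj h).symm

theorem hpq' : (𝔭 : I ⊕ I) ≠ ng 𝔮 := by
  intro h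
  simp [ng] at h

theorem hqp' : (𝔮 : I ⊕ I) ≠ ng 𝔭 := by
  intro h
  simp [ng] at h

theorem hm : ∃ m : I ⊕ I, m ≠ 𝔭 ∧ m ≠ ng 𝔭 ∧ m ≠ 𝔮 ∧ m ≠ ng 𝔮 := H.B.exists_third

theorem P_le_QQ : GJ T L (J.erase o) ≤ QQ T L 𝔭 J := le_sup_of_le_right le_sup_left

theorem Vp_le_QQ : Vp T L 𝔭 J ≤ QQ T L 𝔭 J := le_sup_left

theorem HLc_le_QQ : HLc L 𝔭 ≤ QQ T L 𝔭 J := le_sup_of_le_right le_sup_right

theorem Vq_le_Mp : Vq T L J 𝔭 𝔮 ≤ Mp T L J 𝔭 𝔮 :=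
  GZ_mono (fun a b _ h => ⟨h.1, h.2.1, h.2.2.2⟩)

theorem Mp_le_QQ : Mp T L J 𝔭 𝔮 ≤ QQ T L 𝔭 J := by
  apply GZ_le
  rintro a b hab ⟨ha, hb, hA⟩ t
  have f1 := gr_excl H.hpq H.hpq' a
  have f2 := gr_excl H.hpq H.hpq' b
  have f3 := gr_ne_of_ne (p := 𝔭) hab
  have f4 := gr_ne_of_ne (p := 𝔮) hab
  have f5 := gr_le 𝔭 a
  have f6 := le_gr 𝔭 a
  have f7 := gr_le 𝔭 b
  have f8 := le_gr 𝔭 b
  have f9 := gr_le 𝔮 a
  have f10 := le_gr 𝔮 a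
  have f11 := gr_le 𝔮 b
  have f12 := le_gr 𝔮 b
  by_cases hx : 0 < gr 𝔭 a - gr 𝔭 b
  · exact H.Vp_le_QQ (XX_mem_GZ hab ⟨ha, hb, hx⟩ t)
  · have ha0 : gr 𝔭 a = 0 := by omega
    have hb0 : gr 𝔭 b = 0 := by omega
    apply H.P_le_QQ
    exact XX_mem_GZ hab ⟨Finset.mem_erase.2 ⟨av_ne_of_gr_eq_zero ha0, ha⟩,
      Finset.mem_erase.2 ⟨av_ne_of_gr_eq_zero hb0, hb⟩⟩ t

theorem av_p : av (𝔭 : I ⊕ I) = o := rfl

theorem av_q : av (𝔮 : I ⊕ I) = e := rfl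

theorem sg_p : sg K (𝔭 : I ⊕ I) = 1 := rfl

theorem sg_q : sg K (𝔮 : I ⊕ I) = 1 := rfl

/-- the unipotent radical one level down lies in the group of positive total grade -/
theorem Vp'_le_Mp : Vp T L 𝔮 (J.erase o) ≤ Mp T L J 𝔭 𝔮 := by
  apply GZ_le
  rintro a b hab ⟨ha, hb, hA⟩ t
  obtain ⟨ha1, ha2⟩ := Finset.mem_erase.1 ha
  obtain ⟨hb1, hb2⟩ := Finset.mem_erase.1 hb
  refine XX_mem_GZ hab ⟨ha2, hb2, ?_⟩ t
  have e1 : gr 𝔭 a = 0 := gr_eq_zero_of_av_ne ha1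
  have e2 : gr 𝔭 b = 0 := gr_eq_zero_of_av_ne hb1
  show 0 < gr 𝔭 a - gr 𝔭 b + (gr 𝔮 a - gr 𝔮 b)
  omega

theorem Vp'_le_P : Vp T L 𝔮 (J.erase o) ≤ GJ T L (J.erase o) :=
  GZ_mono (fun a b _ h => ⟨h.1, h.2.1⟩)

theorem P''_le_P : GJ T L ((J.erase o).erase e) ≤ GJ T L (J.erase o) :=
  GJ_mono (Finset.erase_subset _ _)

theorem HLc'_le_P : HLc L 𝔮 ≤ GJ T L (J.erase o) := by
  unfold HLc
  rw [Subgroup.closure_le]
  rintro _ ⟨s, hs, rfl⟩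
  exact H.B.S.hL_mem_GJ H.he s

/-- the stabiliser one level down lies in the Levi part -/
theorem QQ'_le_P : QQ T L 𝔮 (J.erase o) ≤ GJ T L (J.erase o) :=
  sup_le H.Vp'_le_P (sup_le H.P''_le_P H.HLc'_le_P)

theorem xp_Zg : Zg J 𝔭 𝔮 (fun x y => x = 1 ∧ y = -1) 𝔭 𝔮 := by
  refine ⟨H.ho, H.heJ, ?_, ?_⟩
  · rw [gr_self, gr_of_ne H.hpq.symm H.hqp']
    norm_num
  · rw [gr_self, gr_of_ne H.hpq H.hpq']
    norm_num

theorem y_Zg : Zg J 𝔭 𝔮 (fun x y => x = -1 ∧ y = 1) 𝔮 𝔭 := by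
  refine ⟨H.heJ, H.ho, ?_, ?_⟩
  · rw [gr_self, gr_of_ne H.hpq.symm H.hqp']
    norm_num
  · rw [gr_self, gr_of_ne H.hpq H.hpq']
    norm_num

theorem xp_mem_normalizer_Mp (a : K) : T 𝔭 𝔮 a ∈ Subgroup.normalizer (Mp T L J 𝔭 𝔮 : Set Γ) := by
  rw [← XX_short T L H.hqp']
  apply H.B.S.XX_mem_normalizer H.hpq
  intro c d hcd hR
  apply link_Zg (Finset.Subset.refl J) _ H.xp_Zg hR
  rintro x y x' y' ⟨rfl, rfl⟩ h
  refine ⟨?_, ?_, ?_, ?_⟩ <;> omega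

theorem y_mem_normalizer_Mp (a : K) : T 𝔮 𝔭 a ∈ Subgroup.normalizer (Mp T L J 𝔭 𝔮 : Set Γ) := by
  rw [← XX_short T L H.hpq']
  apply H.B.S.XX_mem_normalizer H.hpq.symm
  intro c d hcd hR
  apply link_Zg (Finset.Subset.refl J) _ H.y_Zg hR
  rintro x y x' y' ⟨rfl, rfl⟩ h
  refine ⟨?_, ?_, ?_, ?_⟩ <;> omega

theorem w_mem_normalizer_Mp (t : K) : wS T 𝔭 𝔮 t ∈ Subgroup.normalizer (Mp T L J 𝔭 𝔮 : Set Γ) := by
  unfold wS
  exact mul_mem (mul_mem (H.xp_mem_normalizer_Mp _) (H.y_mem_normalizer_Mp _)) (H.xp_mem_normalizer_Mp _)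

theorem xp_mem_normalizer_Vq (a : K) : T 𝔭 𝔮 a ∈ Subgroup.normalizer (Vq T L J 𝔭 𝔮 : Set Γ) := by
  rw [← XX_short T L H.hqp']
  apply H.B.S.XX_mem_normalizer H.hpq
  intro c d hcd hR
  apply link_Zg (Finset.Subset.refl J) _ H.xp_Zg hR
  rintro x y x' y' ⟨rfl, rfl⟩ h
  refine ⟨?_, ?_, ?_, ?_⟩ <;> omega

variable [Finite K]

theorem QQ_decomp {g : Γ} (hg : g ∈ QQ T L 𝔭 J) :
    ∃ v ∈ Vp T L 𝔭 J, ∃ γ ∈ GJ T L (J.erase o), ∃ s : K, s ≠ 0 ∧ g = v * γ * hL L 𝔭 s :=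
  H.B.QQ_decomp J o hg

theorem QQ'_decomp {g : Γ} (hg : g ∈ QQ T L 𝔮 (J.erase o)) :
    ∃ v ∈ Vp T L 𝔮 (J.erase o), ∃ γ ∈ GJ T L ((J.erase o).erase e), ∃ s : K, s ≠ 0 ∧ g = v * γ * hL L 𝔮 s :=
  H.B.QQ_decomp (J.erase o) e hg

theorem hS_mem_QQ (s : K) (hs : s ≠ 0) : hS T 𝔭 𝔮 s ∈ QQ T L 𝔭 J := by
  rw [H.B.S.hS_eq_hL H.B.hgen H.hpq H.hpq' s hs]
  exact mul_mem (H.HLc_le_QQ (hL_mem_HLc L _ s hs)) (inv_mem (H.P_le_QQ (H.B.S.hL_mem_GJ H.he s)))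

/-- splitting off the root subgroup of `e_o - e_e` from the unipotent radical -/
theorem Vp_decomp : ∀ v ∈ Vp T L 𝔭 J, ∃ a, ∃ v₁ ∈ Vq T L J 𝔭 𝔮, v = T 𝔭 𝔮 a * v₁ := by
  intro v hv
  have := H.B.S.GZ_decomp (Z := Zg J 𝔭 𝔭 (fun x _ => 0 < x))
    (Z' := Zg J 𝔭 𝔮 (fun x y => 0 < x ∧ 0 < x + y)) (a := 𝔭) (b := 𝔮) H.hpq ?_ ?_ v hv
  · obtain ⟨a, v₁, hv₁, rfl⟩ := this
    rw [XX_short T L H.hqp']
    exact ⟨a, v₁, hv₁, rfl⟩
  · rintro c d hcd ⟨hc, hd, hA⟩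
    have hA' : 0 < gr 𝔭 c - gr 𝔭 d := hA
    have f1 := gr_excl H.hpq H.hpq' c
    have f2 := gr_excl H.hpq H.hpq' d
    have f5 := gr_le 𝔭 c
    have f6 := le_gr 𝔭 c
    have f7 := gr_le 𝔭 d
    have f8 := le_gr 𝔭 d
    have f9 := gr_le 𝔮 c
    have f10 := le_gr 𝔮 c
    have f11 := gr_le 𝔮 d
    have f12 := le_gr 𝔮 d
    by_cases hy : 0 < gr 𝔭 c - gr 𝔭 d + (gr 𝔮 c - gr 𝔮 d)
    · exact Or.inl ⟨hc, hd, hA', hy⟩
    · right
      have h1 : (gr 𝔭 c = 1 ∧ gr 𝔮 d = 1) ∨ (gr 𝔭 d = -1 ∧ gr 𝔮 c = -1) := by omega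
      rcases h1 with ⟨h1, h2⟩ | ⟨h1, h2⟩
      · exact Or.inl ⟨eq_of_gr_eq_one h1, eq_of_gr_eq_one h2⟩
      · exact Or.inr ⟨eq_of_gr_eq_neg_one h2, eq_of_gr_eq_neg_one h1⟩
  · intro t
    rw [XX_short T L H.hqp']
    exact H.xp_mem_normalizer_Vq t

end Step

end Cfsg.Agent.Helper6.SpN
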