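import Mathlib
import Cfsg.Agent.Lib.Helper6.SpK

/-!
Steinberg relations of type `C`: one step of the induction, the group belonging to `J` is the union of three double
cosets of the stabiliser of a line.
-/

set_option autoImplicit false
set_option linter.unusedSectionVars false
set_option linter.unusedVariables false

namespace Cfsg.Agent.Helper6.SpN

open Cfsg.Agent.Helper6 Cfsg.Agent.Helper6.SLn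

section sl2

open Cfsg.Agent.Helper6.SL2Hom Matrix

variable {F : Type*} [Field F]

/-- the upper triangular elements of `SL₂` -/
theorem eq_of_low_zero (g : SpecialLinearGroup (Fin 2) F) (h : g 1 0 = 0) :
    g 0 0 ≠ 0 ∧ g = SLn.dS (g 0 0) * xS (g 0 1 / g 0 0) := by
  have hd := det_eq g
  rw [h] at hd
  have h00 : g 0 0 ≠ 0 := by
    intro h0
    rw [h0] at hd
    simp at hd
  refine ⟨h00, ?_⟩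
  apply Matrix.SpecialLinearGroup.ext
  intro i j
  simp only [Matrix.SpecialLinearGroup.coe_mul, dS_coe _ h00]
  fin_cases i <;> fin_cases j
  · simp [xS_coe, Matrix.mul_apply, Fin.sum_univ_two]
  · simp [xS_coe, Matrix.mul_apply, Fin.sum_univ_two]
    field_simp
  · simp [xS_coe, Matrix.mul_apply, Fin.sum_univ_two, h]
  · simp [xS_coe, Matrix.mul_apply, Fin.sum_univ_two]
    field_simp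
    linear_combination hd

/-- the other elements of `SL₂` -/
theorem eq_of_low_ne (g : SpecialLinearGroup (Fin 2) F) (h : g 1 0 ≠ 0) :
    g = xS (g 0 0 / g 1 0) * SLn.dS (-(g 1 0)⁻¹) * SLn.wS F * xS (g 1 1 / g 1 0) := by
  have hd := det_eq g
  have h1 : -(g 1 0)⁻¹ ≠ 0 := neg_ne_zero.2 (inv_ne_zero h)
  apply Matrix.SpecialLinearGroup.ext
  intro i j
  simp only [Matrix.SpecialLinearGroup.coe_mul, dS_coe _ h1, wS_coe]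
  fin_cases i <;> fin_cases j
  · simp [xS_coe, Matrix.mul_apply, Fin.sum_univ_two]
    field_simp
  · simp [xS_coe, Matrix.mul_apply, Fin.sum_univ_two]
    field_simp
    linear_combination (-1 : F) * hd
  · simp [xS_coe, Matrix.mul_apply, Fin.sum_univ_two]
  · simp [xS_coe, Matrix.mul_apply, Fin.sum_univ_two]
    field_simp

end sl2

variable {I : Type*} [DecidableEq I] {K : Type*} [Field K] {Γ : Type*} [Group Γ]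

/-- the three double cosets, with the index `e` fixed -/
def D3 (T : I ⊕ I → I ⊕ I → K → Γ) (L : I ⊕ I → K → Γ) (J : Finset I) (o e : I) (g : Γ) : Prop :=
  g ∈ QQ T L (Sum.inl o) J ∨
    (∃ q₁ ∈ QQ T L (Sum.inl o) J, ∃ q₂ ∈ QQ T L (Sum.inl o) J,
      g = q₁ * wS T (Sum.inl o) (Sum.inl e) 1 * q₂) ∨
    (∃ q₁ ∈ QQ T L (Sum.inl o) J, ∃ q₂ ∈ QQ T L (Sum.inl o) J, g = q₁ * wL L (Sum.inl o) 1 * q₂)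

theorem inl_ne_ng (i j : I) : (Sum.inl i : I ⊕ I) ≠ ng (Sum.inl j) := by
  intro h
  simp [ng] at h

theorem ng_inl_ne (i j : I) : ng (Sum.inl i : I ⊕ I) ≠ Sum.inl j := by
  intro h
  simp [ng] at h

theorem inl_ne_inl {i j : I} (h : i ≠ j) : (Sum.inl i : I ⊕ I) ≠ Sum.inl j :=
  fun h' => h (Sum.inl.inj h')

theorem ng_inl_ne_ng_inl {i j : I} (h : i ≠ j) : ng (Sum.inl i : I ⊕ I) ≠ ng (Sum.inl j) :=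
  fun h' => h (Sum.inl.inj (ng_inj.1 h'))

theorem eq_of_cj_inv {n x x' : Γ} (h : cj n⁻¹ x = x') : x' = n⁻¹ * x * n := by
  rw [← h]
  unfold cj
  rw [inv_inv]

theorem mul_eq_of_cj_inv {n x x' : Γ} (h : cj n⁻¹ x = x') : x * n = n * x' := by
  rw [← h]
  unfold cj
  group

theorem mul_eq_of_cj {n x x' : Γ} (h : cj n x = x') : n * x = x' * n := by
  rw [← h]
  unfold cj
  group

section D3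

variable {T : I ⊕ I → I ⊕ I → K → Γ} {L : I ⊕ I → K → Γ} {J : Finset I} {o e : I}

theorem D3_mul_right {g q : Γ} (hg : D3 T L J o e g) (hq : q ∈ QQ T L (Sum.inl o) J) : D3 T L J o e (g * q) := by
  rcases hg with h | ⟨q₁, h₁, q₂, h₂, rfl⟩ | ⟨q₁, h₁, q₂, h₂, rfl⟩
  · exact Or.inl (mul_mem h hq)
  · exact Or.inr (Or.inl ⟨q₁, h₁, q₂ * q, mul_mem h₂ hq, by rw [mul_assoc]⟩)
  · exact Or.inr (Or.inr ⟨q₁, h₁, q₂ * q, mul_mem h₂ hq, by rw [mul_assoc]⟩)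

theorem D3_mul_left {g q : Γ} (hg : D3 T L J o e g) (hq : q ∈ QQ T L (Sum.inl o) J) : D3 T L J o e (q * g) := by
  rcases hg with h | ⟨q₁, h₁, q₂, h₂, rfl⟩ | ⟨q₁, h₁, q₂, h₂, rfl⟩
  · exact Or.inl (mul_mem hq h)
  · exact Or.inr (Or.inl ⟨q * q₁, mul_mem hq h₁, q₂, h₂, by simp only [mul_assoc]⟩)
  · exact Or.inr (Or.inr ⟨q * q₁, mul_mem hq h₁, q₂, h₂, by simp only [mul_assoc]⟩)

theorem D3_w : D3 T L J o e (wS T (Sum.inl o) (Sum.inl e) 1) :=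
  Or.inr (Or.inl ⟨1, one_mem _, 1, one_mem _, by rw [one_mul, mul_one]⟩)

theorem D3_wo : D3 T L J o e (wL L (Sum.inl o) 1) :=
  Or.inr (Or.inr ⟨1, one_mem _, 1, one_mem _, by rw [one_mul, mul_one]⟩)

theorem Dc_of_D3 (he : e ∈ J.erase o) {g : Γ} (hg : D3 T L J o e g) : Dc T L (Sum.inl o) J g := by
  rcases hg with h | ⟨q₁, h₁, q₂, h₂, rfl⟩ | ⟨q₁, h₁, q₂, h₂, rfl⟩
  · exact Or.inl h
  · exact Or.inr (Or.inl ⟨e, he, q₁, h₁, q₂, h₂, rfl⟩)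
  · exact Or.inr (Or.inr ⟨q₁, h₁, q₂, h₂, rfl⟩)

end D3

namespace Step

variable {T : I ⊕ I → I ⊕ I → K → Γ} {L : I ⊕ I → K → Γ} {J : Finset I} {o e : I} (H : Step T L J o e)
include H

local notation "𝔭" => (Sum.inl o : I ⊕ I)
local notation "𝔮" => (Sum.inl e : I ⊕ I)
local notation "𝔴" => wS T (Sum.inl o : I ⊕ I) (Sum.inl e : I ⊕ I) (1 : K)
local notation "𝔬" => wL L (Sum.inl o : I ⊕ I) (1 : K)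
local notation "𝔢" => wL L (Sum.inl e : I ⊕ I) (1 : K)

theorem winv : (𝔴)⁻¹ = wS T 𝔭 𝔮 (-1) := (H.B.S.wS_neg H.hpq H.hpq' 1).symm

theorem woinv : (𝔬)⁻¹ = wL L 𝔭 (-1) := (H.B.S.wL_neg 𝔭 1).symm

theorem weinv : (𝔢)⁻¹ = wL L 𝔮 (-1) := (H.B.S.wL_neg 𝔮 1).symm

theorem T_mem_Vp {b : I ⊕ I} (hb : av b ∈ J.erase o) (t : K) : T 𝔭 b t ∈ Vp T L 𝔭 J := by
  obtain ⟨hb1, hb2⟩ := Finset.mem_erase.1 hb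
  have h1 : (𝔭 : I ⊕ I) ≠ b := fun h => hb1 (by rw [← h]; rfl)
  have h2 : (𝔭 : I ⊕ I) ≠ ng b := fun h => hb1 (by rw [← av_ng, ← h]; rfl)
  refine T_mem_GZ h1 h2 ⟨H.ho, hb2, ?_⟩ t
  show 0 < gr 𝔭 𝔭 - gr 𝔭 b
  rw [gr_self, gr_eq_zero_of_av_ne hb1]
  norm_num

theorem T_mem_QQ {b : I ⊕ I} (hb : av b ∈ J.erase o) (t : K) : T 𝔭 b t ∈ QQ T L 𝔭 J :=
  H.Vp_le_QQ (H.T_mem_Vp hb t)

theorem L_mem_Vp (t : K) : L 𝔭 t ∈ Vp T L 𝔭 J := by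
  refine L_mem_GZ ⟨H.ho, H.ho, ?_⟩ t
  show 0 < gr 𝔭 𝔭 - gr 𝔭 (ng 𝔭)
  rw [gr_self, gr_ng_self]
  norm_num

theorem we_mem_P (t : K) : wL L 𝔮 t ∈ GJ T L (J.erase o) := H.B.S.wL_mem_GJ H.he t

theorem we_mem_QQ (t : K) : wL L 𝔮 t ∈ QQ T L 𝔭 J := H.P_le_QQ (H.we_mem_P t)

/-- `w w_e = w_o w` -/
theorem w_mul_we : 𝔴 * 𝔢 = 𝔬 * 𝔴 := by
  apply mul_eq_of_cj
  rw [H.B.S.wS_cj_wL_b H.hpq H.hpq' 1 one_ne_zero 1 one_ne_zero, H.sg_p, H.sg_q]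
  congr 1
  norm_num

/-- `w w_o = w_e w` -/
theorem w_mul_wo : 𝔴 * 𝔬 = 𝔢 * 𝔴 := by
  apply mul_eq_of_cj
  rw [H.B.S.wS_cj_wL_a H.hpq H.hpq' 1 one_ne_zero 1 one_ne_zero, H.sg_p, H.sg_q]
  congr 1
  norm_num

theorem wo_comm_P {γ : Γ} (hγ : γ ∈ GJ T L (J.erase o)) (t : K) : wL L 𝔭 t * γ = γ * wL L 𝔭 t := by
  have h : av (𝔭 : I ⊕ I) ∉ J.erase o := fun h => (Finset.mem_erase.1 h).1 rfl
  exact (commute_of_cj (H.B.S.cj_wL_GJ h t γ hγ)).eq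

variable [Finite K]

/-- the homomorphism from `SL₂` onto the rank one group of `e_o - e_e` -/
noncomputable def psi : Matrix.SpecialLinearGroup (Fin 2) K →* Γ :=
  (H.B.S.rankOneS H.B.hgen H.hpq H.hpq' H.hm).hom

theorem psi_xS (t : K) : H.psi (SL2Hom.xS t) = T 𝔭 𝔮 t :=
  (H.B.S.rankOneS H.B.hgen H.hpq H.hpq' H.hm).hom_xS t

theorem psi_yS (t : K) : H.psi (SL2Hom.yS t) = T 𝔮 𝔭 t :=
  (H.B.S.rankOneS H.B.hgen H.hpq H.hpq' H.hm).hom_yS t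

theorem psi_wS : H.psi (SLn.wS K) = 𝔴 :=
  hom_nn_one (H.B.S.rankOneS H.B.hgen H.hpq H.hpq' H.hm)

theorem psi_dS (s : K) : H.psi (SLn.dS s) = hS T 𝔭 𝔮 s :=
  hom_hh (H.B.S.rankOneS H.B.hgen H.hpq H.hpq' H.hm) s

theorem xp_mem_QQ (t : K) : T 𝔭 𝔮 t ∈ QQ T L 𝔭 J := H.T_mem_QQ (b := 𝔮) H.he t

/-- the rank one group of `e_o - e_e` lies in the union of the double cosets -/
theorem D3_psi (g : Matrix.SpecialLinearGroup (Fin 2) K) : D3 T L J o e (H.psi g) := by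
  by_cases h : g 1 0 = 0
  · obtain ⟨h00, hg⟩ := eq_of_low_zero g h
    left
    rw [hg, map_mul, H.psi_dS, H.psi_xS]
    exact mul_mem (H.hS_mem_QQ _ h00) (H.xp_mem_QQ _)
  · right
    left
    have h1 : -(g 1 0)⁻¹ ≠ 0 := neg_ne_zero.2 (inv_ne_zero h)
    refine ⟨T 𝔭 𝔮 (g 0 0 / g 1 0) * hS T 𝔭 𝔮 (-(g 1 0)⁻¹), mul_mem (H.xp_mem_QQ _) (H.hS_mem_QQ _ h1),
      T 𝔭 𝔮 (g 1 1 / g 1 0), H.xp_mem_QQ _, ?_⟩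
    conv_lhs => rw [eq_of_low_ne g h]
    rw [map_mul, map_mul, map_mul, H.psi_dS, H.psi_xS, H.psi_xS, H.psi_wS]

theorem D3_w_xp_w (a : K) : D3 T L J o e (𝔴 * T 𝔭 𝔮 a * 𝔴) := by
  have := H.D3_psi (SLn.wS K * SL2Hom.xS a * SLn.wS K)
  rwa [map_mul, map_mul, H.psi_wS, H.psi_xS] at this

theorem hqnp : (𝔭 : I ⊕ I) ≠ ng (ng 𝔮) := by
  rw [ng_ng]
  exact H.hpq

/-- the root element of `e_o + e_e` lies in the unipotent radical -/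
theorem X'_mem_QQ (t : K) : T 𝔭 (ng 𝔮) t ∈ QQ T L 𝔭 J :=
  H.T_mem_QQ (b := ng 𝔮) (by rw [av_ng]; exact H.he) t

/-- `w x'(u) = x'(-u) w` for the root `e_o + e_e` -/
theorem w_mul_X' (u : K) : 𝔴 * T 𝔭 (ng 𝔮) u = T 𝔭 (ng 𝔮) (-u) * 𝔴 :=
  mul_eq_of_cj (H.B.S.wS_cj_Tanb H.hpq H.hpq' 1 one_ne_zero u)

/-- the root element of `-e_o - e_e` under its other name -/
theorem x_eq (d : K) : T (ng 𝔭) 𝔮 d = T (ng 𝔮) 𝔭 d := by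
  have h1 : ng (𝔭 : I ⊕ I) ≠ 𝔮 := fun h => H.hqp' h.symm
  have h2 : ng (𝔭 : I ⊕ I) ≠ ng 𝔮 := fun h => H.hpq (ng_inj.1 h)
  have := H.B.S.symT (ng 𝔭) 𝔮 h1 h2 d
  rw [this]
  show T (ng 𝔮) 𝔭 (-(-1 * 1 * d)) = T (ng 𝔮) 𝔭 d
  congr 1
  ring

/-- `w x(d)` lies in the union of the double cosets, for the root `-e_o - e_e` -/
theorem D3_w_x (d : K) : D3 T L J o e (𝔴 * T (ng 𝔭) 𝔮 d) := by
  have h1 : ng (𝔭 : I ⊕ I) ≠ 𝔮 := fun h => H.hqp' h.symm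
  have h2 : ng (𝔭 : I ⊕ I) ≠ ng 𝔮 := fun h => H.hpq (ng_inj.1 h)
  by_cases hd : d = 0
  · subst hd
    rw [H.B.S.zeroT h1 h2, mul_one]
    exact D3_w
  -- the rank one group of `e_o + e_e`
  obtain ⟨m, hm1, hm2, hm3, hm4⟩ := H.B.exists_third (a := 𝔭) (b := ng 𝔮)
  have hR := H.B.S.rankOneSymS (a := 𝔭) (b := ng 𝔮) (c := m) H.hpq' H.hqnp hm1.symm
    (fun h => hm2 (by rw [h, ng_ng])) hm3.symm (fun h => hm4 (by rw [h, ng_ng]))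
  have e1 := hR.y_eq d hd
  have hd' : -d⁻¹ ≠ 0 := neg_ne_zero.2 (inv_ne_zero hd)
  -- the Weyl element of `e_o + e_e`
  have e2 : wS T 𝔭 (ng 𝔮) (-d⁻¹) = 𝔢 * wS T 𝔭 𝔮 d⁻¹ * (𝔢)⁻¹ := by
    have := H.B.S.wL_cj_wS_b (a := 𝔭) (b := 𝔮) H.hpq H.hpq' 1 one_ne_zero d⁻¹ (inv_ne_zero hd)
    rw [show (-1 : K) * d⁻¹ = -d⁻¹ by ring] at this
    rw [← this]
    rfl
  have e3 : 𝔴 * wS T 𝔭 𝔮 d⁻¹ = (hS T 𝔭 𝔮 (-d⁻¹))⁻¹ := by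
    have h5 : wS T 𝔭 𝔮 d⁻¹ = (wS T 𝔭 𝔮 (-d⁻¹))⁻¹ := by
      rw [← H.B.S.wS_neg H.hpq H.hpq', neg_neg]
    unfold hS
    rw [h5, H.B.S.wS_neg H.hpq H.hpq' 1, mul_inv_rev, inv_inv]
  have e4 : 𝔴 * T (ng 𝔭) 𝔮 d =
      T 𝔭 (ng 𝔮) (-d⁻¹) * 𝔬 * ((hS T 𝔭 𝔮 (-d⁻¹))⁻¹ * (𝔢)⁻¹ * T 𝔭 (ng 𝔮) d⁻¹) := by
    rw [H.x_eq d, e1]
    have e5 : R1S.nn (T 𝔭 (ng 𝔮)) (T (ng 𝔮) 𝔭) (-d⁻¹) = wS T 𝔭 (ng 𝔮) (-d⁻¹) := rfl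
    rw [e5, e2]
    calc 𝔴 * (T 𝔭 (ng 𝔮) d⁻¹ * (𝔢 * wS T 𝔭 𝔮 d⁻¹ * (𝔢)⁻¹) * T 𝔭 (ng 𝔮) d⁻¹)
        = (𝔴 * T 𝔭 (ng 𝔮) d⁻¹) * 𝔢 * wS T 𝔭 𝔮 d⁻¹ * (𝔢)⁻¹ * T 𝔭 (ng 𝔮) d⁻¹ := by
          simp only [mul_assoc]
      _ = T 𝔭 (ng 𝔮) (-d⁻¹) * (𝔴 * 𝔢) * wS T 𝔭 𝔮 d⁻¹ * (𝔢)⁻¹ * T 𝔭 (ng 𝔮) d⁻¹ := by
          rw [H.w_mul_X']
          simp only [mul_assoc]
      _ = T 𝔭 (ng 𝔮) (-d⁻¹) * 𝔬 * (𝔴 * wS T 𝔭 𝔮 d⁻¹) * (𝔢)⁻¹ * T 𝔭 (ng 𝔮) d⁻¹ := by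
          rw [H.w_mul_we]
          simp only [mul_assoc]
      _ = _ := by
          rw [e3]
          simp only [mul_assoc]
  rw [e4]
  refine Or.inr (Or.inr ⟨_, H.X'_mem_QQ _, _, ?_, rfl⟩)
  exact mul_mem (mul_mem (inv_mem (H.hS_mem_QQ _ hd')) (inv_mem (H.we_mem_QQ 1))) (H.X'_mem_QQ _)

/-- (iv) -/
theorem D3_w_xp_wo (a : K) : D3 T L J o e (𝔴 * T 𝔭 𝔮 a * 𝔬) := by
  have e1 : T (ng 𝔭) 𝔮 a = (𝔬)⁻¹ * T 𝔭 𝔮 a * 𝔬 := by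
    apply eq_of_cj_inv
    rw [H.woinv, H.B.S.wL_cj_A H.hpq H.hpq' (-1) (by simp) a]
    congr 1
    rw [inv_neg, inv_one, neg_neg, one_mul]
  have key : 𝔴 * T 𝔭 𝔮 a * 𝔬 = 𝔢 * (𝔴 * T (ng 𝔭) 𝔮 a) := by
    have e2 := H.w_mul_wo
    calc 𝔴 * T 𝔭 𝔮 a * 𝔬 = (𝔴 * 𝔬) * ((𝔬)⁻¹ * T 𝔭 𝔮 a * 𝔬) := by group
      _ = _ := by rw [e2, ← e1]; simp only [mul_assoc]
  rw [key]
  exact D3_mul_left (H.D3_w_x a) (H.we_mem_QQ 1)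

theorem hS_neg_one_mul_w : hS T 𝔭 𝔮 (-1) * 𝔴 = (𝔴)⁻¹ := by
  have := H.B.S.wS_one_mul_self H.hpq H.hpq'
  rw [eq_inv_iff_mul_eq_one, mul_assoc, this, mul_inv_cancel]

theorem X'_eq_cj_we (a : K) : T 𝔭 (ng 𝔮) a = (𝔢)⁻¹ * T 𝔭 𝔮 a * 𝔢 := by
  apply eq_of_cj_inv
  rw [H.weinv, H.B.S.wL_cj_C H.hpq H.hpq' (-1) (by simp) a]
  congr 1
  rw [neg_neg, one_mul]

/-- (iii) -/
theorem D3_w_xp_we_w (a : K) : D3 T L J o e (𝔴 * T 𝔭 𝔮 a * 𝔢 * 𝔴) := by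
  have e1 := H.X'_eq_cj_we a
  have e2 : T 𝔭 (ng 𝔮) (-a) = (𝔴)⁻¹ * T 𝔭 (ng 𝔮) a * 𝔴 := by
    apply eq_of_cj_inv
    rw [H.winv, H.B.S.wS_cj_Tanb H.hpq H.hpq' (-1) (by simp) a]
  have e3 := H.w_mul_we
  have e4 := H.B.S.wS_one_mul_self H.hpq H.hpq'
  have key : 𝔴 * T 𝔭 𝔮 a * 𝔢 * 𝔴 = 1 * 𝔬 * ((hS T 𝔭 𝔮 (-1))⁻¹ * T 𝔭 (ng 𝔮) (-a)) := by
    calc 𝔴 * T 𝔭 𝔮 a * 𝔢 * 𝔴
        = (𝔴 * 𝔢) * (𝔴 * ((𝔴)⁻¹ * ((𝔢)⁻¹ * T 𝔭 𝔮 a * 𝔢) * 𝔴)) := by group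
      _ = 𝔬 * ((𝔴 * 𝔴) * T 𝔭 (ng 𝔮) (-a)) := by
        rw [e3, ← e1, ← e2]
        simp only [mul_assoc]
      _ = _ := by rw [e4, one_mul]
  rw [key]
  exact Or.inr (Or.inr ⟨1, one_mem _, _, mul_mem (inv_mem (H.hS_mem_QQ _ (by simp))) (H.X'_mem_QQ _), rfl⟩)

/-- (vi) -/
theorem D3_w_xp_we_wo (a : K) : D3 T L J o e (𝔴 * T 𝔭 𝔮 a * 𝔢 * 𝔬) := by
  have e1 := H.X'_eq_cj_we a
  have e2 : T (ng 𝔭) (ng 𝔮) a = (𝔬)⁻¹ * T 𝔭 (ng 𝔮) a * 𝔬 := by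
    apply eq_of_cj_inv
    rw [H.woinv, H.B.S.wL_cj_A H.hpq' H.hqnp (-1) (by simp) a]
    congr 1
    rw [inv_neg, inv_one, neg_neg, one_mul]
  have e3 : T (ng 𝔭) 𝔮 a = 𝔢 * T (ng 𝔭) (ng 𝔮) a * (𝔢)⁻¹ := by
    have := H.B.S.wL_cj_D (a := 𝔮) (p := ng 𝔭) (ng_inl_ne o e) (ng_inl_ne_ng_inl H.heo.symm) 1 one_ne_zero a
    rw [inv_one, one_mul] at this
    exact this.symm
  have e4 := H.w_mul_wo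
  have e5 : 𝔢 * 𝔬 = 𝔬 * 𝔢 := (H.wo_comm_P (H.we_mem_P 1) 1).symm
  have key : 𝔴 * T 𝔭 𝔮 a * 𝔢 * 𝔬 = 𝔢 * (𝔴 * T (ng 𝔭) 𝔮 a) * 𝔢 := by
    calc 𝔴 * T 𝔭 𝔮 a * 𝔢 * 𝔬
        = 𝔴 * (𝔢 * 𝔬) * ((𝔬)⁻¹ * ((𝔢)⁻¹ * T 𝔭 𝔮 a * 𝔢) * 𝔬) := by group
      _ = (𝔴 * 𝔬) * (𝔢 * T (ng 𝔭) (ng 𝔮) a * (𝔢)⁻¹) * 𝔢 := by
        rw [e5, ← e1, ← e2]
        group
      _ = _ := by
        rw [e4, ← e3]
        simp only [mul_assoc]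
  rw [key]
  exact D3_mul_right (D3_mul_left (H.D3_w_x a) (H.we_mem_QQ 1)) (H.we_mem_QQ 1)

section third

variable {e' : I} (he' : e' ∈ (J.erase o).erase e)
include he'

local notation "𝔯" => (Sum.inl e' : I ⊕ I)
local notation "𝔳" => wS T (Sum.inl e : I ⊕ I) (Sum.inl e' : I ⊕ I) (1 : K)

theorem he'e : e' ≠ e := (Finset.mem_erase.1 he').1

theorem he'o : e' ≠ o := (Finset.mem_erase.1 (Finset.mem_erase.1 he').2).1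

theorem he'P : e' ∈ J.erase o := (Finset.mem_erase.1 he').2

theorem w'_mem_P (t : K) : wS T 𝔮 𝔯 t ∈ GJ T L (J.erase o) :=
  H.B.S.wS_mem_GJ (inl_ne_inl (H.he'e he').symm) (inl_ne_ng e e') H.he (H.he'P he') t

theorem w'_mem_QQ (t : K) : wS T 𝔮 𝔯 t ∈ QQ T L 𝔭 J := H.P_le_QQ (H.w'_mem_P he' t)

theorem w'inv : (𝔳)⁻¹ = wS T 𝔮 𝔯 (-1) :=
  (H.B.S.wS_neg (inl_ne_inl (H.he'e he').symm) (inl_ne_ng e e') 1).symm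

theorem Tpr_eq (a : K) : T 𝔭 𝔯 a = (𝔳)⁻¹ * T 𝔭 𝔮 a * 𝔳 := by
  apply eq_of_cj_inv
  rw [H.w'inv he', H.B.S.wS_cj_C (a := 𝔮) (b := 𝔯) (c := 𝔭) (inl_ne_inl (H.he'e he').symm) (inl_ne_ng e e')
    (inl_ne_inl H.heo) (inl_ne_ng e o) (inl_ne_inl (H.he'o he')) (inl_ne_ng e' o) (-1) (by simp) a]
  congr 1
  rw [neg_neg, one_mul]

/-- (ii) -/
theorem D3_w_xp_w'_w (a : K) : D3 T L J o e (𝔴 * T 𝔭 𝔮 a * 𝔳 * 𝔴) := by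
  have hqr : (𝔮 : I ⊕ I) ≠ 𝔯 := inl_ne_inl (H.he'e he').symm
  have hpr : (𝔭 : I ⊕ I) ≠ 𝔯 := inl_ne_inl (H.he'o he').symm
  have e1 := H.Tpr_eq he' a
  have e2 : T 𝔮 𝔯 a = (𝔴)⁻¹ * T 𝔭 𝔯 a * 𝔴 := by
    apply eq_of_cj_inv
    rw [H.winv, H.B.S.wS_cj_A (a := 𝔭) (b := 𝔮) (c := 𝔯) H.hpq H.hpq' hpr (inl_ne_ng o e') hqr
      (inl_ne_ng e e') (-1) (by simp) a]
    congr 1
    rw [inv_neg, inv_one, neg_neg, one_mul]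
  have e3 : wS T 𝔭 𝔯 1 = 𝔴 * 𝔳 * (𝔴)⁻¹ := by
    have := H.B.S.wS_cj_wS_bc (a := 𝔭) (b := 𝔮) (c := 𝔯) H.hpq H.hpq' hpr (inl_ne_ng o e') hqr
      (inl_ne_ng e e') 1 one_ne_zero 1 one_ne_zero
    rw [one_mul] at this
    exact this.symm
  have e4 : wS T 𝔭 𝔯 1 = 𝔳 * (𝔴)⁻¹ * (𝔳)⁻¹ := by
    have := H.B.S.wS_cj_wS_ca (a := 𝔮) (b := 𝔯) (c := 𝔭) hqr (inl_ne_ng e e')
      (inl_ne_inl H.heo) (inl_ne_ng e o) (inl_ne_inl (H.he'o he')) (inl_ne_ng e' o) 1 one_ne_zero (-1) (by simp)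
    rw [show (-1 : K) * -1 = 1 by ring, ← H.winv] at this
    exact this.symm
  have e5 := H.B.S.wS_one_mul_self H.hpq H.hpq'
  have e6 := H.hS_neg_one_mul_w
  have key : 𝔴 * T 𝔭 𝔮 a * 𝔳 * 𝔴 =
      (𝔳 * hS T 𝔭 𝔮 (-1)) * 𝔴 * ((𝔳)⁻¹ * (hS T 𝔭 𝔮 (-1))⁻¹ * T 𝔮 𝔯 a) := by
    calc 𝔴 * T 𝔭 𝔮 a * 𝔳 * 𝔴
        = (𝔴 * 𝔳 * (𝔴)⁻¹) * (𝔴 * 𝔴) * ((𝔴)⁻¹ * ((𝔳)⁻¹ * T 𝔭 𝔮 a * 𝔳) * 𝔴) := by group
      _ = (𝔳 * (𝔴)⁻¹ * (𝔳)⁻¹) * (hS T 𝔭 𝔮 (-1))⁻¹ * T 𝔮 𝔯 a := by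
        rw [← e3, e4, e5, ← e1, ← e2]
      _ = _ := by
        rw [← e6]
        simp only [mul_assoc]
  rw [key]
  refine Or.inr (Or.inl ⟨_, mul_mem (H.w'_mem_QQ he' 1) (H.hS_mem_QQ _ (by simp)), _, ?_, rfl⟩)
  refine mul_mem (mul_mem (inv_mem (H.w'_mem_QQ he' 1)) (inv_mem (H.hS_mem_QQ _ (by simp)))) ?_
  exact H.P_le_QQ (H.B.S.T_mem_GJ hqr (inl_ne_ng e e') H.he (H.he'P he') a)

/-- (v) -/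
theorem D3_w_xp_w'_wo (a : K) : D3 T L J o e (𝔴 * T 𝔭 𝔮 a * 𝔳 * 𝔬) := by
  have hqr : (𝔮 : I ⊕ I) ≠ 𝔯 := inl_ne_inl (H.he'e he').symm
  have hpr : (𝔭 : I ⊕ I) ≠ 𝔯 := inl_ne_inl (H.he'o he').symm
  have e1 := H.Tpr_eq he' a
  have e2 : T (ng 𝔭) 𝔯 a = (𝔬)⁻¹ * T 𝔭 𝔯 a * 𝔬 := by
    apply eq_of_cj_inv
    rw [H.woinv, H.B.S.wL_cj_A hpr (inl_ne_ng o e') (-1) (by simp) a]
    congr 1
    rw [inv_neg, inv_one, neg_neg, one_mul]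
  have e3 : T (ng 𝔭) 𝔮 a = 𝔳 * T (ng 𝔭) 𝔯 a * (𝔳)⁻¹ := by
    have := H.B.S.wS_cj_D (a := 𝔮) (b := 𝔯) (c := ng 𝔭) hqr (inl_ne_ng e e')
      (fun h => ng_inl_ne o e h.symm) (by rw [ng_ng]; exact inl_ne_inl H.heo)
      (fun h => ng_inl_ne o e' h.symm) (by rw [ng_ng]; exact inl_ne_inl (H.he'o he')) 1 one_ne_zero a
    rw [inv_one, one_mul] at this
    exact this.symm
  have e4 := H.w_mul_wo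
  have e5 : 𝔳 * 𝔬 = 𝔬 * 𝔳 := (H.wo_comm_P (H.w'_mem_P he' 1) 1).symm
  have key : 𝔴 * T 𝔭 𝔮 a * 𝔳 * 𝔬 = 𝔢 * (𝔴 * T (ng 𝔭) 𝔮 a) * 𝔳 := by
    calc 𝔴 * T 𝔭 𝔮 a * 𝔳 * 𝔬
        = 𝔴 * (𝔳 * 𝔬) * ((𝔬)⁻¹ * ((𝔳)⁻¹ * T 𝔭 𝔮 a * 𝔳) * 𝔬) := by group
      _ = (𝔴 * 𝔬) * (𝔳 * T (ng 𝔭) 𝔯 a * (𝔳)⁻¹) * 𝔳 := by
        rw [e5, ← e1, ← e2]
        group
      _ = _ := by
        rw [e4, ← e3]
        simp only [mul_assoc]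
  rw [key]
  exact D3_mul_right (D3_mul_left (H.D3_w_x a) (H.we_mem_QQ 1)) (H.w'_mem_QQ he' 1)

end third

end Step

end Cfsg.Agent.Helper6.SpN
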