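import Mathlib
import Cfsg.Agent.Lib.Helper6.SpL

/-!
Steinberg relations of type `C`: one step of the induction, concluded.
-/

set_option autoImplicit false
set_option linter.unusedSectionVars false
set_option linter.unusedVariables false

namespace Cfsg.Agent.Helper6.SpN

open Cfsg.Agent.Helper6 Cfsg.Agent.Helper6.SLn

variable {I : Type*} [DecidableEq I] {K : Type*} [Field K] {Γ : Type*} [Group Γ]

namespace Step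

variable {T : I ⊕ I → I ⊕ I → K → Γ} {L : I ⊕ I → K → Γ} {J : Finset I} {o e : I} (H : Step T L J o e)
include H

local notation "𝔭" => (Sum.inl o : I ⊕ I)
local notation "𝔮" => (Sum.inl e : I ⊕ I)
local notation "𝔴" => wS T (Sum.inl o : I ⊕ I) (Sum.inl e : I ⊕ I) (1 : K)
local notation "𝔬" => wL L (Sum.inl o : I ⊕ I) (1 : K)
local notation "𝔢" => wL L (Sum.inl e : I ⊕ I) (1 : K)

variable [Finite K]

theorem ho'' : av (𝔭 : I ⊕ I) ∉ (J.erase o).erase e :=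
  fun h => (Finset.mem_erase.1 (Finset.mem_erase.1 h).2).1 rfl

theorem he'' : av (𝔮 : I ⊕ I) ∉ (J.erase o).erase e :=
  fun h => (Finset.mem_erase.1 h).1 rfl

/-- moving an element of the stabiliser one level down to the left of `w x(a)` -/
theorem pushL {q' : Γ} (hq' : q' ∈ QQ T L 𝔮 (J.erase o)) (a : K) :
    ∃ q₀ ∈ QQ T L 𝔭 J, ∃ a' : K, 𝔴 * T 𝔭 𝔮 a * q' = q₀ * (𝔴 * T 𝔭 𝔮 a') := by
  obtain ⟨v', hv', γ, hγ, s, hs, rfl⟩ := H.QQ'_decomp hq'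
  have hn : 𝔴 * T 𝔭 𝔮 a ∈ Subgroup.normalizer (Mp T L J 𝔭 𝔮 : Set Γ) :=
    mul_mem (H.w_mem_normalizer_Mp 1) (H.xp_mem_normalizer_Mp a)
  have hv1 : cj (𝔴 * T 𝔭 𝔮 a) v' ∈ QQ T L 𝔭 J :=
    H.Mp_le_QQ (cj_mem_of_normalizer hn (H.Vp'_le_Mp hv'))
  have c1 : T 𝔭 𝔮 a * γ = γ * T 𝔭 𝔮 a :=
    (commute_of_cj (H.B.S.cj_T_GJ H.hpq H.hpq' H.ho'' H.he'' a γ hγ)).eq
  have c2 : 𝔴 * γ = γ * 𝔴 :=
    (commute_of_cj (H.B.S.cj_wS_GJ H.hpq H.hpq' H.ho'' H.he'' 1 γ hγ)).eq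
  have e1 : T 𝔭 𝔮 (s * a) = (hL L 𝔮 s)⁻¹ * T 𝔭 𝔮 a * hL L 𝔮 s := by
    apply eq_of_cj_inv
    apply cj_inv_left
    rw [H.B.S.hL_cj_T H.hpq H.hpq' s hs, wtL_out H.hpq H.hpq', wtL_a]
    congr 1
    field_simp
  have e2 : wS T 𝔭 𝔮 s = (hL L 𝔮 s)⁻¹ * 𝔴 * hL L 𝔮 s := by
    apply eq_of_cj_inv
    apply cj_inv_left
    rw [H.B.S.hL_cj_wS H.hpq H.hpq' s hs s hs, wtL_out H.hpq H.hpq', wtL_a]
    congr 1
    field_simp
  have e3 := H.B.S.wS_eq_hS_mul H.hpq H.hpq' s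
  refine ⟨cj (𝔴 * T 𝔭 𝔮 a) v' * γ * hL L 𝔮 s * hS T 𝔭 𝔮 s, ?_, s * a, ?_⟩
  · refine mul_mem (mul_mem (mul_mem hv1 (H.P_le_QQ (H.P''_le_P hγ))) ?_) (H.hS_mem_QQ s hs)
    exact H.P_le_QQ (H.B.S.hL_mem_GJ H.he s)
  · calc 𝔴 * T 𝔭 𝔮 a * (v' * γ * hL L 𝔮 s)
        = cj (𝔴 * T 𝔭 𝔮 a) v' * (𝔴 * (T 𝔭 𝔮 a * γ)) * hL L 𝔮 s := by
          unfold cj
          group
      _ = cj (𝔴 * T 𝔭 𝔮 a) v' * (γ * 𝔴 * T 𝔭 𝔮 a) * hL L 𝔮 s := by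
          rw [c1, ← mul_assoc 𝔴 γ, c2]
      _ = cj (𝔴 * T 𝔭 𝔮 a) v' * γ * hL L 𝔮 s *
            (((hL L 𝔮 s)⁻¹ * 𝔴 * hL L 𝔮 s) * ((hL L 𝔮 s)⁻¹ * T 𝔭 𝔮 a * hL L 𝔮 s)) := by group
      _ = _ := by
          rw [← e1, ← e2, e3]
          simp only [mul_assoc]

/-- moving an element of the stabiliser one level down to the right of `w` -/
theorem pushR {q' : Γ} (hq' : q' ∈ QQ T L 𝔮 (J.erase o)) :
    ∃ q₃ ∈ QQ T L 𝔭 J, q' * 𝔴 = 𝔴 * q₃ := by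
  refine ⟨cj (𝔴)⁻¹ q', ?_, mul_eq_of_cj_inv rfl⟩
  obtain ⟨v', hv', γ, hγ, s, hs, rfl⟩ := H.QQ'_decomp hq'
  rw [cj_mul_right, cj_mul_right]
  have hn : (𝔴)⁻¹ ∈ Subgroup.normalizer (Mp T L J 𝔭 𝔮 : Set Γ) := inv_mem (H.w_mem_normalizer_Mp 1)
  refine mul_mem (mul_mem (H.Mp_le_QQ (cj_mem_of_normalizer hn (H.Vp'_le_Mp hv'))) ?_) ?_
  · rw [H.winv, H.B.S.cj_wS_GJ H.hpq H.hpq' H.ho'' H.he'' (-1) γ hγ]
    exact H.P_le_QQ (H.P''_le_P hγ)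
  · rw [H.winv, H.B.S.wS_cj_hL_b H.B.hgen H.hpq H.hpq' (-1) (by simp) s hs]
    exact H.HLc_le_QQ (hL_mem_HLc L _ s hs)

/-- the elements of the stabiliser one level down commute with `w_o` -/
theorem pushRo {q' : Γ} (hq' : q' ∈ QQ T L 𝔮 (J.erase o)) : q' * 𝔬 = 𝔬 * q' :=
  (H.wo_comm_P (H.QQ'_le_P hq') 1).symm

/-- the main case: `w x(a) γ n` for `γ` in the Levi part and `n` one of the two Weyl elements -/
theorem claim (a : K) {γ : Γ} (IH : Dc T L 𝔮 (J.erase o) γ) :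
    D3 T L J o e (𝔴 * T 𝔭 𝔮 a * γ * 𝔴) ∧ D3 T L J o e (𝔴 * T 𝔭 𝔮 a * γ * 𝔬) := by
  rcases IH with hq | ⟨e', he', q₁, hq₁, q₂, hq₂, rfl⟩ | ⟨q₁, hq₁, q₂, hq₂, rfl⟩
  · obtain ⟨q₀, hq₀, a', h1⟩ := H.pushL hq a
    constructor
    · rw [h1, mul_assoc]
      exact D3_mul_left (H.D3_w_xp_w a') hq₀
    · rw [h1, mul_assoc]
      exact D3_mul_left (H.D3_w_xp_wo a') hq₀
  · obtain ⟨q₀, hq₀, a', h1⟩ := H.pushL hq₁ a
    obtain ⟨q₃, hq₃, h2⟩ := H.pushR hq₂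
    have h3 := H.pushRo hq₂
    constructor
    · have : 𝔴 * T 𝔭 𝔮 a * (q₁ * wS T 𝔮 (Sum.inl e') 1 * q₂) * 𝔴 =
          q₀ * (𝔴 * T 𝔭 𝔮 a' * wS T 𝔮 (Sum.inl e') 1 * 𝔴) * q₃ := by
        calc 𝔴 * T 𝔭 𝔮 a * (q₁ * wS T 𝔮 (Sum.inl e') 1 * q₂) * 𝔴
            = (𝔴 * T 𝔭 𝔮 a * q₁) * wS T 𝔮 (Sum.inl e') 1 * (q₂ * 𝔴) := by group
          _ = _ := by
            rw [h1, h2]
            simp only [mul_assoc]
      rw [this]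
      exact D3_mul_right (D3_mul_left (H.D3_w_xp_w'_w he' a') hq₀) hq₃
    · have : 𝔴 * T 𝔭 𝔮 a * (q₁ * wS T 𝔮 (Sum.inl e') 1 * q₂) * 𝔬 =
          q₀ * (𝔴 * T 𝔭 𝔮 a' * wS T 𝔮 (Sum.inl e') 1 * 𝔬) * q₂ := by
        calc 𝔴 * T 𝔭 𝔮 a * (q₁ * wS T 𝔮 (Sum.inl e') 1 * q₂) * 𝔬
            = (𝔴 * T 𝔭 𝔮 a * q₁) * wS T 𝔮 (Sum.inl e') 1 * (q₂ * 𝔬) := by group
          _ = _ := by
            rw [h1, h3]
            simp only [mul_assoc]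
      rw [this]
      exact D3_mul_right (D3_mul_left (H.D3_w_xp_w'_wo he' a') hq₀) (H.P_le_QQ (H.QQ'_le_P hq₂))
  · obtain ⟨q₀, hq₀, a', h1⟩ := H.pushL hq₁ a
    obtain ⟨q₃, hq₃, h2⟩ := H.pushR hq₂
    have h3 := H.pushRo hq₂
    constructor
    · have : 𝔴 * T 𝔭 𝔮 a * (q₁ * 𝔢 * q₂) * 𝔴 = q₀ * (𝔴 * T 𝔭 𝔮 a' * 𝔢 * 𝔴) * q₃ := by
        calc 𝔴 * T 𝔭 𝔮 a * (q₁ * 𝔢 * q₂) * 𝔴
            = (𝔴 * T 𝔭 𝔮 a * q₁) * 𝔢 * (q₂ * 𝔴) := by group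
          _ = _ := by
            rw [h1, h2]
            simp only [mul_assoc]
      rw [this]
      exact D3_mul_right (D3_mul_left (H.D3_w_xp_we_w a') hq₀) hq₃
    · have : 𝔴 * T 𝔭 𝔮 a * (q₁ * 𝔢 * q₂) * 𝔬 = q₀ * (𝔴 * T 𝔭 𝔮 a' * 𝔢 * 𝔬) * q₂ := by
        calc 𝔴 * T 𝔭 𝔮 a * (q₁ * 𝔢 * q₂) * 𝔬
            = (𝔴 * T 𝔭 𝔮 a * q₁) * 𝔢 * (q₂ * 𝔬) := by group
          _ = _ := by
            rw [h1, h3]
            simp only [mul_assoc]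
      rw [this]
      exact D3_mul_right (D3_mul_left (H.D3_w_xp_we_wo a') hq₀) (H.P_le_QQ (H.QQ'_le_P hq₂))

section closure

variable (IH : ∀ γ ∈ GJ T L (J.erase o), Dc T L (Sum.inl e : I ⊕ I) (J.erase o) γ)
include IH

/-- left multiplication by `w` preserves the union of the double cosets -/
theorem w_mul_D3 {g : Γ} (hg : D3 T L J o e g) : D3 T L J o e (𝔴 * g) := by
  rcases hg with h | ⟨q₁, h₁, q₂, h₂, rfl⟩ | ⟨q₁, h₁, q₂, h₂, rfl⟩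
  · exact D3_mul_right D3_w h
  · obtain ⟨v, hv, γ, hγ, s, hs, rfl⟩ := H.QQ_decomp h₁
    obtain ⟨a, v₁, hv₁, rfl⟩ := H.Vp_decomp v hv
    have e1 : hL L 𝔭 s * 𝔴 = 𝔴 * hL L 𝔮 s := by
      apply mul_eq_of_cj_inv
      rw [H.winv, H.B.S.wS_cj_hL_a H.B.hgen H.hpq H.hpq' (-1) (by simp) s hs]
    have hn : 𝔴 * T 𝔭 𝔮 a ∈ Subgroup.normalizer (Mp T L J 𝔭 𝔮 : Set Γ) :=
      mul_mem (H.w_mem_normalizer_Mp 1) (H.xp_mem_normalizer_Mp a)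
    have hv1 : cj (𝔴 * T 𝔭 𝔮 a) v₁ ∈ QQ T L 𝔭 J :=
      H.Mp_le_QQ (cj_mem_of_normalizer hn (H.Vq_le_Mp hv₁))
    have key : 𝔴 * (T 𝔭 𝔮 a * v₁ * γ * hL L 𝔭 s * 𝔴 * q₂) =
        cj (𝔴 * T 𝔭 𝔮 a) v₁ * (𝔴 * T 𝔭 𝔮 a * γ * 𝔴) * (hL L 𝔮 s * q₂) := by
      calc 𝔴 * (T 𝔭 𝔮 a * v₁ * γ * hL L 𝔭 s * 𝔴 * q₂)
          = cj (𝔴 * T 𝔭 𝔮 a) v₁ * (𝔴 * T 𝔭 𝔮 a * γ) * (hL L 𝔭 s * 𝔴) * q₂ := by
            unfold cj
            group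
        _ = _ := by
            rw [e1]
            simp only [mul_assoc]
    rw [key]
    exact D3_mul_right (D3_mul_left (H.claim a (IH γ hγ)).1 hv1)
      (mul_mem (H.P_le_QQ (H.B.S.hL_mem_GJ H.he s)) h₂)
  · obtain ⟨v, hv, γ, hγ, s, hs, rfl⟩ := H.QQ_decomp h₁
    obtain ⟨a, v₁, hv₁, rfl⟩ := H.Vp_decomp v hv
    obtain ⟨b, hb1, hb2⟩ := H.B.exists_other 𝔭
    have e1 : hL L 𝔭 s * 𝔬 = 𝔬 * hL L 𝔭 s⁻¹ :=
      hh_mul_nn_one (H.B.S.rankOneL H.B.hgen hb1 hb2) s hs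
    have hn : 𝔴 * T 𝔭 𝔮 a ∈ Subgroup.normalizer (Mp T L J 𝔭 𝔮 : Set Γ) :=
      mul_mem (H.w_mem_normalizer_Mp 1) (H.xp_mem_normalizer_Mp a)
    have hv1 : cj (𝔴 * T 𝔭 𝔮 a) v₁ ∈ QQ T L 𝔭 J :=
      H.Mp_le_QQ (cj_mem_of_normalizer hn (H.Vq_le_Mp hv₁))
    have key : 𝔴 * (T 𝔭 𝔮 a * v₁ * γ * hL L 𝔭 s * 𝔬 * q₂) =
        cj (𝔴 * T 𝔭 𝔮 a) v₁ * (𝔴 * T 𝔭 𝔮 a * γ * 𝔬) * (hL L 𝔭 s⁻¹ * q₂) := by
      calc 𝔴 * (T 𝔭 𝔮 a * v₁ * γ * hL L 𝔭 s * 𝔬 * q₂)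
          = cj (𝔴 * T 𝔭 𝔮 a) v₁ * (𝔴 * T 𝔭 𝔮 a * γ) * (hL L 𝔭 s * 𝔬) * q₂ := by
            unfold cj
            group
        _ = _ := by
            rw [e1]
            simp only [mul_assoc]
    rw [key]
    exact D3_mul_right (D3_mul_left (H.claim a (IH γ hγ)).2 hv1)
      (mul_mem (H.HLc_le_QQ (hL_mem_HLc L _ _ (inv_ne_zero hs))) h₂)

theorem winv_mul_D3 {g : Γ} (hg : D3 T L J o e g) : D3 T L J o e ((𝔴)⁻¹ * g) := by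
  rw [← H.hS_neg_one_mul_w, mul_assoc]
  exact D3_mul_left (H.w_mul_D3 IH hg) (H.hS_mem_QQ _ (by simp))

theorem wo_mul_D3 {g : Γ} (hg : D3 T L J o e g) : D3 T L J o e (𝔬 * g) := by
  have e : 𝔬 * g = 𝔴 * (𝔢 * ((𝔴)⁻¹ * g)) := by
    have := H.w_mul_we
    calc 𝔬 * g = (𝔬 * 𝔴) * ((𝔴)⁻¹ * g) := by group
      _ = _ := by
        rw [← this]
        simp only [mul_assoc]
  rw [e]
  exact H.w_mul_D3 IH (D3_mul_left (H.winv_mul_D3 IH hg) (H.we_mem_QQ 1))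

theorem woinv_mul_D3 {g : Γ} (hg : D3 T L J o e g) : D3 T L J o e ((𝔬)⁻¹ * g) := by
  have e : (𝔬)⁻¹ * g = 𝔴 * ((𝔢)⁻¹ * ((𝔴)⁻¹ * g)) := by
    have := H.w_mul_we
    have h2 : 𝔬 = 𝔴 * 𝔢 * (𝔴)⁻¹ := by
      rw [this]
      group
    rw [h2]
    group
  rw [e]
  exact H.w_mul_D3 IH (D3_mul_left (H.winv_mul_D3 IH hg) (inv_mem (H.we_mem_QQ 1)))

/-- left multiplication by a root element preserves the union of the double cosets -/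
theorem gen_mul_D3 {a b : I ⊕ I} (hab : a ≠ b) (ha : av a ∈ J) (hb : av b ∈ J) (t : K) {g : Γ}
    (hg : D3 T L J o e g) : D3 T L J o e (XX T L a b t * g) := by
  -- conjugates by `w_o`
  have hconj : ∀ y' : Γ, y' ∈ QQ T L 𝔭 J → D3 T L J o e (cj 𝔬 y' * g) := by
    intro y' hy'
    have e : cj 𝔬 y' * g = 𝔬 * (y' * ((𝔬)⁻¹ * g)) := by
      unfold cj
      group
    rw [e]
    exact H.wo_mul_D3 IH (D3_mul_left (H.woinv_mul_D3 IH hg) hy')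
  obtain ⟨b', hb1, hb2⟩ := H.B.exists_other 𝔭
  rcases gr_cases 𝔭 a with ⟨rfl, _⟩ | ⟨rfl, _⟩ | ⟨ha1, ha2, _⟩
  · -- `a = p`
    by_cases hbn : b = ng 𝔭
    · subst hbn
      rw [XX_long]
      exact D3_mul_left hg (H.Vp_le_QQ (H.L_mem_Vp t))
    · rw [XX_short T L hbn]
      have hb' : av b ∈ J.erase o := by
        refine Finset.mem_erase.2 ⟨?_, hb⟩
        intro h
        rcases eq_or_eq_ng_of_av (a := b) (b := 𝔭) h with h' | h'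
        · exact hab h'.symm
        · exact hbn h'
      exact D3_mul_left hg (H.T_mem_QQ hb' t)
  · -- `a = -p`
    by_cases hbp : b = 𝔭
    · subst hbp
      have e1 : XX T L (ng 𝔭) 𝔭 t = cj 𝔬 (L 𝔭 (-t)) := by
        have h1 : XX T L (ng 𝔭) 𝔭 t = L (ng 𝔭) t := by
          have := XX_long T L (ng 𝔭) t
          rwa [ng_ng] at this
        rw [h1, H.B.S.wL_cj_E hb1 hb2 1 one_ne_zero]
        congr 1
        rw [one_pow, inv_one]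
        ring
      rw [e1]
      exact hconj _ (H.Vp_le_QQ (H.L_mem_Vp _))
    · have hbn : b ≠ ng (ng 𝔭) := by
        rw [ng_ng]
        exact hbp
      have hb' : av b ∈ J.erase o := by
        refine Finset.mem_erase.2 ⟨?_, hb⟩
        intro h
        rcases eq_or_eq_ng_of_av (a := b) (b := 𝔭) h with h' | h'
        · exact hbp h'
        · exact hab h'.symm
      obtain ⟨hb'1, _⟩ := Finset.mem_erase.1 hb'
      have h1 : (𝔭 : I ⊕ I) ≠ b := fun h => hbp h.symm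
      have h2 : (𝔭 : I ⊕ I) ≠ ng b := fun h => hab (by rw [h, ng_ng])
      have e1 : XX T L (ng 𝔭) b t = cj 𝔬 (T 𝔭 b (-t)) := by
        rw [XX_short T L hbn, H.B.S.wL_cj_A h1 h2 1 one_ne_zero]
        congr 1
        rw [inv_one]
        ring
      rw [e1]
      exact hconj _ (H.T_mem_QQ hb' _)
  · -- `a` away from `±p`
    have hao : av a ≠ o := fun h => (eq_or_eq_ng_of_av (a := a) (b := 𝔭) h).elim ha1 ha2
    have ha' : av a ∈ J.erase o := Finset.mem_erase.2 ⟨hao, ha⟩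
    have hTn : ∀ t : K, T a (ng 𝔭) t ∈ QQ T L 𝔭 J := by
      intro t
      apply H.Vp_le_QQ
      have h1 : a ≠ ng (ng 𝔭) := by
        rw [ng_ng]
        exact ha1
      refine T_mem_GZ ha2 h1 ⟨ha, ?_, ?_⟩ t
      · rw [av_ng]
        exact H.ho
      · show 0 < gr 𝔭 a - gr 𝔭 (ng 𝔭)
        rw [gr_of_ne ha1 ha2, gr_ng_self]
        norm_num
    by_cases hbp : b = 𝔭
    · subst hbp
      have hbn : (𝔭 : I ⊕ I) ≠ ng a := fun h => ha2 (by rw [h, ng_ng])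
      have e1 : XX T L a 𝔭 t = cj 𝔬 (T a (ng 𝔭) t) := by
        rw [XX_short T L hbn, H.B.S.wL_cj_D ha1 ha2 1 one_ne_zero, inv_one, one_mul]
      rw [e1]
      exact hconj _ (hTn t)
    · by_cases hbn : b = ng 𝔭
      · subst hbn
        have h1 : ng (𝔭 : I ⊕ I) ≠ ng a := fun h => ha1 (ng_inj.1 h).symm
        rw [XX_short T L h1]
        exact D3_mul_left hg (hTn t)
      · have hbo : av b ≠ o := fun h => (eq_or_eq_ng_of_av (a := b) (b := 𝔭) h).elim hbp hbn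
        have hb' : av b ∈ J.erase o := Finset.mem_erase.2 ⟨hbo, hb⟩
        exact D3_mul_left hg (H.P_le_QQ (XX_mem_GZ hab ⟨ha', hb'⟩ t))

/-- the group belonging to `J` lies in the union of the three double cosets -/
theorem GJ_D3 {x : Γ} (hx : x ∈ GJ T L J) : D3 T L J o e x := by
  have key : ∀ x ∈ GJ T L J, ∀ g, D3 T L J o e g → D3 T L J o e (x * g) := by
    apply H.B.S.GZ_induction (p := fun x => ∀ g, D3 T L J o e g → D3 T L J o e (x * g))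
    · intro g hg
      rwa [one_mul]
    · intro a b hab hZ t y _ ih g hg
      rw [mul_assoc]
      exact H.gen_mul_D3 IH hab hZ.1 hZ.2 t (ih g hg)
  have := key x hx 1 (Or.inl (one_mem _))
  rwa [mul_one] at this

/-- the step of the induction: the three double cosets exhaust the group belonging to `J` -/
theorem dc {x : Γ} (hx : x ∈ GJ T L J) : Dc T L (Sum.inl o : I ⊕ I) J x :=
  Dc_of_D3 H.he (H.GJ_D3 IH hx)

end closure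

end Step

end Cfsg.Agent.Helper6.SpN
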