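import Mathlib
import Cfsg.Agent.Lib.Helper6.SpM

/-!
Steinberg relations of type `C`: the group belonging to an index set is the union of three double cosets of the
stabiliser of a line (induction over the index set).
-/

set_option autoImplicit false
set_option linter.unusedSectionVars false
set_option linter.unusedVariables false

namespace Cfsg.Agent.Helper6.SpN

open Cfsg.Agent.Helper6 Cfsg.Agent.Helper6.SLn

variable {I : Type*} [DecidableEq I] {K : Type*} [Field K] {Γ : Type*} [Group Γ]
  {T : I ⊕ I → I ⊕ I → K → Γ} {L : I ⊕ I → K → Γ}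

namespace Base

variable (B : Base T L) [Finite K]
include B

/-- the case of a single index: the rank one group of a long root -/
theorem dc_base (o : I) : ∀ g ∈ GJ T L {o}, Dc T L (Sum.inl o : I ⊕ I) {o} g := by
  obtain ⟨b, hb1, hb2⟩ := B.exists_other (Sum.inl o : I ⊕ I)
  have R1 := B.S.rankOneL B.hgen hb1 hb2
  have hLQ : ∀ t : K, L (Sum.inl o : I ⊕ I) t ∈ QQ T L (Sum.inl o : I ⊕ I) {o} := by
    intro t
    apply le_sup_left (a := Vp T L (Sum.inl o : I ⊕ I) {o})
    refine L_mem_GZ ⟨Finset.mem_singleton_self o, ?_, ?_⟩ t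
    · rw [av_ng]
      exact Finset.mem_singleton_self o
    · show 0 < gr (Sum.inl o : I ⊕ I) (Sum.inl o) - gr (Sum.inl o : I ⊕ I) (ng (Sum.inl o))
      rw [gr_self, gr_ng_self]
      norm_num
  have hHQ : ∀ s : K, s ≠ 0 → hL L (Sum.inl o : I ⊕ I) s ∈ QQ T L (Sum.inl o : I ⊕ I) {o} := by
    intro s hs
    exact le_sup_of_le_right (le_sup_right (a := GJ T L (({o} : Finset I).erase (av (Sum.inl o : I ⊕ I)))))
      (hL_mem_HLc L _ s hs)
  have hle : GJ T L {o} ≤ R1.hom.range := by
    apply GZ_le
    rintro a c hac ⟨ha, hc⟩ t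
    rw [Finset.mem_singleton] at ha hc
    have ha' : av a = av (Sum.inl o : I ⊕ I) := ha
    have hc' : av c = av (Sum.inl o : I ⊕ I) := hc
    rcases eq_or_eq_ng_of_av ha' with rfl | rfl
    · rcases eq_or_eq_ng_of_av hc' with rfl | rfl
      · exact absurd rfl hac
      · rw [XX_long]
        exact ⟨SL2Hom.xS t, R1.hom_xS t⟩
    · rcases eq_or_eq_ng_of_av hc' with rfl | rfl
      · have h1 : XX T L (ng (Sum.inl o)) (Sum.inl o) t = L (ng (Sum.inl o)) t := by
          have := XX_long T L (ng (Sum.inl o : I ⊕ I)) t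
          rwa [ng_ng] at this
        rw [h1]
        exact ⟨SL2Hom.yS t, R1.hom_yS t⟩
      · exact absurd rfl hac
  intro g hg
  obtain ⟨x, rfl⟩ := hle hg
  by_cases h : x 1 0 = 0
  · obtain ⟨h00, hx⟩ := eq_of_low_zero x h
    left
    rw [hx, map_mul, hom_hh R1, R1.hom_xS, ← hL_eq_hh]
    exact mul_mem (hHQ _ h00) (hLQ _)
  · right
    right
    have h1 : -(x 1 0)⁻¹ ≠ 0 := neg_ne_zero.2 (inv_ne_zero h)
    refine ⟨L (Sum.inl o : I ⊕ I) (x 0 0 / x 1 0) * hL L (Sum.inl o : I ⊕ I) (-(x 1 0)⁻¹),
      mul_mem (hLQ _) (hHQ _ h1), L (Sum.inl o : I ⊕ I) (x 1 1 / x 1 0), hLQ _, ?_⟩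
    conv_lhs => rw [eq_of_low_ne x h]
    rw [map_mul, map_mul, map_mul, hom_hh R1, R1.hom_xS, R1.hom_xS, hom_nn_one R1, ← hL_eq_hh, ← wL_eq_nn]

/-- **the three double cosets exhaust the group belonging to an index set** -/
theorem dc_all : ∀ (n : ℕ) (J : Finset I), J.card = n → ∀ o ∈ J, ∀ g ∈ GJ T L J,
    Dc T L (Sum.inl o : I ⊕ I) J g := by
  intro n
  induction n using Nat.strong_induction_on with
  | _ n ih =>
    intro J hJ o ho g hg
    by_cases hE : (J.erase o).Nonempty
    · obtain ⟨e, he⟩ := hE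
      have H : Step T L J o e := ⟨B, ho, he⟩
      have hlt : (J.erase o).card < n := by
        rw [Finset.card_erase_of_mem ho, hJ]
        have := Finset.card_pos.2 ⟨o, ho⟩
        omega
      have IH : ∀ γ ∈ GJ T L (J.erase o), Dc T L (Sum.inl e : I ⊕ I) (J.erase o) γ :=
        ih (J.erase o).card hlt (J.erase o) rfl e he
      exact H.dc IH hg
    · have hJo : J = {o} := by
        rw [Finset.not_nonempty_iff_eq_empty] at hE
        apply Finset.Subset.antisymm
        · intro x hx
          by_contra hxo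
          rw [Finset.mem_singleton] at hxo
          have : x ∈ J.erase o := Finset.mem_erase.2 ⟨hxo, hx⟩
          rw [hE] at this
          exact absurd this (Finset.notMem_empty x)
        · intro x hx
          rw [Finset.mem_singleton] at hx
          rw [hx]
          exact ho
      subst hJo
      exact B.dc_base o g hg

end Base

end Cfsg.Agent.Helper6.SpN
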