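import Mathlib
import Cfsg.Agent.Lib.Helper6.SpN1
import Cfsg.Agent.Lib.Helper19.SpM1
import Cfsg.Agent.Lib.Helper25.SpM2

/-!
Steinberg relations of type `C`: a homomorphism to the symplectic group sending the root elements to the elementary
symplectic matrices; its action on the coordinate vectors.
-/

set_option autoImplicit false
set_option linter.unusedSectionVars false
set_option linter.unusedVariables false
set_option linter.unusedSimpArgs false

namespace Cfsg.Agent.Helper6.SpN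

open Matrix Cfsg.Agent.Helper6 Cfsg.Agent.Helper6.SLn

variable {I : Type*} [Fintype I] [DecidableEq I] {K : Type*} [Field K] {Γ : Type*} [Group Γ]
  {T : I ⊕ I → I ⊕ I → K → Γ} {L : I ⊕ I → K → Γ}

/-- the coordinate vectors -/
def ee (a : I ⊕ I) : I ⊕ I → K := Cfsg.Agent.Helper25.SpM2.ev a

theorem ee_apply (a i : I ⊕ I) : (ee a : I ⊕ I → K) i = if i = a then 1 else 0 :=
  Cfsg.Agent.Helper25.SpM2.ev_apply a i

theorem ee_self (a : I ⊕ I) : (ee a : I ⊕ I → K) a = 1 := by
  rw [ee_apply, if_pos rfl]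

theorem ee_ne {a i : I ⊕ I} (h : i ≠ a) : (ee a : I ⊕ I → K) i = 0 := by
  rw [ee_apply, if_neg h]

/-- a homomorphism to the symplectic group sending the root elements to the elementary matrices -/
structure MatHom (T : I ⊕ I → I ⊕ I → K → Γ) (L : I ⊕ I → K → Γ) (φ : Γ →* symplecticGroup I K) : Prop where
  hT : ∀ a b, a ≠ b → a ≠ ng b → ∀ t, φ (T a b t) = Tm a b t
  hL : ∀ a t, φ (L a t) = Lm a t

/-- the action on vectors -/
def mv (φ : Γ →* symplecticGroup I K) (g : Γ) (x : I ⊕ I → K) : I ⊕ I → K :=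
  ((φ g : symplecticGroup I K) : Matrix (I ⊕ I) (I ⊕ I) K) *ᵥ x

theorem mv_mul (φ : Γ →* symplecticGroup I K) (g h : Γ) (x : I ⊕ I → K) :
    mv φ (g * h) x = mv φ g (mv φ h x) := by
  unfold mv
  rw [map_mul, Submonoid.coe_mul, mulVec_mulVec]

theorem mv_one (φ : Γ →* symplecticGroup I K) (x : I ⊕ I → K) : mv φ 1 x = x := by
  unfold mv
  rw [map_one, Submonoid.coe_one, one_mulVec]

theorem mv_smul (φ : Γ →* symplecticGroup I K) (g : Γ) (s : K) (x : I ⊕ I → K) :
    mv φ g (s • x) = s • mv φ g x := by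
  unfold mv
  rw [mulVec_smul]

theorem mv_add (φ : Γ →* symplecticGroup I K) (g : Γ) (x y : I ⊕ I → K) :
    mv φ g (x + y) = mv φ g x + mv φ g y := by
  unfold mv
  rw [mulVec_add]

theorem mv_inv_of_eq (φ : Γ →* symplecticGroup I K) {g : Γ} {x y : I ⊕ I → K} (h : mv φ g x = y) :
    mv φ g⁻¹ y = x := by
  rw [← h, ← mv_mul, inv_mul_cancel, mv_one]

/-- the elements fixing a vector -/
def fixSub (φ : Γ →* symplecticGroup I K) (x : I ⊕ I → K) : Subgroup Γ where
  carrier := {g | mv φ g x = x}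
  one_mem' := mv_one φ x
  mul_mem' := by
    intro g h hg hh
    show mv φ (g * h) x = x
    rw [mv_mul, hh, hg]
  inv_mem' := by
    intro g hg
    exact mv_inv_of_eq φ hg

theorem mem_fixSub {φ : Γ →* symplecticGroup I K} {x : I ⊕ I → K} {g : Γ} :
    g ∈ fixSub φ x ↔ mv φ g x = x := Iff.rfl

/-- the elements stabilising the line of a vector -/
def lineSub (φ : Γ →* symplecticGroup I K) (x : I ⊕ I → K) : Subgroup Γ where
  carrier := {g | ∃ s : K, s ≠ 0 ∧ mv φ g x = s • x}
  one_mem' := ⟨1, one_ne_zero, by rw [mv_one, one_smul]⟩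
  mul_mem' := by
    rintro g h ⟨s, hs, hg⟩ ⟨s', hs', hh⟩
    refine ⟨s' * s, mul_ne_zero hs' hs, ?_⟩
    rw [mv_mul, hh, mv_smul, hg, smul_smul]
  inv_mem' := by
    rintro g ⟨s, hs, hg⟩
    refine ⟨s⁻¹, inv_ne_zero hs, ?_⟩
    have h1 : mv φ g⁻¹ (s • x) = x := mv_inv_of_eq φ hg
    rw [mv_smul] at h1
    rw [← h1, smul_smul, inv_mul_cancel₀ hs, one_smul, h1]

theorem mem_lineSub {φ : Γ →* symplecticGroup I K} {x : I ⊕ I → K} {g : Γ} :
    g ∈ lineSub φ x ↔ ∃ s : K, s ≠ 0 ∧ mv φ g x = s • x := Iff.rfl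

theorem fixSub_le_lineSub (φ : Γ →* symplecticGroup I K) (x : I ⊕ I → K) : fixSub φ x ≤ lineSub φ x := by
  intro g hg
  exact ⟨1, one_ne_zero, by rw [one_smul]; exact hg⟩

namespace MatHom

variable {φ : Γ →* symplecticGroup I K} (M : MatHom T L φ)
include M

theorem mv_T {a b : I ⊕ I} (hab : a ≠ b) (hab' : a ≠ ng b) (t : K) (x : I ⊕ I → K) :
    mv φ (T a b t) x = x + (t * x b) • ee a - (sg K a * sg K b * t * x (ng a)) • ee (ng b) := by
  unfold mv
  rw [M.hT a b hab hab', Cfsg.Agent.Helper19.SpM1.Tm_coe hab hab', Cfsg.Agent.Helper25.SpM2.TmM_mulVec]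
  rfl

theorem mv_L (a : I ⊕ I) (t : K) (x : I ⊕ I → K) :
    mv φ (L a t) x = x + (t * x (ng a)) • ee a := by
  unfold mv
  rw [M.hL a t, Cfsg.Agent.Helper19.SpM1.Lm_coe, Cfsg.Agent.Helper25.SpM2.LmM_mulVec]
  rfl

/-- a root element fixes the coordinate vector of `c` unless its position is `(·, c)` or `(-c, ·)` -/
theorem mv_XX_ee {a b c : I ⊕ I} (hab : a ≠ b) (hbc : b ≠ c) (hac : a ≠ ng c) (t : K) :
    mv φ (XX T L a b t) (ee c) = ee c := by
  have h1 : (ee c : I ⊕ I → K) (ng a) = 0 := ee_ne (fun h => hac (by rw [← h, ng_ng]))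
  by_cases h : b = ng a
  · subst h
    rw [XX_long, M.mv_L, h1, mul_zero, zero_smul, add_zero]
  · have hab' : a ≠ ng b := fun h' => h (by rw [h', ng_ng])
    rw [XX_short T L h, M.mv_T hab hab', h1, ee_ne hbc, mul_zero, mul_zero, zero_smul, zero_smul, add_zero,
      sub_zero]

/-- the action of the Weyl element of a long root -/
theorem mv_wL (p : I ⊕ I) (t : K) (ht : t ≠ 0) (x : I ⊕ I → K) :
    mv φ (wL L p t) x = x + (t * x (ng p) - x p) • ee p + (-t⁻¹ * x p - x (ng p)) • ee (ng p) := by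
  unfold wL
  rw [mv_mul, mv_mul, M.mv_L, M.mv_L, M.mv_L]
  funext i
  have hnp : ng p ≠ p := ng_ne p
  have hpn : p ≠ ng p := ne_ng p
  simp only [Pi.add_apply, Pi.smul_apply, smul_eq_mul, ng_ng, ee_apply, if_neg hnp, if_neg hpn, if_true,
    mul_zero, add_zero, mul_one]
  by_cases h1 : i = p
  · subst h1
    simp only [if_true, if_neg hpn, mul_one, mul_zero, add_zero]
    field_simp
    ring
  · by_cases h2 : i = ng p
    · subst h2
      simp only [if_true, if_neg hnp, mul_one, mul_zero, add_zero]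
      field_simp
      ring
    · simp only [if_neg h1, if_neg h2, mul_zero, add_zero]

/-- the Weyl element of a long root on the coordinate vector of the root -/
theorem mv_wL_ee (p : I ⊕ I) (t : K) (ht : t ≠ 0) : mv φ (wL L p t) (ee p) = (-t⁻¹) • ee (ng p) := by
  rw [M.mv_wL p t ht, ee_self, ee_ne (ng_ne p), mul_zero, zero_sub, mul_one, sub_zero, neg_smul, one_smul,
    add_neg_cancel, zero_add]

/-- the Weyl element of a long root on the coordinate vector of the opposite root -/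
theorem mv_wL_ee_ng (p : I ⊕ I) (t : K) (ht : t ≠ 0) : mv φ (wL L p t) (ee (ng p)) = t • ee p := by
  rw [M.mv_wL p t ht, ee_self, ee_ne (ne_ng p), mul_zero, mul_one, sub_zero, zero_sub, neg_smul, one_smul,
    add_assoc, add_comm, add_assoc, neg_add_cancel, add_zero]

/-- the torus element of a long root on the coordinate vector of the root -/
theorem mv_hL_ee (p : I ⊕ I) (t : K) (ht : t ≠ 0) : mv φ (SpN.hL L p t) (ee p) = t • ee p := by
  unfold SpN.hL
  rw [mv_mul, M.mv_wL_ee p (-1) (by simp), mv_smul, M.mv_wL_ee_ng p t ht, smul_smul]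
  congr 1
  rw [inv_neg, inv_one, neg_neg, one_mul]

/-- the Weyl element of a short root on the coordinate vector of its first index -/
theorem mv_wS_ee {p q : I ⊕ I} (hpq : p ≠ q) (hpq' : p ≠ ng q) (t : K) (ht : t ≠ 0) :
    mv φ (wS T p q t) (ee p) = (-t⁻¹) • ee q := by
  have hqp : q ≠ p := hpq.symm
  have hqp' : q ≠ ng p := fun h => hpq' (by rw [h, ng_ng])
  have h1 : mv φ (T p q t) (ee p) = ee p := by
    have := M.mv_XX_ee (a := p) (b := q) (c := p) hpq hqp (ne_ng p) t
    rwa [XX_short T L hqp'] at this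
  have h2 : mv φ (T p q t) (ee q) = ee q + t • ee p := by
    rw [M.mv_T hpq hpq', ee_self, mul_one, ee_ne (fun h => hqp' h.symm), mul_zero, zero_smul, sub_zero]
  have h3 : mv φ (T q p (-t⁻¹)) (ee p) = ee p + (-t⁻¹) • ee q := by
    rw [M.mv_T hqp hqp', ee_self, mul_one, ee_ne (fun h => hpq' h.symm), mul_zero, zero_smul, sub_zero]
  unfold wS
  rw [mv_mul, mv_mul, h1, h3, mv_add, mv_smul, h1, h2, smul_add, smul_smul, ← add_assoc, add_right_comm]
  have : (1 : K) + -t⁻¹ * t = 0 := by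
    field_simp
    ring
  rw [show ee p + (-t⁻¹ * t) • ee p = ((1 : K) + -t⁻¹ * t) • (ee p : I ⊕ I → K) by rw [add_smul, one_smul], this,
    zero_smul, zero_add]

end MatHom

end Cfsg.Agent.Helper6.SpN
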