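import Mathlib
import Cfsg.Agent.Lib.Helper6.SpO

/-!
Steinberg relations of type `C`: a group with these relations generated by the root elements maps injectively to the
symplectic group (induction over the index set, using the three double cosets of the stabiliser of a line).
-/

set_option autoImplicit false
set_option linter.unusedSectionVars false
set_option linter.unusedVariables false
set_option linter.unusedSimpArgs false

namespace Cfsg.Agent.Helper6.SpN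

open Matrix Cfsg.Agent.Helper6 Cfsg.Agent.Helper6.SLn

variable {I : Type*} [Fintype I] [DecidableEq I] {K : Type*} [Field K] {Γ : Type*} [Group Γ]
  {T : I ⊕ I → I ⊕ I → K → Γ} {L : I ⊕ I → K → Γ}

namespace MatHom

variable {φ : Γ →* symplecticGroup I K} (M : MatHom T L φ)
include M

theorem GJ_le_fixSub {J : Finset I} {c : I ⊕ I} (hc : av c ∉ J) : GJ T L J ≤ fixSub φ (ee c) := by
  apply GZ_le
  rintro a b hab ⟨ha, hb⟩ t
  apply M.mv_XX_ee hab
  · rintro rfl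
    exact hc hb
  · rintro rfl
    rw [av_ng] at ha
    exact hc ha

theorem Vp_le_fixSub (p : I ⊕ I) (J : Finset I) : Vp T L p J ≤ fixSub φ (ee p) := by
  apply GZ_le
  rintro a b hab ⟨ha, hb, hgr⟩ t
  have hgr' : 0 < gr p a - gr p b := hgr
  apply M.mv_XX_ee hab
  · rintro rfl
    have := gr_le b a
    rw [gr_self] at hgr'
    omega
  · rintro rfl
    have := le_gr p b
    rw [gr_ng_self] at hgr'
    omega

theorem HLc_le_lineSub (p : I ⊕ I) : HLc L p ≤ lineSub φ (ee p) := by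
  unfold HLc
  rw [Subgroup.closure_le]
  rintro _ ⟨s, hs, rfl⟩
  exact ⟨s, hs, M.mv_hL_ee p s hs⟩

theorem QQ_le_lineSub (p : I ⊕ I) (J : Finset I) : QQ T L p J ≤ lineSub φ (ee p) := by
  unfold QQ LL
  refine sup_le ((M.Vp_le_fixSub p J).trans (fixSub_le_lineSub _ _))
    (sup_le ((M.GJ_le_fixSub ?_).trans (fixSub_le_lineSub _ _)) (M.HLc_le_lineSub p))
  exact Finset.notMem_erase _ _

theorem mv_of_map_eq_one {g : Γ} (hg : φ g = 1) (x : I ⊕ I → K) : mv φ g x = x := by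
  unfold mv
  rw [hg, Submonoid.coe_one, one_mulVec]

/-- the unipotent radical of the stabiliser of a line meets the kernel trivially modulo the Levi part -/
theorem Vp_inj (B : Base T L) (J : Finset I) (o : I) {v : Γ} (hv : v ∈ Vp T L (Sum.inl o : I ⊕ I) J)
    (hfix : mv φ v (ee (ng (Sum.inl o : I ⊕ I))) = ee (ng (Sum.inl o : I ⊕ I))) : v = 1 := by
  classical
  set 𝔭 : I ⊕ I := Sum.inl o with h𝔭
  let A : Finset (I ⊕ I) := Finset.univ.filter (fun b => av b ∈ J.erase o)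
  have hA : ∀ b, b ∈ A ↔ av b ∈ J.erase o := by
    intro b
    simp [A]
  have hne : ∀ a ∈ A, 𝔭 ≠ a ∧ 𝔭 ≠ ng a := by
    intro a ha
    have h1 : av a ≠ o := (Finset.mem_erase.1 ((hA a).1 ha)).1
    exact ⟨fun h => h1 (by rw [← h]; rfl), fun h => h1 (by rw [← av_ng, ← h]; rfl)⟩
  have hsub : Vp T L 𝔭 J ≤ Subgroup.closure (heisSet (fun b t => T 𝔭 b t) (L 𝔭) A) := by
    apply GZ_le
    rintro a b hab ⟨ha, hb, hgr⟩ t
    have hgr' : 0 < gr 𝔭 a - gr 𝔭 b := hgr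
    rcases gr_cases 𝔭 a with ⟨rfl, h1⟩ | ⟨rfl, h1⟩ | ⟨ha1, ha2, h1⟩
    · rcases gr_cases 𝔭 b with ⟨rfl, h2⟩ | ⟨rfl, h2⟩ | ⟨hb1, hb2, h2⟩
      · exact absurd rfl hab
      · rw [XX_long]
        exact Subgroup.subset_closure (Or.inr ⟨t, rfl⟩)
      · rw [XX_short T L hb2]
        have hbo : av b ≠ o := fun h => (eq_or_eq_ng_of_av (a := b) (b := 𝔭) h).elim hb1 hb2
        exact Subgroup.subset_closure (Or.inl ⟨b, (hA b).2 (Finset.mem_erase.2 ⟨hbo, hb⟩), t, rfl⟩)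
    · have := le_gr 𝔭 b
      omega
    · rcases gr_cases 𝔭 b with ⟨rfl, h2⟩ | ⟨rfl, h2⟩ | ⟨hb1, hb2, h2⟩
      · omega
      · have h3 : ng 𝔭 ≠ ng a := fun h => ha1 (ng_inj.1 h).symm
        rw [XX_short T L h3, B.S.symT_ng ha1 ha2 t]
        have hao : av (ng a) ≠ o := by
          rw [av_ng]
          exact fun h => (eq_or_eq_ng_of_av (a := a) (b := 𝔭) h).elim ha1 ha2
        have hna : av (ng a) ∈ J := by
          rw [av_ng]
          exact ha
        exact Subgroup.subset_closure (Or.inl ⟨ng a, (hA _).2 (Finset.mem_erase.2 ⟨hao, hna⟩), _, rfl⟩)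
      · omega
  have hadd : ∀ a ∈ A, ∀ t u : K, T 𝔭 a t * T 𝔭 a u = T 𝔭 a (t + u) :=
    fun a ha t u => B.S.addT 𝔭 a (hne a ha).1 (hne a ha).2 t u
  have hzadd : ∀ t u : K, L 𝔭 t * L 𝔭 u = L 𝔭 (t + u) := B.S.addL 𝔭
  have hzc : ∀ a ∈ A, ∀ t u : K, L 𝔭 t * T 𝔭 a u = T 𝔭 a u * L 𝔭 t := by
    intro a ha t u
    exact (B.S.commTL 𝔭 a 𝔭 (hne a ha).1 (hne a ha).2 (hne a ha).1 (ne_ng 𝔭) u t).eq.symm
  have hcomm : ∀ a ∈ A, ∀ b ∈ A, ∀ t u : K, ∃ s, T 𝔭 a t * T 𝔭 b u = T 𝔭 b u * T 𝔭 a t * L 𝔭 s := by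
    intro a ha b hb t u
    obtain ⟨ha1, ha2⟩ := hne a ha
    obtain ⟨hb1, hb2⟩ := hne b hb
    by_cases hba : b = ng a
    · subst hba
      have e1 : T 𝔭 (ng a) u = T a (ng 𝔭) (sg K 𝔭 * sg K a * u) := B.S.symT_ng ha1 ha2 u
      have e2 := B.S.r5 𝔭 a ha1 ha2 t (sg K 𝔭 * sg K a * u)
      rw [← e1] at e2
      refine ⟨2 * t * (sg K 𝔭 * sg K a * u), ?_⟩
      rw [← e2]
      have c1 := hzc a ha (2 * t * (sg K 𝔭 * sg K a * u)) t
      have c2 := hzc (ng a) hb (2 * t * (sg K 𝔭 * sg K a * u)) u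
      rw [← e2] at c1 c2
      calc T 𝔭 a t * T 𝔭 (ng a) u
          = (T 𝔭 a t * T 𝔭 (ng a) u * (T 𝔭 a t)⁻¹ * (T 𝔭 (ng a) u)⁻¹) * T 𝔭 (ng a) u * T 𝔭 a t := by group
        _ = _ := by
          rw [c2, mul_assoc, c1, ← mul_assoc]
    · refine ⟨0, ?_⟩
      rw [B.S.zeroL, mul_one]
      exact (B.S.commTT 𝔭 a 𝔭 b ha1 ha2 hb1 hb2 ha1 (ne_ng 𝔭) hb1.symm hba t u).eq
  -- the invariant
  have hinv : ∀ g ∈ Subgroup.closure (heisSet (fun b t => T 𝔭 b t) (L 𝔭) A),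
      mv φ g (ee (ng 𝔭)) (ng 𝔭) = 1 := by
    refine heis_induction hadd hzadd (p := fun g => mv φ g (ee (ng 𝔭)) (ng 𝔭) = 1) ?_ ?_ ?_
    · show mv φ 1 (ee (ng 𝔭)) (ng 𝔭) = 1
      rw [mv_one, ee_self]
    · intro b hb t g _ ih
      obtain ⟨hb1, hb2⟩ := hne b hb
      show mv φ (T 𝔭 b t * g) (ee (ng 𝔭)) (ng 𝔭) = 1
      rw [mv_mul, M.mv_T hb1 hb2]
      simp only [Pi.add_apply, Pi.sub_apply, Pi.smul_apply, smul_eq_mul]
      rw [ih, ee_ne (ng_ne 𝔭), ee_ne (fun h => hb1 (ng_inj.1 h)), mul_zero, mul_zero, add_zero, sub_zero]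
    · intro t g _ ih
      show mv φ (L 𝔭 t * g) (ee (ng 𝔭)) (ng 𝔭) = 1
      rw [mv_mul, M.mv_L]
      simp only [Pi.add_apply, Pi.smul_apply, smul_eq_mul]
      rw [ih, ee_ne (ng_ne 𝔭), mul_zero, add_zero]
  -- the coordinates
  obtain ⟨s, hs⟩ := heis_inj hadd hzadd hzc hcomm
    (fun a g => -(sg K 𝔭 * sg K a) * mv φ g (ee (ng 𝔭)) (ng a)) (by
      intro a ha
      show -(sg K 𝔭 * sg K a) * mv φ 1 (ee (ng 𝔭)) (ng a) = 0
      rw [mv_one, ee_ne (fun h => (hne a ha).1 (ng_inj.1 h).symm), mul_zero]) (by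
      intro a ha b hb t g hg
      obtain ⟨hb1, hb2⟩ := hne b hb
      show -(sg K 𝔭 * sg K a) * mv φ (T 𝔭 b t * g) (ee (ng 𝔭)) (ng a) =
        -(sg K 𝔭 * sg K a) * mv φ g (ee (ng 𝔭)) (ng a) + if a = b then t else 0
      rw [mv_mul, M.mv_T hb1 hb2]
      simp only [Pi.add_apply, Pi.sub_apply, Pi.smul_apply, smul_eq_mul]
      rw [hinv g hg, ee_ne (fun h => (hne a ha).2 h.symm), mul_zero, add_zero, mul_one]
      by_cases hab : a = b
      · subst hab
        rw [if_pos rfl, ee_self, mul_one]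
        have h1 := sg_mul_self (K := K) 𝔭
        have h2 := sg_mul_self (K := K) a
        linear_combination (t * sg K a * sg K a) * h1 + t * h2
      · rw [if_neg hab, ee_ne (fun h => hab (ng_inj.1 h)), mul_zero, sub_zero, add_zero]) (by
      intro a ha t g hg
      show -(sg K 𝔭 * sg K a) * mv φ (L 𝔭 t * g) (ee (ng 𝔭)) (ng a) =
        -(sg K 𝔭 * sg K a) * mv φ g (ee (ng 𝔭)) (ng a)
      rw [mv_mul, M.mv_L]
      simp only [Pi.add_apply, Pi.smul_apply, smul_eq_mul]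
      rw [ee_ne (fun h => (hne a ha).2 h.symm), mul_zero, add_zero]) v (hsub hv) (by
      intro a ha
      show -(sg K 𝔭 * sg K a) * mv φ v (ee (ng 𝔭)) (ng a) = 0
      rw [hfix, ee_ne (fun h => (hne a ha).1 (ng_inj.1 h).symm), mul_zero])
  subst hs
  have h1 : mv φ (L 𝔭 s) (ee (ng 𝔭)) 𝔭 = s := by
    rw [M.mv_L]
    simp only [Pi.add_apply, Pi.smul_apply, smul_eq_mul]
    rw [ee_self, ee_self, ee_ne (ne_ng 𝔭), mul_one, mul_one, zero_add]
  rw [hfix, ee_ne (ne_ng 𝔭)] at h1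
  rw [← h1, B.S.zeroL]

/-- the step of the induction for the kernel -/
theorem ker_step [Finite K] (B : Base T L) (J : Finset I) {o : I} (ho : o ∈ J)
    (IH : ∀ γ ∈ GJ T L (J.erase o), φ γ = 1 → γ = 1) : ∀ g ∈ GJ T L J, φ g = 1 → g = 1 := by
  intro g hg hφ
  set 𝔭 : I ⊕ I := Sum.inl o with h𝔭
  have hline : g ∈ lineSub φ (ee 𝔭) := ⟨1, one_ne_zero, by rw [one_smul, M.mv_of_map_eq_one hφ]⟩
  have hQ : g ∈ QQ T L 𝔭 J := by
    rcases B.dc_all J.card J rfl o ho g hg with h | ⟨e, he, q₁, h₁, q₂, h₂, rfl⟩ | ⟨q₁, h₁, q₂, h₂, rfl⟩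
    · exact h
    · exfalso
      have hw : wS T 𝔭 (Sum.inl e) 1 ∈ lineSub φ (ee 𝔭) := by
        have : wS T 𝔭 (Sum.inl e) 1 = q₁⁻¹ * (q₁ * wS T 𝔭 (Sum.inl e) 1 * q₂) * q₂⁻¹ := by group
        rw [this]
        exact mul_mem (mul_mem (inv_mem (M.QQ_le_lineSub _ _ h₁)) hline) (inv_mem (M.QQ_le_lineSub _ _ h₂))
      obtain ⟨s, hs, hw⟩ := hw
      have heo : e ≠ o := (Finset.mem_erase.1 he).1
      have hpe : 𝔭 ≠ Sum.inl e := inl_ne_inl (fun h => heo h.symm)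
      rw [M.mv_wS_ee hpe (inl_ne_ng o e) 1 one_ne_zero] at hw
      have := congrFun hw 𝔭
      simp only [Pi.smul_apply, smul_eq_mul] at this
      rw [ee_self, ee_ne hpe, mul_zero, mul_one] at this
      exact hs this.symm
    · exfalso
      have hw : wL L 𝔭 1 ∈ lineSub φ (ee 𝔭) := by
        have : wL L 𝔭 1 = q₁⁻¹ * (q₁ * wL L 𝔭 1 * q₂) * q₂⁻¹ := by group
        rw [this]
        exact mul_mem (mul_mem (inv_mem (M.QQ_le_lineSub _ _ h₁)) hline) (inv_mem (M.QQ_le_lineSub _ _ h₂))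
      obtain ⟨s, hs, hw⟩ := hw
      rw [M.mv_wL_ee 𝔭 1 one_ne_zero] at hw
      have := congrFun hw 𝔭
      simp only [Pi.smul_apply, smul_eq_mul] at this
      rw [ee_self, ee_ne (ne_ng 𝔭), mul_zero, mul_one] at this
      exact hs this.symm
  obtain ⟨v, hv, γ, hγ, s, hs, rfl⟩ := B.QQ_decomp J o hQ
  have hvf : mv φ v (ee 𝔭) = ee 𝔭 := M.Vp_le_fixSub 𝔭 J hv
  have hγf : mv φ γ (ee 𝔭) = ee 𝔭 := M.GJ_le_fixSub (c := 𝔭) (Finset.notMem_erase o J) hγ
  have hγf' : mv φ γ (ee (ng 𝔭)) = ee (ng 𝔭) := by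
    have h1 : av (ng 𝔭) ∉ J.erase o := by
      rw [av_ng]
      exact Finset.notMem_erase o J
    exact M.GJ_le_fixSub h1 hγ
  have h1 : mv φ (v * γ * SpN.hL L 𝔭 s) (ee 𝔭) = s • ee 𝔭 := by
    rw [mv_mul, M.mv_hL_ee _ s hs, mv_smul, mv_mul, hγf, hvf]
  rw [M.mv_of_map_eq_one hφ] at h1
  have hs1 : s = 1 := by
    have := congrFun h1 𝔭
    simp only [Pi.smul_apply, smul_eq_mul] at this
    rw [ee_self, mul_one] at this
    exact this.symm
  subst hs1
  have hh1 : SpN.hL L 𝔭 (1 : K) = 1 := by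
    unfold SpN.hL
    rw [B.S.wL_neg, mul_inv_cancel]
  rw [hh1, mul_one] at hφ ⊢
  have hv1 : v = 1 := by
    apply M.Vp_inj B J o hv
    have := M.mv_of_map_eq_one hφ (ee (ng 𝔭))
    rwa [mv_mul, hγf'] at this
  subst hv1
  rw [one_mul] at hφ ⊢
  exact IH γ hγ hφ

/-- **a group with the Steinberg relations of type `C` generated by its root elements maps injectively to the
symplectic group** -/
theorem injective [Finite K] (B : Base T L) : Function.Injective φ := by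
  have key : ∀ (n : ℕ) (J : Finset I), J.card = n → ∀ g ∈ GJ T L J, φ g = 1 → g = 1 := by
    intro n
    induction n with
    | zero =>
      intro J hJ g hg _
      rw [Finset.card_eq_zero] at hJ
      subst hJ
      have hbot : GJ T L (∅ : Finset I) ≤ ⊥ := by
        apply GZ_le
        rintro a b _ ⟨ha, _⟩ t
        exact absurd ha (Finset.notMem_empty _)
      exact Subgroup.mem_bot.1 (hbot hg)
    | succ n ih =>
      intro J hJ
      obtain ⟨o, ho⟩ : J.Nonempty := by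
        rw [← Finset.card_pos, hJ]
        omega
      apply M.ker_step B J ho
      apply ih (J.erase o)
      rw [Finset.card_erase_of_mem ho, hJ]
      rfl
  have htop : GJ T L (Finset.univ : Finset I) = ⊤ := by
    rw [eq_top_iff, ← B.hgen, Subgroup.closure_le]
    rintro _ (⟨a, b, t, hab, hab', rfl⟩ | ⟨a, t, rfl⟩)
    · exact T_mem_GZ hab hab' ⟨Finset.mem_univ _, Finset.mem_univ _⟩ t
    · exact L_mem_GZ ⟨Finset.mem_univ _, Finset.mem_univ _⟩ t
  rw [injective_iff_map_eq_one]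
  intro g hg
  exact key _ Finset.univ rfl g (by rw [htop]; exact Subgroup.mem_top g) hg

end MatHom

end Cfsg.Agent.Helper6.SpN
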