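import Mathlib
import Cfsg.Agent.Lib.Helper6.SpQ
import Cfsg.Agent.Lib.Helper25.SpExtCL
import Cfsg.Agent.Lib.Helper2.SpExtTH
import Cfsg.Agent.Lib.Helper18.SpExtLH
import Cfsg.Agent.Lib.Helper27.SpExtREL

/-!
Central extensions of the symplectic group `Sp_{2m}(K)`, `m ≥ 3`, `K` finite (with more than two elements when
`m = 3`), split: lifts of the root elements satisfying the Steinberg relations of type `C` generate a subgroup
mapping isomorphically onto the symplectic group.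
-/

set_option autoImplicit false
set_option linter.unusedSectionVars false
set_option linter.unusedVariables false

namespace Cfsg.Agent.Helper6.SpN

open Matrix Cfsg.Agent.Helper6 Cfsg.Agent.Helper6.SLn

variable {I : Type*} [Fintype I] [DecidableEq I] {K : Type*} [Field K]

/-- the Steinberg relations pull back along an injective homomorphism -/
theorem SpRel.of_injective {G H : Type*} [Group G] [Group H] (f : G →* H) (hf : Function.Injective f)
    {T₁ : I ⊕ I → I ⊕ I → K → G} {L₁ : I ⊕ I → K → G} {T₂ : I ⊕ I → I ⊕ I → K → H} {L₂ : I ⊕ I → K → H}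
    (hT : ∀ a b, a ≠ b → a ≠ ng b → ∀ t, f (T₁ a b t) = T₂ a b t) (hL : ∀ a t, f (L₁ a t) = L₂ a t)
    (R : SpRel T₂ L₂) : SpRel T₁ L₁ := by
  have n1 : ∀ {a b : I ⊕ I}, a ≠ b → ng b ≠ ng a := fun h h' => h (ng_inj.1 h').symm
  have n2 : ∀ {a b : I ⊕ I}, a ≠ ng b → ng b ≠ ng (ng a) := fun h h' => h (by rw [ng_ng] at h'; exact h'.symm)
  have n3 : ∀ {a b : I ⊕ I}, a ≠ b → a ≠ ng (ng b) := fun h => by rw [ng_ng]; exact h
  have n4 : ∀ {a b : I ⊕ I}, a ≠ ng b → b ≠ ng a := fun h h' => h (by rw [h', ng_ng])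
  constructor
  · intro a b h h' t u
    apply hf
    rw [map_mul, hT a b h h', hT a b h h', hT a b h h']
    exact R.addT a b h h' t u
  · intro a t u
    apply hf
    rw [map_mul, hL, hL, hL]
    exact R.addL a t u
  · intro a b h h' t
    apply hf
    rw [hT a b h h', hT (ng b) (ng a) (n1 h) (n2 h')]
    exact R.symT a b h h' t
  · intro a b c d h1 h2 h3 h4 h5 h6 h7 h8 t u
    apply hf
    rw [map_mul, map_mul, hT a b h1 h2, hT c d h3 h4]
    exact (R.commTT a b c d h1 h2 h3 h4 h5 h6 h7 h8 t u).eq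
  · intro a b c h1 h2 h3 h4 t u
    apply hf
    rw [map_mul, map_mul, hT a b h1 h2, hL]
    exact (R.commTL a b c h1 h2 h3 h4 t u).eq
  · intro a c h t u
    apply hf
    rw [map_mul, map_mul, hL, hL]
    exact (R.commLL a c h t u).eq
  · intro a b c h1 h2 h3 h4 h5 h6 t u
    apply hf
    rw [map_mul, map_mul, map_mul, map_inv, map_inv, hT a b h1 h2, hT b c h3 h4, hT a c h5 h6]
    exact R.r3 a b c h1 h2 h3 h4 h5 h6 t u
  · intro a b h1 h2 t u
    apply hf
    rw [map_mul, map_mul, map_mul, map_mul, map_inv, map_inv, hT a b h1 h2, hL, hL, hT a (ng b) h2 (n3 h1)]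
    exact R.r4 a b h1 h2 t u
  · intro a b h1 h2 t u
    apply hf
    rw [map_mul, map_mul, map_mul, map_inv, map_inv, hT a b h1 h2, hT b (ng a) (n4 h2) (n3 h1.symm), hL]
    exact R.r5 a b h1 h2 t u

/-- **lifts of the root elements satisfying the Steinberg relations** -/
theorem exists_lifts {Γ E : Type*} [Group Γ] [Group E] {T : I ⊕ I → I ⊕ I → K → Γ} {L : I ⊕ I → K → Γ}
    (R : SpRel T L) (π : E →* Γ) (hc : π.ker ≤ Subgroup.center E) (hs : Function.Surjective π)
    (h3 : 3 ≤ Fintype.card I) (hK : Fintype.card I = 3 → ∃ s : K, s ≠ 0 ∧ s ≠ 1) :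
    ∃ (T' : I ⊕ I → I ⊕ I → K → E) (L' : I ⊕ I → K → E), SpRel T' L' ∧
      (∀ a b, a ≠ b → a ≠ ng b → ∀ t, π (T' a b t) = T a b t) ∧ ∀ a t, π (L' a t) = L a t := by
  have C := Cfsg.Agent.Helper25.SpExtCL.cLift_of_spRel R π hc hs h3 hK
  obtain ⟨T', HS⟩ := Cfsg.Agent.Helper2.SpExtTH.exists_shortLift R π hc hs h3 C
  obtain ⟨L', HL⟩ := Cfsg.Agent.Helper18.SpExtLH.exists_longLift R π hc hs h3 C HS
  exact ⟨T', L', Cfsg.Agent.Helper27.SpExtREL.spRel_of_lifts R π hc hs h3 C HS HL, HS.map, HL.map⟩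

/-- **central extensions of the symplectic group split** -/
theorem exists_section_symplectic [Finite K] {E : Type*} [Group E] (π : E →* symplecticGroup I K)
    (hc : π.ker ≤ Subgroup.center E) (hs : Function.Surjective π) (h3 : 3 ≤ Fintype.card I)
    (hK : Fintype.card I = 3 → ∃ s : K, s ≠ 0 ∧ s ≠ 1) :
    ∃ s : symplecticGroup I K →* E, π.comp s = MonoidHom.id _ := by
  classical
  obtain ⟨T', L', R', hT', hL'⟩ :=
    exists_lifts (Cfsg.Agent.Helper19.SpM1.spRel_Tm_Lm (I := I) (K := K)) π hc hs h3 hK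
  let Γ' : Subgroup E := Subgroup.closure (gens T' L')
  have hTmem : ∀ a b t, a ≠ b ∧ a ≠ ng b → T' a b t ∈ Γ' :=
    fun a b t h => Subgroup.subset_closure (Or.inl ⟨a, b, t, h.1, h.2, rfl⟩)
  have hLmem : ∀ a t, L' a t ∈ Γ' := fun a t => Subgroup.subset_closure (Or.inr ⟨a, t, rfl⟩)
  let T'' : I ⊕ I → I ⊕ I → K → Γ' :=
    fun a b t => if h : a ≠ b ∧ a ≠ ng b then ⟨T' a b t, hTmem a b t h⟩ else 1
  let L'' : I ⊕ I → K → Γ' := fun a t => ⟨L' a t, hLmem a t⟩
  have hT'' : ∀ a b, a ≠ b → a ≠ ng b → ∀ t, Γ'.subtype (T'' a b t) = T' a b t := by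
    intro a b h h' t
    show ((T'' a b t : Γ') : E) = T' a b t
    simp only [T'']
    rw [dif_pos ⟨h, h'⟩]
  have hL'' : ∀ a t, Γ'.subtype (L'' a t) = L' a t := fun a t => rfl
  have R'' : SpRel T'' L'' := SpRel.of_injective Γ'.subtype Γ'.subtype_injective hT'' hL'' R'
  have hgen : Subgroup.closure (gens T'' L'') = ⊤ := by
    rw [eq_top_iff, ← Subgroup.closure_closure_coe_preimage (k := gens T' L')]
    apply Subgroup.closure_mono
    rintro ⟨x, hx⟩ (⟨a, b, t, h, h', hxe⟩ | ⟨a, t, hxe⟩)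
    · left
      refine ⟨a, b, t, h, h', ?_⟩
      apply Subtype.ext
      rw [hxe]
      exact (hT'' a b h h' t).symm
    · right
      refine ⟨a, t, ?_⟩
      apply Subtype.ext
      rw [hxe]
  have B : Base T'' L'' := ⟨R'', hgen, Cfsg.Agent.Helper18.SpExtLH.exists_third h3⟩
  let φ : Γ' →* symplecticGroup I K := π.comp Γ'.subtype
  have M : MatHom T'' L'' φ := by
    constructor
    · intro a b h h' t
      show π (Γ'.subtype (T'' a b t)) = _
      rw [hT'' a b h h', hT' a b h h']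
    · intro a t
      show π (Γ'.subtype (L'' a t)) = _
      rw [hL'', hL']
  have hinj : Function.Injective φ := M.injective B
  have hsurj : Function.Surjective φ := by
    rw [← MonoidHom.range_eq_top, eq_top_iff, ← Cfsg.Agent.Helper25.SpM2.closure_elemSet, Subgroup.closure_le]
    rintro g (⟨a, b, t, h, h', rfl⟩ | ⟨a, t, rfl⟩)
    · exact ⟨T'' a b t, M.hT a b h h' t⟩
    · exact ⟨L'' a t, M.hL a t⟩
  let e : Γ' ≃* symplecticGroup I K := MulEquiv.ofBijective φ ⟨hinj, hsurj⟩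
  refine ⟨Γ'.subtype.comp e.symm.toMonoidHom, ?_⟩
  ext1 g
  show φ (e.symm g) = g
  exact e.apply_symm_apply g

end Cfsg.Agent.Helper6.SpN
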