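import Mathlib
import Cfsg.Agent.Lib.Helper6.SpR
import Cfsg.Agent.Lib.Helper6.SLnP
import Cfsg.Agent.Lib.Helper2.SympPerfect
import Cfsg.Agent.Lib.Helper2.SpB2E
import Cfsg.Agent.Lib.Helper11.SchurTransport
import Cfsg.Agent.S2400

/-!
Every finite central extension of `Sp_{2m}(q)` splits (`m ≥ 2`, `q ≥ 3` when `m = 2`, `(m, q) ≠ (3, 2)`).
-/

set_option autoImplicit false

namespace Cfsg.Agent.Helper6.SpSplit

open Cfsg

theorem splitsCentral_symplectic {F : Type*} [Field F] [Fintype F] (m : ℕ) (hm : 2 ≤ m)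
    (h2 : m = 2 → 3 ≤ Fintype.card F) (hexc : ¬ (m = 3 ∧ Fintype.card F = 2)) :
    Cfsg.Agent.Helper6.SLn.SplitsCentral (Matrix.symplecticGroup (Fin m) F) := by
  classical
  haveI : Nonempty (Fin m) := ⟨⟨0, by omega⟩⟩
  have hq : 2 ≤ Fintype.card F := Fintype.one_lt_card
  have hperf : commutator (Matrix.symplecticGroup (Fin m) F) = ⊤ := by
    apply Cfsg.Agent.Helper2.Symp.commutator_symplecticGroup_eq_top
    by_cases h : m = 2
    · exact Or.inr (Or.inl ⟨h, h2 h⟩)
    · exact Or.inl (by omega)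
  by_cases h : m = 2
  · subst h
    have h3 : 3 ≤ Fintype.card F := h2 rfl
    obtain ⟨e⟩ := Cfsg.Agent.Helper2.SpB2.exists_iso_B2 (K := F) h3
    have hM : Cfsg.HasCyclicSchurMultiplier (Cfsg.Lie.chevB2.SteinbergGroup F) 1 :=
      Cfsg.Agent.S2400.result (K := F) (Cfsg.Lie.chevB2, 2) (by simp) (by
        show Fintype.card F ≠ 2
        omega)
    have hM' : Cfsg.HasCyclicSchurMultiplier (Matrix.symplecticGroup (Fin 2) F) 1 :=
      Cfsg.Agent.Helper11.SchurTransport.hasSchurMultiplier_of_mulEquiv e.symm hM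
    exact Cfsg.Agent.Helper6.SLn.splitsCentral_of_multiplier_one hperf hM'
  · intro P _ _ σ hsurj hker
    apply Cfsg.Agent.Helper6.SpN.exists_section_symplectic σ hker hsurj
    · rw [Fintype.card_fin]
      omega
    · rw [Fintype.card_fin]
      intro hm3
      have hq3 : 3 ≤ Fintype.card F := by
        by_contra hlt
        exact hexc ⟨hm3, by omega⟩
      by_contra hcon
      push Not at hcon
      have hsub : (Finset.univ : Finset F) ⊆ {0, 1} := by
        intro s _
        by_cases hs : s = 0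
        · simp [hs]
        · simp [hcon s hs]
      have := Finset.card_le_card hsub
      rw [Finset.card_univ] at this
      have h2' : ({0, 1} : Finset F).card ≤ 2 := Finset.card_le_two
      omega

end Cfsg.Agent.Helper6.SpSplit
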