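import Mathlib
import Cfsg.Agent.Lib.Helper6.StPres
import Cfsg.Agent.Lib.Helper6.StCenter

/-!
Embeddings of root data `A ↪ B` compatible with the chain tables induce homomorphisms of the groups presented by
Steinberg's relators; they carry the torus `(Kˣ)^l → H̄` of `A` to that of `B`.
-/

set_option autoImplicit false
set_option linter.unusedSectionVars false
set_option linter.unusedVariables false

namespace Cfsg.Agent.Helper6.StEmb

open Cfsg Cfsg.Lie Cfsg.Agent.Lead.Chev Cfsg.Agent.Helper6.ChevL Cfsg.Agent.Helper6.StC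

variable {K : Type*} [Field K]

/-- the conditions on a map of root indices -/
structure EmbOK (A B : ChevalleyDatum) (ι : ℕ → ℕ) : Prop where
  lt : ∀ r < A.nroots, ι r < B.nroots
  neg_lt : ∀ r < A.nroots, A.neg r < A.nroots
  neg : ∀ r < A.nroots, ι (A.neg r) = B.neg (ι r)
  inj : ∀ r < A.nroots, ∀ s < A.nroots, ι r = ι s → r = s
  terms_lt : ∀ r < A.nroots, ∀ s < A.nroots, ∀ c ∈ A.commTerms r s, c.1 < A.nroots
  terms : ∀ r < A.nroots, ∀ s < A.nroots,
    (A.commTerms r s).map (fun c => (ι c.1, c.2)) = B.commTerms (ι r) (ι s)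
  simple : ∀ i < A.rank, ι (A.simple i) = B.simple i
  rank_le : A.rank ≤ B.rank

/-- the boolean form of the conditions -/
def embChk (A B : ChevalleyDatum) (ι : ℕ → ℕ) (r : ℕ) : Bool :=
  decide (ι r < B.nroots) && decide (A.neg r < A.nroots) && decide (ι (A.neg r) = B.neg (ι r)) &&
  (List.range A.nroots).all fun s =>
    (decide (ι r = ι s → r = s)) && (A.commTerms r s).all (fun c => decide (c.1 < A.nroots)) &&
    decide ((A.commTerms r s).map (fun c => (ι c.1, c.2)) = B.commTerms (ι r) (ι s))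

theorem embOK_of_chk (A B : ChevalleyDatum) (ι : ℕ → ℕ)
    (h : ∀ r < A.nroots, embChk A B ι r = true)
    (hs : ∀ i < A.rank, ι (A.simple i) = B.simple i) (hr : A.rank ≤ B.rank) : EmbOK A B ι := by
  have h' : ∀ r < A.nroots, (ι r < B.nroots ∧ A.neg r < A.nroots ∧ ι (A.neg r) = B.neg (ι r)) ∧
      ∀ s < A.nroots, ((ι r = ι s → r = s) ∧ ∀ c ∈ A.commTerms r s, c.1 < A.nroots) ∧
        (A.commTerms r s).map (fun c => (ι c.1, c.2)) = B.commTerms (ι r) (ι s) := by
    intro r hr'
    have := h r hr'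
    unfold embChk at this
    simp only [Bool.and_eq_true, decide_eq_true_eq, List.all_eq_true, List.mem_range] at this
    obtain ⟨⟨⟨h1, h2⟩, h3⟩, h4⟩ := this
    refine ⟨⟨h1, h2, h3⟩, fun s hs' => ?_⟩
    obtain ⟨⟨h5, h6⟩, h7⟩ := h4 s hs'
    exact ⟨⟨h5, h6⟩, h7⟩
  exact
    { lt := fun r hr' => (h' r hr').1.1
      neg_lt := fun r hr' => (h' r hr').1.2.1
      neg := fun r hr' => (h' r hr').1.2.2
      inj := fun r hr' s hs' => ((h' r hr').2 s hs').1.1
      terms_lt := fun r hr' s hs' => ((h' r hr').2 s hs').1.2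
      terms := fun r hr' s hs' => ((h' r hr').2 s hs').2
      simple := hs
      rank_le := hr }

section hom

variable {A B : ChevalleyDatum} {ι : ℕ → ℕ} (h : EmbOK A B ι)

/-- the images of the generators -/
def genMap (A B : ChevalleyDatum) (ι : ℕ → ℕ) (q : Fin A.nroots × K) : B.SteinbergGroup K :=
  B.stGen K (ι q.1.val) q.2

theorem lift_stX (r : ℕ) (hr : r < A.nroots) (t : K) :
    FreeGroup.lift (genMap (K := K) A B ι) (A.stX r t) = B.stGen K (ι r) t := by
  unfold ChevalleyDatum.stX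
  rw [dif_pos hr, FreeGroup.lift_apply_of]
  rfl

theorem lift_stWord (w : List (ℕ × K)) (hw : ∀ q ∈ w, q.1 < A.nroots) :
    FreeGroup.lift (genMap (K := K) A B ι) (A.stWord w) =
      PresentedGroup.mk (B.steinbergRels K) (B.stWord (w.map fun q => (ι q.1, q.2))) := by
  induction w with
  | nil =>
    unfold ChevalleyDatum.stWord
    simp
  | cons q w ih =>
    have e1 : A.stWord (q :: w) = A.stX q.1 q.2 * A.stWord w := by
      unfold ChevalleyDatum.stWord
      rw [List.map_cons, List.prod_cons]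
    have e2 : B.stWord ((q :: w).map fun q => (ι q.1, q.2)) =
        B.stX (ι q.1) q.2 * B.stWord (w.map fun q => (ι q.1, q.2)) := by
      unfold ChevalleyDatum.stWord
      rw [List.map_cons, List.map_cons, List.prod_cons]
    rw [e1, e2, map_mul, map_mul, lift_stX _ (hw q List.mem_cons_self),
      ih (fun q' hq' => hw q' (List.mem_cons_of_mem _ hq'))]
    rfl

include h

theorem lift_stH (r : ℕ) (hr : r < A.nroots) (t : K) :
    FreeGroup.lift (genMap (K := K) A B ι) (A.stH r t) =
      PresentedGroup.mk (B.steinbergRels K) (B.stH (ι r) t) := by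
  unfold ChevalleyDatum.stH
  rw [lift_stWord]
  · congr 2
    unfold ChevalleyDatum.hWord ChevalleyDatum.nWord
    simp only [List.map_append, List.map_cons, List.map_nil, h.neg r hr]
  · intro q hq
    unfold ChevalleyDatum.hWord ChevalleyDatum.nWord at hq
    simp only [List.mem_append, List.mem_cons, List.not_mem_nil, or_false] at hq
    rcases hq with (rfl | rfl | rfl) | (rfl | rfl | rfl)
    all_goals first | exact hr | exact h.neg_lt r hr

theorem lift_commWord (r s : ℕ) (hr : r < A.nroots) (hs : s < A.nroots) (t u : K) :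
    FreeGroup.lift (genMap (K := K) A B ι) (A.stWord (A.commWord K r s t u)) =
      PresentedGroup.mk (B.steinbergRels K) (B.stWord (B.commWord K (ι r) (ι s) t u)) := by
  rw [lift_stWord]
  · congr 2
    unfold ChevalleyDatum.commWord
    rw [← h.terms r hr s hs, List.map_map, List.map_map]
    rfl
  · intro q hq
    unfold ChevalleyDatum.commWord at hq
    rw [List.mem_map] at hq
    obtain ⟨c, hc, rfl⟩ := hq
    exact h.terms_lt r hr s hs c hc

theorem lift_rels : ∀ g ∈ A.steinbergRels K, FreeGroup.lift (genMap (K := K) A B ι) g = 1 := by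
  rintro g ((⟨r, t₁, t₂, hr, rfl⟩ | ⟨r, s, t, u, hr, hs, hne, hne', rfl⟩) | ⟨r, t₁, t₂, hr, ht₁, ht₂, rfl⟩)
  · rw [map_mul, map_mul, map_inv, lift_stX _ hr, lift_stX _ hr, lift_stX _ hr, mul_inv_eq_one]
    have hmem : B.stX (ι r) t₁ * B.stX (ι r) t₂ * (B.stX (ι r) (t₁ + t₂))⁻¹ ∈ B.steinbergRels K :=
      Or.inl (Or.inl ⟨ι r, t₁, t₂, h.lt r hr, rfl⟩)
    have h1 := PresentedGroup.one_of_mem hmem
    rw [map_mul, map_mul, map_inv, mul_inv_eq_one] at h1
    exact h1
  · rw [map_mul, map_mul, map_mul, map_mul, map_inv, map_inv, map_inv, lift_stX _ hr, lift_stX _ hs,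
      lift_commWord h r s hr hs, mul_inv_eq_one]
    have hne1 : ι s ≠ ι r := fun e => hne (h.inj s hs r hr e)
    have hne2 : ι s ≠ B.neg (ι r) := by
      rw [← h.neg r hr]
      exact fun e => hne' (h.inj s hs _ (h.neg_lt r hr) e)
    have hmem : (B.stX (ι s) u)⁻¹ * (B.stX (ι r) t)⁻¹ * B.stX (ι s) u * B.stX (ι r) t *
        (B.stWord (B.commWord K (ι r) (ι s) t u))⁻¹ ∈ B.steinbergRels K :=
      Or.inl (Or.inr ⟨ι r, ι s, t, u, h.lt r hr, h.lt s hs, hne1, hne2, rfl⟩)
    have h1 := PresentedGroup.one_of_mem hmem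
    rw [map_mul, map_mul, map_mul, map_mul, map_inv, map_inv, map_inv, mul_inv_eq_one] at h1
    exact h1
  · rw [map_mul, map_mul, map_inv, lift_stH h r hr, lift_stH h r hr, lift_stH h r hr, mul_inv_eq_one]
    have hmem : B.stH (ι r) t₁ * B.stH (ι r) t₂ * (B.stH (ι r) (t₁ * t₂))⁻¹ ∈ B.steinbergRels K :=
      Or.inr ⟨ι r, t₁, t₂, h.lt r hr, ht₁, ht₂, rfl⟩
    have h1 := PresentedGroup.one_of_mem hmem
    rw [map_mul, map_mul, map_inv, mul_inv_eq_one] at h1
    exact h1

/-- the homomorphism of presented groups induced by the embedding -/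
noncomputable def psi : A.SteinbergGroup K →* B.SteinbergGroup K :=
  PresentedGroup.toGroup (lift_rels (K := K) h)

theorem psi_mk (r : ℕ) (hr : r < A.nroots) (t : K) :
    psi (K := K) h (PresentedGroup.mk (A.steinbergRels K) (A.stX r t)) =
      PresentedGroup.mk (B.steinbergRels K) (B.stX (ι r) t) :=
  lift_stX r hr t

theorem psi_nG (r : ℕ) (hr : r < A.nroots) (t : K) :
    psi (K := K) h (nG A (fun r t => PresentedGroup.mk (A.steinbergRels K) (A.stX r t)) r t) =
      nG B (fun r t => PresentedGroup.mk (B.steinbergRels K) (B.stX r t)) (ι r) t := by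
  unfold nG
  rw [map_mul, map_mul, psi_mk h r hr, psi_mk h _ (h.neg_lt r hr), h.neg r hr]

theorem psi_hG (r : ℕ) (hr : r < A.nroots) (t : K) :
    psi (K := K) h (hG A (fun r t => PresentedGroup.mk (A.steinbergRels K) (A.stX r t)) r t) =
      hG B (fun r t => PresentedGroup.mk (B.steinbergRels K) (B.stX r t)) (ι r) t := by
  unfold hG
  rw [map_mul, psi_nG h r hr, psi_nG h r hr]

end hom

end Cfsg.Agent.Helper6.StEmb
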