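import Mathlib
import Cfsg.Agent.Lib.Helper6.StEmb
import Cfsg.Prelude.Def_ChevE6
import Cfsg.Prelude.Def_ChevE7
import Cfsg.Prelude.Def_ChevE8

/-!
The subsystems `E₆ ⊂ E₈` and `E₇ ⊂ E₈` spanned by the first fundamental roots: the chain tables agree.
-/

set_option autoImplicit false
set_option maxRecDepth 100000

namespace Cfsg.Agent.Helper6.StEmb

open Cfsg Cfsg.Lie

/-- the roots of `E₆` among those of `E₈` -/
def tab68 : List ℕ := [35, 45, 51, 54, 55, 61, 64, 65, 68, 69, 70, 73, 74, 75, 76, 77, 83, 86, 87, 90, 91, 92, 95, 96, 97, 98, 101, 102, 103, 104, 107, 108, 109, 112, 113, 116, 123, 126, 127, 130, 131, 132, 135, 136, 137, 138, 141, 142, 143, 144, 147, 148, 149, 152, 153, 156, 162, 163, 164, 165, 166, 169, 170, 171, 174, 175, 178, 184, 185, 188, 194, 204]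

/-- the roots of `E₇` among those of `E₈` -/
def tab78 : List ℕ := [13, 20, 25, 29, 32, 34, 35, 39, 42, 44, 45, 48, 50, 51, 53, 54, 55, 58, 60, 61, 63, 64, 65, 67, 68, 69, 70, 72, 73, 74, 75, 76, 77, 80, 82, 83, 85, 86, 87, 89, 90, 91, 92, 94, 95, 96, 97, 98, 100, 101, 102, 103, 104, 106, 107, 108, 109, 111, 112, 113, 115, 116, 118, 121, 123, 124, 126, 127, 128, 130, 131, 132, 133, 135, 136, 137, 138, 139, 141, 142, 143, 144, 145, 147, 148, 149, 150, 152, 153, 154, 156, 157, 159, 162, 163, 164, 165, 166, 167, 169, 170, 171, 172, 174, 175, 176, 178, 179, 181, 184, 185, 186, 188, 189, 191, 194, 195, 197, 200, 204, 205, 207, 210, 214, 219, 226]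

/-- the embedding `E₆ → E₈` -/
def iota68 (r : ℕ) : ℕ := tab68.getD r 0

/-- the embedding `E₇ → E₈` -/
def iota78 (r : ℕ) : ℕ := tab78.getD r 0

theorem chk68_0 : ∀ r < chevE6.nroots, r / 8 = 0 → embChk chevE6 chevE8 iota68 r = true := by
  decide +kernel
theorem chk68_1 : ∀ r < chevE6.nroots, r / 8 = 1 → embChk chevE6 chevE8 iota68 r = true := by
  decide +kernel
theorem chk68_2 : ∀ r < chevE6.nroots, r / 8 = 2 → embChk chevE6 chevE8 iota68 r = true := by
  decide +kernel
theorem chk68_3 : ∀ r < chevE6.nroots, r / 8 = 3 → embChk chevE6 chevE8 iota68 r = true := by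
  decide +kernel
theorem chk68_4 : ∀ r < chevE6.nroots, r / 8 = 4 → embChk chevE6 chevE8 iota68 r = true := by
  decide +kernel
theorem chk68_5 : ∀ r < chevE6.nroots, r / 8 = 5 → embChk chevE6 chevE8 iota68 r = true := by
  decide +kernel
theorem chk68_6 : ∀ r < chevE6.nroots, r / 8 = 6 → embChk chevE6 chevE8 iota68 r = true := by
  decide +kernel
theorem chk68_7 : ∀ r < chevE6.nroots, r / 8 = 7 → embChk chevE6 chevE8 iota68 r = true := by
  decide +kernel
theorem chk68_8 : ∀ r < chevE6.nroots, r / 8 = 8 → embChk chevE6 chevE8 iota68 r = true := by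
  decide +kernel

theorem chk68 : ∀ r < chevE6.nroots, embChk chevE6 chevE8 iota68 r = true := by
  intro r hr
  have hk : r / 8 < 9 := by
    have : r < 72 := hr
    omega
  obtain ⟨k, hk'⟩ : ∃ k, r / 8 = k := ⟨_, rfl⟩
  rw [hk'] at hk
  interval_cases k
  · exact chk68_0 r hr hk'
  · exact chk68_1 r hr hk'
  · exact chk68_2 r hr hk'
  · exact chk68_3 r hr hk'
  · exact chk68_4 r hr hk'
  · exact chk68_5 r hr hk'
  · exact chk68_6 r hr hk'
  · exact chk68_7 r hr hk'
  · exact chk68_8 r hr hk'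

theorem chk78_0 : ∀ r < chevE7.nroots, r / 8 = 0 → embChk chevE7 chevE8 iota78 r = true := by
  decide +kernel
theorem chk78_1 : ∀ r < chevE7.nroots, r / 8 = 1 → embChk chevE7 chevE8 iota78 r = true := by
  decide +kernel
theorem chk78_2 : ∀ r < chevE7.nroots, r / 8 = 2 → embChk chevE7 chevE8 iota78 r = true := by
  decide +kernel
theorem chk78_3 : ∀ r < chevE7.nroots, r / 8 = 3 → embChk chevE7 chevE8 iota78 r = true := by
  decide +kernel
theorem chk78_4 : ∀ r < chevE7.nroots, r / 8 = 4 → embChk chevE7 chevE8 iota78 r = true := by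
  decide +kernel
theorem chk78_5 : ∀ r < chevE7.nroots, r / 8 = 5 → embChk chevE7 chevE8 iota78 r = true := by
  decide +kernel
theorem chk78_6 : ∀ r < chevE7.nroots, r / 8 = 6 → embChk chevE7 chevE8 iota78 r = true := by
  decide +kernel
theorem chk78_7 : ∀ r < chevE7.nroots, r / 8 = 7 → embChk chevE7 chevE8 iota78 r = true := by
  decide +kernel
theorem chk78_8 : ∀ r < chevE7.nroots, r / 8 = 8 → embChk chevE7 chevE8 iota78 r = true := by
  decide +kernel
theorem chk78_9 : ∀ r < chevE7.nroots, r / 8 = 9 → embChk chevE7 chevE8 iota78 r = true := by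
  decide +kernel
theorem chk78_10 : ∀ r < chevE7.nroots, r / 8 = 10 → embChk chevE7 chevE8 iota78 r = true := by
  decide +kernel
theorem chk78_11 : ∀ r < chevE7.nroots, r / 8 = 11 → embChk chevE7 chevE8 iota78 r = true := by
  decide +kernel
theorem chk78_12 : ∀ r < chevE7.nroots, r / 8 = 12 → embChk chevE7 chevE8 iota78 r = true := by
  decide +kernel
theorem chk78_13 : ∀ r < chevE7.nroots, r / 8 = 13 → embChk chevE7 chevE8 iota78 r = true := by
  decide +kernel
theorem chk78_14 : ∀ r < chevE7.nroots, r / 8 = 14 → embChk chevE7 chevE8 iota78 r = true := by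
  decide +kernel
theorem chk78_15 : ∀ r < chevE7.nroots, r / 8 = 15 → embChk chevE7 chevE8 iota78 r = true := by
  decide +kernel

theorem chk78 : ∀ r < chevE7.nroots, embChk chevE7 chevE8 iota78 r = true := by
  intro r hr
  have hk : r / 8 < 16 := by
    have : r < 126 := hr
    omega
  obtain ⟨k, hk'⟩ : ∃ k, r / 8 = k := ⟨_, rfl⟩
  rw [hk'] at hk
  interval_cases k
  · exact chk78_0 r hr hk'
  · exact chk78_1 r hr hk'
  · exact chk78_2 r hr hk'
  · exact chk78_3 r hr hk'
  · exact chk78_4 r hr hk'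
  · exact chk78_5 r hr hk'
  · exact chk78_6 r hr hk'
  · exact chk78_7 r hr hk'
  · exact chk78_8 r hr hk'
  · exact chk78_9 r hr hk'
  · exact chk78_10 r hr hk'
  · exact chk78_11 r hr hk'
  · exact chk78_12 r hr hk'
  · exact chk78_13 r hr hk'
  · exact chk78_14 r hr hk'
  · exact chk78_15 r hr hk'

theorem embOK68 : EmbOK chevE6 chevE8 iota68 :=
  embOK_of_chk _ _ _ chk68 (by decide +kernel) (by decide)

theorem embOK78 : EmbOK chevE7 chevE8 iota78 :=
  embOK_of_chk _ _ _ chk78 (by decide +kernel) (by decide)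

end Cfsg.Agent.Helper6.StEmb
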