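import Mathlib
import Cfsg.Agent.Lib.Helper6.StEmbData

/-!
The centre of the group presented by Steinberg's relators for a subsystem of `E₈`: it is the kernel of the
torus `(Kˣ)^l → H`, embedded by `(Kˣ)^l → H̄`.
-/

set_option autoImplicit false
set_option linter.unusedSectionVars false
set_option linter.unusedVariables false

namespace Cfsg.Agent.Helper6.StEmb

open Cfsg Cfsg.Lie Cfsg.Agent.Lead.Chev Cfsg.Agent.Helper6.ChevL Cfsg.Agent.Helper6.StC

variable {K : Type*} [Field K]

/-- extension of a torus element by ones -/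
def extHom (m n : ℕ) : (Fin m → Kˣ) →* (Fin n → Kˣ) where
  toFun c := fun j => if hj : j.val < m then c ⟨j.val, hj⟩ else 1
  map_one' := by
    funext j
    simp
  map_mul' a b := by
    funext j
    by_cases hj : j.val < m <;> simp [hj]

theorem extHom_injective (m n : ℕ) (hmn : m ≤ n) : Function.Injective (extHom (K := K) m n) := by
  intro a b hab
  funext i
  have := congrFun hab ⟨i.val, lt_of_lt_of_le i.2 hmn⟩
  simpa [extHom, i.2] using this

theorem extHom_mulSingle (m n : ℕ) (hmn : m ≤ n) (i : Fin m) (t : Kˣ) :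
    extHom (K := K) m n (Pi.mulSingle i t) = Pi.mulSingle ⟨i.val, lt_of_lt_of_le i.2 hmn⟩ t := by
  funext j
  show (if hj : j.val < m then (Pi.mulSingle i t : Fin m → Kˣ) ⟨j.val, hj⟩ else 1) = _
  by_cases hj : j.val < m
  · rw [dif_pos hj]
    by_cases hji : j.val = i.val
    · have e1 : (⟨j.val, hj⟩ : Fin m) = i := Fin.ext hji
      have e2 : j = ⟨i.val, lt_of_lt_of_le i.2 hmn⟩ := Fin.ext hji
      rw [e1, e2, Pi.mulSingle_eq_same, Pi.mulSingle_eq_same]
    · have e1 : (⟨j.val, hj⟩ : Fin m) ≠ i := fun e => hji (congrArg Fin.val e)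
      have e2 : j ≠ ⟨i.val, lt_of_lt_of_le i.2 hmn⟩ := fun e => hji (congrArg Fin.val e)
      rw [Pi.mulSingle_eq_of_ne e1, Pi.mulSingle_eq_of_ne e2]
  · rw [dif_neg hj]
    have e2 : j ≠ ⟨i.val, lt_of_lt_of_le i.2 hmn⟩ := fun e => hj (by rw [e]; exact i.2)
    rw [Pi.mulSingle_eq_of_ne e2]

namespace Setup'

end Setup'

/-- the kernel of `θ` is the image of the kernel of the torus -/
theorem ker_eq_map {Γ : Type*} [Group Γ] {D : ChevalleyDatum} {X : ℕ → K → Γ} {θ : Γ →* GL D.Idx K}
    (S : Setup D X θ) (hd : StData D) (h3 : R3 D X)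
    (hgen : Subgroup.closure {y : Γ | ∃ r < D.nroots, ∃ t : K, y = X r t} = ⊤) :
    θ.ker = (torusHom D K).ker.map (S.torusG hd h3) := by
  apply le_antisymm
  · intro z hz
    have hz' := S.ker_le_subH hd hgen hz
    rw [← S.torusG_range hd h3] at hz'
    obtain ⟨c, rfl⟩ := hz'
    refine ⟨c, ?_, rfl⟩
    show torusHom D K c = 1
    rw [← S.map_torusG hd h3, MonoidHom.comp_apply]
    exact hz
  · rintro _ ⟨c, hc, rfl⟩
    show θ (S.torusG hd h3 c) = 1
    have := S.map_torusG hd h3
    rw [← MonoidHom.comp_apply, this]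
    exact hc

section main

variable {A B : ChevalleyDatum} (hA : A ∈ [chevG2, chevB2, chevD4, chevF4, chevE6, chevE7, chevE8])
  (hB : B ∈ [chevG2, chevB2, chevD4, chevF4, chevE6, chevE7, chevE8])
  (hinjB : Function.Injective (torusHom B K))
  {ι : ℕ → ℕ} (h : EmbOK A B ι)

theorem hsub (D : ChevalleyDatum) : D.steinbergRelsAB K ⊆ D.steinbergRels K := by
  rintro g (hg | hg)
  · exact Or.inl (Or.inl hg)
  · exact Or.inl (Or.inr hg)

theorem r3 {D : ChevalleyDatum} (hF : ChevFacts D K) :
    R3 D (fun r t => PresentedGroup.mk (D.steinbergRels K) (D.stX r t)) := by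
  intro i hi t₁ t₂ ht₁ ht₂
  have hmem : D.stH (D.simple i) t₁ * D.stH (D.simple i) t₂ * (D.stH (D.simple i) (t₁ * t₂))⁻¹ ∈
      D.steinbergRels K := Or.inr ⟨D.simple i, t₁, t₂, hF.simple_lt i hi, ht₁, ht₂, rfl⟩
  have h1 := PresentedGroup.one_of_mem hmem
  rw [map_mul, map_mul, map_inv, mul_inv_eq_one, mk_stH, mk_stH, mk_stH] at h1
  exact h1

theorem hE8 : chevE8 ∈ [chevG2, chevB2, chevD4, chevF4, chevE6, chevE7, chevE8] :=
  List.mem_cons_of_mem _ (List.mem_cons_of_mem _ (List.mem_cons_of_mem _ (List.mem_cons_of_mem _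
    (List.mem_cons_of_mem _ (List.mem_cons_of_mem _ List.mem_cons_self)))))

include hA h hB hinjB in
/-- the torus `(Kˣ)^l → H̄` is injective -/
theorem torusG_injective :
    Function.Injective
      ((setup hA (A.steinbergRels K) (hsub A)
        (lift_rel (chevFacts_of_mem (F := K) A hA) (diag2_of_mem A hA))).torusG (stData_of_mem A hA)
        (r3 (chevFacts_of_mem (F := K) A hA))) := by
  set SA := setup hA (A.steinbergRels K) (hsub A)
    (lift_rel (chevFacts_of_mem (F := K) A hA) (diag2_of_mem A hA)) with hSA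
  set S8 := setup hB (B.steinbergRels K) (hsub B)
    (lift_rel (chevFacts_of_mem (F := K) B hB) (diag2_of_mem B hB)) with hS8
  have hdA := stData_of_mem A hA
  have hd8 := stData_of_mem B hB
  have h3A := r3 (chevFacts_of_mem (F := K) A hA)
  have h38 := r3 (chevFacts_of_mem (F := K) B hB)
  have key : (psi (K := K) h).comp (SA.torusG hdA h3A) =
      (S8.torusG hd8 h38).comp (extHom A.rank B.rank) := by
    apply MonoidHom.pi_ext
    intro i t
    rw [MonoidHom.comp_apply, MonoidHom.comp_apply, extHom_mulSingle _ _ h.rank_le]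
    unfold StC.Setup.torusG
    rw [MonoidHom.noncommPiCoprod_mulSingle, MonoidHom.noncommPiCoprod_mulSingle]
    show psi h (hG A _ (A.simple i.val) (t : K)) = hG B _ (B.simple i.val) (t : K)
    rw [psi_hG h _ ((chevFacts_of_mem (F := K) A hA).simple_lt i.val i.2), h.simple i.val i.2]
  have hinj8 := hinjB
  intro a b hab
  have h1 : (S8.torusG hd8 h38) (extHom A.rank B.rank a) =
      (S8.torusG hd8 h38) (extHom A.rank B.rank b) := by
    rw [← MonoidHom.comp_apply, ← MonoidHom.comp_apply, ← key, MonoidHom.comp_apply,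
      MonoidHom.comp_apply, hab]
  have hmt : ∀ x, torusHom B K x = thetaGL hB (B.steinbergRels K)
      (lift_rel (chevFacts_of_mem (F := K) B hB) (diag2_of_mem B hB)) (S8.torusG hd8 h38 x) := by
    intro x
    exact (DFunLike.congr_fun (S8.map_torusG hd8 h38) x).symm
  have h3 : extHom (K := K) A.rank B.rank a = extHom A.rank B.rank b := by
    apply hinj8
    rw [hmt, hmt, h1]
  exact extHom_injective _ _ h.rank_le h3

include hA h hB hinjB in
/-- the centre has the order of the kernel of the torus -/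
theorem card_center :
    Nat.card (Subgroup.center (A.SteinbergGroup K)) = Nat.card (torusHom A K).ker := by
  have hF := chevFacts_of_mem (F := K) A hA
  have hlift := lift_rel hF (diag2_of_mem A hA)
  have hcen : Subgroup.center (A.SteinbergGroup K) = (thetaGL hA (A.steinbergRels K) hlift).ker := by
    have h1 := le_antisymm (thetaG_ker_le hA _ (hsub A) hlift) (center_le_ker hA _ hlift)
    rw [← h1]
    ext x
    rw [MonoidHom.mem_ker, MonoidHom.mem_ker]
    constructor
    · intro hx
      have := congrArg (fun y : A.group K => (y : GL A.Idx K)) hx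
      exact this
    · intro hx
      exact Subtype.ext hx
  rw [hcen, ker_eq_map (setup hA (A.steinbergRels K) (hsub A) hlift) (stData_of_mem A hA) (r3 hF)
    (gen_eq_top (A.steinbergRels K))]
  exact (Nat.card_congr ((torusHom A K).ker.equivMapOfInjective _ (torusG_injective hA hB hinjB h)).toEquiv).symm

end main

/-- the order of the kernel of the torus -/
theorem card_ker_mul [Fintype K] (D : ChevalleyDatum)
    (hD : D ∈ [chevG2, chevB2, chevD4, chevF4, chevE6, chevE7, chevE8]) :
    Nat.card (torusHom D K).ker * Nat.card (D.diagonalSubgroup K) = (Fintype.card K - 1) ^ D.rank := by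
  classical
  have hF := chevFacts_of_mem (F := K) D hD
  have hcard : Nat.card Kˣ = Fintype.card K - 1 := by
    rw [Nat.card_eq_fintype_card, Fintype.card_units]
  rw [← torusHom_range D hF.xadd hF.hsimple hF.hall hF.simple_lt, ← Subgroup.index_ker,
    Subgroup.card_mul_index, Nat.card_fun, hcard]
  simp

end Cfsg.Agent.Helper6.StEmb
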