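import Mathlib
import Cfsg.Agent.Lib.Helper5.TLDefs
import Cfsg.Agent.Lib.Helper5.TL2Defs
import Cfsg.Agent.Lib.Helper20.TLS2
import Cfsg.Agent.Lib.Helper6.TL2Sig0

set_option autoImplicit false

/-!
# S4441, second wave, piece TR2: `trace_sig_zero`
-/

namespace Cfsg.Agent.Helper5.TL

open scoped Padic

variable (p : ℕ) [Fact p.Prime]

variable {L : Type*} [AddCommGroup L] [Module ℤ_[p] L]

/-- diagonal entry of `X` in the basis `X^i w_j`. -/
theorem tr2_diag {b : ℕ} (X : Module.End ℤ_[p] L) (h0 : sig p X = 0) (w : Fin b → L)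
    (B : Module.Basis (Fin (p - 1) × Fin b) ℤ_[p] L)
    (hB : ∀ i j, B (i, j) = (X ^ (i : ℕ)) (w j)) (i : Fin (p - 1)) (j : Fin b) :
    B.repr (X (B (i, j))) (i, j) = if (i : ℕ) + 1 = p - 1 then -1 else 0 := by
  by_cases h : (i : ℕ) + 1 < p - 1
  · rw [sg0_X_basis_lt p X w B hB i j h, Module.Basis.repr_self, Finsupp.single_apply,
      if_neg (show ¬ ((i : ℕ) + 1 = p - 1) by omega), if_neg]
    intro h'
    have := congrArg Fin.val (Prod.mk.inj h').1
    simp at this
  · have h' : (i : ℕ) + 1 = p - 1 := by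
      have := i.2
      omega
    rw [sg0_X_basis_eq p X h0 w B hB i j h', if_pos h', map_neg, map_sum, Finsupp.neg_apply,
      Finsupp.finsetSum_apply]
    congr 1
    have : ∀ k : Fin (p - 1), (B.repr (B (k, j))) (i, j) = if k = i then (1 : ℤ_[p]) else 0 := by
      intro k
      rw [Module.Basis.repr_self, Finsupp.single_apply]
      by_cases hk : k = i
      · subst hk; simp
      · rw [if_neg hk, if_neg]
        intro h''
        exact hk (Prod.mk.inj h'').1
    simp only [this]
    rw [Finset.sum_ite_eq' Finset.univ i]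
    simp

/-- PIECE TR2: the trace of `X` on a lattice with `σ = 0`. -/
theorem trace_sig_zero [Module.Free ℤ_[p] L] [Module.Finite ℤ_[p] L] (X : Module.End ℤ_[p] L)
    (hX : X ^ p = 1) (h0 : sig p X = 0) (b : ℕ) (hb : (p - 1) * b = Module.finrank ℤ_[p] L) :
    LinearMap.trace ℤ_[p] L X = -(b : ℤ_[p]) := by
  obtain ⟨b', w, hli, hspan⟩ := sig_zero_basis p X hX h0
  set B : Module.Basis (Fin (p - 1) × Fin b') ℤ_[p] L := Module.Basis.mk hli hspan.ge with hBdef
  have hB : ∀ i j, B (i, j) = (X ^ (i : ℕ)) (w j) := by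
    intro i j
    rw [hBdef, Module.Basis.mk_apply]
  have hrank : Module.finrank ℤ_[p] L = (p - 1) * b' := by
    rw [Module.finrank_eq_card_basis B, Fintype.card_prod, Fintype.card_fin, Fintype.card_fin]
  have hbb : b' = b := by
    have h1 : (p - 1) * b' = (p - 1) * b := by rw [← hrank, hb]
    exact Nat.eq_of_mul_eq_mul_left (sg0_one_le p) h1
  subst hbb
  rw [LinearMap.trace_eq_matrix_trace ℤ_[p] B X, Matrix.trace, Fintype.sum_prod_type_right]
  have hj : ∀ j : Fin b', ∑ i : Fin (p - 1), (LinearMap.toMatrix B B X).diag (i, j) = -1 := by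
    intro j
    have h1 : ∀ i : Fin (p - 1), (LinearMap.toMatrix B B X).diag (i, j)
        = if (i : ℕ) + 1 = p - 1 then (-1 : ℤ_[p]) else 0 := by
      intro i
      rw [Matrix.diag_apply, LinearMap.toMatrix_apply]
      exact tr2_diag p X h0 w B hB i j
    simp only [h1]
    have hp1 := sg0_one_le p
    rw [Finset.sum_eq_single (⟨p - 2, by omega⟩ : Fin (p - 1))]
    · rw [if_pos]
      show p - 2 + 1 = p - 1
      omega
    · intro i _ hi
      rw [if_neg]
      intro h
      apply hi
      apply Fin.ext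
      show (i : ℕ) = p - 2
      omega
    · intro h
      exact absurd (Finset.mem_univ _) h
  simp only [hj]
  rw [Finset.sum_const, Finset.card_univ, Fintype.card_fin]
  simp

end Cfsg.Agent.Helper5.TL
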