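import Mathlib
import Cfsg.Agent.Lib.Helper6.UniDefs
import Cfsg.Agent.Lib.Helper6.UniRESTR
import Cfsg.Agent.Lib.Helper21.UniSTBPre
import Cfsg.Agent.Lib.Helper2.UniSTUCore
import Cfsg.Agent.Lib.Helper26.UniSTSUMPre
import Cfsg.Agent.Lib.Helper1.UniIDX
import Cfsg.Agent.Lib.Helper2.UniSTEXP
import Cfsg.Agent.Lib.Helper19.UNIMOEB
import Cfsg.Agent.Lib.Helper4.UniONE

/-!
S2314 farm-out, PIECE UNI-ASM: Steinberg's count for the parabolic subgroups of a split `(B, N)`-pair.
-/

set_option autoImplicit false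
set_option linter.unusedSectionVars false
set_option linter.unusedVariables false

namespace Cfsg.Agent.Helper6.Uni

open Cfsg Cfsg.Agent.Helper2.WordLen Cfsg.Agent.Helper2.BN Cfsg.Agent.Helper17.BNCox

namespace SplitData

variable {G : Type*} [Group G] {P : Cfsg.BNPair G} {p : ℕ} (D : SplitData P p)

open Classical in
/-- the relative Steinberg function on `U` (UNI-STU, assembled from the landed cores) -/
theorem uni_asm_StA_apply_U [Finite G] (A : Finset P.S) (u : G) (hu : u ∈ D.U) :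
    StA P A ⟨u, B_le_par P _ (D.U_le hu)⟩ * (Nat.card (Hn P (D.n A)) : ℂ) =
      if u ∈ D.R A then (Nat.card P.B : ℂ) else 0 :=
  uni_stu_core D A (fun b hb => uni_stb_of_restr P A (D.n A) (D.n_mem A) (D.n_desc A) b hb
    (exists_restr P _)) u hu

/-- the sum over the elements of `p`-power order (UNI-STSUM, assembled from the landed cores) -/
theorem uni_asm_finsum_StA_eq [Finite G] [Fact p.Prime] (A : Finset P.S) :
    (∑ᶠ g : {g : ↥(par P (↑A : Set P.S)) // IsPE p g}, StA P A (g : ↥(par P (↑A : Set P.S)))) *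
      (Nat.card (Hn P (D.n A)) : ℂ) = (Nat.card (D.R A) : ℂ) * (Nat.card P.B : ℂ) :=
  uni_stsum_of_stu D A (fun u hu => D.uni_asm_StA_apply_U A u hu)

/-- `|R_K| · St_K(1) = |U|` -/
theorem uni_asm_r_mul_d [Finite G] (K : Finset P.S) :
    (Nat.card (D.R K) : ℂ) * StA P K 1 = (Nat.card D.U : ℂ) := by
  classical
  have hh : (Nat.card (Hn P (D.n K)) : ℂ) ≠ 0 := by
    exact_mod_cast (Nat.card_pos (α := Hn P (D.n K))).ne'
  have h1 := D.uni_asm_StA_apply_U K 1 (one_mem _)
  rw [if_pos (one_mem _)] at h1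
  have h1' : StA P K 1 * (Nat.card (Hn P (D.n K)) : ℂ) = (Nat.card P.B : ℂ) := h1
  have h2 : (Nat.card (D.R K) : ℂ) * (Nat.card P.B : ℂ) =
      (Nat.card D.U : ℂ) * (Nat.card (Hn P (D.n K)) : ℂ) := by
    exact_mod_cast D.card_R_mul K
  apply mul_right_cancel₀ hh
  rw [mul_assoc, h1', h2]

/-- PIECE UNI-ASM: Steinberg's count for the parabolic subgroups (strong induction on `A`). -/
theorem npe_par [Finite G] [Fact p.Prime] (A : Finset P.S) :
    npe p (par P (↑A : Set P.S)) * Nat.card (D.R A) = Nat.card D.U ^ 2 := by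
  classical
  induction A using Finset.strongInduction with
  | H A ih =>
  have hh : (Nat.card (Hn P (D.n A)) : ℂ) ≠ 0 := by
    exact_mod_cast (Nat.card_pos (α := Hn P (D.n A))).ne'
  have hr : ∀ K : Finset P.S, (Nat.card (D.R K) : ℂ) ≠ 0 := fun K => by
    exact_mod_cast (Nat.card_pos (α := D.R K)).ne'
  -- the index function
  let f : Finset P.S → Finset P.S → ℂ :=
    fun L K => ((par P (↑L : Set P.S)).relIndex (par P (↑K : Set P.S)) : ℂ)
  -- the sum over the elements of `p`-power order is `|U|`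
  have hS : (∑ᶠ g : {g : ↥(par P (↑A : Set P.S)) // IsPE p g},
      StA P A (g : ↥(par P (↑A : Set P.S)))) = (Nat.card D.U : ℂ) := by
    have h1 := D.uni_asm_finsum_StA_eq A
    have h2 : (Nat.card (D.R A) : ℂ) * (Nat.card P.B : ℂ) =
        (Nat.card D.U : ℂ) * (Nat.card (Hn P (D.n A)) : ℂ) := by
      exact_mod_cast D.card_R_mul A
    rw [h2] at h1
    exact mul_right_cancel₀ hh h1
  have hexp := finsum_StA P p A
  rw [hS] at hexp
  -- Moebius
  have hmoeb : ∑ K ∈ A.powerset, (-1 : ℂ) ^ K.card * f K A * StA P K 1 = 1 := by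
    have h := moebius_sum f A (fun L K hLK hKA => by
      show ((par P (↑L : Set P.S)).relIndex (par P (↑A : Set P.S)) : ℂ) =
        ((par P (↑K : Set P.S)).relIndex (par P (↑A : Set P.S)) : ℂ) *
          ((par P (↑L : Set P.S)).relIndex (par P (↑K : Set P.S)) : ℂ)
      have hle1 : par P (↑L : Set P.S) ≤ par P (↑K : Set P.S) := par_mono P (by exact_mod_cast hLK)
      have hle2 : par P (↑K : Set P.S) ≤ par P (↑A : Set P.S) := par_mono P (by exact_mod_cast hKA)
      rw [← Subgroup.relIndex_mul_relIndex _ _ _ hle1 hle2]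
      push_cast
      ring) (by
      show ((par P (↑A : Set P.S)).relIndex (par P (↑A : Set P.S)) : ℂ) = 1
      rw [Subgroup.relIndex_self]
      simp)
    refine Eq.trans ?_ h
    apply Finset.sum_congr rfl
    intro K _
    rw [StA_one P K]
  -- split off the top term
  have hA : A ∈ A.powerset := Finset.mem_powerset_self A
  rw [← Finset.add_sum_erase _ _ hA] at hexp hmoeb
  have hfAA : f A A = 1 := by
    show ((par P (↑A : Set P.S)).relIndex (par P (↑A : Set P.S)) : ℂ) = 1
    rw [Subgroup.relIndex_self]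
    simp
  -- the induction hypothesis
  have hK : ∀ K ∈ A.powerset.erase A, (npe p (par P (↑K : Set P.S)) : ℂ) =
      (Nat.card D.U : ℂ) * StA P K 1 := by
    intro K hK
    have hKA : K ⊂ A := by
      rw [Finset.mem_erase, Finset.mem_powerset] at hK
      exact Finset.ssubset_iff_subset_ne.2 ⟨hK.2, hK.1⟩
    have h1 : (npe p (par P (↑K : Set P.S)) : ℂ) * (Nat.card (D.R K) : ℂ) =
        (Nat.card D.U : ℂ) * (Nat.card D.U : ℂ) := by
      have := ih K hKA
      rw [pow_two] at this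
      exact_mod_cast this
    apply mul_right_cancel₀ (hr K)
    rw [h1, mul_assoc, mul_comm (StA P K 1), D.uni_asm_r_mul_d K]
  have hsum : ∑ K ∈ A.powerset.erase A, (-1 : ℂ) ^ K.card * f K A * (npe p (par P (↑K : Set P.S)) : ℂ) =
      (Nat.card D.U : ℂ) * ∑ K ∈ A.powerset.erase A, (-1 : ℂ) ^ K.card * f K A * StA P K 1 := by
    rw [Finset.mul_sum]
    apply Finset.sum_congr rfl
    intro K hK'
    rw [hK K hK']
    ring
  have hexp' : (Nat.card D.U : ℂ) = (-1 : ℂ) ^ A.card * f A A * (npe p (par P (↑A : Set P.S)) : ℂ) +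
      ∑ K ∈ A.powerset.erase A, (-1 : ℂ) ^ K.card * f K A * (npe p (par P (↑K : Set P.S)) : ℂ) := hexp
  rw [hsum, hfAA] at hexp'
  rw [hfAA] at hmoeb
  have hsign : ((-1 : ℂ) ^ A.card) ≠ 0 := pow_ne_zero _ (by norm_num)
  have hrest : ∑ K ∈ A.powerset.erase A, (-1 : ℂ) ^ K.card * f K A * StA P K 1 =
      1 - (-1 : ℂ) ^ A.card * 1 * StA P A 1 := by
    linear_combination hmoeb
  rw [hrest] at hexp'
  have hnpe : (npe p (par P (↑A : Set P.S)) : ℂ) = (Nat.card D.U : ℂ) * StA P A 1 := by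
    apply mul_left_cancel₀ hsign
    have : (-1 : ℂ) ^ A.card * 1 * (npe p (par P (↑A : Set P.S)) : ℂ) =
        (Nat.card D.U : ℂ) * ((-1 : ℂ) ^ A.card * 1 * StA P A 1) := by
      linear_combination -hexp'
    linear_combination this
  have hfinal : ((npe p (par P (↑A : Set P.S)) * Nat.card (D.R A) : ℕ) : ℂ) =
      ((Nat.card D.U ^ 2 : ℕ) : ℂ) := by
    push_cast
    rw [hnpe, mul_assoc, mul_comm (StA P A 1), D.uni_asm_r_mul_d A]
    ring
  exact_mod_cast hfinal

omit D in
theorem uni_asm_par_univ [Fintype P.S] : par P (↑(Finset.univ : Finset P.S) : Set P.S) = ⊤ := by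
  unfold par BNPair.parabolic
  have h1 : (Subtype.val '' (↑(Finset.univ : Finset P.S) : Set P.S)) = P.S := by
    rw [Finset.coe_univ, Set.image_univ, Subtype.range_coe]
  rw [h1]
  have h2 := P.sup_eq_top
  rw [← P.closure_sup, ← sup_assoc] at h2
  have h3 : P.B ⊔ Subgroup.closure P.S ⊔ P.B ⊓ P.N = P.B ⊔ Subgroup.closure P.S := by
    apply sup_eq_left.2
    exact le_trans inf_le_left le_sup_left
  rw [h3] at h2
  exact h2

/-- Steinberg's count for the whole group -/
theorem card_isPE [Finite G] [Fintype P.S] [Fact p.Prime] :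
    Nat.card {g : G // ∃ k : ℕ, orderOf g = p ^ k} * Nat.card (D.R Finset.univ) = Nat.card D.U ^ 2 := by
  rw [← D.npe_par Finset.univ, uni_asm_par_univ]
  congr 1
  unfold npe
  apply Nat.card_congr
  refine ⟨fun g => ⟨⟨g.1, Subgroup.mem_top _⟩, ?_⟩, fun g => ⟨g.1.1, ?_⟩, fun g => rfl, fun g => rfl⟩
  · obtain ⟨k, hk⟩ := g.2
    exact ⟨k, by rw [← hk, ← Subgroup.orderOf_coe]⟩
  · obtain ⟨k, hk⟩ := g.2
    exact ⟨k, by rw [← hk, ← Subgroup.orderOf_coe]⟩

end SplitData

end Cfsg.Agent.Helper6.Uni
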