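import Mathlib
import Cfsg.Agent.Lib.Helper6.SLnP

/-!
Piece LIFT of S2347: a projective representation normalized by a group all of whose finite central extensions
split lifts to a representation of that group.
-/

set_option autoImplicit false

namespace Cfsg.Agent.Helper6.Weil

universe u

section Lift

variable {G : Type u} [Group G] {V : Type*} [AddCommGroup V] [DistribMulAction G V]
  {W : Type u} [AddCommGroup W] [Module ℂ W]
  (π : V → Module.End ℂ W)

/-- a nonzero scalar as an invertible operator -/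
noncomputable def scU (W : Type u) [AddCommGroup W] [Module ℂ W] (c : ℂ) (hc : c ≠ 0) :
    (Module.End ℂ W)ˣ :=
  ⟨c • 1, c⁻¹ • 1, by rw [smul_mul_smul_comm, mul_one, mul_inv_cancel₀ hc, one_smul],
    by rw [smul_mul_smul_comm, mul_one, inv_mul_cancel₀ hc, one_smul]⟩

theorem scU_val (c : ℂ) (hc : c ≠ 0) :
    ((scU W c hc : (Module.End ℂ W)ˣ) : Module.End ℂ W) = c • 1 := rfl

/-- the group of the pairs `(g, M)` with `M π(v) = π(g v) M` and `det M = 1` -/
def liftGroup (G : Type u) [Group G] [DistribMulAction G V] (π : V → Module.End ℂ W) :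
    Subgroup (G × (Module.End ℂ W)ˣ) where
  carrier := {x | (∀ v, (x.2 : Module.End ℂ W) * π v = π (x.1 • v) * (x.2 : Module.End ℂ W)) ∧
    LinearMap.det (x.2 : Module.End ℂ W) = 1}
  mul_mem' := by
    rintro x y ⟨hx1, hx2⟩ ⟨hy1, hy2⟩
    refine ⟨fun v => ?_, ?_⟩
    · show ((x.2 * y.2 : (Module.End ℂ W)ˣ) : Module.End ℂ W) * π v =
        π ((x.1 * y.1) • v) * ((x.2 * y.2 : (Module.End ℂ W)ˣ) : Module.End ℂ W)
      rw [Units.val_mul, mul_assoc, hy1, ← mul_assoc, hx1, mul_smul, mul_assoc]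
    · show LinearMap.det ((x.2 * y.2 : (Module.End ℂ W)ˣ) : Module.End ℂ W) = 1
      rw [Units.val_mul, map_mul, hx2, hy2, one_mul]
  one_mem' := by
    refine ⟨fun v => ?_, ?_⟩
    · show ((1 : (Module.End ℂ W)ˣ) : Module.End ℂ W) * π v =
        π ((1 : G) • v) * ((1 : (Module.End ℂ W)ˣ) : Module.End ℂ W)
      rw [Units.val_one, one_mul, mul_one, one_smul]
    · show LinearMap.det ((1 : (Module.End ℂ W)ˣ) : Module.End ℂ W) = 1
      rw [Units.val_one, map_one]
  inv_mem' := by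
    rintro x ⟨hx1, hx2⟩
    refine ⟨fun v => ?_, ?_⟩
    · show ((x.2⁻¹ : (Module.End ℂ W)ˣ) : Module.End ℂ W) * π v =
        π (x.1⁻¹ • v) * ((x.2⁻¹ : (Module.End ℂ W)ˣ) : Module.End ℂ W)
      have h1 := hx1 (x.1⁻¹ • v)
      rw [smul_inv_smul] at h1
      calc ((x.2⁻¹ : (Module.End ℂ W)ˣ) : Module.End ℂ W) * π v
          = ((x.2⁻¹ : (Module.End ℂ W)ˣ) : Module.End ℂ W) * (π v * (x.2 : Module.End ℂ W)) *
              ((x.2⁻¹ : (Module.End ℂ W)ˣ) : Module.End ℂ W) := by
            rw [mul_assoc, mul_assoc, Units.mul_inv, mul_one]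
        _ = ((x.2⁻¹ : (Module.End ℂ W)ˣ) : Module.End ℂ W) *
              ((x.2 : Module.End ℂ W) * π (x.1⁻¹ • v)) *
              ((x.2⁻¹ : (Module.End ℂ W)ˣ) : Module.End ℂ W) := by rw [h1]
        _ = π (x.1⁻¹ • v) * ((x.2⁻¹ : (Module.End ℂ W)ˣ) : Module.End ℂ W) := by
            rw [← mul_assoc, Units.inv_mul, one_mul]
    · show LinearMap.det ((x.2⁻¹ : (Module.End ℂ W)ˣ) : Module.End ℂ W) = 1
      have h1 : LinearMap.det ((x.2⁻¹ : (Module.End ℂ W)ˣ) : Module.End ℂ W) *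
          LinearMap.det (x.2 : Module.End ℂ W) = 1 := by
        rw [← map_mul, Units.inv_mul, map_one]
      rw [hx2, mul_one] at h1
      exact h1

theorem mem_liftGroup (x : G × (Module.End ℂ W)ˣ) : x ∈ liftGroup G π ↔
    (∀ v, (x.2 : Module.End ℂ W) * π v = π (x.1 • v) * (x.2 : Module.End ℂ W)) ∧
      LinearMap.det (x.2 : Module.End ℂ W) = 1 := Iff.rfl

/-- the projection to `G` -/
def liftProj (G : Type u) [Group G] [DistribMulAction G V] (π : V → Module.End ℂ W) :
    liftGroup G π →* G := (MonoidHom.fst G (Module.End ℂ W)ˣ).comp (liftGroup G π).subtype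

theorem liftProj_apply (x : liftGroup G π) : liftProj G π x = (x : G × (Module.End ℂ W)ˣ).1 := rfl

variable [FiniteDimensional ℂ W]

theorem liftProj_surjective [Nontrivial W]
    (hex : ∀ g : G, ∃ M : (Module.End ℂ W)ˣ,
      ∀ v, (M : Module.End ℂ W) * π v = π (g • v) * (M : Module.End ℂ W)) :
    Function.Surjective (liftProj G π) := by
  intro g
  obtain ⟨M, hM⟩ := hex g
  have hd : 0 < Module.finrank ℂ W := Module.finrank_pos
  obtain ⟨δ, hδ⟩ : ∃ δ : ℂ, δ = LinearMap.det (M : Module.End ℂ W) := ⟨_, rfl⟩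
  have hδ0 : δ ≠ 0 := by
    have h1 : IsUnit δ := by
      rw [hδ]
      exact (M.isUnit).map (LinearMap.det : (Module.End ℂ W) →* ℂ)
    exact h1.ne_zero
  obtain ⟨c, hc⟩ := IsAlgClosed.exists_pow_nat_eq (δ⁻¹) hd
  have hc0 : c ≠ 0 := by
    rintro rfl
    rw [zero_pow hd.ne'] at hc
    exact inv_ne_zero hδ0 hc.symm
  have hmem : (g, scU W c hc0 * M) ∈ liftGroup G π := by
    rw [mem_liftGroup]
    refine ⟨fun v => ?_, ?_⟩
    · show ((scU W c hc0 * M : (Module.End ℂ W)ˣ) : Module.End ℂ W) * π v =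
        π (g • v) * ((scU W c hc0 * M : (Module.End ℂ W)ˣ) : Module.End ℂ W)
      rw [Units.val_mul, scU_val, smul_mul_assoc, one_mul, smul_mul_assoc, hM, mul_smul_comm]
    · show LinearMap.det ((scU W c hc0 * M : (Module.End ℂ W)ˣ) : Module.End ℂ W) = 1
      rw [Units.val_mul, scU_val, smul_mul_assoc, one_mul, LinearMap.det_smul, hc, ← hδ,
        inv_mul_cancel₀ hδ0]
  exact ⟨⟨_, hmem⟩, rfl⟩

theorem exists_scalar_of_mem_ker
    (hschur : ∀ E : Module.End ℂ W, (∀ v, E * π v = π v * E) → ∃ a : ℂ, E = a • 1)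
    (x : liftGroup G π) (hx : x ∈ (liftProj G π).ker) :
    ∃ a : ℂ, a ^ Module.finrank ℂ W = 1 ∧
      (((x : G × (Module.End ℂ W)ˣ).2 : (Module.End ℂ W)ˣ) : Module.End ℂ W) = a • 1 := by
  have hx1 : (x : G × (Module.End ℂ W)ˣ).1 = 1 := hx
  obtain ⟨h1, h2⟩ := (mem_liftGroup π _).1 x.2
  obtain ⟨a, ha⟩ := hschur _ (fun v => by
    have := h1 v
    rw [hx1, one_smul] at this
    exact this)
  refine ⟨a, ?_, ha⟩
  rw [ha, LinearMap.det_smul, map_one, mul_one] at h2
  exact h2

theorem finite_ker_liftProj [Nontrivial W]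
    (hschur : ∀ E : Module.End ℂ W, (∀ v, E * π v = π v * E) → ∃ a : ℂ, E = a • 1) :
    Finite (liftProj G π).ker := by
  classical
  have hpos : 0 < Module.finrank ℂ W := Module.finrank_pos
  have key : ∀ x : (liftProj G π).ker, ∃ a : ℂ, a ^ Module.finrank ℂ W = 1 ∧
      ((((x : liftGroup G π) : G × (Module.End ℂ W)ˣ).2 : (Module.End ℂ W)ˣ) : Module.End ℂ W) =
        a • 1 :=
    fun x => exists_scalar_of_mem_ker π hschur (x : liftGroup G π) x.2
  choose f hf1 hf2 using key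
  let Φ : (liftProj G π).ker → (Polynomial.nthRootsFinset (Module.finrank ℂ W) (1 : ℂ)) :=
    fun x => ⟨f x, (Polynomial.mem_nthRootsFinset hpos _).mpr (hf1 x)⟩
  apply Finite.of_injective Φ
  intro x y hxy
  have hc : f x = f y := congrArg Subtype.val hxy
  apply Subtype.ext
  apply Subtype.ext
  apply Prod.ext
  · have hx : liftProj G π (x : liftGroup G π) = 1 := x.2
    have hy : liftProj G π (y : liftGroup G π) = 1 := y.2
    exact hx.trans hy.symm
  · apply Units.ext
    have h := hf2 x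
    rw [hc, ← hf2 y] at h
    exact h

theorem ker_liftProj_le_center
    (hschur : ∀ E : Module.End ℂ W, (∀ v, E * π v = π v * E) → ∃ a : ℂ, E = a • 1) :
    (liftProj G π).ker ≤ Subgroup.center (liftGroup G π) := by
  intro x hx
  obtain ⟨a, -, ha⟩ := exists_scalar_of_mem_ker π hschur x hx
  have hx1 : (x : G × (Module.End ℂ W)ˣ).1 = 1 := hx
  rw [Subgroup.mem_center_iff]
  intro y
  apply Subtype.ext
  apply Prod.ext
  · show (y : G × (Module.End ℂ W)ˣ).1 * (x : G × (Module.End ℂ W)ˣ).1 =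
      (x : G × (Module.End ℂ W)ˣ).1 * (y : G × (Module.End ℂ W)ˣ).1
    rw [hx1, mul_one, one_mul]
  · apply Units.ext
    show (((y : G × (Module.End ℂ W)ˣ).2 * (x : G × (Module.End ℂ W)ˣ).2 :
        (Module.End ℂ W)ˣ) : Module.End ℂ W) =
      (((x : G × (Module.End ℂ W)ˣ).2 * (y : G × (Module.End ℂ W)ˣ).2 :
        (Module.End ℂ W)ˣ) : Module.End ℂ W)
    rw [Units.val_mul, Units.val_mul, ha, mul_smul_comm, smul_mul_assoc, mul_one, one_mul]

/-- PIECE LIFT: the finite central extension `{(g, M) : M π(v) = π(g v) M, det M = 1}` of `G` splits -/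
theorem exists_lift [Finite G] [Nontrivial W] (hsplit : Cfsg.Agent.Helper6.SLn.SplitsCentral G)
    (hex : ∀ g : G, ∃ M : (Module.End ℂ W)ˣ,
      ∀ v, (M : Module.End ℂ W) * π v = π (g • v) * (M : Module.End ℂ W))
    (hschur : ∀ E : Module.End ℂ W, (∀ v, E * π v = π v * E) → ∃ a : ℂ, E = a • 1) :
    ∃ R : G →* (Module.End ℂ W)ˣ,
      ∀ g v, (R g : Module.End ℂ W) * π v = π (g • v) * (R g : Module.End ℂ W) := by
  haveI : Finite (liftProj G π).ker := finite_ker_liftProj π hschur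
  haveI : Finite (liftGroup G π ⧸ (liftProj G π).ker) :=
    Finite.of_equiv _ (QuotientGroup.quotientKerEquivRange (liftProj G π)).symm.toEquiv
  haveI : Finite (liftGroup G π) := Finite.of_subgroup_quotient (liftProj G π).ker
  obtain ⟨s, hs⟩ := hsplit (liftGroup G π) (liftProj G π) (liftProj_surjective π hex)
    (ker_liftProj_le_center π hschur)
  refine ⟨(MonoidHom.snd G (Module.End ℂ W)ˣ).comp ((liftGroup G π).subtype.comp s), ?_⟩
  intro g v
  have h1 : ((s g : liftGroup G π) : G × (Module.End ℂ W)ˣ).1 = g := by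
    have := congrArg (fun f : G →* G => f g) hs
    exact this
  obtain ⟨h2, -⟩ := (mem_liftGroup π _).1 (s g).2
  have h3 := h2 v
  rw [h1] at h3
  exact h3

end Lift

end Cfsg.Agent.Helper6.Weil
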