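import Mathlib
import Cfsg.Agent.Lib.Helper6.WeilDefs
import Cfsg.Agent.Lib.Helper7.WeilHWMUL
import Cfsg.Agent.Lib.Helper7.WeilHWLI
import Cfsg.Agent.Lib.Helper7.WeilHWSUM
import Cfsg.Agent.Lib.Helper16.WeilSPAN
import Cfsg.Agent.Lib.Helper16.WeilINTW
import Cfsg.Agent.Lib.Helper6.WeilLIFT
import Cfsg.Agent.Lib.Helper24.WeilCOMM
import Cfsg.Agent.Lib.Helper24.WeilIRR
import Cfsg.Agent.Lib.Helper24.WeilTRANSP
import Cfsg.Agent.Lib.Helper23.WeilODD
import Cfsg.Agent.Lib.Helper6.SpSplit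

/-!
Assembly of the existence half of S2347: the odd part of the Weil representation of `Sp_{2n}(q)`, `q` odd.
-/

set_option autoImplicit false

namespace Cfsg.Agent.Helper6.Weil

open Matrix Cfsg.Agent.Helper2.Symp
open scoped Cfsg.Agent.Helper2.Symp

theorem exists_weil {F : Type*} [Field F] [Fintype F] (n : ℕ) (hn : 2 ≤ n)
    (hodd : Odd (Fintype.card F)) (h2 : (2 : F) ≠ 0) (h3 : 3 ≤ Fintype.card F) :
    ∃ ρ : Representation ℂ (Matrix.symplecticGroup (Fin n) F)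
      (Fin ((Fintype.card F ^ n - 1) / 2) → ℂ), ρ.IsIrreducible := by
  classical
  obtain ⟨ψ, hψ1⟩ := (AddChar.exists_apply_ne_zero (α := F) (a := 1)).2 one_ne_zero
  have hψ : ψ ≠ 1 := by
    rintro rfl
    exact hψ1 rfl
  have hq0 : ((Fintype.card F : ℂ) ^ n) ≠ 0 :=
    pow_ne_zero _ (Nat.cast_ne_zero.2 Fintype.card_ne_zero)
  -- the projective representation
  have h0 : hw ψ (0 : Fin n ⊕ Fin n → F) = 1 := hw_zero ψ
  have hmul : ∀ v w : Fin n ⊕ Fin n → F,
      hw ψ v * hw ψ w = (fun v w : Fin n ⊕ Fin n → F => ψ (Bf v w / 2)) v w • hw ψ (v + w) :=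
    fun v w => hw_mul ψ h2 v w
  have hcneg : ∀ v : Fin n ⊕ Fin n → F,
      (fun v w : Fin n ⊕ Fin n → F => ψ (Bf v w / 2)) v (-v) = 1 := by
    intro v
    show ψ (Bf v (-v) / 2) = 1
    rw [Bf_neg_right, Bf_self, neg_zero, zero_div, AddChar.map_zero_eq_one]
  have hLI := hw_linearIndependent (n := n) ψ hψ h2
  have hcard : Fintype.card (Fin n ⊕ Fin n → F) = Module.finrank ℂ ((Fin n → F) → ℂ) ^ 2 := by
    rw [Module.finrank_fintype_fun_eq_card, Fintype.card_fun, Fintype.card_fun, Fintype.card_sum,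
      Fintype.card_fin]
    ring
  have hspan := span_eq_top_of_linearIndependent (fun v : Fin n ⊕ Fin n → F => hw ψ v) hLI hcard
  have hirr := irreducible_of_span (fun v : Fin n ⊕ Fin n → F => hw ψ v) hspan
  have hschur := schur_of_span (fun v : Fin n ⊕ Fin n → F => hw ψ v) hspan
  have hex : ∀ g : Matrix.symplecticGroup (Fin n) F, ∃ M : (Module.End ℂ ((Fin n → F) → ℂ))ˣ,
      ∀ v : Fin n ⊕ Fin n → F, (M : Module.End ℂ ((Fin n → F) → ℂ)) * hw ψ v =
        hw ψ (g • v) * (M : Module.End ℂ ((Fin n → F) → ℂ)) := by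
    intro g
    exact exists_intertwiner (fun v : Fin n ⊕ Fin n → F => hw ψ v)
      (fun v w : Fin n ⊕ Fin n → F => ψ (Bf v w / 2)) h0 hmul hcneg hLI hirr g
      (fun v w => by
        show ψ (Bf (g • v) (g • w) / 2) = ψ (Bf v w / 2)
        rw [Bf_smul_smul])
  have hsplit : Cfsg.Agent.Helper6.SLn.SplitsCentral (Matrix.symplecticGroup (Fin n) F) :=
    Cfsg.Agent.Helper6.SpSplit.splitsCentral_symplectic n hn (fun _ => h3) (by
      rintro ⟨-, hq⟩
      omega)
  obtain ⟨R, hR⟩ := exists_lift (fun v : Fin n ⊕ Fin n → F => hw ψ v) hsplit hex hschur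
  have htrans : ∀ v w : Fin n ⊕ Fin n → F, v ≠ 0 → w ≠ 0 →
      ∃ g : Matrix.symplecticGroup (Fin n) F, g • v = w := by
    intro v w hv hw
    obtain ⟨g, -, hg⟩ := trans_vec (U := (⊤ : Submodule F (Fin n ⊕ Fin n → F))) isND_top
      Submodule.mem_top Submodule.mem_top hv hw
    exact ⟨g, hg⟩
  have hcomm := commutant_le (fun v : Fin n ⊕ Fin n → F => hw ψ v) h0 hLI hspan R hR htrans
  have hT : ∑ v : Fin n ⊕ Fin n → F, hw ψ v = ((Fintype.card F : ℂ) ^ n) • par n F :=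
    sum_hw ψ hψ h2
  have hTcomm : ∀ g : Matrix.symplecticGroup (Fin n) F,
      (R g : Module.End ℂ ((Fin n → F) → ℂ)) * ∑ v : Fin n ⊕ Fin n → F, hw ψ v =
        (∑ v : Fin n ⊕ Fin n → F, hw ψ v) * (R g : Module.End ℂ ((Fin n → F) → ℂ)) := by
    intro g
    rw [Finset.mul_sum, Finset.sum_mul]
    simp only [hR]
    exact Fintype.sum_equiv (MulAction.toPerm g) _ _ (fun v => rfl)
  have hoddT : ∀ f : (Fin n → F) → ℂ, f ∈ oddSub n F ↔
      (∑ v : Fin n ⊕ Fin n → F, hw ψ v) f = (-((Fintype.card F : ℂ) ^ n)) • f := by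
    intro f
    rw [hT, LinearMap.smul_apply, neg_smul, ← smul_neg]
    constructor
    · intro hf
      congr 1
      funext x
      rw [par_apply, Pi.neg_apply]
      exact hf x
    · intro hf x
      have h1 := smul_right_injective _ hq0 hf
      have h4 := congrFun h1 x
      rw [par_apply, Pi.neg_apply] at h4
      exact h4
  have hUinv : ∀ g : Matrix.symplecticGroup (Fin n) F, ∀ f ∈ oddSub n F,
      (R g : Module.End ℂ ((Fin n → F) → ℂ)) f ∈ oddSub n F := by
    intro g f hf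
    rw [hoddT] at hf ⊢
    have h1 : (∑ v : Fin n ⊕ Fin n → F, hw ψ v) ((R g : Module.End ℂ ((Fin n → F) → ℂ)) f) =
        ((∑ v : Fin n ⊕ Fin n → F, hw ψ v) * (R g : Module.End ℂ ((Fin n → F) → ℂ))) f := rfl
    rw [h1, ← hTcomm g, Module.End.mul_apply, hf, map_smul]
  have hk : Module.finrank ℂ (oddSub n F) = (Fintype.card F ^ n - 1) / 2 := finrank_oddSub hodd
  have hk0 : 0 < (Fintype.card F ^ n - 1) / 2 := by
    have h4 : 3 ^ 2 ≤ Fintype.card F ^ n :=
      le_trans (Nat.pow_le_pow_left h3 2) (Nat.pow_le_pow_right (by omega) hn)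
    omega
  refine exists_rep_of_submodule R (oddSub n F) hUinv _ hk hk0 ?_
  intro U' hle hinv
  by_cases hbot : U' = ⊥
  · exact Or.inl hbot
  · right
    apply le_antisymm hle
    intro f hf
    exact irreducible_of_commutant R (∑ v : Fin n ⊕ Fin n → F, hw ψ v) hcomm
      (-((Fintype.card F : ℂ) ^ n)) U' (fun f' hf' => (hoddT f').1 (hle hf')) hinv hbot f
      ((hoddT f).1 hf)

end Cfsg.Agent.Helper6.Weil
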