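import Mathlib
import Cfsg.Agent.Lib.Helper23.ZS4Defs
import Cfsg.Agent.S0111
import Cfsg.Agent.Lib.Helper6.ZS4H6Basic
import Cfsg.Agent.Lib.Helper3.ZS4MEMM
import Cfsg.Agent.Lib.Helper14.ZS4ORD84
import Cfsg.Agent.Lib.Helper23.ZS4ODD

/-!
# S3222, PIECE O4A: `|M| = 168` and `τ'` not conjugate to `z` is impossible
-/

set_option autoImplicit false

namespace Cfsg.Agent.Helper23.ZS4

variable {G : Type*} [Group G]

namespace O4A

theorem factorization_168 : (168 : ℕ).factorization 2 = 3 := by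
  have h : (168 : ℕ) = 2 ^ 3 * 21 := by norm_num
  rw [h, Nat.factorization_mul (by norm_num) (by norm_num),
    Nat.Prime.factorization_pow Nat.prime_two]
  simp [Nat.factorization_eq_zero_of_not_dvd (show ¬ 2 ∣ 21 by norm_num)]

end O4A

/-- PIECE O4A. -/
theorem o4a [Finite G] {t z v τ : G} (T : Sylow 2 G) (L : Loc t z v τ (T : Subgroup G))
    (M : Subgroup G) [M.Normal] (hM2 : M.index = 2) (htM : t ∉ M) (hcardM : Nat.card M = 168)
    (τ' : G) (hτ' : τ' = τ ∨ τ' = t * τ) (hτM : τ' ∈ M) (hnc : ∀ g : G, g * z * g⁻¹ ≠ τ') :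
    False := by
  classical
  obtain ⟨hzM, hvM, hzvM, -⟩ := mem_M L M hM2 htM
  have hz2 := H6.sq_of_two L.hz
  have hv2 := H6.sq_of_two (H6.v_order L)
  have hτ'1 : τ' ≠ 1 := H6.ne_one_of_two (H6.tau'_order L hτ')
  obtain ⟨QG, hQGdef⟩ : ∃ QG : Subgroup G, QG = H6.four z v hz2 hv2 (H6.zv_comm L) := ⟨_, rfl⟩
  have hQG4 : Nat.card QG = 4 := by
    rw [hQGdef]
    exact H6.card_four hz2 hv2 (H6.zv_comm L) (H6.z_ne_one L) (H6.v_ne_one L) L.v_ne
  have hmemQ : ∀ x, x ∈ QG ↔ x = 1 ∨ x = z ∨ x = v ∨ x = z * v := by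
    intro x; rw [hQGdef]; exact H6.mem_four
  obtain ⟨PG, hPGdef⟩ : ∃ PG : Subgroup G, PG = (T : Subgroup G) ⊓ M := ⟨_, rfl⟩
  have hPG8 : Nat.card PG = 8 := by rw [hPGdef]; exact H6.card_inf_M L M hM2 htM
  have hPGM : PG ≤ M := by rw [hPGdef]; exact inf_le_right
  have hQGle : QG ≤ PG := by
    intro x hx
    rw [hPGdef]
    rcases (hmemQ x).1 hx with rfl | rfl | rfl | rfl
    · exact Subgroup.one_mem _
    · exact ⟨L.zT, hzM⟩
    · exact ⟨L.vT, hvM⟩
    · exact ⟨(T : Subgroup G).mul_mem L.zT L.vT, hzvM⟩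
  -- inside `↥M`
  have hP0card : Nat.card (PG.subgroupOf M) = 8 := by
    rw [← hPG8]
    exact Nat.card_congr (Subgroup.subgroupOfEquivOfLe hPGM).toEquiv
  have hQ0card : Nat.card (QG.subgroupOf M) = 4 := by
    rw [← hQG4]
    exact Nat.card_congr (Subgroup.subgroupOfEquivOfLe (hQGle.trans hPGM)).toEquiv
  obtain ⟨P, hP⟩ : ∃ P : Sylow 2 ↥M, (P : Subgroup ↥M) = PG.subgroupOf M := by
    refine ⟨Sylow.ofCard (PG.subgroupOf M) ?_, Sylow.coe_ofCard _ _⟩
    rw [hP0card, hcardM, O4A.factorization_168]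
    norm_num
  have hQP : QG.subgroupOf M ≤ (P : Subgroup ↥M) := by
    rw [hP]
    intro x hx
    exact hQGle hx
  have hrel : (QG.subgroupOf M).relIndex (P : Subgroup ↥M) = 2 := by
    have h1 : Nat.card ((QG.subgroupOf M).subgroupOf (P : Subgroup ↥M)) =
        Nat.card (QG.subgroupOf M) :=
      Nat.card_congr (Subgroup.subgroupOfEquivOfLe hQP).toEquiv
    have h2 := Subgroup.card_mul_index ((QG.subgroupOf M).subgroupOf (P : Subgroup ↥M))
    rw [h1, hQ0card, hP, hP0card] at h2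
    rw [Subgroup.relIndex, hP]
    omega
  have hu : orderOf (⟨τ', hτM⟩ : ↥M) = 2 := by
    rw [← Subgroup.orderOf_coe]
    exact H6.tau'_order L hτ'
  have huP : (⟨τ', hτM⟩ : ↥M) ∈ (P : Subgroup ↥M) := by
    rw [hP, Subgroup.mem_subgroupOf, hPGdef]
    exact ⟨H6.tau'_mem_T L hτ', hτM⟩
  have huQ : (⟨τ', hτM⟩ : ↥M) ∉ QG.subgroupOf M := by
    rw [Subgroup.mem_subgroupOf]
    intro h
    apply H6.tau'_not_comm L hτ'
    rcases (hmemQ _).1 h with h | h | h | h <;> simp only at h <;> rw [h]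
    · rw [one_mul, mul_one]
    · exact H6.zv_comm L
    · rw [mul_assoc, hv2, mul_one, H6.zv_comm L, ← mul_assoc, hv2, one_mul]
  rcases Cfsg.Agent.S0111.result P (QG.subgroupOf M) hQP hrel _ hu huP huQ with
    ⟨M1, hM1n, hM1i, -⟩ | ⟨g, hg⟩
  · have hM1card : Nat.card M1 = 84 := by
      have := Subgroup.card_mul_index M1
      rw [hM1i, hcardM] at this
      omega
    obtain ⟨K, hKc, hK7⟩ := card_84_char ↥M1 hM1card
    have hK1n : (K.map M1.subtype).Normal := ConjAct.normal_of_characteristic_of_normal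
    obtain ⟨K', hK'def⟩ : ∃ K' : Subgroup G, K' = (K.map M1.subtype).map M.subtype := ⟨_, rfl⟩
    have hK'card : Nat.card K' = 7 := by
      rw [hK'def, Subgroup.card_map_of_injective M.subtype_injective,
        Subgroup.card_map_of_injective M1.subtype_injective, hK7]
    have hK'bot : K' = ⊥ := by
      apply odd_eq_bot L M K' hzM hvM
      · rw [hK'def]
        rintro _ ⟨k, -, rfl⟩
        exact k.2
      · rw [hK'def]
        rintro m hm _ ⟨k, hk, rfl⟩
        exact ⟨⟨m, hm⟩ * k * ⟨m, hm⟩⁻¹, hK1n.conj_mem k hk ⟨m, hm⟩, rfl⟩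
      · rw [hK'card]; decide
    rw [hK'bot, Subgroup.card_bot] at hK'card
    omega
  · have hmem : (g : G) * τ' * (g : G)⁻¹ ∈ QG := by
      have := Subgroup.mem_subgroupOf.1 hg
      simpa using this
    rcases (hmemQ _).1 hmem with h | h | h | h
    · apply hτ'1
      have : τ' = (g : G)⁻¹ * ((g : G) * τ' * (g : G)⁻¹) * (g : G) := by group
      rw [this, h]; group
    · apply hnc (g : G)⁻¹
      rw [← h]; group
    · obtain ⟨c, -, hc⟩ := L.v_conj
      apply hnc ((g : G)⁻¹ * c)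
      have : τ' = (g : G)⁻¹ * ((g : G) * τ' * (g : G)⁻¹) * (g : G) := by group
      rw [this, h, hc]; group
    · obtain ⟨c, -, hc⟩ := L.zv_conj
      apply hnc ((g : G)⁻¹ * c)
      have : τ' = (g : G)⁻¹ * ((g : G) * τ' * (g : G)⁻¹) * (g : G) := by group
      rw [this, h, hc]; group

end Cfsg.Agent.Helper23.ZS4
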